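import Cfsg.Agent.Lib.H94.TCHSC.Data
import Cfsg.Agent.Lib.H35.TC
set_option autoImplicit false
set_option maxRecDepth 100000
set_option linter.all false
namespace H94.TCHSC
open H35.TC
/-- letters -/
inductive Lt | b | bi | d | di | c | ci | f | fi | e | ei
  deriving DecidableEq
/-- inverse letter -/
def inv : Lt → Lt
  | .b => .bi
  | .bi => .b
  | .d => .di
  | .di => .d
  | .c => .ci
  | .ci => .c
  | .f => .fi
  | .fi => .f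
  | .e => .ei
  | .ei => .e
/-- table functions -/
noncomputable def T : Lt → ℕ → ℕ
  | .b => T_b
  | .bi => T_bi
  | .d => T_d
  | .di => T_di
  | .c => T_c
  | .ci => T_ci
  | .f => T_f
  | .fi => T_fi
  | .e => T_e
  | .ei => T_ei
/-- decoding of letter codes -/
def lt : ℕ → Lt
  | 0 => .b
  | 1 => .bi
  | 2 => .d
  | 3 => .di
  | 4 => .c
  | 5 => .ci
  | 6 => .f
  | 7 => .fi
  | 8 => .e
  | _ => .ei
/-- Coxeter matrix (0: no relation) -/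
def mm : Lt → Lt → ℕ
  | _, _ => 0
/-- extra relators `w ^ n` -/
def extra : List (List Lt × ℕ) := [
  ([.b, .c, .d, .ci, .bi, .d, .fi, .di], 1),
  ([.b, .d, .ci, .fi, .fi, .di, .bi, .c], 1),
  ([.b, .di, .di, .ci, .f, .b, .ci, .fi], 1),
  ([.b, .di, .ci, .d, .ci, .bi, .d, .ci], 1),
  ([.b, .di, .f, .bi, .c, .fi, .di, .ci], 1),
  ([.b, .di, .f, .di, .ci, .ci, .bi, .ci], 1),
  ([.b, .di, .f, .c, .b, .c, .d, .f], 1),
  ([.b, .c, .b, .ci, .bi, .di, .di, .f], 1),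
  ([.b, .c, .b, .ci, .bi, .fi, .di, .fi], 1),
  ([.b, .c, .bi, .di, .ci, .bi, .di, .fi], 1),
  ([.b, .c, .d, .c, .bi, .di, .c, .fi], 1),
  ([.b, .d, .ci, .ci], 2),
  ([.b, .ci], 4),
  ([.b, .ci, .d, .b, .f, .ci, .f, .di], 1),
  ([.b, .ci, .di, .c], 2),
  ([.b, .ci, .ci, .d, .c, .c, .bi, .ci], 1),
  ([.b, .f, .d, .d, .b, .fi, .d, .c], 1),
  ([.b, .f, .c, .di], 2),
  ([.b, .f, .ci, .ci, .f, .bi, .fi, .ci], 1),
  ([.b, .ei, .ci, .ei], 2),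
  ([.d, .d, .ci, .f], 2),
  ([.d, .d, .f, .d, .fi, .fi, .d, .fi], 1),
  ([.b, .d, .bi, .d, .d, .bi, .d, .d], 1),
  ([.b, .b, .f, .ci, .d, .fi, .bi, .fi], 1),
  ([.b, .b, .ci, .fi, .fi, .bi, .d, .c], 1),
  ([.b, .b, .ci, .bi, .fi, .b, .c, .d], 1),
  ([.b, .ci, .di, .ci, .fi, .di, .b, .f, .di], 1),
  ([.b, .c, .c, .b, .ci, .fi, .d, .ci, .fi], 1),
  ([.b, .ci, .di, .f, .c, .bi, .d, .ci, .di], 1),
  ([.b, .ci, .di, .fi, .ci, .ci, .fi, .c, .c], 1),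
  ([.b, .ci, .f, .b, .fi, .bi, .di, .di, .fi], 1),
  ([.b, .ci, .f, .di, .b, .fi, .di, .di, .ci], 1),
  ([.b, .ci, .fi, .bi, .fi, .ci, .d, .fi, .fi], 1),
  ([.b, .f, .d, .ei, .bi, .c, .fi, .ei, .fi], 1),
  ([.d, .d, .ci, .fi, .d, .c, .di, .c, .f], 1),
  ([.d, .c, .c, .f, .f, .c, .di, .c, .f], 1),
  ([.d, .c, .c, .fi, .di, .fi, .di, .ci, .f], 1),
  ([.d, .ci, .fi, .e, .f, .ei, .fi, .e, .fi], 1),
  ([.d, .ci, .ei, .fi, .e, .f, .ei, .fi, .fi], 1),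
  ([.d, .f, .di, .ci, .ei, .fi, .e, .f, .ei], 1),
  ([.b, .b, .b, .ci, .bi, .bi, .di, .c, .f], 1),
  ([.b, .b, .b, .fi, .ci, .d, .c, .di, .fi], 1),
  ([.b, .b, .di, .f, .b, .d, .c, .bi, .ci], 1),
  ([.b, .b, .di, .f, .f, .ci, .bi, .ci, .fi], 1),
  ([.b, .bi], 1),
  ([.bi, .b], 1),
  ([.d, .di], 1),
  ([.di, .d], 1),
  ([.c, .ci], 1),
  ([.ci, .c], 1),
  ([.f, .fi], 1),
  ([.fi, .f], 1),
  ([.e, .ei], 1),
  ([.ei, .e], 1)]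
/-- relators -/
def rels : List (List Lt) := mkRels [] mm extra
/-- subgroup words -/
def subs : List (List Lt) := [
  [.b],
  [.d],
  [.c],
  [.f]]
noncomputable def dp_b_0 (j u : ℕ) : Bool :=
  Bool.rec (motive := fun _ => Bool) (lS MG [T_fi, T_d, T_bi, T_c, T_d, T_f, T_ci] M (Nat.sub (T_b u) (Nat.mod (T_b u) M)) (nat_lit 40) (Nat.mod (T_b u) M) u) (lF [T_b, T_f, T_ci, T_d, T_fi, T_bi, T_fi] M (Nat.sub (T_b u) (Nat.mod (T_b u) M)) (Nat.mod (T_b u) M) u) (Nat.ble (nat_lit 7) j)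
noncomputable def dp_b_1 (j u : ℕ) : Bool :=
  Bool.rec (motive := fun _ => Bool) (lF [T_ei, T_ci, T_ei, T_b, T_ei, T_ci, T_ei] M (Nat.sub (T_b u) (Nat.mod (T_b u) M)) (Nat.mod (T_b u) M) u) (dp_b_0 j u) (Nat.ble (nat_lit 6) j)
noncomputable def dp_b_2 (j u : ℕ) : Bool :=
  Bool.rec (motive := fun _ => Bool) (lS MG [T_ei, T_ci, T_ei, T_b, T_ei, T_ci, T_ei] M (Nat.sub (T_b u) (Nat.mod (T_b u) M)) (nat_lit 40) (Nat.mod (T_b u) M) u) (dp_b_1 j u) (Nat.ble (nat_lit 5) j)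
noncomputable def dp_b_3 (j u : ℕ) : Bool :=
  Bool.rec (motive := fun _ => Bool) (lF [T_ci, T_fi, T_b, T_di, T_di, T_ci, T_f] M (Nat.sub (T_b u) (Nat.mod (T_b u) M)) (Nat.mod (T_b u) M) u) (lS MG [T_f, T_ci, T_d, T_fi, T_bi, T_fi, T_b] M (Nat.sub (T_b u) (Nat.mod (T_b u) M)) (nat_lit 40) (Nat.mod (T_b u) M) u) (Nat.ble (nat_lit 9) j)
noncomputable def dp_b_4 (j u : ℕ) : Bool :=
  Bool.rec (motive := fun _ => Bool) (lS MG [T_f, T_ci, T_f, T_di, T_b, T_ci, T_d] M (Nat.sub (T_b u) (Nat.mod (T_b u) M)) (nat_lit 40) (Nat.mod (T_b u) M) u) (lS MG [T_d, T_f, T_f, T_c, T_di, T_bi, T_ci] M (Nat.sub (T_b u) (Nat.mod (T_b u) M)) (nat_lit 40) (Nat.mod (T_b u) M) u) (Nat.ble (nat_lit 11) j)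
noncomputable def dp_b_5 (j u : ℕ) : Bool :=
  Bool.rec (motive := fun _ => Bool) (dp_b_3 j u) (dp_b_4 j u) (Nat.ble (nat_lit 10) j)
noncomputable def dp_b_6 (j u : ℕ) : Bool :=
  Bool.rec (motive := fun _ => Bool) (lS MG [T_b, T_f, T_ci, T_d, T_fi, T_bi, T_fi] M (Nat.sub (T_b u) (Nat.mod (T_b u) M)) (nat_lit 40) (Nat.mod (T_b u) M) u) (lF [T_fi, T_d, T_bi, T_c, T_d, T_f, T_ci] M (Nat.sub (T_b u) (Nat.mod (T_b u) M)) (Nat.mod (T_b u) M) u) (Nat.ble (nat_lit 13) j)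
noncomputable def dp_b_7 (j u : ℕ) : Bool :=
  Bool.rec (motive := fun _ => Bool) (lS MG [T_ci, T_fi, T_b, T_di, T_di, T_ci, T_f] M (Nat.sub (T_b u) (Nat.mod (T_b u) M)) (nat_lit 40) (Nat.mod (T_b u) M) u) (lF [T_d, T_f, T_f, T_c, T_di, T_bi, T_ci] M (Nat.sub (T_b u) (Nat.mod (T_b u) M)) (Nat.mod (T_b u) M) u) (Nat.ble (nat_lit 15) j)
noncomputable def dp_b_8 (j u : ℕ) : Bool :=
  Bool.rec (motive := fun _ => Bool) (dp_b_6 j u) (dp_b_7 j u) (Nat.ble (nat_lit 14) j)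
noncomputable def dp_b_9 (j u : ℕ) : Bool :=
  Bool.rec (motive := fun _ => Bool) (dp_b_5 j u) (dp_b_8 j u) (Nat.ble (nat_lit 12) j)
noncomputable def dp_b_10 (j u : ℕ) : Bool :=
  Bool.rec (motive := fun _ => Bool) (dp_b_2 j u) (dp_b_9 j u) (Nat.ble (nat_lit 8) j)
noncomputable def dp_b_11 (j u : ℕ) : Bool :=
  Bool.rec (motive := fun _ => Bool) (lF [T_f, T_ci, T_d, T_fi, T_bi, T_fi, T_b] M (Nat.sub (T_b u) (Nat.mod (T_b u) M)) (Nat.mod (T_b u) M) u) (lS MG [T_di, T_di, T_ci, T_f, T_b, T_ci, T_fi] M (Nat.sub (T_b u) (Nat.mod (T_b u) M)) (nat_lit 40) (Nat.mod (T_b u) M) u) (Nat.ble (nat_lit 17) j)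
noncomputable def dp_b_12 (j u : ℕ) : Bool :=
  Bool.rec (motive := fun _ => Bool) (lF [T_di, T_di, T_ci, T_f, T_b, T_ci, T_fi] M (Nat.sub (T_b u) (Nat.mod (T_b u) M)) (Nat.mod (T_b u) M) u) (lS MG [T_f, T_f, T_c, T_bi, T_bi, T_ci, T_di] M (Nat.sub (T_b u) (Nat.mod (T_b u) M)) (nat_lit 40) (Nat.mod (T_b u) M) u) (Nat.ble (nat_lit 20) j)
noncomputable def dp_b_13 (j u : ℕ) : Bool :=
  Bool.rec (motive := fun _ => Bool) (lS MG [T_e, T_di, T_fi, T_bi, T_f, T_e, T_f, T_ci] M (Nat.sub (T_b u) (Nat.mod (T_b u) M)) (nat_lit 40) (Nat.mod (T_b u) M) u) (dp_b_12 j u) (Nat.ble (nat_lit 19) j)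
noncomputable def dp_b_14 (j u : ℕ) : Bool :=
  Bool.rec (motive := fun _ => Bool) (dp_b_11 j u) (dp_b_13 j u) (Nat.ble (nat_lit 18) j)
noncomputable def dp_b_15 (j u : ℕ) : Bool :=
  Bool.rec (motive := fun _ => Bool) (lF [T_f, T_ci, T_f, T_di, T_b, T_ci, T_d] M (Nat.sub (T_b u) (Nat.mod (T_b u) M)) (Nat.mod (T_b u) M) u) (lF [T_di, T_ci, T_d, T_ci, T_bi, T_d, T_ci] M (Nat.sub (T_b u) (Nat.mod (T_b u) M)) (Nat.mod (T_b u) M) u) (Nat.ble (nat_lit 22) j)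
noncomputable def dp_b_16 (j u : ℕ) : Bool :=
  Bool.rec (motive := fun _ => Bool) (lS MG [T_c, T_d, T_ci, T_bi, T_d, T_fi, T_di] M (Nat.sub (T_b u) (Nat.mod (T_b u) M)) (nat_lit 40) (Nat.mod (T_b u) M) u) (lF [T_d, T_ci, T_fi, T_fi, T_di, T_bi, T_c] M (Nat.sub (T_b u) (Nat.mod (T_b u) M)) (Nat.mod (T_b u) M) u) (Nat.ble (nat_lit 25) j)
noncomputable def dp_b_17 (j u : ℕ) : Bool :=
  Bool.rec (motive := fun _ => Bool) (lS MG [T_fi, T_d, T_c, T_b, T_f, T_d, T_d] M (Nat.sub (T_b u) (Nat.mod (T_b u) M)) (nat_lit 40) (Nat.mod (T_b u) M) u) (dp_b_16 j u) (Nat.ble (nat_lit 24) j)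
noncomputable def dp_b_18 (j u : ℕ) : Bool :=
  Bool.rec (motive := fun _ => Bool) (dp_b_15 j u) (dp_b_17 j u) (Nat.ble (nat_lit 23) j)
noncomputable def dp_b_19 (j u : ℕ) : Bool :=
  Bool.rec (motive := fun _ => Bool) (dp_b_14 j u) (dp_b_18 j u) (Nat.ble (nat_lit 21) j)
noncomputable def dp_b_20 (j u : ℕ) : Bool :=
  Bool.rec (motive := fun _ => Bool) (lF [T_c, T_d, T_ci, T_bi, T_d, T_fi, T_di] M (Nat.sub (T_b u) (Nat.mod (T_b u) M)) (Nat.mod (T_b u) M) u) (lF [T_di, T_f, T_bi, T_c, T_fi, T_di, T_ci] M (Nat.sub (T_b u) (Nat.mod (T_b u) M)) (Nat.mod (T_b u) M) u) (Nat.ble (nat_lit 27) j)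
noncomputable def dp_b_21 (j u : ℕ) : Bool :=
  Bool.rec (motive := fun _ => Bool) (lF [T_f, T_d, T_d, T_b, T_fi, T_d, T_c] M (Nat.sub (T_b u) (Nat.mod (T_b u) M)) (Nat.mod (T_b u) M) u) (lF [T_ci, T_b, T_ci, T_b, T_ci, T_b, T_ci] M (Nat.sub (T_b u) (Nat.mod (T_b u) M)) (Nat.mod (T_b u) M) u) (Nat.ble (nat_lit 30) j)
noncomputable def dp_b_22 (j u : ℕ) : Bool :=
  Bool.rec (motive := fun _ => Bool) (lF [T_f, T_c, T_di, T_b, T_f, T_c, T_di] M (Nat.sub (T_b u) (Nat.mod (T_b u) M)) (Nat.mod (T_b u) M) u) (dp_b_21 j u) (Nat.ble (nat_lit 29) j)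
noncomputable def dp_b_23 (j u : ℕ) : Bool :=
  Bool.rec (motive := fun _ => Bool) (dp_b_20 j u) (dp_b_22 j u) (Nat.ble (nat_lit 28) j)
noncomputable def dp_b_24 (j u : ℕ) : Bool :=
  Bool.rec (motive := fun _ => Bool) (lS MG [T_b, T_ci, T_fi, T_fi, T_bi, T_d, T_c] M (Nat.sub (T_b u) (Nat.mod (T_b u) M)) (nat_lit 40) (Nat.mod (T_b u) M) u) (lF [T_ci, T_bi, T_f, T_d, T_b, T_c, T_d] M (Nat.sub (T_b u) (Nat.mod (T_b u) M)) (Nat.mod (T_b u) M) u) (Nat.ble (nat_lit 33) j)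
noncomputable def dp_b_25 (j u : ℕ) : Bool :=
  Bool.rec (motive := fun _ => Bool) (lS MG [T_d, T_ci, T_ci, T_b, T_d, T_ci, T_ci] M (Nat.sub (T_b u) (Nat.mod (T_b u) M)) (nat_lit 40) (Nat.mod (T_b u) M) u) (dp_b_24 j u) (Nat.ble (nat_lit 32) j)
noncomputable def dp_b_26 (j u : ℕ) : Bool :=
  Bool.rec (motive := fun _ => Bool) (lS MG [T_f, T_c, T_di, T_b, T_f, T_c, T_di] M (Nat.sub (T_b u) (Nat.mod (T_b u) M)) (nat_lit 40) (Nat.mod (T_b u) M) u) (lF [T_d, T_ci, T_ci, T_b, T_d, T_ci, T_ci] M (Nat.sub (T_b u) (Nat.mod (T_b u) M)) (Nat.mod (T_b u) M) u) (Nat.ble (nat_lit 36) j)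
noncomputable def dp_b_27 (j u : ℕ) : Bool :=
  Bool.rec (motive := fun _ => Bool) (lF [T_ci, T_di, T_ci, T_bi, T_f, T_ci, T_d] M (Nat.sub (T_b u) (Nat.mod (T_b u) M)) (Nat.mod (T_b u) M) u) (dp_b_26 j u) (Nat.ble (nat_lit 35) j)
noncomputable def dp_b_28 (j u : ℕ) : Bool :=
  Bool.rec (motive := fun _ => Bool) (dp_b_25 j u) (dp_b_27 j u) (Nat.ble (nat_lit 34) j)
noncomputable def dp_b_29 (j u : ℕ) : Bool :=
  Bool.rec (motive := fun _ => Bool) (dp_b_23 j u) (dp_b_28 j u) (Nat.ble (nat_lit 31) j)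
noncomputable def dp_b_30 (j u : ℕ) : Bool :=
  Bool.rec (motive := fun _ => Bool) (dp_b_19 j u) (dp_b_29 j u) (Nat.ble (nat_lit 26) j)
noncomputable def dp_b_31 (j u : ℕ) : Bool :=
  Bool.rec (motive := fun _ => Bool) (dp_b_10 j u) (dp_b_30 j u) (Nat.ble (nat_lit 16) j)
noncomputable def dp_b_32 (j u : ℕ) : Bool :=
  Bool.rec (motive := fun _ => Bool) (lS MG [T_c, T_bi, T_ci, T_bi, T_fi, T_d, T_d] M (Nat.sub (T_b u) (Nat.mod (T_b u) M)) (nat_lit 40) (Nat.mod (T_b u) M) u) (lS MG [T_c, T_b, T_ci, T_bi, T_di, T_di, T_f] M (Nat.sub (T_b u) (Nat.mod (T_b u) M)) (nat_lit 40) (Nat.mod (T_b u) M) u) (Nat.ble (nat_lit 39) j)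
noncomputable def dp_b_33 (j u : ℕ) : Bool :=
  Bool.rec (motive := fun _ => Bool) (lF [T_c, T_bi, T_ci, T_bi, T_fi, T_d, T_d] M (Nat.sub (T_b u) (Nat.mod (T_b u) M)) (Nat.mod (T_b u) M) u) (dp_b_32 j u) (Nat.ble (nat_lit 38) j)
noncomputable def dp_b_34 (j u : ℕ) : Bool :=
  Bool.rec (motive := fun _ => Bool) (lF [T_fi, T_c, T_c, T_fi, T_bi, T_c, T_f] M (Nat.sub (T_b u) (Nat.mod (T_b u) M)) (Nat.mod (T_b u) M) u) (lS MG [T_di, T_di, T_b, T_di, T_bi, T_di, T_di] M (Nat.sub (T_b u) (Nat.mod (T_b u) M)) (nat_lit 40) (Nat.mod (T_b u) M) u) (Nat.ble (nat_lit 41) j)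
noncomputable def dp_b_35 (j u : ℕ) : Bool :=
  Bool.rec (motive := fun _ => Bool) (lS MG [T_ci, T_bi, T_di, T_di, T_f, T_b, T_c] M (Nat.sub (T_b u) (Nat.mod (T_b u) M)) (nat_lit 40) (Nat.mod (T_b u) M) u) (lS MG [T_c, T_d, T_f, T_b, T_di, T_f, T_c] M (Nat.sub (T_b u) (Nat.mod (T_b u) M)) (nat_lit 40) (Nat.mod (T_b u) M) u) (Nat.ble (nat_lit 43) j)
noncomputable def dp_b_36 (j u : ℕ) : Bool :=
  Bool.rec (motive := fun _ => Bool) (dp_b_34 j u) (dp_b_35 j u) (Nat.ble (nat_lit 42) j)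
noncomputable def dp_b_37 (j u : ℕ) : Bool :=
  Bool.rec (motive := fun _ => Bool) (dp_b_33 j u) (dp_b_36 j u) (Nat.ble (nat_lit 40) j)
noncomputable def dp_b_38 (j u : ℕ) : Bool :=
  Bool.rec (motive := fun _ => Bool) (lF [T_d, T_bi, T_d, T_d, T_bi, T_d, T_d] M (Nat.sub (T_b u) (Nat.mod (T_b u) M)) (Nat.mod (T_b u) M) u) (lF [T_ci, T_bi, T_fi, T_b, T_c, T_d, T_b] M (Nat.sub (T_b u) (Nat.mod (T_b u) M)) (Nat.mod (T_b u) M) u) (Nat.ble (nat_lit 46) j)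
noncomputable def dp_b_39 (j u : ℕ) : Bool :=
  Bool.rec (motive := fun _ => Bool) (lS MG [T_di, T_f, T_c, T_b, T_c, T_d, T_f] M (Nat.sub (T_b u) (Nat.mod (T_b u) M)) (nat_lit 40) (Nat.mod (T_b u) M) u) (dp_b_38 j u) (Nat.ble (nat_lit 45) j)
noncomputable def dp_b_40 (j u : ℕ) : Bool :=
  Bool.rec (motive := fun _ => Bool) (lS MG [T_f, T_di, T_c, T_fi, T_bi, T_bi, T_f] M (Nat.sub (T_b u) (Nat.mod (T_b u) M)) (nat_lit 40) (Nat.mod (T_b u) M) u) (lF [T_di, T_f, T_c, T_b, T_c, T_d, T_f] M (Nat.sub (T_b u) (Nat.mod (T_b u) M)) (Nat.mod (T_b u) M) u) (Nat.ble (nat_lit 48) j)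
noncomputable def dp_b_41 (j u : ℕ) : Bool :=
  Bool.rec (motive := fun _ => Bool) (lF [T_c, T_b, T_ci, T_bi, T_di, T_di, T_f] M (Nat.sub (T_b u) (Nat.mod (T_b u) M)) (Nat.mod (T_b u) M) u) (lF [T_e, T_di, T_fi, T_bi, T_f, T_e, T_f, T_ci] M (Nat.sub (T_b u) (Nat.mod (T_b u) M)) (Nat.mod (T_b u) M) u) (Nat.ble (nat_lit 50) j)
noncomputable def dp_b_42 (j u : ℕ) : Bool :=
  Bool.rec (motive := fun _ => Bool) (dp_b_40 j u) (dp_b_41 j u) (Nat.ble (nat_lit 49) j)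
noncomputable def dp_b_43 (j u : ℕ) : Bool :=
  Bool.rec (motive := fun _ => Bool) (dp_b_39 j u) (dp_b_42 j u) (Nat.ble (nat_lit 47) j)
noncomputable def dp_b_44 (j u : ℕ) : Bool :=
  Bool.rec (motive := fun _ => Bool) (dp_b_37 j u) (dp_b_43 j u) (Nat.ble (nat_lit 44) j)
noncomputable def dp_b_45 (j u : ℕ) : Bool :=
  Bool.rec (motive := fun _ => Bool) (lS MG [T_fi, T_c, T_c, T_fi, T_bi, T_c, T_f] M (Nat.sub (T_b u) (Nat.mod (T_b u) M)) (nat_lit 40) (Nat.mod (T_b u) M) u) (lS MG [T_d, T_bi, T_d, T_d, T_bi, T_d, T_d] M (Nat.sub (T_b u) (Nat.mod (T_b u) M)) (nat_lit 40) (Nat.mod (T_b u) M) u) (Nat.ble (nat_lit 53) j)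
noncomputable def dp_b_46 (j u : ℕ) : Bool :=
  Bool.rec (motive := fun _ => Bool) (lF [T_fi, T_d, T_c, T_b, T_f, T_d, T_d] M (Nat.sub (T_b u) (Nat.mod (T_b u) M)) (Nat.mod (T_b u) M) u) (dp_b_45 j u) (Nat.ble (nat_lit 52) j)
noncomputable def dp_b_47 (j u : ℕ) : Bool :=
  Bool.rec (motive := fun _ => Bool) (lS MG [T_c, T_c, T_d, T_fi, T_d, T_bi, T_c] M (Nat.sub (T_b u) (Nat.mod (T_b u) M)) (nat_lit 40) (Nat.mod (T_b u) M) u) (lS MG [T_ci, T_fi, T_fi, T_bi, T_d, T_c, T_b] M (Nat.sub (T_b u) (Nat.mod (T_b u) M)) (nat_lit 40) (Nat.mod (T_b u) M) u) (Nat.ble (nat_lit 55) j)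
noncomputable def dp_b_48 (j u : ℕ) : Bool :=
  Bool.rec (motive := fun _ => Bool) (lS MG [T_b, T_ci, T_bi, T_fi, T_b, T_c, T_d] M (Nat.sub (T_b u) (Nat.mod (T_b u) M)) (nat_lit 40) (Nat.mod (T_b u) M) u) (lS MG [T_di, T_ci, T_d, T_ci, T_bi, T_d, T_ci] M (Nat.sub (T_b u) (Nat.mod (T_b u) M)) (nat_lit 40) (Nat.mod (T_b u) M) u) (Nat.ble (nat_lit 57) j)
noncomputable def dp_b_49 (j u : ℕ) : Bool :=
  Bool.rec (motive := fun _ => Bool) (dp_b_47 j u) (dp_b_48 j u) (Nat.ble (nat_lit 56) j)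
noncomputable def dp_b_50 (j u : ℕ) : Bool :=
  Bool.rec (motive := fun _ => Bool) (dp_b_46 j u) (dp_b_49 j u) (Nat.ble (nat_lit 54) j)
noncomputable def dp_b_51 (j u : ℕ) : Bool :=
  Bool.rec (motive := fun _ => Bool) (lS MG [T_ci, T_bi, T_f, T_d, T_b, T_c, T_d] M (Nat.sub (T_b u) (Nat.mod (T_b u) M)) (nat_lit 40) (Nat.mod (T_b u) M) u) (lF [T_b, T_ci, T_fi, T_fi, T_bi, T_d, T_c] M (Nat.sub (T_b u) (Nat.mod (T_b u) M)) (Nat.mod (T_b u) M) u) (Nat.ble (nat_lit 59) j)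
noncomputable def dp_b_52 (j u : ℕ) : Bool :=
  Bool.rec (motive := fun _ => Bool) (lS MG [T_di, T_f, T_di, T_ci, T_ci, T_bi, T_ci] M (Nat.sub (T_b u) (Nat.mod (T_b u) M)) (nat_lit 40) (Nat.mod (T_b u) M) u) (lS MG [T_ci, T_di, T_c, T_b, T_ci, T_di, T_c] M (Nat.sub (T_b u) (Nat.mod (T_b u) M)) (nat_lit 40) (Nat.mod (T_b u) M) u) (Nat.ble (nat_lit 61) j)
noncomputable def dp_b_53 (j u : ℕ) : Bool :=
  Bool.rec (motive := fun _ => Bool) (dp_b_51 j u) (dp_b_52 j u) (Nat.ble (nat_lit 60) j)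
noncomputable def dp_b_54 (j u : ℕ) : Bool :=
  Bool.rec (motive := fun _ => Bool) (lF [T_c, T_di, T_ci, T_bi, T_d, T_f, T_di] M (Nat.sub (T_b u) (Nat.mod (T_b u) M)) (Nat.mod (T_b u) M) u) (lF [T_di, T_bi, T_di, T_di, T_b, T_di, T_di] M (Nat.sub (T_b u) (Nat.mod (T_b u) M)) (Nat.mod (T_b u) M) u) (Nat.ble (nat_lit 63) j)
noncomputable def dp_b_55 (j u : ℕ) : Bool :=
  Bool.rec (motive := fun _ => Bool) (lF [T_b, T_ci, T_bi, T_fi, T_b, T_c, T_d] M (Nat.sub (T_b u) (Nat.mod (T_b u) M)) (Nat.mod (T_b u) M) u) (lF [T_c, T_bi, T_di, T_ci, T_bi, T_di, T_fi] M (Nat.sub (T_b u) (Nat.mod (T_b u) M)) (Nat.mod (T_b u) M) u) (Nat.ble (nat_lit 65) j)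
noncomputable def dp_b_56 (j u : ℕ) : Bool :=
  Bool.rec (motive := fun _ => Bool) (dp_b_54 j u) (dp_b_55 j u) (Nat.ble (nat_lit 64) j)
noncomputable def dp_b_57 (j u : ℕ) : Bool :=
  Bool.rec (motive := fun _ => Bool) (dp_b_53 j u) (dp_b_56 j u) (Nat.ble (nat_lit 62) j)
noncomputable def dp_b_58 (j u : ℕ) : Bool :=
  Bool.rec (motive := fun _ => Bool) (dp_b_50 j u) (dp_b_57 j u) (Nat.ble (nat_lit 58) j)
noncomputable def dp_b_59 (j u : ℕ) : Bool :=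
  Bool.rec (motive := fun _ => Bool) (dp_b_44 j u) (dp_b_58 j u) (Nat.ble (nat_lit 51) j)
noncomputable def dp_b_60 (j u : ℕ) : Bool :=
  Bool.rec (motive := fun _ => Bool) (lS MG [T_f, T_d, T_ei, T_bi, T_c, T_fi, T_ei, T_fi] M (Nat.sub (T_b u) (Nat.mod (T_b u) M)) (nat_lit 40) (Nat.mod (T_b u) M) u) (lS MG [T_c, T_d, T_b, T_ci, T_bi, T_f, T_d] M (Nat.sub (T_b u) (Nat.mod (T_b u) M)) (nat_lit 40) (Nat.mod (T_b u) M) u) (Nat.ble (nat_lit 67) j)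
noncomputable def dp_b_61 (j u : ℕ) : Bool :=
  Bool.rec (motive := fun _ => Bool) (lS MG [T_c, T_bi, T_ci, T_bi, T_f, T_d, T_f] M (Nat.sub (T_b u) (Nat.mod (T_b u) M)) (nat_lit 40) (Nat.mod (T_b u) M) u) (lF [T_c, T_di, T_c, T_d, T_bi, T_c, T_di] M (Nat.sub (T_b u) (Nat.mod (T_b u) M)) (Nat.mod (T_b u) M) u) (Nat.ble (nat_lit 69) j)
noncomputable def dp_b_62 (j u : ℕ) : Bool :=
  Bool.rec (motive := fun _ => Bool) (dp_b_60 j u) (dp_b_61 j u) (Nat.ble (nat_lit 68) j)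
noncomputable def dp_b_63 (j u : ℕ) : Bool :=
  Bool.rec (motive := fun _ => Bool) (lF [T_ci, T_bi, T_di, T_di, T_f, T_b, T_c] M (Nat.sub (T_b u) (Nat.mod (T_b u) M)) (Nat.mod (T_b u) M) u) (lS MG [T_ci, T_b, T_ci, T_b, T_ci, T_b, T_ci] M (Nat.sub (T_b u) (Nat.mod (T_b u) M)) (nat_lit 40) (Nat.mod (T_b u) M) u) (Nat.ble (nat_lit 71) j)
noncomputable def dp_b_64 (j u : ℕ) : Bool :=
  Bool.rec (motive := fun _ => Bool) (lS MG [T_c, T_d, T_b, T_b, T_ci, T_bi, T_fi] M (Nat.sub (T_b u) (Nat.mod (T_b u) M)) (nat_lit 40) (Nat.mod (T_b u) M) u) (lF [T_f, T_f, T_c, T_bi, T_bi, T_ci, T_di] M (Nat.sub (T_b u) (Nat.mod (T_b u) M)) (Nat.mod (T_b u) M) u) (Nat.ble (nat_lit 74) j)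
noncomputable def dp_b_65 (j u : ℕ) : Bool :=
  Bool.rec (motive := fun _ => Bool) (lS MG [T_c, T_bi, T_bi, T_di, T_ci, T_bi, T_f] M (Nat.sub (T_b u) (Nat.mod (T_b u) M)) (nat_lit 40) (Nat.mod (T_b u) M) u) (dp_b_64 j u) (Nat.ble (nat_lit 73) j)
noncomputable def dp_b_66 (j u : ℕ) : Bool :=
  Bool.rec (motive := fun _ => Bool) (dp_b_63 j u) (dp_b_65 j u) (Nat.ble (nat_lit 72) j)
noncomputable def dp_b_67 (j u : ℕ) : Bool :=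
  Bool.rec (motive := fun _ => Bool) (dp_b_62 j u) (dp_b_66 j u) (Nat.ble (nat_lit 70) j)
noncomputable def dp_b_68 (j u : ℕ) : Bool :=
  Bool.rec (motive := fun _ => Bool) (lF [T_ci, T_ci, T_di, T_c, T_c, T_bi, T_c] M (Nat.sub (T_b u) (Nat.mod (T_b u) M)) (Nat.mod (T_b u) M) u) (lS MG [T_c, T_b, T_ci, T_bi, T_fi, T_di, T_fi] M (Nat.sub (T_b u) (Nat.mod (T_b u) M)) (nat_lit 40) (Nat.mod (T_b u) M) u) (Nat.ble (nat_lit 76) j)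
noncomputable def dp_b_69 (j u : ℕ) : Bool :=
  Bool.rec (motive := fun _ => Bool) (lS MG [T_d, T_ci, T_fi, T_fi, T_di, T_bi, T_c] M (Nat.sub (T_b u) (Nat.mod (T_b u) M)) (nat_lit 40) (Nat.mod (T_b u) M) u) (lS MG [T_ci, T_di, T_ci, T_bi, T_f, T_ci, T_d] M (Nat.sub (T_b u) (Nat.mod (T_b u) M)) (nat_lit 40) (Nat.mod (T_b u) M) u) (Nat.ble (nat_lit 79) j)
noncomputable def dp_b_70 (j u : ℕ) : Bool :=
  Bool.rec (motive := fun _ => Bool) (lS MG [T_c, T_bi, T_di, T_ci, T_bi, T_di, T_fi] M (Nat.sub (T_b u) (Nat.mod (T_b u) M)) (nat_lit 40) (Nat.mod (T_b u) M) u) (dp_b_69 j u) (Nat.ble (nat_lit 78) j)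
noncomputable def dp_b_71 (j u : ℕ) : Bool :=
  Bool.rec (motive := fun _ => Bool) (dp_b_68 j u) (dp_b_70 j u) (Nat.ble (nat_lit 77) j)
noncomputable def dp_b_72 (j u : ℕ) : Bool :=
  Bool.rec (motive := fun _ => Bool) (lF [T_c, T_c, T_d, T_fi, T_d, T_bi, T_c] M (Nat.sub (T_b u) (Nat.mod (T_b u) M)) (Nat.mod (T_b u) M) u) (lF [T_f, T_ci, T_ci, T_f, T_bi, T_fi, T_ci] M (Nat.sub (T_b u) (Nat.mod (T_b u) M)) (Nat.mod (T_b u) M) u) (Nat.ble (nat_lit 81) j)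
noncomputable def dp_b_73 (j u : ℕ) : Bool :=
  Bool.rec (motive := fun _ => Bool) (lF [T_ci, T_fi, T_fi, T_bi, T_d, T_c, T_b] M (Nat.sub (T_b u) (Nat.mod (T_b u) M)) (Nat.mod (T_b u) M) u) (lF [T_ci, T_ci, T_d, T_c, T_c, T_bi, T_ci] M (Nat.sub (T_b u) (Nat.mod (T_b u) M)) (Nat.mod (T_b u) M) u) (Nat.ble (nat_lit 84) j)
noncomputable def dp_b_74 (j u : ℕ) : Bool :=
  Bool.rec (motive := fun _ => Bool) (lS MG [T_di, T_f, T_bi, T_c, T_fi, T_di, T_ci] M (Nat.sub (T_b u) (Nat.mod (T_b u) M)) (nat_lit 40) (Nat.mod (T_b u) M) u) (dp_b_73 j u) (Nat.ble (nat_lit 83) j)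
noncomputable def dp_b_75 (j u : ℕ) : Bool :=
  Bool.rec (motive := fun _ => Bool) (dp_b_72 j u) (dp_b_74 j u) (Nat.ble (nat_lit 82) j)
noncomputable def dp_b_76 (j u : ℕ) : Bool :=
  Bool.rec (motive := fun _ => Bool) (dp_b_71 j u) (dp_b_75 j u) (Nat.ble (nat_lit 80) j)
noncomputable def dp_b_77 (j u : ℕ) : Bool :=
  Bool.rec (motive := fun _ => Bool) (dp_b_67 j u) (dp_b_76 j u) (Nat.ble (nat_lit 75) j)
noncomputable def dp_b_78 (j u : ℕ) : Bool :=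
  Bool.rec (motive := fun _ => Bool) (lF [T_c, T_d, T_b, T_ci, T_bi, T_f, T_d] M (Nat.sub (T_b u) (Nat.mod (T_b u) M)) (Nat.mod (T_b u) M) u) (lS MG [T_f, T_d, T_d, T_b, T_fi, T_d, T_c] M (Nat.sub (T_b u) (Nat.mod (T_b u) M)) (nat_lit 40) (Nat.mod (T_b u) M) u) (Nat.ble (nat_lit 86) j)
noncomputable def dp_b_79 (j u : ℕ) : Bool :=
  Bool.rec (motive := fun _ => Bool) (lS MG [T_c, T_d, T_c, T_bi, T_di, T_c, T_fi] M (Nat.sub (T_b u) (Nat.mod (T_b u) M)) (nat_lit 40) (Nat.mod (T_b u) M) u) (lS MG [T_ci, T_bi, T_fi, T_b, T_c, T_d, T_b] M (Nat.sub (T_b u) (Nat.mod (T_b u) M)) (nat_lit 40) (Nat.mod (T_b u) M) u) (Nat.ble (nat_lit 89) j)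
noncomputable def dp_b_80 (j u : ℕ) : Bool :=
  Bool.rec (motive := fun _ => Bool) (lS MG [T_c, T_di, T_c, T_d, T_bi, T_c, T_di] M (Nat.sub (T_b u) (Nat.mod (T_b u) M)) (nat_lit 40) (Nat.mod (T_b u) M) u) (dp_b_79 j u) (Nat.ble (nat_lit 88) j)
noncomputable def dp_b_81 (j u : ℕ) : Bool :=
  Bool.rec (motive := fun _ => Bool) (dp_b_78 j u) (dp_b_80 j u) (Nat.ble (nat_lit 87) j)
noncomputable def dp_b_82 (j u : ℕ) : Bool :=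
  Bool.rec (motive := fun _ => Bool) (lS MG [T_c, T_di, T_ci, T_bi, T_d, T_f, T_di] M (Nat.sub (T_b u) (Nat.mod (T_b u) M)) (nat_lit 40) (Nat.mod (T_b u) M) u) (lF [T_c, T_d, T_f, T_b, T_di, T_f, T_c] M (Nat.sub (T_b u) (Nat.mod (T_b u) M)) (Nat.mod (T_b u) M) u) (Nat.ble (nat_lit 92) j)
noncomputable def dp_b_83 (j u : ℕ) : Bool :=
  Bool.rec (motive := fun _ => Bool) (lS MG [T_ci, T_d, T_b, T_f, T_ci, T_f, T_di] M (Nat.sub (T_b u) (Nat.mod (T_b u) M)) (nat_lit 40) (Nat.mod (T_b u) M) u) (dp_b_82 j u) (Nat.ble (nat_lit 91) j)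
noncomputable def dp_b_84 (j u : ℕ) : Bool :=
  Bool.rec (motive := fun _ => Bool) (lS MG [T_ci, T_ci, T_di, T_c, T_c, T_bi, T_c] M (Nat.sub (T_b u) (Nat.mod (T_b u) M)) (nat_lit 40) (Nat.mod (T_b u) M) u) (lF [T_ci, T_d, T_b, T_f, T_ci, T_f, T_di] M (Nat.sub (T_b u) (Nat.mod (T_b u) M)) (Nat.mod (T_b u) M) u) (Nat.ble (nat_lit 95) j)
noncomputable def dp_b_85 (j u : ℕ) : Bool :=
  Bool.rec (motive := fun _ => Bool) (lF [T_di, T_f, T_di, T_ci, T_ci, T_bi, T_ci] M (Nat.sub (T_b u) (Nat.mod (T_b u) M)) (Nat.mod (T_b u) M) u) (dp_b_84 j u) (Nat.ble (nat_lit 94) j)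
noncomputable def dp_b_86 (j u : ℕ) : Bool :=
  Bool.rec (motive := fun _ => Bool) (dp_b_83 j u) (dp_b_85 j u) (Nat.ble (nat_lit 93) j)
noncomputable def dp_b_87 (j u : ℕ) : Bool :=
  Bool.rec (motive := fun _ => Bool) (dp_b_81 j u) (dp_b_86 j u) (Nat.ble (nat_lit 90) j)
noncomputable def dp_b_88 (j u : ℕ) : Bool :=
  Bool.rec (motive := fun _ => Bool) (lS MG [T_di, T_bi, T_di, T_di, T_b, T_di, T_di] M (Nat.sub (T_b u) (Nat.mod (T_b u) M)) (nat_lit 40) (Nat.mod (T_b u) M) u) (lF [T_c, T_bi, T_ci, T_bi, T_f, T_d, T_f] M (Nat.sub (T_b u) (Nat.mod (T_b u) M)) (Nat.mod (T_b u) M) u) (Nat.ble (nat_lit 98) j)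
noncomputable def dp_b_89 (j u : ℕ) : Bool :=
  Bool.rec (motive := fun _ => Bool) (lF [T_c, T_d, T_c, T_bi, T_di, T_c, T_fi] M (Nat.sub (T_b u) (Nat.mod (T_b u) M)) (Nat.mod (T_b u) M) u) (dp_b_88 j u) (Nat.ble (nat_lit 97) j)
noncomputable def dp_b_90 (j u : ℕ) : Bool :=
  Bool.rec (motive := fun _ => Bool) (lF [T_c, T_bi, T_bi, T_di, T_ci, T_bi, T_f] M (Nat.sub (T_b u) (Nat.mod (T_b u) M)) (Nat.mod (T_b u) M) u) (lF [T_c, T_b, T_ci, T_bi, T_fi, T_di, T_fi] M (Nat.sub (T_b u) (Nat.mod (T_b u) M)) (Nat.mod (T_b u) M) u) (Nat.ble (nat_lit 100) j)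
noncomputable def dp_b_91 (j u : ℕ) : Bool :=
  Bool.rec (motive := fun _ => Bool) (lS MG [T_ci, T_bi, T_fi, T_di, T_fi, T_b, T_c] M (Nat.sub (T_b u) (Nat.mod (T_b u) M)) (nat_lit 40) (Nat.mod (T_b u) M) u) (lF [T_di, T_di, T_b, T_di, T_bi, T_di, T_di] M (Nat.sub (T_b u) (Nat.mod (T_b u) M)) (Nat.mod (T_b u) M) u) (Nat.ble (nat_lit 102) j)
noncomputable def dp_b_92 (j u : ℕ) : Bool :=
  Bool.rec (motive := fun _ => Bool) (dp_b_90 j u) (dp_b_91 j u) (Nat.ble (nat_lit 101) j)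
noncomputable def dp_b_93 (j u : ℕ) : Bool :=
  Bool.rec (motive := fun _ => Bool) (dp_b_89 j u) (dp_b_92 j u) (Nat.ble (nat_lit 99) j)
noncomputable def dp_b_94 (j u : ℕ) : Bool :=
  Bool.rec (motive := fun _ => Bool) (lF [T_ci, T_di, T_c, T_b, T_ci, T_di, T_c] M (Nat.sub (T_b u) (Nat.mod (T_b u) M)) (Nat.mod (T_b u) M) u) (lS MG [T_f, T_ci, T_ci, T_f, T_bi, T_fi, T_ci] M (Nat.sub (T_b u) (Nat.mod (T_b u) M)) (nat_lit 40) (Nat.mod (T_b u) M) u) (Nat.ble (nat_lit 104) j)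
noncomputable def dp_b_95 (j u : ℕ) : Bool :=
  Bool.rec (motive := fun _ => Bool) (lF [T_c, T_d, T_b, T_b, T_ci, T_bi, T_fi] M (Nat.sub (T_b u) (Nat.mod (T_b u) M)) (Nat.mod (T_b u) M) u) (lF [T_ci, T_fi, T_d, T_ci, T_fi, T_b, T_c, T_c] M (Nat.sub (T_b u) (Nat.mod (T_b u) M)) (Nat.mod (T_b u) M) u) (Nat.ble (nat_lit 107) j)
noncomputable def dp_b_96 (j u : ℕ) : Bool :=
  Bool.rec (motive := fun _ => Bool) (lF [T_ci, T_bi, T_fi, T_di, T_fi, T_b, T_c] M (Nat.sub (T_b u) (Nat.mod (T_b u) M)) (Nat.mod (T_b u) M) u) (dp_b_95 j u) (Nat.ble (nat_lit 106) j)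
noncomputable def dp_b_97 (j u : ℕ) : Bool :=
  Bool.rec (motive := fun _ => Bool) (dp_b_94 j u) (dp_b_96 j u) (Nat.ble (nat_lit 105) j)
noncomputable def dp_b_98 (j u : ℕ) : Bool :=
  Bool.rec (motive := fun _ => Bool) (lF [T_f, T_di, T_c, T_fi, T_bi, T_bi, T_f] M (Nat.sub (T_b u) (Nat.mod (T_b u) M)) (Nat.mod (T_b u) M) u) (lS MG [T_b, T_b, T_fi, T_ci, T_d, T_c, T_di, T_fi] M (Nat.sub (T_b u) (Nat.mod (T_b u) M)) (nat_lit 40) (Nat.mod (T_b u) M) u) (Nat.ble (nat_lit 111) j)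
noncomputable def dp_b_99 (j u : ℕ) : Bool :=
  Bool.rec (motive := fun _ => Bool) (lF [T_f, T_d, T_ei, T_bi, T_c, T_fi, T_ei, T_fi] M (Nat.sub (T_b u) (Nat.mod (T_b u) M)) (Nat.mod (T_b u) M) u) (dp_b_98 j u) (Nat.ble (nat_lit 110) j)
noncomputable def dp_b_100 (j u : ℕ) : Bool :=
  Bool.rec (motive := fun _ => Bool) (lS MG [T_ci, T_ci, T_d, T_c, T_c, T_bi, T_ci] M (Nat.sub (T_b u) (Nat.mod (T_b u) M)) (nat_lit 40) (Nat.mod (T_b u) M) u) (dp_b_99 j u) (Nat.ble (nat_lit 109) j)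
noncomputable def dp_b_101 (j u : ℕ) : Bool :=
  Bool.rec (motive := fun _ => Bool) (lH [] [] M (Nat.sub (T_b u) (Nat.mod (T_b u) M)) (Nat.mod (T_b u) M) u) (lS MG [T_b, T_b, T_ci, T_bi, T_bi, T_di, T_c, T_f] M (Nat.sub (T_b u) (Nat.mod (T_b u) M)) (nat_lit 40) (Nat.mod (T_b u) M) u) (Nat.ble (nat_lit 114) j)
noncomputable def dp_b_102 (j u : ℕ) : Bool :=
  Bool.rec (motive := fun _ => Bool) (lF [T_c, T_c, T_b, T_ci, T_fi, T_d, T_ci, T_fi] M (Nat.sub (T_b u) (Nat.mod (T_b u) M)) (Nat.mod (T_b u) M) u) (dp_b_101 j u) (Nat.ble (nat_lit 113) j)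
noncomputable def dp_b_103 (j u : ℕ) : Bool :=
  Bool.rec (motive := fun _ => Bool) (lS MG [T_fi, T_di, T_di, T_ci, T_b, T_ci, T_f, T_di] M (Nat.sub (T_b u) (Nat.mod (T_b u) M)) (nat_lit 40) (Nat.mod (T_b u) M) u) (lS MG [T_ci, T_fi, T_bi, T_fi, T_ci, T_d, T_fi, T_fi] M (Nat.sub (T_b u) (Nat.mod (T_b u) M)) (nat_lit 40) (Nat.mod (T_b u) M) u) (Nat.ble (nat_lit 116) j)
noncomputable def dp_b_104 (j u : ℕ) : Bool :=
  Bool.rec (motive := fun _ => Bool) (lS MG [T_fi, T_bi, T_di, T_di, T_fi, T_b, T_ci, T_f] M (Nat.sub (T_b u) (Nat.mod (T_b u) M)) (nat_lit 40) (Nat.mod (T_b u) M) u) (lF [T_fi, T_bi, T_di, T_di, T_fi, T_b, T_ci, T_f] M (Nat.sub (T_b u) (Nat.mod (T_b u) M)) (Nat.mod (T_b u) M) u) (Nat.ble (nat_lit 118) j)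
noncomputable def dp_b_105 (j u : ℕ) : Bool :=
  Bool.rec (motive := fun _ => Bool) (dp_b_103 j u) (dp_b_104 j u) (Nat.ble (nat_lit 117) j)
noncomputable def dp_b_106 (j u : ℕ) : Bool :=
  Bool.rec (motive := fun _ => Bool) (dp_b_102 j u) (dp_b_105 j u) (Nat.ble (nat_lit 115) j)
noncomputable def dp_b_107 (j u : ℕ) : Bool :=
  Bool.rec (motive := fun _ => Bool) (lF [T_di, T_f, T_b, T_d, T_c, T_bi, T_ci, T_b] M (Nat.sub (T_b u) (Nat.mod (T_b u) M)) (Nat.mod (T_b u) M) u) (lF [T_fi, T_di, T_di, T_ci, T_b, T_ci, T_f, T_di] M (Nat.sub (T_b u) (Nat.mod (T_b u) M)) (Nat.mod (T_b u) M) u) (Nat.ble (nat_lit 120) j)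
noncomputable def dp_b_108 (j u : ℕ) : Bool :=
  Bool.rec (motive := fun _ => Bool) (lS MG [T_fi, T_ci, T_d, T_c, T_di, T_fi, T_b, T_b] M (Nat.sub (T_b u) (Nat.mod (T_b u) M)) (nat_lit 40) (Nat.mod (T_b u) M) u) (lS MG [T_c, T_bi, T_bi, T_bi, T_fi, T_ci, T_d, T_b] M (Nat.sub (T_b u) (Nat.mod (T_b u) M)) (nat_lit 40) (Nat.mod (T_b u) M) u) (Nat.ble (nat_lit 122) j)
noncomputable def dp_b_109 (j u : ℕ) : Bool :=
  Bool.rec (motive := fun _ => Bool) (dp_b_107 j u) (dp_b_108 j u) (Nat.ble (nat_lit 121) j)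
noncomputable def dp_b_110 (j u : ℕ) : Bool :=
  Bool.rec (motive := fun _ => Bool) (lF [T_ci, T_fi, T_bi, T_fi, T_ci, T_d, T_fi, T_fi] M (Nat.sub (T_b u) (Nat.mod (T_b u) M)) (Nat.mod (T_b u) M) u) (lF [T_f, T_c, T_bi, T_f, T_f, T_di, T_c, T_f] M (Nat.sub (T_b u) (Nat.mod (T_b u) M)) (Nat.mod (T_b u) M) u) (Nat.ble (nat_lit 124) j)
noncomputable def dp_b_111 (j u : ℕ) : Bool :=
  Bool.rec (motive := fun _ => Bool) (lS MG [T_c, T_c, T_b, T_ci, T_fi, T_d, T_ci, T_fi] M (Nat.sub (T_b u) (Nat.mod (T_b u) M)) (nat_lit 40) (Nat.mod (T_b u) M) u) (lS MG [T_ci, T_fi, T_d, T_ci, T_fi, T_b, T_c, T_c] M (Nat.sub (T_b u) (Nat.mod (T_b u) M)) (nat_lit 40) (Nat.mod (T_b u) M) u) (Nat.ble (nat_lit 127) j)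
noncomputable def dp_b_112 (j u : ℕ) : Bool :=
  Bool.rec (motive := fun _ => Bool) (lF [T_b, T_di, T_f, T_f, T_ci, T_bi, T_ci, T_fi] M (Nat.sub (T_b u) (Nat.mod (T_b u) M)) (Nat.mod (T_b u) M) u) (dp_b_111 j u) (Nat.ble (nat_lit 126) j)
noncomputable def dp_b_113 (j u : ℕ) : Bool :=
  Bool.rec (motive := fun _ => Bool) (dp_b_110 j u) (dp_b_112 j u) (Nat.ble (nat_lit 125) j)
noncomputable def dp_b_114 (j u : ℕ) : Bool :=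
  Bool.rec (motive := fun _ => Bool) (dp_b_109 j u) (dp_b_113 j u) (Nat.ble (nat_lit 123) j)
noncomputable def dp_b_115 (j u : ℕ) : Bool :=
  Bool.rec (motive := fun _ => Bool) (dp_b_106 j u) (dp_b_114 j u) (Nat.ble (nat_lit 119) j)
noncomputable def dp_b_116 (j u : ℕ) : Bool :=
  Bool.rec (motive := fun _ => Bool) (dp_b_100 j u) (dp_b_115 j u) (Nat.ble (nat_lit 112) j)
noncomputable def dp_b_117 (j u : ℕ) : Bool :=
  Bool.rec (motive := fun _ => Bool) (dp_b_97 j u) (dp_b_116 j u) (Nat.ble (nat_lit 108) j)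
noncomputable def dp_b_118 (j u : ℕ) : Bool :=
  Bool.rec (motive := fun _ => Bool) (dp_b_93 j u) (dp_b_117 j u) (Nat.ble (nat_lit 103) j)
noncomputable def dp_b_119 (j u : ℕ) : Bool :=
  Bool.rec (motive := fun _ => Bool) (dp_b_87 j u) (dp_b_118 j u) (Nat.ble (nat_lit 96) j)
noncomputable def dp_b_120 (j u : ℕ) : Bool :=
  Bool.rec (motive := fun _ => Bool) (dp_b_77 j u) (dp_b_119 j u) (Nat.ble (nat_lit 85) j)
noncomputable def dp_b_121 (j u : ℕ) : Bool :=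
  Bool.rec (motive := fun _ => Bool) (dp_b_59 j u) (dp_b_120 j u) (Nat.ble (nat_lit 66) j)
noncomputable def dp_b_122 (j u : ℕ) : Bool :=
  Bool.rec (motive := fun _ => Bool) (dp_b_31 j u) (dp_b_121 j u) (Nat.ble (nat_lit 37) j)
noncomputable def disp_b (j u : ℕ) : Bool :=
  Bool.rec (motive := fun _ => Bool) (Bool.rec (motive := fun _ => Bool) (lF1 T_bi M (Nat.sub (T_b u) (Nat.mod (T_b u) M)) (Nat.mod (T_b u) M) u) (lDef P (nat_lit 1) u (Nat.mod (T_b u) M)) (Nat.ble (nat_lit 1) j)) (Bool.rec (motive := fun _ => Bool) (Bool.rec (motive := fun _ => Bool) (lDef P (nat_lit 0) (Nat.mod (T_b u) M) u) (lS MG [T_bi] M (Nat.sub (T_b u) (Nat.mod (T_b u) M)) (nat_lit 40) (Nat.mod (T_b u) M) u) (Nat.ble (nat_lit 3) j)) (dp_b_122 j u) (Nat.ble (nat_lit 4) j)) (Nat.ble (nat_lit 2) j)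
noncomputable def chk_b (j u : ℕ) : Bool :=
  Bool.rec (motive := fun _ => Bool) (disp_b j u) (Nat.ble (Nat.succ (MG u)) A) (Nat.ble A (T_b u))
noncomputable def dp_bi_0 (j u : ℕ) : Bool :=
  Bool.rec (motive := fun _ => Bool) (lS MG [T_bi, T_f, T_b, T_f, T_di, T_c, T_fi] M (Nat.sub (T_bi u) (Nat.mod (T_bi u) M)) (nat_lit 40) (Nat.mod (T_bi u) M) u) (lS MG [T_c, T_b, T_d, T_ci, T_fi, T_fi, T_di] M (Nat.sub (T_bi u) (Nat.mod (T_bi u) M)) (nat_lit 40) (Nat.mod (T_bi u) M) u) (Nat.ble (nat_lit 7) j)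
noncomputable def dp_bi_1 (j u : ℕ) : Bool :=
  Bool.rec (motive := fun _ => Bool) (lF [T_e, T_c, T_e, T_bi, T_e, T_c, T_e] M (Nat.sub (T_bi u) (Nat.mod (T_bi u) M)) (Nat.mod (T_bi u) M) u) (dp_bi_0 j u) (Nat.ble (nat_lit 6) j)
noncomputable def dp_bi_2 (j u : ℕ) : Bool :=
  Bool.rec (motive := fun _ => Bool) (lS MG [T_e, T_c, T_e, T_bi, T_e, T_c, T_e] M (Nat.sub (T_bi u) (Nat.mod (T_bi u) M)) (nat_lit 40) (Nat.mod (T_bi u) M) u) (dp_bi_1 j u) (Nat.ble (nat_lit 5) j)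
noncomputable def dp_bi_3 (j u : ℕ) : Bool :=
  Bool.rec (motive := fun _ => Bool) (lF [T_d, T_fi, T_di, T_b, T_c, T_d, T_ci] M (Nat.sub (T_bi u) (Nat.mod (T_bi u) M)) (Nat.mod (T_bi u) M) u) (lS MG [T_f, T_b, T_f, T_di, T_c, T_fi, T_bi] M (Nat.sub (T_bi u) (Nat.mod (T_bi u) M)) (nat_lit 40) (Nat.mod (T_bi u) M) u) (Nat.ble (nat_lit 10) j)
noncomputable def dp_bi_4 (j u : ℕ) : Bool :=
  Bool.rec (motive := fun _ => Bool) (lF [T_c, T_b, T_d, T_ci, T_fi, T_fi, T_di] M (Nat.sub (T_bi u) (Nat.mod (T_bi u) M)) (Nat.mod (T_bi u) M) u) (dp_bi_3 j u) (Nat.ble (nat_lit 9) j)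
noncomputable def dp_bi_5 (j u : ℕ) : Bool :=
  Bool.rec (motive := fun _ => Bool) (lF [T_f, T_b, T_f, T_di, T_c, T_fi, T_bi] M (Nat.sub (T_bi u) (Nat.mod (T_bi u) M)) (Nat.mod (T_bi u) M) u) (lF [T_fi, T_c, T_d, T_d, T_bi, T_f, T_c] M (Nat.sub (T_bi u) (Nat.mod (T_bi u) M)) (Nat.mod (T_bi u) M) u) (Nat.ble (nat_lit 12) j)
noncomputable def dp_bi_6 (j u : ℕ) : Bool :=
  Bool.rec (motive := fun _ => Bool) (lS MG [T_c, T_fi, T_di, T_ci, T_b, T_di, T_f] M (Nat.sub (T_bi u) (Nat.mod (T_bi u) M)) (nat_lit 40) (Nat.mod (T_bi u) M) u) (lF [T_f, T_c, T_bi, T_fi, T_c, T_d, T_d] M (Nat.sub (T_bi u) (Nat.mod (T_bi u) M)) (Nat.mod (T_bi u) M) u) (Nat.ble (nat_lit 14) j)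
noncomputable def dp_bi_7 (j u : ℕ) : Bool :=
  Bool.rec (motive := fun _ => Bool) (dp_bi_5 j u) (dp_bi_6 j u) (Nat.ble (nat_lit 13) j)
noncomputable def dp_bi_8 (j u : ℕ) : Bool :=
  Bool.rec (motive := fun _ => Bool) (dp_bi_4 j u) (dp_bi_7 j u) (Nat.ble (nat_lit 11) j)
noncomputable def dp_bi_9 (j u : ℕ) : Bool :=
  Bool.rec (motive := fun _ => Bool) (dp_bi_2 j u) (dp_bi_8 j u) (Nat.ble (nat_lit 8) j)
noncomputable def dp_bi_10 (j u : ℕ) : Bool :=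
  Bool.rec (motive := fun _ => Bool) (lS MG [T_c, T_fi, T_ei, T_fi, T_b, T_f, T_d, T_ei] M (Nat.sub (T_bi u) (Nat.mod (T_bi u) M)) (nat_lit 40) (Nat.mod (T_bi u) M) u) (lF [T_c, T_bi, T_c, T_bi, T_c, T_bi, T_c] M (Nat.sub (T_bi u) (Nat.mod (T_bi u) M)) (Nat.mod (T_bi u) M) u) (Nat.ble (nat_lit 16) j)
noncomputable def dp_bi_11 (j u : ℕ) : Bool :=
  Bool.rec (motive := fun _ => Bool) (lF [T_c, T_fi, T_di, T_ci, T_b, T_di, T_f] M (Nat.sub (T_bi u) (Nat.mod (T_bi u) M)) (Nat.mod (T_bi u) M) u) (lS MG [T_d, T_fi, T_di, T_b, T_c, T_d, T_ci] M (Nat.sub (T_bi u) (Nat.mod (T_bi u) M)) (nat_lit 40) (Nat.mod (T_bi u) M) u) (Nat.ble (nat_lit 19) j)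
noncomputable def dp_bi_12 (j u : ℕ) : Bool :=
  Bool.rec (motive := fun _ => Bool) (lF [T_di, T_c, T_bi, T_d, T_fi, T_c, T_fi] M (Nat.sub (T_bi u) (Nat.mod (T_bi u) M)) (Nat.mod (T_bi u) M) u) (dp_bi_11 j u) (Nat.ble (nat_lit 18) j)
noncomputable def dp_bi_13 (j u : ℕ) : Bool :=
  Bool.rec (motive := fun _ => Bool) (dp_bi_10 j u) (dp_bi_12 j u) (Nat.ble (nat_lit 17) j)
noncomputable def dp_bi_14 (j u : ℕ) : Bool :=
  Bool.rec (motive := fun _ => Bool) (lS MG [T_di, T_di, T_fi, T_bi, T_ci, T_di, T_f] M (Nat.sub (T_bi u) (Nat.mod (T_bi u) M)) (nat_lit 40) (Nat.mod (T_bi u) M) u) (lS MG [T_fi, T_b, T_c, T_d, T_b, T_b, T_ci] M (Nat.sub (T_bi u) (Nat.mod (T_bi u) M)) (nat_lit 40) (Nat.mod (T_bi u) M) u) (Nat.ble (nat_lit 21) j)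
noncomputable def dp_bi_15 (j u : ℕ) : Bool :=
  Bool.rec (motive := fun _ => Bool) (lS MG [T_fi, T_c, T_d, T_d, T_bi, T_f, T_c] M (Nat.sub (T_bi u) (Nat.mod (T_bi u) M)) (nat_lit 40) (Nat.mod (T_bi u) M) u) (lS MG [T_ci, T_b, T_d, T_f, T_f, T_c, T_di] M (Nat.sub (T_bi u) (Nat.mod (T_bi u) M)) (nat_lit 40) (Nat.mod (T_bi u) M) u) (Nat.ble (nat_lit 24) j)
noncomputable def dp_bi_16 (j u : ℕ) : Bool :=
  Bool.rec (motive := fun _ => Bool) (lF [T_c, T_d, T_f, T_ci, T_b, T_fi, T_d] M (Nat.sub (T_bi u) (Nat.mod (T_bi u) M)) (Nat.mod (T_bi u) M) u) (dp_bi_15 j u) (Nat.ble (nat_lit 23) j)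
noncomputable def dp_bi_17 (j u : ℕ) : Bool :=
  Bool.rec (motive := fun _ => Bool) (dp_bi_14 j u) (dp_bi_16 j u) (Nat.ble (nat_lit 22) j)
noncomputable def dp_bi_18 (j u : ℕ) : Bool :=
  Bool.rec (motive := fun _ => Bool) (dp_bi_13 j u) (dp_bi_17 j u) (Nat.ble (nat_lit 20) j)
noncomputable def dp_bi_19 (j u : ℕ) : Bool :=
  Bool.rec (motive := fun _ => Bool) (lS MG [T_d, T_c, T_b, T_b, T_ci, T_fi, T_fi] M (Nat.sub (T_bi u) (Nat.mod (T_bi u) M)) (nat_lit 40) (Nat.mod (T_bi u) M) u) (lF [T_di, T_di, T_f, T_b, T_c, T_b, T_ci] M (Nat.sub (T_bi u) (Nat.mod (T_bi u) M)) (Nat.mod (T_bi u) M) u) (Nat.ble (nat_lit 27) j)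
noncomputable def dp_bi_20 (j u : ℕ) : Bool :=
  Bool.rec (motive := fun _ => Bool) (lS MG [T_ci, T_di, T_b, T_f, T_f, T_c, T_bi] M (Nat.sub (T_bi u) (Nat.mod (T_bi u) M)) (nat_lit 40) (Nat.mod (T_bi u) M) u) (dp_bi_19 j u) (Nat.ble (nat_lit 26) j)
noncomputable def dp_bi_21 (j u : ℕ) : Bool :=
  Bool.rec (motive := fun _ => Bool) (lS MG [T_di, T_c, T_bi, T_d, T_fi, T_c, T_fi] M (Nat.sub (T_bi u) (Nat.mod (T_bi u) M)) (nat_lit 40) (Nat.mod (T_bi u) M) u) (lS MG [T_f, T_c, T_bi, T_fi, T_c, T_d, T_d] M (Nat.sub (T_bi u) (Nat.mod (T_bi u) M)) (nat_lit 40) (Nat.mod (T_bi u) M) u) (Nat.ble (nat_lit 30) j)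
noncomputable def dp_bi_22 (j u : ℕ) : Bool :=
  Bool.rec (motive := fun _ => Bool) (lF [T_bi, T_di, T_ci, T_bi, T_f, T_b, T_c] M (Nat.sub (T_bi u) (Nat.mod (T_bi u) M)) (Nat.mod (T_bi u) M) u) (dp_bi_21 j u) (Nat.ble (nat_lit 29) j)
noncomputable def dp_bi_23 (j u : ℕ) : Bool :=
  Bool.rec (motive := fun _ => Bool) (dp_bi_20 j u) (dp_bi_22 j u) (Nat.ble (nat_lit 28) j)
noncomputable def dp_bi_24 (j u : ℕ) : Bool :=
  Bool.rec (motive := fun _ => Bool) (lF [T_c, T_c, T_di, T_bi, T_c, T_c, T_di] M (Nat.sub (T_bi u) (Nat.mod (T_bi u) M)) (Nat.mod (T_bi u) M) u) (lS MG [T_d, T_d, T_b, T_d, T_bi, T_d, T_d] M (Nat.sub (T_bi u) (Nat.mod (T_bi u) M)) (nat_lit 40) (Nat.mod (T_bi u) M) u) (Nat.ble (nat_lit 33) j)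
noncomputable def dp_bi_25 (j u : ℕ) : Bool :=
  Bool.rec (motive := fun _ => Bool) (lS MG [T_di, T_di, T_b, T_di, T_di, T_b, T_di] M (Nat.sub (T_bi u) (Nat.mod (T_bi u) M)) (nat_lit 40) (Nat.mod (T_bi u) M) u) (dp_bi_24 j u) (Nat.ble (nat_lit 32) j)
noncomputable def dp_bi_26 (j u : ℕ) : Bool :=
  Bool.rec (motive := fun _ => Bool) (lF [T_fi, T_d, T_d, T_b, T_c, T_bi, T_ci] M (Nat.sub (T_bi u) (Nat.mod (T_bi u) M)) (Nat.mod (T_bi u) M) u) (lS MG [T_bi, T_ci, T_di, T_b, T_f, T_f, T_c] M (Nat.sub (T_bi u) (Nat.mod (T_bi u) M)) (nat_lit 40) (Nat.mod (T_bi u) M) u) (Nat.ble (nat_lit 36) j)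
noncomputable def dp_bi_27 (j u : ℕ) : Bool :=
  Bool.rec (motive := fun _ => Bool) (lS MG [T_ci, T_bi, T_fi, T_d, T_d, T_b, T_c] M (Nat.sub (T_bi u) (Nat.mod (T_bi u) M)) (nat_lit 40) (Nat.mod (T_bi u) M) u) (dp_bi_26 j u) (Nat.ble (nat_lit 35) j)
noncomputable def dp_bi_28 (j u : ℕ) : Bool :=
  Bool.rec (motive := fun _ => Bool) (dp_bi_25 j u) (dp_bi_27 j u) (Nat.ble (nat_lit 34) j)
noncomputable def dp_bi_29 (j u : ℕ) : Bool :=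
  Bool.rec (motive := fun _ => Bool) (dp_bi_23 j u) (dp_bi_28 j u) (Nat.ble (nat_lit 31) j)
noncomputable def dp_bi_30 (j u : ℕ) : Bool :=
  Bool.rec (motive := fun _ => Bool) (dp_bi_18 j u) (dp_bi_29 j u) (Nat.ble (nat_lit 25) j)
noncomputable def dp_bi_31 (j u : ℕ) : Bool :=
  Bool.rec (motive := fun _ => Bool) (dp_bi_9 j u) (dp_bi_30 j u) (Nat.ble (nat_lit 15) j)
noncomputable def dp_bi_32 (j u : ℕ) : Bool :=
  Bool.rec (motive := fun _ => Bool) (lF [T_bi, T_f, T_b, T_f, T_di, T_c, T_fi] M (Nat.sub (T_bi u) (Nat.mod (T_bi u) M)) (Nat.mod (T_bi u) M) u) (lF [T_bi, T_ci, T_di, T_b, T_f, T_f, T_c] M (Nat.sub (T_bi u) (Nat.mod (T_bi u) M)) (Nat.mod (T_bi u) M) u) (Nat.ble (nat_lit 39) j)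
noncomputable def dp_bi_33 (j u : ℕ) : Bool :=
  Bool.rec (motive := fun _ => Bool) (lF [T_ci, T_b, T_d, T_f, T_f, T_c, T_di] M (Nat.sub (T_bi u) (Nat.mod (T_bi u) M)) (Nat.mod (T_bi u) M) u) (dp_bi_32 j u) (Nat.ble (nat_lit 38) j)
noncomputable def dp_bi_34 (j u : ℕ) : Bool :=
  Bool.rec (motive := fun _ => Bool) (lS MG [T_d, T_fi, T_c, T_fi, T_bi, T_di, T_c] M (Nat.sub (T_bi u) (Nat.mod (T_bi u) M)) (nat_lit 40) (Nat.mod (T_bi u) M) u) (lS MG [T_bi, T_di, T_ci, T_bi, T_f, T_b, T_c] M (Nat.sub (T_bi u) (Nat.mod (T_bi u) M)) (nat_lit 40) (Nat.mod (T_bi u) M) u) (Nat.ble (nat_lit 42) j)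
noncomputable def dp_bi_35 (j u : ℕ) : Bool :=
  Bool.rec (motive := fun _ => Bool) (lF [T_ci, T_di, T_b, T_f, T_f, T_c, T_bi] M (Nat.sub (T_bi u) (Nat.mod (T_bi u) M)) (Nat.mod (T_bi u) M) u) (dp_bi_34 j u) (Nat.ble (nat_lit 41) j)
noncomputable def dp_bi_36 (j u : ℕ) : Bool :=
  Bool.rec (motive := fun _ => Bool) (dp_bi_33 j u) (dp_bi_35 j u) (Nat.ble (nat_lit 40) j)
noncomputable def dp_bi_37 (j u : ℕ) : Bool :=
  Bool.rec (motive := fun _ => Bool) (lF [T_di, T_di, T_fi, T_bi, T_ci, T_di, T_f] M (Nat.sub (T_bi u) (Nat.mod (T_bi u) M)) (Nat.mod (T_bi u) M) u) (lF [T_d, T_f, T_di, T_b, T_c, T_di, T_ci] M (Nat.sub (T_bi u) (Nat.mod (T_bi u) M)) (Nat.mod (T_bi u) M) u) (Nat.ble (nat_lit 45) j)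
noncomputable def dp_bi_38 (j u : ℕ) : Bool :=
  Bool.rec (motive := fun _ => Bool) (lS MG [T_fi, T_b, T_b, T_f, T_ci, T_d, T_fi] M (Nat.sub (T_bi u) (Nat.mod (T_bi u) M)) (nat_lit 40) (Nat.mod (T_bi u) M) u) (dp_bi_37 j u) (Nat.ble (nat_lit 44) j)
noncomputable def dp_bi_39 (j u : ℕ) : Bool :=
  Bool.rec (motive := fun _ => Bool) (lF [T_ci, T_b, T_di, T_f, T_di, T_ci, T_ci] M (Nat.sub (T_bi u) (Nat.mod (T_bi u) M)) (Nat.mod (T_bi u) M) u) (lS MG [T_di, T_di, T_f, T_b, T_c, T_b, T_ci] M (Nat.sub (T_bi u) (Nat.mod (T_bi u) M)) (nat_lit 40) (Nat.mod (T_bi u) M) u) (Nat.ble (nat_lit 47) j)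
noncomputable def dp_bi_40 (j u : ℕ) : Bool :=
  Bool.rec (motive := fun _ => Bool) (lS MG [T_c, T_c, T_di, T_bi, T_c, T_c, T_di] M (Nat.sub (T_bi u) (Nat.mod (T_bi u) M)) (nat_lit 40) (Nat.mod (T_bi u) M) u) (lS MG [T_di, T_ci, T_bi, T_f, T_b, T_c, T_bi] M (Nat.sub (T_bi u) (Nat.mod (T_bi u) M)) (nat_lit 40) (Nat.mod (T_bi u) M) u) (Nat.ble (nat_lit 49) j)
noncomputable def dp_bi_41 (j u : ℕ) : Bool :=
  Bool.rec (motive := fun _ => Bool) (dp_bi_39 j u) (dp_bi_40 j u) (Nat.ble (nat_lit 48) j)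
noncomputable def dp_bi_42 (j u : ℕ) : Bool :=
  Bool.rec (motive := fun _ => Bool) (dp_bi_38 j u) (dp_bi_41 j u) (Nat.ble (nat_lit 46) j)
noncomputable def dp_bi_43 (j u : ℕ) : Bool :=
  Bool.rec (motive := fun _ => Bool) (dp_bi_36 j u) (dp_bi_42 j u) (Nat.ble (nat_lit 43) j)
noncomputable def dp_bi_44 (j u : ℕ) : Bool :=
  Bool.rec (motive := fun _ => Bool) (lS MG [T_fi, T_ci, T_b, T_f, T_ci, T_ci, T_f] M (Nat.sub (T_bi u) (Nat.mod (T_bi u) M)) (nat_lit 40) (Nat.mod (T_bi u) M) u) (lF [T_c, T_di, T_b, T_c, T_di, T_c, T_d] M (Nat.sub (T_bi u) (Nat.mod (T_bi u) M)) (Nat.mod (T_bi u) M) u) (Nat.ble (nat_lit 52) j)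
noncomputable def dp_bi_45 (j u : ℕ) : Bool :=
  Bool.rec (motive := fun _ => Bool) (lF [T_fi, T_di, T_ci, T_bi, T_ci, T_fi, T_d] M (Nat.sub (T_bi u) (Nat.mod (T_bi u) M)) (Nat.mod (T_bi u) M) u) (dp_bi_44 j u) (Nat.ble (nat_lit 51) j)
noncomputable def dp_bi_46 (j u : ℕ) : Bool :=
  Bool.rec (motive := fun _ => Bool) (lF [T_ci, T_bi, T_fi, T_d, T_d, T_b, T_c] M (Nat.sub (T_bi u) (Nat.mod (T_bi u) M)) (Nat.mod (T_bi u) M) u) (lF [T_d, T_fi, T_c, T_fi, T_bi, T_di, T_c] M (Nat.sub (T_bi u) (Nat.mod (T_bi u) M)) (Nat.mod (T_bi u) M) u) (Nat.ble (nat_lit 54) j)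
noncomputable def dp_bi_47 (j u : ℕ) : Bool :=
  Bool.rec (motive := fun _ => Bool) (lS MG [T_ci, T_b, T_di, T_f, T_di, T_ci, T_ci] M (Nat.sub (T_bi u) (Nat.mod (T_bi u) M)) (nat_lit 40) (Nat.mod (T_bi u) M) u) (lF [T_d, T_c, T_b, T_b, T_ci, T_fi, T_fi] M (Nat.sub (T_bi u) (Nat.mod (T_bi u) M)) (Nat.mod (T_bi u) M) u) (Nat.ble (nat_lit 56) j)
noncomputable def dp_bi_48 (j u : ℕ) : Bool :=
  Bool.rec (motive := fun _ => Bool) (dp_bi_46 j u) (dp_bi_47 j u) (Nat.ble (nat_lit 55) j)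
noncomputable def dp_bi_49 (j u : ℕ) : Bool :=
  Bool.rec (motive := fun _ => Bool) (dp_bi_45 j u) (dp_bi_48 j u) (Nat.ble (nat_lit 53) j)
noncomputable def dp_bi_50 (j u : ℕ) : Bool :=
  Bool.rec (motive := fun _ => Bool) (lS MG [T_fi, T_d, T_d, T_b, T_c, T_bi, T_ci] M (Nat.sub (T_bi u) (Nat.mod (T_bi u) M)) (nat_lit 40) (Nat.mod (T_bi u) M) u) (lS MG [T_ci, T_fi, T_d, T_bi, T_fi, T_di, T_ci] M (Nat.sub (T_bi u) (Nat.mod (T_bi u) M)) (nat_lit 40) (Nat.mod (T_bi u) M) u) (Nat.ble (nat_lit 58) j)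
noncomputable def dp_bi_51 (j u : ℕ) : Bool :=
  Bool.rec (motive := fun _ => Bool) (lF [T_c, T_fi, T_ei, T_fi, T_b, T_f, T_d, T_ei] M (Nat.sub (T_bi u) (Nat.mod (T_bi u) M)) (Nat.mod (T_bi u) M) u) (lS MG [T_f, T_d, T_b, T_c, T_d, T_b, T_ci] M (Nat.sub (T_bi u) (Nat.mod (T_bi u) M)) (nat_lit 40) (Nat.mod (T_bi u) M) u) (Nat.ble (nat_lit 60) j)
noncomputable def dp_bi_52 (j u : ℕ) : Bool :=
  Bool.rec (motive := fun _ => Bool) (dp_bi_50 j u) (dp_bi_51 j u) (Nat.ble (nat_lit 59) j)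
noncomputable def dp_bi_53 (j u : ℕ) : Bool :=
  Bool.rec (motive := fun _ => Bool) (lF [T_d, T_d, T_bi, T_d, T_d, T_b, T_d] M (Nat.sub (T_bi u) (Nat.mod (T_bi u) M)) (Nat.mod (T_bi u) M) u) (lF [T_di, T_ci, T_bi, T_di, T_fi, T_b, T_c] M (Nat.sub (T_bi u) (Nat.mod (T_bi u) M)) (Nat.mod (T_bi u) M) u) (Nat.ble (nat_lit 62) j)
noncomputable def dp_bi_54 (j u : ℕ) : Bool :=
  Bool.rec (motive := fun _ => Bool) (lS MG [T_d, T_d, T_bi, T_d, T_d, T_b, T_d] M (Nat.sub (T_bi u) (Nat.mod (T_bi u) M)) (nat_lit 40) (Nat.mod (T_bi u) M) u) (lF [T_f, T_ci, T_d, T_b, T_ci, T_di, T_ci] M (Nat.sub (T_bi u) (Nat.mod (T_bi u) M)) (Nat.mod (T_bi u) M) u) (Nat.ble (nat_lit 64) j)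
noncomputable def dp_bi_55 (j u : ℕ) : Bool :=
  Bool.rec (motive := fun _ => Bool) (dp_bi_53 j u) (dp_bi_54 j u) (Nat.ble (nat_lit 63) j)
noncomputable def dp_bi_56 (j u : ℕ) : Bool :=
  Bool.rec (motive := fun _ => Bool) (dp_bi_52 j u) (dp_bi_55 j u) (Nat.ble (nat_lit 61) j)
noncomputable def dp_bi_57 (j u : ℕ) : Bool :=
  Bool.rec (motive := fun _ => Bool) (dp_bi_49 j u) (dp_bi_56 j u) (Nat.ble (nat_lit 57) j)
noncomputable def dp_bi_58 (j u : ℕ) : Bool :=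
  Bool.rec (motive := fun _ => Bool) (dp_bi_43 j u) (dp_bi_57 j u) (Nat.ble (nat_lit 50) j)
noncomputable def dp_bi_59 (j u : ℕ) : Bool :=
  Bool.rec (motive := fun _ => Bool) (lF [T_ci, T_di, T_f, T_bi, T_di, T_di, T_fi] M (Nat.sub (T_bi u) (Nat.mod (T_bi u) M)) (Nat.mod (T_bi u) M) u) (lF [T_f, T_d, T_f, T_b, T_c, T_bi, T_ci] M (Nat.sub (T_bi u) (Nat.mod (T_bi u) M)) (Nat.mod (T_bi u) M) u) (Nat.ble (nat_lit 66) j)
noncomputable def dp_bi_60 (j u : ℕ) : Bool :=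
  Bool.rec (motive := fun _ => Bool) (lS MG [T_di, T_c, T_fi, T_b, T_c, T_d, T_c] M (Nat.sub (T_bi u) (Nat.mod (T_bi u) M)) (nat_lit 40) (Nat.mod (T_bi u) M) u) (lS MG [T_c, T_d, T_f, T_ci, T_b, T_fi, T_d] M (Nat.sub (T_bi u) (Nat.mod (T_bi u) M)) (nat_lit 40) (Nat.mod (T_bi u) M) u) (Nat.ble (nat_lit 68) j)
noncomputable def dp_bi_61 (j u : ℕ) : Bool :=
  Bool.rec (motive := fun _ => Bool) (dp_bi_59 j u) (dp_bi_60 j u) (Nat.ble (nat_lit 67) j)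
noncomputable def dp_bi_62 (j u : ℕ) : Bool :=
  Bool.rec (motive := fun _ => Bool) (lS MG [T_ci, T_d, T_c, T_bi, T_ci, T_d, T_c] M (Nat.sub (T_bi u) (Nat.mod (T_bi u) M)) (nat_lit 40) (Nat.mod (T_bi u) M) u) (lF [T_ci, T_fi, T_d, T_bi, T_fi, T_di, T_ci] M (Nat.sub (T_bi u) (Nat.mod (T_bi u) M)) (Nat.mod (T_bi u) M) u) (Nat.ble (nat_lit 70) j)
noncomputable def dp_bi_63 (j u : ℕ) : Bool :=
  Bool.rec (motive := fun _ => Bool) (lF [T_ci, T_b, T_ci, T_ci, T_d, T_c, T_c] M (Nat.sub (T_bi u) (Nat.mod (T_bi u) M)) (Nat.mod (T_bi u) M) u) (lS MG [T_d, T_ci, T_fi, T_bi, T_d, T_ci, T_fi] M (Nat.sub (T_bi u) (Nat.mod (T_bi u) M)) (nat_lit 40) (Nat.mod (T_bi u) M) u) (Nat.ble (nat_lit 72) j)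
noncomputable def dp_bi_64 (j u : ℕ) : Bool :=
  Bool.rec (motive := fun _ => Bool) (dp_bi_62 j u) (dp_bi_63 j u) (Nat.ble (nat_lit 71) j)
noncomputable def dp_bi_65 (j u : ℕ) : Bool :=
  Bool.rec (motive := fun _ => Bool) (dp_bi_61 j u) (dp_bi_64 j u) (Nat.ble (nat_lit 69) j)
noncomputable def dp_bi_66 (j u : ℕ) : Bool :=
  Bool.rec (motive := fun _ => Bool) (lF [T_ci, T_d, T_c, T_bi, T_ci, T_d, T_c] M (Nat.sub (T_bi u) (Nat.mod (T_bi u) M)) (Nat.mod (T_bi u) M) u) (lF [T_di, T_c, T_fi, T_b, T_c, T_d, T_c] M (Nat.sub (T_bi u) (Nat.mod (T_bi u) M)) (Nat.mod (T_bi u) M) u) (Nat.ble (nat_lit 74) j)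
noncomputable def dp_bi_67 (j u : ℕ) : Bool :=
  Bool.rec (motive := fun _ => Bool) (lF [T_fi, T_ci, T_b, T_f, T_ci, T_ci, T_f] M (Nat.sub (T_bi u) (Nat.mod (T_bi u) M)) (Nat.mod (T_bi u) M) u) (lF [T_fi, T_di, T_fi, T_b, T_c, T_b, T_ci] M (Nat.sub (T_bi u) (Nat.mod (T_bi u) M)) (Nat.mod (T_bi u) M) u) (Nat.ble (nat_lit 77) j)
noncomputable def dp_bi_68 (j u : ℕ) : Bool :=
  Bool.rec (motive := fun _ => Bool) (lF [T_c, T_f, T_b, T_fi, T_c, T_c, T_fi] M (Nat.sub (T_bi u) (Nat.mod (T_bi u) M)) (Nat.mod (T_bi u) M) u) (dp_bi_67 j u) (Nat.ble (nat_lit 76) j)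
noncomputable def dp_bi_69 (j u : ℕ) : Bool :=
  Bool.rec (motive := fun _ => Bool) (dp_bi_66 j u) (dp_bi_68 j u) (Nat.ble (nat_lit 75) j)
noncomputable def dp_bi_70 (j u : ℕ) : Bool :=
  Bool.rec (motive := fun _ => Bool) (lF [T_fi, T_b, T_b, T_f, T_ci, T_d, T_fi] M (Nat.sub (T_bi u) (Nat.mod (T_bi u) M)) (Nat.mod (T_bi u) M) u) (lF [T_di, T_ci, T_bi, T_f, T_b, T_c, T_bi] M (Nat.sub (T_bi u) (Nat.mod (T_bi u) M)) (Nat.mod (T_bi u) M) u) (Nat.ble (nat_lit 79) j)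
noncomputable def dp_bi_71 (j u : ℕ) : Bool :=
  Bool.rec (motive := fun _ => Bool) (lF [T_c, T_b, T_ci, T_ci, T_di, T_c, T_c] M (Nat.sub (T_bi u) (Nat.mod (T_bi u) M)) (Nat.mod (T_bi u) M) u) (lS MG [T_c, T_di, T_b, T_c, T_di, T_c, T_d] M (Nat.sub (T_bi u) (Nat.mod (T_bi u) M)) (nat_lit 40) (Nat.mod (T_bi u) M) u) (Nat.ble (nat_lit 82) j)
noncomputable def dp_bi_72 (j u : ℕ) : Bool :=
  Bool.rec (motive := fun _ => Bool) (lS MG [T_di, T_ci, T_bi, T_di, T_fi, T_b, T_c] M (Nat.sub (T_bi u) (Nat.mod (T_bi u) M)) (nat_lit 40) (Nat.mod (T_bi u) M) u) (dp_bi_71 j u) (Nat.ble (nat_lit 81) j)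
noncomputable def dp_bi_73 (j u : ℕ) : Bool :=
  Bool.rec (motive := fun _ => Bool) (dp_bi_70 j u) (dp_bi_72 j u) (Nat.ble (nat_lit 80) j)
noncomputable def dp_bi_74 (j u : ℕ) : Bool :=
  Bool.rec (motive := fun _ => Bool) (dp_bi_69 j u) (dp_bi_73 j u) (Nat.ble (nat_lit 78) j)
noncomputable def dp_bi_75 (j u : ℕ) : Bool :=
  Bool.rec (motive := fun _ => Bool) (dp_bi_65 j u) (dp_bi_74 j u) (Nat.ble (nat_lit 73) j)
noncomputable def dp_bi_76 (j u : ℕ) : Bool :=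
  Bool.rec (motive := fun _ => Bool) (lS MG [T_ci, T_b, T_ci, T_ci, T_d, T_c, T_c] M (Nat.sub (T_bi u) (Nat.mod (T_bi u) M)) (nat_lit 40) (Nat.mod (T_bi u) M) u) (lF [T_c, T_b, T_c, T_c, T_d, T_fi, T_d] M (Nat.sub (T_bi u) (Nat.mod (T_bi u) M)) (Nat.mod (T_bi u) M) u) (Nat.ble (nat_lit 85) j)
noncomputable def dp_bi_77 (j u : ℕ) : Bool :=
  Bool.rec (motive := fun _ => Bool) (lF [T_di, T_fi, T_b, T_c, T_bi, T_di, T_ci] M (Nat.sub (T_bi u) (Nat.mod (T_bi u) M)) (Nat.mod (T_bi u) M) u) (dp_bi_76 j u) (Nat.ble (nat_lit 84) j)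
noncomputable def dp_bi_78 (j u : ℕ) : Bool :=
  Bool.rec (motive := fun _ => Bool) (lF [T_fi, T_b, T_c, T_d, T_b, T_b, T_ci] M (Nat.sub (T_bi u) (Nat.mod (T_bi u) M)) (Nat.mod (T_bi u) M) u) (lS MG [T_f, T_d, T_f, T_b, T_c, T_bi, T_ci] M (Nat.sub (T_bi u) (Nat.mod (T_bi u) M)) (nat_lit 40) (Nat.mod (T_bi u) M) u) (Nat.ble (nat_lit 88) j)
noncomputable def dp_bi_79 (j u : ℕ) : Bool :=
  Bool.rec (motive := fun _ => Bool) (lS MG [T_ci, T_di, T_f, T_bi, T_di, T_di, T_fi] M (Nat.sub (T_bi u) (Nat.mod (T_bi u) M)) (nat_lit 40) (Nat.mod (T_bi u) M) u) (dp_bi_78 j u) (Nat.ble (nat_lit 87) j)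
noncomputable def dp_bi_80 (j u : ℕ) : Bool :=
  Bool.rec (motive := fun _ => Bool) (dp_bi_77 j u) (dp_bi_79 j u) (Nat.ble (nat_lit 86) j)
noncomputable def dp_bi_81 (j u : ℕ) : Bool :=
  Bool.rec (motive := fun _ => Bool) (lF [T_di, T_di, T_b, T_di, T_di, T_b, T_di] M (Nat.sub (T_bi u) (Nat.mod (T_bi u) M)) (Nat.mod (T_bi u) M) u) (lS MG [T_d, T_ci, T_b, T_di, T_ci, T_d, T_ci] M (Nat.sub (T_bi u) (Nat.mod (T_bi u) M)) (nat_lit 40) (Nat.mod (T_bi u) M) u) (Nat.ble (nat_lit 91) j)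
noncomputable def dp_bi_82 (j u : ℕ) : Bool :=
  Bool.rec (motive := fun _ => Bool) (lF [T_d, T_ci, T_fi, T_bi, T_d, T_ci, T_fi] M (Nat.sub (T_bi u) (Nat.mod (T_bi u) M)) (Nat.mod (T_bi u) M) u) (dp_bi_81 j u) (Nat.ble (nat_lit 90) j)
noncomputable def dp_bi_83 (j u : ℕ) : Bool :=
  Bool.rec (motive := fun _ => Bool) (lF [T_d, T_fi, T_c, T_bi, T_c, T_d, T_d, T_f] M (Nat.sub (T_bi u) (Nat.mod (T_bi u) M)) (Nat.mod (T_bi u) M) u) (lF [T_f, T_d, T_b, T_c, T_d, T_b, T_ci] M (Nat.sub (T_bi u) (Nat.mod (T_bi u) M)) (Nat.mod (T_bi u) M) u) (Nat.ble (nat_lit 94) j)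
noncomputable def dp_bi_84 (j u : ℕ) : Bool :=
  Bool.rec (motive := fun _ => Bool) (lS MG [T_f, T_e, T_f, T_ci, T_b, T_e, T_di, T_fi] M (Nat.sub (T_bi u) (Nat.mod (T_bi u) M)) (nat_lit 40) (Nat.mod (T_bi u) M) u) (dp_bi_83 j u) (Nat.ble (nat_lit 93) j)
noncomputable def dp_bi_85 (j u : ℕ) : Bool :=
  Bool.rec (motive := fun _ => Bool) (dp_bi_82 j u) (dp_bi_84 j u) (Nat.ble (nat_lit 92) j)
noncomputable def dp_bi_86 (j u : ℕ) : Bool :=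
  Bool.rec (motive := fun _ => Bool) (dp_bi_80 j u) (dp_bi_85 j u) (Nat.ble (nat_lit 89) j)
noncomputable def dp_bi_87 (j u : ℕ) : Bool :=
  Bool.rec (motive := fun _ => Bool) (lS MG [T_f, T_ci, T_d, T_b, T_ci, T_di, T_ci] M (Nat.sub (T_bi u) (Nat.mod (T_bi u) M)) (nat_lit 40) (Nat.mod (T_bi u) M) u) (lS MG [T_c, T_b, T_ci, T_ci, T_di, T_c, T_c] M (Nat.sub (T_bi u) (Nat.mod (T_bi u) M)) (nat_lit 40) (Nat.mod (T_bi u) M) u) (Nat.ble (nat_lit 96) j)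
noncomputable def dp_bi_88 (j u : ℕ) : Bool :=
  Bool.rec (motive := fun _ => Bool) (lF [T_d, T_d, T_b, T_d, T_bi, T_d, T_d] M (Nat.sub (T_bi u) (Nat.mod (T_bi u) M)) (Nat.mod (T_bi u) M) u) (lS MG [T_d, T_f, T_di, T_b, T_c, T_di, T_ci] M (Nat.sub (T_bi u) (Nat.mod (T_bi u) M)) (nat_lit 40) (Nat.mod (T_bi u) M) u) (Nat.ble (nat_lit 98) j)
noncomputable def dp_bi_89 (j u : ℕ) : Bool :=
  Bool.rec (motive := fun _ => Bool) (dp_bi_87 j u) (dp_bi_88 j u) (Nat.ble (nat_lit 97) j)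
noncomputable def dp_bi_90 (j u : ℕ) : Bool :=
  Bool.rec (motive := fun _ => Bool) (lS MG [T_c, T_f, T_b, T_fi, T_c, T_c, T_fi] M (Nat.sub (T_bi u) (Nat.mod (T_bi u) M)) (nat_lit 40) (Nat.mod (T_bi u) M) u) (lS MG [T_f, T_b, T_c, T_bi, T_bi, T_di, T_ci] M (Nat.sub (T_bi u) (Nat.mod (T_bi u) M)) (nat_lit 40) (Nat.mod (T_bi u) M) u) (Nat.ble (nat_lit 100) j)
noncomputable def dp_bi_91 (j u : ℕ) : Bool :=
  Bool.rec (motive := fun _ => Bool) (lS MG [T_c, T_b, T_c, T_c, T_d, T_fi, T_d] M (Nat.sub (T_bi u) (Nat.mod (T_bi u) M)) (nat_lit 40) (Nat.mod (T_bi u) M) u) (lS MG [T_c, T_bi, T_c, T_bi, T_c, T_bi, T_c] M (Nat.sub (T_bi u) (Nat.mod (T_bi u) M)) (nat_lit 40) (Nat.mod (T_bi u) M) u) (Nat.ble (nat_lit 102) j)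
noncomputable def dp_bi_92 (j u : ℕ) : Bool :=
  Bool.rec (motive := fun _ => Bool) (dp_bi_90 j u) (dp_bi_91 j u) (Nat.ble (nat_lit 101) j)
noncomputable def dp_bi_93 (j u : ℕ) : Bool :=
  Bool.rec (motive := fun _ => Bool) (dp_bi_89 j u) (dp_bi_92 j u) (Nat.ble (nat_lit 99) j)
noncomputable def dp_bi_94 (j u : ℕ) : Bool :=
  Bool.rec (motive := fun _ => Bool) (lF [T_f, T_b, T_c, T_bi, T_bi, T_di, T_ci] M (Nat.sub (T_bi u) (Nat.mod (T_bi u) M)) (Nat.mod (T_bi u) M) u) (lS MG [T_fi, T_di, T_ci, T_bi, T_ci, T_fi, T_d] M (Nat.sub (T_bi u) (Nat.mod (T_bi u) M)) (nat_lit 40) (Nat.mod (T_bi u) M) u) (Nat.ble (nat_lit 104) j)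
noncomputable def dp_bi_95 (j u : ℕ) : Bool :=
  Bool.rec (motive := fun _ => Bool) (lS MG [T_di, T_fi, T_b, T_c, T_bi, T_di, T_ci] M (Nat.sub (T_bi u) (Nat.mod (T_bi u) M)) (nat_lit 40) (Nat.mod (T_bi u) M) u) (lF [T_d, T_ci, T_b, T_di, T_ci, T_d, T_ci] M (Nat.sub (T_bi u) (Nat.mod (T_bi u) M)) (Nat.mod (T_bi u) M) u) (Nat.ble (nat_lit 106) j)
noncomputable def dp_bi_96 (j u : ℕ) : Bool :=
  Bool.rec (motive := fun _ => Bool) (dp_bi_94 j u) (dp_bi_95 j u) (Nat.ble (nat_lit 105) j)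
noncomputable def dp_bi_97 (j u : ℕ) : Bool :=
  Bool.rec (motive := fun _ => Bool) (lF [T_ci, T_bi, T_f, T_d, T_f, T_b, T_c] M (Nat.sub (T_bi u) (Nat.mod (T_bi u) M)) (Nat.mod (T_bi u) M) u) (lF [T_f, T_c, T_di, T_f, T_c, T_bi, T_ci, T_ci] M (Nat.sub (T_bi u) (Nat.mod (T_bi u) M)) (Nat.mod (T_bi u) M) u) (Nat.ble (nat_lit 109) j)
noncomputable def dp_bi_98 (j u : ℕ) : Bool :=
  Bool.rec (motive := fun _ => Bool) (lS MG [T_fi, T_di, T_fi, T_b, T_c, T_b, T_ci] M (Nat.sub (T_bi u) (Nat.mod (T_bi u) M)) (nat_lit 40) (Nat.mod (T_bi u) M) u) (dp_bi_97 j u) (Nat.ble (nat_lit 108) j)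
noncomputable def dp_bi_99 (j u : ℕ) : Bool :=
  Bool.rec (motive := fun _ => Bool) (lS MG [T_ci, T_bi, T_f, T_d, T_f, T_b, T_c] M (Nat.sub (T_bi u) (Nat.mod (T_bi u) M)) (nat_lit 40) (Nat.mod (T_bi u) M) u) (lF [T_ci, T_ci, T_bi, T_f, T_c, T_di, T_f, T_c] M (Nat.sub (T_bi u) (Nat.mod (T_bi u) M)) (Nat.mod (T_bi u) M) u) (Nat.ble (nat_lit 112) j)
noncomputable def dp_bi_100 (j u : ℕ) : Bool :=
  Bool.rec (motive := fun _ => Bool) (lF [T_f, T_e, T_f, T_ci, T_b, T_e, T_di, T_fi] M (Nat.sub (T_bi u) (Nat.mod (T_bi u) M)) (Nat.mod (T_bi u) M) u) (dp_bi_99 j u) (Nat.ble (nat_lit 111) j)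
noncomputable def dp_bi_101 (j u : ℕ) : Bool :=
  Bool.rec (motive := fun _ => Bool) (lS MG [T_f, T_c, T_di, T_f, T_c, T_bi, T_ci, T_ci] M (Nat.sub (T_bi u) (Nat.mod (T_bi u) M)) (nat_lit 40) (Nat.mod (T_bi u) M) u) (lS MG [T_c, T_d, T_d, T_f, T_bi, T_d, T_fi, T_c] M (Nat.sub (T_bi u) (Nat.mod (T_bi u) M)) (nat_lit 40) (Nat.mod (T_bi u) M) u) (Nat.ble (nat_lit 115) j)
noncomputable def dp_bi_102 (j u : ℕ) : Bool :=
  Bool.rec (motive := fun _ => Bool) (lS MG [T_d, T_fi, T_c, T_bi, T_c, T_d, T_d, T_f] M (Nat.sub (T_bi u) (Nat.mod (T_bi u) M)) (nat_lit 40) (Nat.mod (T_bi u) M) u) (dp_bi_101 j u) (Nat.ble (nat_lit 114) j)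
noncomputable def dp_bi_103 (j u : ℕ) : Bool :=
  Bool.rec (motive := fun _ => Bool) (lS MG [T_fi, T_c, T_bi, T_f, T_d, T_d, T_b, T_f] M (Nat.sub (T_bi u) (Nat.mod (T_bi u) M)) (nat_lit 40) (Nat.mod (T_bi u) M) u) (lF [T_bi, T_f, T_c, T_b, T_c, T_fi, T_fi, T_d] M (Nat.sub (T_bi u) (Nat.mod (T_bi u) M)) (Nat.mod (T_bi u) M) u) (Nat.ble (nat_lit 118) j)
noncomputable def dp_bi_104 (j u : ℕ) : Bool :=
  Bool.rec (motive := fun _ => Bool) (lF [T_bi, T_c, T_b, T_ci, T_di, T_bi, T_fi, T_d] M (Nat.sub (T_bi u) (Nat.mod (T_bi u) M)) (Nat.mod (T_bi u) M) u) (dp_bi_103 j u) (Nat.ble (nat_lit 117) j)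
noncomputable def dp_bi_105 (j u : ℕ) : Bool :=
  Bool.rec (motive := fun _ => Bool) (lS MG [T_fi, T_d, T_bi, T_bi, T_c, T_b, T_ci, T_di] M (Nat.sub (T_bi u) (Nat.mod (T_bi u) M)) (nat_lit 40) (Nat.mod (T_bi u) M) u) (lF [T_d, T_fi, T_bi, T_d, T_f, T_c, T_d, T_c] M (Nat.sub (T_bi u) (Nat.mod (T_bi u) M)) (Nat.mod (T_bi u) M) u) (Nat.ble (nat_lit 121) j)
noncomputable def dp_bi_106 (j u : ℕ) : Bool :=
  Bool.rec (motive := fun _ => Bool) (lF [T_fi, T_d, T_bi, T_bi, T_c, T_b, T_ci, T_di] M (Nat.sub (T_bi u) (Nat.mod (T_bi u) M)) (Nat.mod (T_bi u) M) u) (dp_bi_105 j u) (Nat.ble (nat_lit 120) j)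
noncomputable def dp_bi_107 (j u : ℕ) : Bool :=
  Bool.rec (motive := fun _ => Bool) (dp_bi_104 j u) (dp_bi_106 j u) (Nat.ble (nat_lit 119) j)
noncomputable def dp_bi_108 (j u : ℕ) : Bool :=
  Bool.rec (motive := fun _ => Bool) (dp_bi_102 j u) (dp_bi_107 j u) (Nat.ble (nat_lit 116) j)
noncomputable def dp_bi_109 (j u : ℕ) : Bool :=
  Bool.rec (motive := fun _ => Bool) (dp_bi_100 j u) (dp_bi_108 j u) (Nat.ble (nat_lit 113) j)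
noncomputable def dp_bi_110 (j u : ℕ) : Bool :=
  Bool.rec (motive := fun _ => Bool) (dp_bi_98 j u) (dp_bi_109 j u) (Nat.ble (nat_lit 110) j)
noncomputable def dp_bi_111 (j u : ℕ) : Bool :=
  Bool.rec (motive := fun _ => Bool) (dp_bi_96 j u) (dp_bi_110 j u) (Nat.ble (nat_lit 107) j)
noncomputable def dp_bi_112 (j u : ℕ) : Bool :=
  Bool.rec (motive := fun _ => Bool) (dp_bi_93 j u) (dp_bi_111 j u) (Nat.ble (nat_lit 103) j)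
noncomputable def dp_bi_113 (j u : ℕ) : Bool :=
  Bool.rec (motive := fun _ => Bool) (dp_bi_86 j u) (dp_bi_112 j u) (Nat.ble (nat_lit 95) j)
noncomputable def dp_bi_114 (j u : ℕ) : Bool :=
  Bool.rec (motive := fun _ => Bool) (dp_bi_75 j u) (dp_bi_113 j u) (Nat.ble (nat_lit 83) j)
noncomputable def dp_bi_115 (j u : ℕ) : Bool :=
  Bool.rec (motive := fun _ => Bool) (dp_bi_58 j u) (dp_bi_114 j u) (Nat.ble (nat_lit 65) j)
noncomputable def dp_bi_116 (j u : ℕ) : Bool :=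
  Bool.rec (motive := fun _ => Bool) (dp_bi_31 j u) (dp_bi_115 j u) (Nat.ble (nat_lit 37) j)
noncomputable def disp_bi (j u : ℕ) : Bool :=
  Bool.rec (motive := fun _ => Bool) (Bool.rec (motive := fun _ => Bool) (lF1 T_b M (Nat.sub (T_bi u) (Nat.mod (T_bi u) M)) (Nat.mod (T_bi u) M) u) (lDef P (nat_lit 1) (Nat.mod (T_bi u) M) u) (Nat.ble (nat_lit 1) j)) (Bool.rec (motive := fun _ => Bool) (Bool.rec (motive := fun _ => Bool) (lDef P (nat_lit 0) u (Nat.mod (T_bi u) M)) (lS MG [T_b] M (Nat.sub (T_bi u) (Nat.mod (T_bi u) M)) (nat_lit 40) (Nat.mod (T_bi u) M) u) (Nat.ble (nat_lit 3) j)) (dp_bi_116 j u) (Nat.ble (nat_lit 4) j)) (Nat.ble (nat_lit 2) j)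
noncomputable def chk_bi (j u : ℕ) : Bool :=
  Bool.rec (motive := fun _ => Bool) (disp_bi j u) (Nat.ble (Nat.succ (MG u)) A) (Nat.ble A (T_bi u))
noncomputable def dp_d_0 (j u : ℕ) : Bool :=
  Bool.rec (motive := fun _ => Bool) (lF [T_ci, T_fi, T_e, T_f, T_ei, T_fi, T_e, T_fi] M (Nat.sub (T_d u) (Nat.mod (T_d u) M)) (Nat.mod (T_d u) M) u) (lF [T_ci, T_bi, T_d, T_fi, T_di, T_b, T_c] M (Nat.sub (T_d u) (Nat.mod (T_d u) M)) (Nat.mod (T_d u) M) u) (Nat.ble (nat_lit 7) j)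
noncomputable def dp_d_1 (j u : ℕ) : Bool :=
  Bool.rec (motive := fun _ => Bool) (lF [T_ci, T_ei, T_fi, T_e, T_f, T_ei, T_fi, T_fi] M (Nat.sub (T_d u) (Nat.mod (T_d u) M)) (Nat.mod (T_d u) M) u) (dp_d_0 j u) (Nat.ble (nat_lit 6) j)
noncomputable def dp_d_2 (j u : ℕ) : Bool :=
  Bool.rec (motive := fun _ => Bool) (lS MG [T_fi, T_di, T_b, T_c, T_d, T_ci, T_bi] M (Nat.sub (T_d u) (Nat.mod (T_d u) M)) (nat_lit 40) (Nat.mod (T_d u) M) u) (lS MG [T_bi, T_d, T_d, T_bi, T_d, T_d, T_b] M (Nat.sub (T_d u) (Nat.mod (T_d u) M)) (nat_lit 40) (Nat.mod (T_d u) M) u) (Nat.ble (nat_lit 9) j)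
noncomputable def dp_d_3 (j u : ℕ) : Bool :=
  Bool.rec (motive := fun _ => Bool) (lF [T_b, T_c, T_bi, T_ci, T_bi, T_fi, T_d] M (Nat.sub (T_d u) (Nat.mod (T_d u) M)) (Nat.mod (T_d u) M) u) (lS MG [T_b, T_c, T_bi, T_ci, T_bi, T_fi, T_d] M (Nat.sub (T_d u) (Nat.mod (T_d u) M)) (nat_lit 40) (Nat.mod (T_d u) M) u) (Nat.ble (nat_lit 11) j)
noncomputable def dp_d_4 (j u : ℕ) : Bool :=
  Bool.rec (motive := fun _ => Bool) (dp_d_2 j u) (dp_d_3 j u) (Nat.ble (nat_lit 10) j)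
noncomputable def dp_d_5 (j u : ℕ) : Bool :=
  Bool.rec (motive := fun _ => Bool) (dp_d_1 j u) (dp_d_4 j u) (Nat.ble (nat_lit 8) j)
noncomputable def dp_d_6 (j u : ℕ) : Bool :=
  Bool.rec (motive := fun _ => Bool) (lS MG [T_bi, T_c, T_d, T_f, T_ci, T_b, T_fi] M (Nat.sub (T_d u) (Nat.mod (T_d u) M)) (nat_lit 40) (Nat.mod (T_d u) M) u) (lS MG [T_b, T_c, T_d, T_b, T_ci, T_bi, T_f] M (Nat.sub (T_d u) (Nat.mod (T_d u) M)) (nat_lit 40) (Nat.mod (T_d u) M) u) (Nat.ble (nat_lit 13) j)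
noncomputable def dp_d_7 (j u : ℕ) : Bool :=
  Bool.rec (motive := fun _ => Bool) (lS MG [T_c, T_c, T_bi, T_ci, T_b, T_ci, T_ci] M (Nat.sub (T_d u) (Nat.mod (T_d u) M)) (nat_lit 40) (Nat.mod (T_d u) M) u) (lF [T_f, T_di, T_b, T_c, T_di, T_ci, T_bi] M (Nat.sub (T_d u) (Nat.mod (T_d u) M)) (Nat.mod (T_d u) M) u) (Nat.ble (nat_lit 15) j)
noncomputable def dp_d_8 (j u : ℕ) : Bool :=
  Bool.rec (motive := fun _ => Bool) (dp_d_6 j u) (dp_d_7 j u) (Nat.ble (nat_lit 14) j)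
noncomputable def dp_d_9 (j u : ℕ) : Bool :=
  Bool.rec (motive := fun _ => Bool) (lF [T_fi, T_d, T_bi, T_c, T_b, T_c, T_c] M (Nat.sub (T_d u) (Nat.mod (T_d u) M)) (Nat.mod (T_d u) M) u) (lS MG [T_ci, T_bi, T_d, T_ci, T_b, T_di, T_ci] M (Nat.sub (T_d u) (Nat.mod (T_d u) M)) (nat_lit 40) (Nat.mod (T_d u) M) u) (Nat.ble (nat_lit 17) j)
noncomputable def dp_d_10 (j u : ℕ) : Bool :=
  Bool.rec (motive := fun _ => Bool) (lF [T_bi, T_f, T_c, T_bi, T_fi, T_c, T_d] M (Nat.sub (T_d u) (Nat.mod (T_d u) M)) (Nat.mod (T_d u) M) u) (lS MG [T_bi, T_f, T_c, T_bi, T_fi, T_c, T_d] M (Nat.sub (T_d u) (Nat.mod (T_d u) M)) (nat_lit 40) (Nat.mod (T_d u) M) u) (Nat.ble (nat_lit 19) j)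
noncomputable def dp_d_11 (j u : ℕ) : Bool :=
  Bool.rec (motive := fun _ => Bool) (dp_d_9 j u) (dp_d_10 j u) (Nat.ble (nat_lit 18) j)
noncomputable def dp_d_12 (j u : ℕ) : Bool :=
  Bool.rec (motive := fun _ => Bool) (dp_d_8 j u) (dp_d_11 j u) (Nat.ble (nat_lit 16) j)
noncomputable def dp_d_13 (j u : ℕ) : Bool :=
  Bool.rec (motive := fun _ => Bool) (dp_d_5 j u) (dp_d_12 j u) (Nat.ble (nat_lit 12) j)
noncomputable def dp_d_14 (j u : ℕ) : Bool :=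
  Bool.rec (motive := fun _ => Bool) (lS MG [T_f, T_di, T_b, T_c, T_di, T_ci, T_bi] M (Nat.sub (T_d u) (Nat.mod (T_d u) M)) (nat_lit 40) (Nat.mod (T_d u) M) u) (lF [T_c, T_bi, T_ci, T_d, T_c, T_bi, T_ci] M (Nat.sub (T_d u) (Nat.mod (T_d u) M)) (Nat.mod (T_d u) M) u) (Nat.ble (nat_lit 21) j)
noncomputable def dp_d_15 (j u : ℕ) : Bool :=
  Bool.rec (motive := fun _ => Bool) (lS MG [T_fi, T_d, T_bi, T_c, T_b, T_c, T_c] M (Nat.sub (T_d u) (Nat.mod (T_d u) M)) (nat_lit 40) (Nat.mod (T_d u) M) u) (lS MG [T_ci, T_fi, T_fi, T_di, T_bi, T_c, T_b] M (Nat.sub (T_d u) (Nat.mod (T_d u) M)) (nat_lit 40) (Nat.mod (T_d u) M) u) (Nat.ble (nat_lit 24) j)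
noncomputable def dp_d_16 (j u : ℕ) : Bool :=
  Bool.rec (motive := fun _ => Bool) (lF [T_ci, T_fi, T_fi, T_di, T_bi, T_c, T_b] M (Nat.sub (T_d u) (Nat.mod (T_d u) M)) (Nat.mod (T_d u) M) u) (dp_d_15 j u) (Nat.ble (nat_lit 23) j)
noncomputable def dp_d_17 (j u : ℕ) : Bool :=
  Bool.rec (motive := fun _ => Bool) (dp_d_14 j u) (dp_d_16 j u) (Nat.ble (nat_lit 22) j)
noncomputable def dp_d_18 (j u : ℕ) : Bool :=
  Bool.rec (motive := fun _ => Bool) (lS MG [T_ci, T_fi, T_e, T_f, T_ei, T_fi, T_e, T_fi] M (Nat.sub (T_d u) (Nat.mod (T_d u) M)) (nat_lit 40) (Nat.mod (T_d u) M) u) (lS MG [T_c, T_bi, T_ci, T_d, T_c, T_bi, T_ci] M (Nat.sub (T_d u) (Nat.mod (T_d u) M)) (nat_lit 40) (Nat.mod (T_d u) M) u) (Nat.ble (nat_lit 26) j)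
noncomputable def dp_d_19 (j u : ℕ) : Bool :=
  Bool.rec (motive := fun _ => Bool) (lS MG [T_f, T_b, T_c, T_bi, T_ci, T_bi, T_f] M (Nat.sub (T_d u) (Nat.mod (T_d u) M)) (nat_lit 40) (Nat.mod (T_d u) M) u) (lF [T_f, T_ci, T_b, T_fi, T_d, T_bi, T_c] M (Nat.sub (T_d u) (Nat.mod (T_d u) M)) (Nat.mod (T_d u) M) u) (Nat.ble (nat_lit 29) j)
noncomputable def dp_d_20 (j u : ℕ) : Bool :=
  Bool.rec (motive := fun _ => Bool) (lS MG [T_d, T_b, T_c, T_bi, T_ci, T_bi, T_fi] M (Nat.sub (T_d u) (Nat.mod (T_d u) M)) (nat_lit 40) (Nat.mod (T_d u) M) u) (dp_d_19 j u) (Nat.ble (nat_lit 28) j)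
noncomputable def dp_d_21 (j u : ℕ) : Bool :=
  Bool.rec (motive := fun _ => Bool) (dp_d_18 j u) (dp_d_20 j u) (Nat.ble (nat_lit 27) j)
noncomputable def dp_d_22 (j u : ℕ) : Bool :=
  Bool.rec (motive := fun _ => Bool) (dp_d_17 j u) (dp_d_21 j u) (Nat.ble (nat_lit 25) j)
noncomputable def dp_d_23 (j u : ℕ) : Bool :=
  Bool.rec (motive := fun _ => Bool) (lS MG [T_b, T_f, T_ci, T_f, T_di, T_b, T_ci] M (Nat.sub (T_d u) (Nat.mod (T_d u) M)) (nat_lit 40) (Nat.mod (T_d u) M) u) (lS MG [T_ci, T_ei, T_fi, T_e, T_f, T_ei, T_fi, T_fi] M (Nat.sub (T_d u) (Nat.mod (T_d u) M)) (nat_lit 40) (Nat.mod (T_d u) M) u) (Nat.ble (nat_lit 31) j)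
noncomputable def dp_d_24 (j u : ℕ) : Bool :=
  Bool.rec (motive := fun _ => Bool) (lF [T_f, T_b, T_c, T_bi, T_ci, T_bi, T_f] M (Nat.sub (T_d u) (Nat.mod (T_d u) M)) (Nat.mod (T_d u) M) u) (lS MG [T_ci, T_bi, T_d, T_fi, T_di, T_b, T_c] M (Nat.sub (T_d u) (Nat.mod (T_d u) M)) (nat_lit 40) (Nat.mod (T_d u) M) u) (Nat.ble (nat_lit 34) j)
noncomputable def dp_d_25 (j u : ℕ) : Bool :=
  Bool.rec (motive := fun _ => Bool) (lS MG [T_bi, T_c, T_di, T_b, T_c, T_di, T_c] M (Nat.sub (T_d u) (Nat.mod (T_d u) M)) (nat_lit 40) (Nat.mod (T_d u) M) u) (dp_d_24 j u) (Nat.ble (nat_lit 33) j)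
noncomputable def dp_d_26 (j u : ℕ) : Bool :=
  Bool.rec (motive := fun _ => Bool) (dp_d_23 j u) (dp_d_25 j u) (Nat.ble (nat_lit 32) j)
noncomputable def dp_d_27 (j u : ℕ) : Bool :=
  Bool.rec (motive := fun _ => Bool) (lF [T_ci, T_bi, T_d, T_ci, T_b, T_di, T_ci] M (Nat.sub (T_d u) (Nat.mod (T_d u) M)) (Nat.mod (T_d u) M) u) (lF [T_b, T_fi, T_d, T_c, T_b, T_f, T_d] M (Nat.sub (T_d u) (Nat.mod (T_d u) M)) (Nat.mod (T_d u) M) u) (Nat.ble (nat_lit 37) j)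
noncomputable def dp_d_28 (j u : ℕ) : Bool :=
  Bool.rec (motive := fun _ => Bool) (lF [T_bi, T_fi, T_di, T_ci, T_bi, T_ci, T_fi] M (Nat.sub (T_d u) (Nat.mod (T_d u) M)) (Nat.mod (T_d u) M) u) (dp_d_27 j u) (Nat.ble (nat_lit 36) j)
noncomputable def dp_d_29 (j u : ℕ) : Bool :=
  Bool.rec (motive := fun _ => Bool) (lF [T_bi, T_c, T_di, T_b, T_c, T_di, T_c] M (Nat.sub (T_d u) (Nat.mod (T_d u) M)) (Nat.mod (T_d u) M) u) (lF [T_f, T_f, T_c, T_di, T_bi, T_ci, T_b] M (Nat.sub (T_d u) (Nat.mod (T_d u) M)) (Nat.mod (T_d u) M) u) (Nat.ble (nat_lit 40) j)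
noncomputable def dp_d_30 (j u : ℕ) : Bool :=
  Bool.rec (motive := fun _ => Bool) (lS MG [T_c, T_b, T_f, T_d, T_d, T_b, T_fi] M (Nat.sub (T_d u) (Nat.mod (T_d u) M)) (nat_lit 40) (Nat.mod (T_d u) M) u) (dp_d_29 j u) (Nat.ble (nat_lit 39) j)
noncomputable def dp_d_31 (j u : ℕ) : Bool :=
  Bool.rec (motive := fun _ => Bool) (dp_d_28 j u) (dp_d_30 j u) (Nat.ble (nat_lit 38) j)
noncomputable def dp_d_32 (j u : ℕ) : Bool :=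
  Bool.rec (motive := fun _ => Bool) (dp_d_26 j u) (dp_d_31 j u) (Nat.ble (nat_lit 35) j)
noncomputable def dp_d_33 (j u : ℕ) : Bool :=
  Bool.rec (motive := fun _ => Bool) (dp_d_22 j u) (dp_d_32 j u) (Nat.ble (nat_lit 30) j)
noncomputable def dp_d_34 (j u : ℕ) : Bool :=
  Bool.rec (motive := fun _ => Bool) (dp_d_13 j u) (dp_d_33 j u) (Nat.ble (nat_lit 20) j)
noncomputable def dp_d_35 (j u : ℕ) : Bool :=
  Bool.rec (motive := fun _ => Bool) (lS MG [T_f, T_ci, T_b, T_fi, T_d, T_bi, T_c] M (Nat.sub (T_d u) (Nat.mod (T_d u) M)) (nat_lit 40) (Nat.mod (T_d u) M) u) (lF [T_b, T_ci, T_di, T_ci, T_bi, T_f, T_ci] M (Nat.sub (T_d u) (Nat.mod (T_d u) M)) (Nat.mod (T_d u) M) u) (Nat.ble (nat_lit 43) j)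
noncomputable def dp_d_36 (j u : ℕ) : Bool :=
  Bool.rec (motive := fun _ => Bool) (lS MG [T_f, T_f, T_c, T_di, T_bi, T_ci, T_b] M (Nat.sub (T_d u) (Nat.mod (T_d u) M)) (nat_lit 40) (Nat.mod (T_d u) M) u) (dp_d_35 j u) (Nat.ble (nat_lit 42) j)
noncomputable def dp_d_37 (j u : ℕ) : Bool :=
  Bool.rec (motive := fun _ => Bool) (lS MG [T_d, T_bi, T_d, T_d, T_b, T_d, T_bi] M (Nat.sub (T_d u) (Nat.mod (T_d u) M)) (nat_lit 40) (Nat.mod (T_d u) M) u) (lS MG [T_bi, T_fi, T_di, T_ci, T_bi, T_ci, T_fi] M (Nat.sub (T_d u) (Nat.mod (T_d u) M)) (nat_lit 40) (Nat.mod (T_d u) M) u) (Nat.ble (nat_lit 46) j)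
noncomputable def dp_d_38 (j u : ℕ) : Bool :=
  Bool.rec (motive := fun _ => Bool) (lS MG [T_d, T_ci, T_f, T_d, T_d, T_ci, T_f] M (Nat.sub (T_d u) (Nat.mod (T_d u) M)) (nat_lit 40) (Nat.mod (T_d u) M) u) (dp_d_37 j u) (Nat.ble (nat_lit 45) j)
noncomputable def dp_d_39 (j u : ℕ) : Bool :=
  Bool.rec (motive := fun _ => Bool) (dp_d_36 j u) (dp_d_38 j u) (Nat.ble (nat_lit 44) j)
noncomputable def dp_d_40 (j u : ℕ) : Bool :=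
  Bool.rec (motive := fun _ => Bool) (lS MG [T_ci, T_fi, T_bi, T_d, T_ci, T_fi, T_bi] M (Nat.sub (T_d u) (Nat.mod (T_d u) M)) (nat_lit 40) (Nat.mod (T_d u) M) u) (lF [T_ci, T_fi, T_bi, T_d, T_ci, T_fi, T_bi] M (Nat.sub (T_d u) (Nat.mod (T_d u) M)) (Nat.mod (T_d u) M) u) (Nat.ble (nat_lit 49) j)
noncomputable def dp_d_41 (j u : ℕ) : Bool :=
  Bool.rec (motive := fun _ => Bool) (lF [T_c, T_c, T_bi, T_ci, T_b, T_ci, T_ci] M (Nat.sub (T_d u) (Nat.mod (T_d u) M)) (Nat.mod (T_d u) M) u) (dp_d_40 j u) (Nat.ble (nat_lit 48) j)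
noncomputable def dp_d_42 (j u : ℕ) : Bool :=
  Bool.rec (motive := fun _ => Bool) (lS MG [T_b, T_ci, T_di, T_ci, T_bi, T_f, T_ci] M (Nat.sub (T_d u) (Nat.mod (T_d u) M)) (nat_lit 40) (Nat.mod (T_d u) M) u) (lF [T_c, T_bi, T_di, T_c, T_fi, T_b, T_c] M (Nat.sub (T_d u) (Nat.mod (T_d u) M)) (Nat.mod (T_d u) M) u) (Nat.ble (nat_lit 51) j)
noncomputable def dp_d_43 (j u : ℕ) : Bool :=
  Bool.rec (motive := fun _ => Bool) (lS MG [T_fi, T_d, T_d, T_f, T_d, T_fi, T_fi] M (Nat.sub (T_d u) (Nat.mod (T_d u) M)) (nat_lit 40) (Nat.mod (T_d u) M) u) (lF [T_fi, T_fi, T_d, T_fi, T_d, T_d, T_f] M (Nat.sub (T_d u) (Nat.mod (T_d u) M)) (Nat.mod (T_d u) M) u) (Nat.ble (nat_lit 53) j)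
noncomputable def dp_d_44 (j u : ℕ) : Bool :=
  Bool.rec (motive := fun _ => Bool) (dp_d_42 j u) (dp_d_43 j u) (Nat.ble (nat_lit 52) j)
noncomputable def dp_d_45 (j u : ℕ) : Bool :=
  Bool.rec (motive := fun _ => Bool) (dp_d_41 j u) (dp_d_44 j u) (Nat.ble (nat_lit 50) j)
noncomputable def dp_d_46 (j u : ℕ) : Bool :=
  Bool.rec (motive := fun _ => Bool) (dp_d_39 j u) (dp_d_45 j u) (Nat.ble (nat_lit 47) j)
noncomputable def dp_d_47 (j u : ℕ) : Bool :=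
  Bool.rec (motive := fun _ => Bool) (lF [T_bi, T_d, T_d, T_bi, T_d, T_d, T_b] M (Nat.sub (T_d u) (Nat.mod (T_d u) M)) (Nat.mod (T_d u) M) u) (lF [T_bi, T_c, T_b, T_c, T_c, T_d, T_fi] M (Nat.sub (T_d u) (Nat.mod (T_d u) M)) (Nat.mod (T_d u) M) u) (Nat.ble (nat_lit 56) j)
noncomputable def dp_d_48 (j u : ℕ) : Bool :=
  Bool.rec (motive := fun _ => Bool) (lS MG [T_f, T_b, T_di, T_f, T_c, T_b, T_c] M (Nat.sub (T_d u) (Nat.mod (T_d u) M)) (nat_lit 40) (Nat.mod (T_d u) M) u) (dp_d_47 j u) (Nat.ble (nat_lit 55) j)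
noncomputable def dp_d_49 (j u : ℕ) : Bool :=
  Bool.rec (motive := fun _ => Bool) (lF [T_fi, T_bi, T_fi, T_b, T_b, T_f, T_ci] M (Nat.sub (T_d u) (Nat.mod (T_d u) M)) (Nat.mod (T_d u) M) u) (lS MG [T_d, T_bi, T_f, T_c, T_bi, T_fi, T_c] M (Nat.sub (T_d u) (Nat.mod (T_d u) M)) (nat_lit 40) (Nat.mod (T_d u) M) u) (Nat.ble (nat_lit 58) j)
noncomputable def dp_d_50 (j u : ℕ) : Bool :=
  Bool.rec (motive := fun _ => Bool) (lF [T_b, T_c, T_d, T_b, T_ci, T_bi, T_f] M (Nat.sub (T_d u) (Nat.mod (T_d u) M)) (Nat.mod (T_d u) M) u) (lF [T_b, T_ci, T_bi, T_f, T_d, T_b, T_c] M (Nat.sub (T_d u) (Nat.mod (T_d u) M)) (Nat.mod (T_d u) M) u) (Nat.ble (nat_lit 60) j)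
noncomputable def dp_d_51 (j u : ℕ) : Bool :=
  Bool.rec (motive := fun _ => Bool) (dp_d_49 j u) (dp_d_50 j u) (Nat.ble (nat_lit 59) j)
noncomputable def dp_d_52 (j u : ℕ) : Bool :=
  Bool.rec (motive := fun _ => Bool) (dp_d_48 j u) (dp_d_51 j u) (Nat.ble (nat_lit 57) j)
noncomputable def dp_d_53 (j u : ℕ) : Bool :=
  Bool.rec (motive := fun _ => Bool) (lS MG [T_c, T_b, T_b, T_ci, T_fi, T_fi, T_bi] M (Nat.sub (T_d u) (Nat.mod (T_d u) M)) (nat_lit 40) (Nat.mod (T_d u) M) u) (lF [T_bi, T_d, T_d, T_b, T_d, T_bi, T_d] M (Nat.sub (T_d u) (Nat.mod (T_d u) M)) (Nat.mod (T_d u) M) u) (Nat.ble (nat_lit 63) j)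
noncomputable def dp_d_54 (j u : ℕ) : Bool :=
  Bool.rec (motive := fun _ => Bool) (lS MG [T_fi, T_bi, T_fi, T_b, T_b, T_f, T_ci] M (Nat.sub (T_d u) (Nat.mod (T_d u) M)) (nat_lit 40) (Nat.mod (T_d u) M) u) (dp_d_53 j u) (Nat.ble (nat_lit 62) j)
noncomputable def dp_d_55 (j u : ℕ) : Bool :=
  Bool.rec (motive := fun _ => Bool) (lS MG [T_bi, T_d, T_d, T_b, T_d, T_bi, T_d] M (Nat.sub (T_d u) (Nat.mod (T_d u) M)) (nat_lit 40) (Nat.mod (T_d u) M) u) (lS MG [T_b, T_d, T_bi, T_d, T_d, T_bi, T_d] M (Nat.sub (T_d u) (Nat.mod (T_d u) M)) (nat_lit 40) (Nat.mod (T_d u) M) u) (Nat.ble (nat_lit 65) j)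
noncomputable def dp_d_56 (j u : ℕ) : Bool :=
  Bool.rec (motive := fun _ => Bool) (lF [T_ci, T_b, T_di, T_ci, T_d, T_ci, T_bi] M (Nat.sub (T_d u) (Nat.mod (T_d u) M)) (Nat.mod (T_d u) M) u) (lF [T_c, T_b, T_f, T_d, T_d, T_b, T_fi] M (Nat.sub (T_d u) (Nat.mod (T_d u) M)) (Nat.mod (T_d u) M) u) (Nat.ble (nat_lit 67) j)
noncomputable def dp_d_57 (j u : ℕ) : Bool :=
  Bool.rec (motive := fun _ => Bool) (dp_d_55 j u) (dp_d_56 j u) (Nat.ble (nat_lit 66) j)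
noncomputable def dp_d_58 (j u : ℕ) : Bool :=
  Bool.rec (motive := fun _ => Bool) (dp_d_54 j u) (dp_d_57 j u) (Nat.ble (nat_lit 64) j)
noncomputable def dp_d_59 (j u : ℕ) : Bool :=
  Bool.rec (motive := fun _ => Bool) (dp_d_52 j u) (dp_d_58 j u) (Nat.ble (nat_lit 61) j)
noncomputable def dp_d_60 (j u : ℕ) : Bool :=
  Bool.rec (motive := fun _ => Bool) (dp_d_46 j u) (dp_d_59 j u) (Nat.ble (nat_lit 54) j)
noncomputable def dp_d_61 (j u : ℕ) : Bool :=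
  Bool.rec (motive := fun _ => Bool) (lF [T_b, T_f, T_ci, T_f, T_di, T_b, T_ci] M (Nat.sub (T_d u) (Nat.mod (T_d u) M)) (Nat.mod (T_d u) M) u) (lF [T_d, T_ci, T_f, T_d, T_d, T_ci, T_f] M (Nat.sub (T_d u) (Nat.mod (T_d u) M)) (Nat.mod (T_d u) M) u) (Nat.ble (nat_lit 69) j)
noncomputable def dp_d_62 (j u : ℕ) : Bool :=
  Bool.rec (motive := fun _ => Bool) (lF [T_d, T_bi, T_f, T_c, T_bi, T_fi, T_c] M (Nat.sub (T_d u) (Nat.mod (T_d u) M)) (Nat.mod (T_d u) M) u) (lS MG [T_d, T_b, T_fi, T_d, T_c, T_b, T_f] M (Nat.sub (T_d u) (Nat.mod (T_d u) M)) (nat_lit 40) (Nat.mod (T_d u) M) u) (Nat.ble (nat_lit 71) j)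
noncomputable def dp_d_63 (j u : ℕ) : Bool :=
  Bool.rec (motive := fun _ => Bool) (dp_d_61 j u) (dp_d_62 j u) (Nat.ble (nat_lit 70) j)
noncomputable def dp_d_64 (j u : ℕ) : Bool :=
  Bool.rec (motive := fun _ => Bool) (lS MG [T_c, T_bi, T_di, T_c, T_fi, T_b, T_c] M (Nat.sub (T_d u) (Nat.mod (T_d u) M)) (nat_lit 40) (Nat.mod (T_d u) M) u) (lF [T_d, T_b, T_c, T_bi, T_ci, T_bi, T_fi] M (Nat.sub (T_d u) (Nat.mod (T_d u) M)) (Nat.mod (T_d u) M) u) (Nat.ble (nat_lit 73) j)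
noncomputable def dp_d_65 (j u : ℕ) : Bool :=
  Bool.rec (motive := fun _ => Bool) (lF [T_d, T_bi, T_d, T_d, T_b, T_d, T_bi] M (Nat.sub (T_d u) (Nat.mod (T_d u) M)) (Nat.mod (T_d u) M) u) (lS MG [T_b, T_fi, T_d, T_c, T_b, T_f, T_d] M (Nat.sub (T_d u) (Nat.mod (T_d u) M)) (nat_lit 40) (Nat.mod (T_d u) M) u) (Nat.ble (nat_lit 75) j)
noncomputable def dp_d_66 (j u : ℕ) : Bool :=
  Bool.rec (motive := fun _ => Bool) (dp_d_64 j u) (dp_d_65 j u) (Nat.ble (nat_lit 74) j)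
noncomputable def dp_d_67 (j u : ℕ) : Bool :=
  Bool.rec (motive := fun _ => Bool) (dp_d_63 j u) (dp_d_66 j u) (Nat.ble (nat_lit 72) j)
noncomputable def dp_d_68 (j u : ℕ) : Bool :=
  Bool.rec (motive := fun _ => Bool) (lS MG [T_fi, T_c, T_fi, T_bi, T_di, T_c, T_bi] M (Nat.sub (T_d u) (Nat.mod (T_d u) M)) (nat_lit 40) (Nat.mod (T_d u) M) u) (lF [T_ei, T_bi, T_c, T_fi, T_ei, T_fi, T_b, T_f] M (Nat.sub (T_d u) (Nat.mod (T_d u) M)) (Nat.mod (T_d u) M) u) (Nat.ble (nat_lit 77) j)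
noncomputable def dp_d_69 (j u : ℕ) : Bool :=
  Bool.rec (motive := fun _ => Bool) (lF [T_d, T_f, T_d, T_fi, T_fi, T_d, T_fi] M (Nat.sub (T_d u) (Nat.mod (T_d u) M)) (Nat.mod (T_d u) M) u) (lF [T_d, T_b, T_fi, T_d, T_c, T_b, T_f] M (Nat.sub (T_d u) (Nat.mod (T_d u) M)) (Nat.mod (T_d u) M) u) (Nat.ble (nat_lit 79) j)
noncomputable def dp_d_70 (j u : ℕ) : Bool :=
  Bool.rec (motive := fun _ => Bool) (dp_d_68 j u) (dp_d_69 j u) (Nat.ble (nat_lit 78) j)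
noncomputable def dp_d_71 (j u : ℕ) : Bool :=
  Bool.rec (motive := fun _ => Bool) (lS MG [T_f, T_d, T_fi, T_fi, T_d, T_fi, T_d] M (Nat.sub (T_d u) (Nat.mod (T_d u) M)) (nat_lit 40) (Nat.mod (T_d u) M) u) (lF [T_bi, T_c, T_d, T_f, T_ci, T_b, T_fi] M (Nat.sub (T_d u) (Nat.mod (T_d u) M)) (Nat.mod (T_d u) M) u) (Nat.ble (nat_lit 81) j)
noncomputable def dp_d_72 (j u : ℕ) : Bool :=
  Bool.rec (motive := fun _ => Bool) (lF [T_ci, T_ci, T_b, T_d, T_ci, T_ci, T_b] M (Nat.sub (T_d u) (Nat.mod (T_d u) M)) (Nat.mod (T_d u) M) u) (lS MG [T_d, T_f, T_d, T_fi, T_fi, T_d, T_fi] M (Nat.sub (T_d u) (Nat.mod (T_d u) M)) (nat_lit 40) (Nat.mod (T_d u) M) u) (Nat.ble (nat_lit 84) j)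
noncomputable def dp_d_73 (j u : ℕ) : Bool :=
  Bool.rec (motive := fun _ => Bool) (lS MG [T_ci, T_ci, T_b, T_d, T_ci, T_ci, T_b] M (Nat.sub (T_d u) (Nat.mod (T_d u) M)) (nat_lit 40) (Nat.mod (T_d u) M) u) (dp_d_72 j u) (Nat.ble (nat_lit 83) j)
noncomputable def dp_d_74 (j u : ℕ) : Bool :=
  Bool.rec (motive := fun _ => Bool) (dp_d_71 j u) (dp_d_73 j u) (Nat.ble (nat_lit 82) j)
noncomputable def dp_d_75 (j u : ℕ) : Bool :=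
  Bool.rec (motive := fun _ => Bool) (dp_d_70 j u) (dp_d_74 j u) (Nat.ble (nat_lit 80) j)
noncomputable def dp_d_76 (j u : ℕ) : Bool :=
  Bool.rec (motive := fun _ => Bool) (dp_d_67 j u) (dp_d_75 j u) (Nat.ble (nat_lit 76) j)
noncomputable def dp_d_77 (j u : ℕ) : Bool :=
  Bool.rec (motive := fun _ => Bool) (lS MG [T_ci, T_f, T_d, T_d, T_ci, T_f, T_d] M (Nat.sub (T_d u) (Nat.mod (T_d u) M)) (nat_lit 40) (Nat.mod (T_d u) M) u) (lS MG [T_b, T_b, T_ci, T_bi, T_fi, T_b, T_c] M (Nat.sub (T_d u) (Nat.mod (T_d u) M)) (nat_lit 40) (Nat.mod (T_d u) M) u) (Nat.ble (nat_lit 86) j)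
noncomputable def dp_d_78 (j u : ℕ) : Bool :=
  Bool.rec (motive := fun _ => Bool) (lF [T_f, T_d, T_fi, T_fi, T_d, T_fi, T_d] M (Nat.sub (T_d u) (Nat.mod (T_d u) M)) (Nat.mod (T_d u) M) u) (lS MG [T_fi, T_fi, T_d, T_fi, T_d, T_d, T_f] M (Nat.sub (T_d u) (Nat.mod (T_d u) M)) (nat_lit 40) (Nat.mod (T_d u) M) u) (Nat.ble (nat_lit 89) j)
noncomputable def dp_d_79 (j u : ℕ) : Bool :=
  Bool.rec (motive := fun _ => Bool) (lF [T_f, T_b, T_di, T_f, T_c, T_b, T_c] M (Nat.sub (T_d u) (Nat.mod (T_d u) M)) (Nat.mod (T_d u) M) u) (dp_d_78 j u) (Nat.ble (nat_lit 88) j)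
noncomputable def dp_d_80 (j u : ℕ) : Bool :=
  Bool.rec (motive := fun _ => Bool) (dp_d_77 j u) (dp_d_79 j u) (Nat.ble (nat_lit 87) j)
noncomputable def dp_d_81 (j u : ℕ) : Bool :=
  Bool.rec (motive := fun _ => Bool) (lS MG [T_ci, T_b, T_di, T_ci, T_d, T_ci, T_bi] M (Nat.sub (T_d u) (Nat.mod (T_d u) M)) (nat_lit 40) (Nat.mod (T_d u) M) u) (lF [T_c, T_b, T_b, T_ci, T_fi, T_fi, T_bi] M (Nat.sub (T_d u) (Nat.mod (T_d u) M)) (Nat.mod (T_d u) M) u) (Nat.ble (nat_lit 91) j)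
noncomputable def dp_d_82 (j u : ℕ) : Bool :=
  Bool.rec (motive := fun _ => Bool) (lS MG [T_b, T_ci, T_bi, T_f, T_d, T_b, T_c] M (Nat.sub (T_d u) (Nat.mod (T_d u) M)) (nat_lit 40) (Nat.mod (T_d u) M) u) (lF [T_b, T_b, T_ci, T_bi, T_fi, T_b, T_c] M (Nat.sub (T_d u) (Nat.mod (T_d u) M)) (Nat.mod (T_d u) M) u) (Nat.ble (nat_lit 94) j)
noncomputable def dp_d_83 (j u : ℕ) : Bool :=
  Bool.rec (motive := fun _ => Bool) (lF [T_ci, T_f, T_d, T_d, T_ci, T_f, T_d] M (Nat.sub (T_d u) (Nat.mod (T_d u) M)) (Nat.mod (T_d u) M) u) (dp_d_82 j u) (Nat.ble (nat_lit 93) j)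
noncomputable def dp_d_84 (j u : ℕ) : Bool :=
  Bool.rec (motive := fun _ => Bool) (dp_d_81 j u) (dp_d_83 j u) (Nat.ble (nat_lit 92) j)
noncomputable def dp_d_85 (j u : ℕ) : Bool :=
  Bool.rec (motive := fun _ => Bool) (dp_d_80 j u) (dp_d_84 j u) (Nat.ble (nat_lit 90) j)
noncomputable def dp_d_86 (j u : ℕ) : Bool :=
  Bool.rec (motive := fun _ => Bool) (lS MG [T_d, T_b, T_d, T_bi, T_d, T_d, T_bi] M (Nat.sub (T_d u) (Nat.mod (T_d u) M)) (nat_lit 40) (Nat.mod (T_d u) M) u) (lF [T_d, T_b, T_d, T_bi, T_d, T_d, T_bi] M (Nat.sub (T_d u) (Nat.mod (T_d u) M)) (Nat.mod (T_d u) M) u) (Nat.ble (nat_lit 97) j)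
noncomputable def dp_d_87 (j u : ℕ) : Bool :=
  Bool.rec (motive := fun _ => Bool) (lF [T_fi, T_c, T_fi, T_bi, T_di, T_c, T_bi] M (Nat.sub (T_d u) (Nat.mod (T_d u) M)) (Nat.mod (T_d u) M) u) (dp_d_86 j u) (Nat.ble (nat_lit 96) j)
noncomputable def dp_d_88 (j u : ℕ) : Bool :=
  Bool.rec (motive := fun _ => Bool) (lF [T_fi, T_d, T_d, T_f, T_d, T_fi, T_fi] M (Nat.sub (T_d u) (Nat.mod (T_d u) M)) (Nat.mod (T_d u) M) u) (lS MG [T_fi, T_di, T_e, T_fi, T_ei, T_f, T_e, T_c] M (Nat.sub (T_d u) (Nat.mod (T_d u) M)) (nat_lit 40) (Nat.mod (T_d u) M) u) (Nat.ble (nat_lit 100) j)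
noncomputable def dp_d_89 (j u : ℕ) : Bool :=
  Bool.rec (motive := fun _ => Bool) (lS MG [T_bi, T_c, T_b, T_c, T_c, T_d, T_fi] M (Nat.sub (T_d u) (Nat.mod (T_d u) M)) (nat_lit 40) (Nat.mod (T_d u) M) u) (dp_d_88 j u) (Nat.ble (nat_lit 99) j)
noncomputable def dp_d_90 (j u : ℕ) : Bool :=
  Bool.rec (motive := fun _ => Bool) (dp_d_87 j u) (dp_d_89 j u) (Nat.ble (nat_lit 98) j)
noncomputable def dp_d_91 (j u : ℕ) : Bool :=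
  Bool.rec (motive := fun _ => Bool) (lS MG [T_ei, T_bi, T_c, T_fi, T_ei, T_fi, T_b, T_f] M (Nat.sub (T_d u) (Nat.mod (T_d u) M)) (nat_lit 40) (Nat.mod (T_d u) M) u) (lF [T_fi, T_di, T_e, T_fi, T_ei, T_f, T_e, T_c] M (Nat.sub (T_d u) (Nat.mod (T_d u) M)) (Nat.mod (T_d u) M) u) (Nat.ble (nat_lit 102) j)
noncomputable def dp_d_92 (j u : ℕ) : Bool :=
  Bool.rec (motive := fun _ => Bool) (lF [T_b, T_d, T_bi, T_d, T_d, T_bi, T_d] M (Nat.sub (T_d u) (Nat.mod (T_d u) M)) (Nat.mod (T_d u) M) u) (lF [T_f, T_di, T_ci, T_ei, T_fi, T_e, T_f, T_ei] M (Nat.sub (T_d u) (Nat.mod (T_d u) M)) (Nat.mod (T_d u) M) u) (Nat.ble (nat_lit 104) j)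
noncomputable def dp_d_93 (j u : ℕ) : Bool :=
  Bool.rec (motive := fun _ => Bool) (dp_d_91 j u) (dp_d_92 j u) (Nat.ble (nat_lit 103) j)
noncomputable def dp_d_94 (j u : ℕ) : Bool :=
  Bool.rec (motive := fun _ => Bool) (lF [T_c, T_c, T_f, T_f, T_c, T_di, T_c, T_f] M (Nat.sub (T_d u) (Nat.mod (T_d u) M)) (Nat.mod (T_d u) M) u) (lS MG [T_f, T_di, T_ci, T_ei, T_fi, T_e, T_f, T_ei] M (Nat.sub (T_d u) (Nat.mod (T_d u) M)) (nat_lit 40) (Nat.mod (T_d u) M) u) (Nat.ble (nat_lit 106) j)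
noncomputable def dp_d_95 (j u : ℕ) : Bool :=
  Bool.rec (motive := fun _ => Bool) (lS MG [T_ci, T_fi, T_d, T_c, T_di, T_c, T_f, T_d] M (Nat.sub (T_d u) (Nat.mod (T_d u) M)) (nat_lit 40) (Nat.mod (T_d u) M) u) (lS MG [T_fi, T_c, T_bi, T_c, T_d, T_d, T_f, T_bi] M (Nat.sub (T_d u) (Nat.mod (T_d u) M)) (nat_lit 40) (Nat.mod (T_d u) M) u) (Nat.ble (nat_lit 109) j)
noncomputable def dp_d_96 (j u : ℕ) : Bool :=
  Bool.rec (motive := fun _ => Bool) (lF [T_fi, T_c, T_bi, T_c, T_d, T_d, T_f, T_bi] M (Nat.sub (T_d u) (Nat.mod (T_d u) M)) (Nat.mod (T_d u) M) u) (dp_d_95 j u) (Nat.ble (nat_lit 108) j)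
noncomputable def dp_d_97 (j u : ℕ) : Bool :=
  Bool.rec (motive := fun _ => Bool) (dp_d_94 j u) (dp_d_96 j u) (Nat.ble (nat_lit 107) j)
noncomputable def dp_d_98 (j u : ℕ) : Bool :=
  Bool.rec (motive := fun _ => Bool) (lH [] [] M (Nat.sub (T_d u) (Nat.mod (T_d u) M)) (Nat.mod (T_d u) M) u) (lF [T_c, T_c, T_fi, T_di, T_fi, T_di, T_ci, T_f] M (Nat.sub (T_d u) (Nat.mod (T_d u) M)) (Nat.mod (T_d u) M) u) (Nat.ble (nat_lit 112) j)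
noncomputable def dp_d_99 (j u : ℕ) : Bool :=
  Bool.rec (motive := fun _ => Bool) (lS MG [T_c, T_c, T_f, T_f, T_c, T_di, T_c, T_f] M (Nat.sub (T_d u) (Nat.mod (T_d u) M)) (nat_lit 40) (Nat.mod (T_d u) M) u) (dp_d_98 j u) (Nat.ble (nat_lit 111) j)
noncomputable def dp_d_100 (j u : ℕ) : Bool :=
  Bool.rec (motive := fun _ => Bool) (lF [T_b, T_f, T_bi, T_fi, T_c, T_bi, T_f, T_d] M (Nat.sub (T_d u) (Nat.mod (T_d u) M)) (Nat.mod (T_d u) M) u) (lS MG [T_ci, T_di, T_c, T_f, T_bi, T_bi, T_bi, T_f] M (Nat.sub (T_d u) (Nat.mod (T_d u) M)) (nat_lit 40) (Nat.mod (T_d u) M) u) (Nat.ble (nat_lit 114) j)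
noncomputable def dp_d_101 (j u : ℕ) : Bool :=
  Bool.rec (motive := fun _ => Bool) (lF [T_c, T_bi, T_ci, T_b, T_b, T_di, T_f, T_b] M (Nat.sub (T_d u) (Nat.mod (T_d u) M)) (Nat.mod (T_d u) M) u) (lF [T_ci, T_di, T_f, T_c, T_di, T_di, T_fi, T_ci] M (Nat.sub (T_d u) (Nat.mod (T_d u) M)) (Nat.mod (T_d u) M) u) (Nat.ble (nat_lit 116) j)
noncomputable def dp_d_102 (j u : ℕ) : Bool :=
  Bool.rec (motive := fun _ => Bool) (dp_d_100 j u) (dp_d_101 j u) (Nat.ble (nat_lit 115) j)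
noncomputable def dp_d_103 (j u : ℕ) : Bool :=
  Bool.rec (motive := fun _ => Bool) (dp_d_99 j u) (dp_d_102 j u) (Nat.ble (nat_lit 113) j)
noncomputable def dp_d_104 (j u : ℕ) : Bool :=
  Bool.rec (motive := fun _ => Bool) (lS MG [T_b, T_b, T_c, T_bi, T_bi, T_bi, T_fi, T_ci] M (Nat.sub (T_d u) (Nat.mod (T_d u) M)) (nat_lit 40) (Nat.mod (T_d u) M) u) (lS MG [T_c, T_bi, T_ci, T_b, T_b, T_di, T_f, T_b] M (Nat.sub (T_d u) (Nat.mod (T_d u) M)) (nat_lit 40) (Nat.mod (T_d u) M) u) (Nat.ble (nat_lit 118) j)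
noncomputable def dp_d_105 (j u : ℕ) : Bool :=
  Bool.rec (motive := fun _ => Bool) (lS MG [T_ci, T_di, T_f, T_c, T_di, T_di, T_fi, T_ci] M (Nat.sub (T_d u) (Nat.mod (T_d u) M)) (nat_lit 40) (Nat.mod (T_d u) M) u) (lF [T_f, T_c, T_d, T_c, T_bi, T_d, T_fi, T_bi] M (Nat.sub (T_d u) (Nat.mod (T_d u) M)) (Nat.mod (T_d u) M) u) (Nat.ble (nat_lit 120) j)
noncomputable def dp_d_106 (j u : ℕ) : Bool :=
  Bool.rec (motive := fun _ => Bool) (dp_d_104 j u) (dp_d_105 j u) (Nat.ble (nat_lit 119) j)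
noncomputable def dp_d_107 (j u : ℕ) : Bool :=
  Bool.rec (motive := fun _ => Bool) (lF [T_b, T_b, T_c, T_bi, T_bi, T_bi, T_fi, T_ci] M (Nat.sub (T_d u) (Nat.mod (T_d u) M)) (Nat.mod (T_d u) M) u) (lF [T_f, T_ci, T_ci, T_di, T_fi, T_c, T_d, T_f] M (Nat.sub (T_d u) (Nat.mod (T_d u) M)) (Nat.mod (T_d u) M) u) (Nat.ble (nat_lit 122) j)
noncomputable def dp_d_108 (j u : ℕ) : Bool :=
  Bool.rec (motive := fun _ => Bool) (lS MG [T_c, T_bi, T_d, T_c, T_di, T_b, T_ci, T_fi] M (Nat.sub (T_d u) (Nat.mod (T_d u) M)) (nat_lit 40) (Nat.mod (T_d u) M) u) (lF [T_f, T_d, T_f, T_ci, T_ci, T_di, T_fi, T_c] M (Nat.sub (T_d u) (Nat.mod (T_d u) M)) (Nat.mod (T_d u) M) u) (Nat.ble (nat_lit 125) j)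
noncomputable def dp_d_109 (j u : ℕ) : Bool :=
  Bool.rec (motive := fun _ => Bool) (lF [T_c, T_di, T_c, T_f, T_d, T_d, T_ci, T_fi] M (Nat.sub (T_d u) (Nat.mod (T_d u) M)) (Nat.mod (T_d u) M) u) (dp_d_108 j u) (Nat.ble (nat_lit 124) j)
noncomputable def dp_d_110 (j u : ℕ) : Bool :=
  Bool.rec (motive := fun _ => Bool) (dp_d_107 j u) (dp_d_109 j u) (Nat.ble (nat_lit 123) j)
noncomputable def dp_d_111 (j u : ℕ) : Bool :=
  Bool.rec (motive := fun _ => Bool) (dp_d_106 j u) (dp_d_110 j u) (Nat.ble (nat_lit 121) j)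
noncomputable def dp_d_112 (j u : ℕ) : Bool :=
  Bool.rec (motive := fun _ => Bool) (dp_d_103 j u) (dp_d_111 j u) (Nat.ble (nat_lit 117) j)
noncomputable def dp_d_113 (j u : ℕ) : Bool :=
  Bool.rec (motive := fun _ => Bool) (dp_d_97 j u) (dp_d_112 j u) (Nat.ble (nat_lit 110) j)
noncomputable def dp_d_114 (j u : ℕ) : Bool :=
  Bool.rec (motive := fun _ => Bool) (dp_d_93 j u) (dp_d_113 j u) (Nat.ble (nat_lit 105) j)
noncomputable def dp_d_115 (j u : ℕ) : Bool :=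
  Bool.rec (motive := fun _ => Bool) (dp_d_90 j u) (dp_d_114 j u) (Nat.ble (nat_lit 101) j)
noncomputable def dp_d_116 (j u : ℕ) : Bool :=
  Bool.rec (motive := fun _ => Bool) (dp_d_85 j u) (dp_d_115 j u) (Nat.ble (nat_lit 95) j)
noncomputable def dp_d_117 (j u : ℕ) : Bool :=
  Bool.rec (motive := fun _ => Bool) (dp_d_76 j u) (dp_d_116 j u) (Nat.ble (nat_lit 85) j)
noncomputable def dp_d_118 (j u : ℕ) : Bool :=
  Bool.rec (motive := fun _ => Bool) (dp_d_60 j u) (dp_d_117 j u) (Nat.ble (nat_lit 68) j)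
noncomputable def dp_d_119 (j u : ℕ) : Bool :=
  Bool.rec (motive := fun _ => Bool) (dp_d_34 j u) (dp_d_118 j u) (Nat.ble (nat_lit 41) j)
noncomputable def disp_d (j u : ℕ) : Bool :=
  Bool.rec (motive := fun _ => Bool) (Bool.rec (motive := fun _ => Bool) (lF1 T_di M (Nat.sub (T_d u) (Nat.mod (T_d u) M)) (Nat.mod (T_d u) M) u) (lDef P (nat_lit 2) (Nat.mod (T_d u) M) u) (Nat.ble (nat_lit 1) j)) (Bool.rec (motive := fun _ => Bool) (Bool.rec (motive := fun _ => Bool) (lDef P (nat_lit 3) u (Nat.mod (T_d u) M)) (Bool.rec (motive := fun _ => Bool) (lS MG [T_di] M (Nat.sub (T_d u) (Nat.mod (T_d u) M)) (nat_lit 40) (Nat.mod (T_d u) M) u) (lF [T_fi, T_di, T_b, T_c, T_d, T_ci, T_bi] M (Nat.sub (T_d u) (Nat.mod (T_d u) M)) (Nat.mod (T_d u) M) u) (Nat.ble (nat_lit 4) j)) (Nat.ble (nat_lit 3) j)) (dp_d_119 j u) (Nat.ble (nat_lit 5) j)) (Nat.ble (nat_lit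 2) j)
noncomputable def chk_d (j u : ℕ) : Bool :=
  Bool.rec (motive := fun _ => Bool) (disp_d j u) (Nat.ble (Nat.succ (MG u)) A) (Nat.ble A (T_d u))
noncomputable def dp_di_0 (j u : ℕ) : Bool :=
  Bool.rec (motive := fun _ => Bool) (lF [T_di, T_ci, T_f, T_b, T_ci, T_fi, T_b] M (Nat.sub (T_di u) (Nat.mod (T_di u) M)) (Nat.mod (T_di u) M) u) (lF [T_fi, T_b, T_c, T_b, T_ci, T_bi, T_fi] M (Nat.sub (T_di u) (Nat.mod (T_di u) M)) (Nat.mod (T_di u) M) u) (Nat.ble (nat_lit 7) j)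
noncomputable def dp_di_1 (j u : ℕ) : Bool :=
  Bool.rec (motive := fun _ => Bool) (lF [T_b, T_c, T_d, T_ci, T_bi, T_d, T_fi] M (Nat.sub (T_di u) (Nat.mod (T_di u) M)) (Nat.mod (T_di u) M) u) (dp_di_0 j u) (Nat.ble (nat_lit 6) j)
noncomputable def dp_di_2 (j u : ℕ) : Bool :=
  Bool.rec (motive := fun _ => Bool) (lF [T_bi, T_c, T_b, T_d, T_ci, T_fi, T_fi] M (Nat.sub (T_di u) (Nat.mod (T_di u) M)) (Nat.mod (T_di u) M) u) (lS MG [T_fi, T_b, T_c, T_b, T_ci, T_bi, T_fi] M (Nat.sub (T_di u) (Nat.mod (T_di u) M)) (nat_lit 40) (Nat.mod (T_di u) M) u) (Nat.ble (nat_lit 10) j)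
noncomputable def dp_di_3 (j u : ℕ) : Bool :=
  Bool.rec (motive := fun _ => Bool) (lF [T_f, T_ei, T_f, T_e, T_fi, T_ei, T_f, T_c] M (Nat.sub (T_di u) (Nat.mod (T_di u) M)) (Nat.mod (T_di u) M) u) (dp_di_2 j u) (Nat.ble (nat_lit 9) j)
noncomputable def dp_di_4 (j u : ℕ) : Bool :=
  Bool.rec (motive := fun _ => Bool) (dp_di_1 j u) (dp_di_3 j u) (Nat.ble (nat_lit 8) j)
noncomputable def dp_di_5 (j u : ℕ) : Bool :=
  Bool.rec (motive := fun _ => Bool) (lS MG [T_bi, T_c, T_b, T_d, T_ci, T_fi, T_fi] M (Nat.sub (T_di u) (Nat.mod (T_di u) M)) (nat_lit 40) (Nat.mod (T_di u) M) u) (lF [T_ci, T_bi, T_f, T_ci, T_d, T_b, T_ci] M (Nat.sub (T_di u) (Nat.mod (T_di u) M)) (Nat.mod (T_di u) M) u) (Nat.ble (nat_lit 12) j)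
noncomputable def dp_di_6 (j u : ℕ) : Bool :=
  Bool.rec (motive := fun _ => Bool) (lF [T_ci, T_d, T_ci, T_bi, T_d, T_ci, T_b] M (Nat.sub (T_di u) (Nat.mod (T_di u) M)) (Nat.mod (T_di u) M) u) (lF [T_b, T_c, T_di, T_ci, T_bi, T_d, T_f] M (Nat.sub (T_di u) (Nat.mod (T_di u) M)) (Nat.mod (T_di u) M) u) (Nat.ble (nat_lit 14) j)
noncomputable def dp_di_7 (j u : ℕ) : Bool :=
  Bool.rec (motive := fun _ => Bool) (dp_di_5 j u) (dp_di_6 j u) (Nat.ble (nat_lit 13) j)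
noncomputable def dp_di_8 (j u : ℕ) : Bool :=
  Bool.rec (motive := fun _ => Bool) (lF [T_ci, T_bi, T_d, T_f, T_di, T_b, T_c] M (Nat.sub (T_di u) (Nat.mod (T_di u) M)) (Nat.mod (T_di u) M) u) (lS MG [T_ci, T_bi, T_d, T_f, T_di, T_b, T_c] M (Nat.sub (T_di u) (Nat.mod (T_di u) M)) (nat_lit 40) (Nat.mod (T_di u) M) u) (Nat.ble (nat_lit 16) j)
noncomputable def dp_di_9 (j u : ℕ) : Bool :=
  Bool.rec (motive := fun _ => Bool) (lS MG [T_f, T_f, T_e, T_fi, T_ei, T_f, T_e, T_c] M (Nat.sub (T_di u) (Nat.mod (T_di u) M)) (nat_lit 40) (Nat.mod (T_di u) M) u) (lF [T_di, T_f, T_b, T_c, T_b, T_ci, T_bi] M (Nat.sub (T_di u) (Nat.mod (T_di u) M)) (Nat.mod (T_di u) M) u) (Nat.ble (nat_lit 18) j)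
noncomputable def dp_di_10 (j u : ℕ) : Bool :=
  Bool.rec (motive := fun _ => Bool) (dp_di_8 j u) (dp_di_9 j u) (Nat.ble (nat_lit 17) j)
noncomputable def dp_di_11 (j u : ℕ) : Bool :=
  Bool.rec (motive := fun _ => Bool) (dp_di_7 j u) (dp_di_10 j u) (Nat.ble (nat_lit 15) j)
noncomputable def dp_di_12 (j u : ℕ) : Bool :=
  Bool.rec (motive := fun _ => Bool) (dp_di_4 j u) (dp_di_11 j u) (Nat.ble (nat_lit 11) j)
noncomputable def dp_di_13 (j u : ℕ) : Bool :=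
  Bool.rec (motive := fun _ => Bool) (lF [T_f, T_bi, T_c, T_fi, T_di, T_ci, T_b] M (Nat.sub (T_di u) (Nat.mod (T_di u) M)) (Nat.mod (T_di u) M) u) (lS MG [T_bi, T_di, T_di, T_b, T_di, T_di, T_b] M (Nat.sub (T_di u) (Nat.mod (T_di u) M)) (nat_lit 40) (Nat.mod (T_di u) M) u) (Nat.ble (nat_lit 20) j)
noncomputable def dp_di_14 (j u : ℕ) : Bool :=
  Bool.rec (motive := fun _ => Bool) (lS MG [T_c, T_c, T_bi, T_c, T_b, T_ci, T_ci] M (Nat.sub (T_di u) (Nat.mod (T_di u) M)) (nat_lit 40) (Nat.mod (T_di u) M) u) (lS MG [T_b, T_ci, T_d, T_b, T_f, T_ci, T_f] M (Nat.sub (T_di u) (Nat.mod (T_di u) M)) (nat_lit 40) (Nat.mod (T_di u) M) u) (Nat.ble (nat_lit 23) j)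
noncomputable def dp_di_15 (j u : ℕ) : Bool :=
  Bool.rec (motive := fun _ => Bool) (lS MG [T_b, T_c, T_d, T_ci, T_bi, T_d, T_fi] M (Nat.sub (T_di u) (Nat.mod (T_di u) M)) (nat_lit 40) (Nat.mod (T_di u) M) u) (dp_di_14 j u) (Nat.ble (nat_lit 22) j)
noncomputable def dp_di_16 (j u : ℕ) : Bool :=
  Bool.rec (motive := fun _ => Bool) (dp_di_13 j u) (dp_di_15 j u) (Nat.ble (nat_lit 21) j)
noncomputable def dp_di_17 (j u : ℕ) : Bool :=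
  Bool.rec (motive := fun _ => Bool) (lS MG [T_c, T_b, T_ci, T_di, T_c, T_b, T_ci] M (Nat.sub (T_di u) (Nat.mod (T_di u) M)) (nat_lit 40) (Nat.mod (T_di u) M) u) (lS MG [T_di, T_ci, T_f, T_b, T_ci, T_fi, T_b] M (Nat.sub (T_di u) (Nat.mod (T_di u) M)) (nat_lit 40) (Nat.mod (T_di u) M) u) (Nat.ble (nat_lit 25) j)
noncomputable def dp_di_18 (j u : ℕ) : Bool :=
  Bool.rec (motive := fun _ => Bool) (lS MG [T_ci, T_d, T_ci, T_bi, T_d, T_ci, T_b] M (Nat.sub (T_di u) (Nat.mod (T_di u) M)) (nat_lit 40) (Nat.mod (T_di u) M) u) (lS MG [T_ci, T_b, T_di, T_f, T_bi, T_c, T_fi] M (Nat.sub (T_di u) (Nat.mod (T_di u) M)) (nat_lit 40) (Nat.mod (T_di u) M) u) (Nat.ble (nat_lit 28) j)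
noncomputable def dp_di_19 (j u : ℕ) : Bool :=
  Bool.rec (motive := fun _ => Bool) (lF [T_f, T_bi, T_di, T_di, T_fi, T_bi, T_ci] M (Nat.sub (T_di u) (Nat.mod (T_di u) M)) (Nat.mod (T_di u) M) u) (dp_di_18 j u) (Nat.ble (nat_lit 27) j)
noncomputable def dp_di_20 (j u : ℕ) : Bool :=
  Bool.rec (motive := fun _ => Bool) (dp_di_17 j u) (dp_di_19 j u) (Nat.ble (nat_lit 26) j)
noncomputable def dp_di_21 (j u : ℕ) : Bool :=
  Bool.rec (motive := fun _ => Bool) (dp_di_16 j u) (dp_di_20 j u) (Nat.ble (nat_lit 24) j)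
noncomputable def dp_di_22 (j u : ℕ) : Bool :=
  Bool.rec (motive := fun _ => Bool) (lS MG [T_c, T_fi, T_b, T_c, T_d, T_c, T_bi] M (Nat.sub (T_di u) (Nat.mod (T_di u) M)) (nat_lit 40) (Nat.mod (T_di u) M) u) (lS MG [T_ci, T_f, T_b, T_ci, T_fi, T_b, T_di] M (Nat.sub (T_di u) (Nat.mod (T_di u) M)) (nat_lit 40) (Nat.mod (T_di u) M) u) (Nat.ble (nat_lit 30) j)
noncomputable def dp_di_23 (j u : ℕ) : Bool :=
  Bool.rec (motive := fun _ => Bool) (lS MG [T_di, T_f, T_b, T_c, T_b, T_ci, T_bi] M (Nat.sub (T_di u) (Nat.mod (T_di u) M)) (nat_lit 40) (Nat.mod (T_di u) M) u) (lF [T_ci, T_ci, T_bi, T_ci, T_b, T_di, T_f] M (Nat.sub (T_di u) (Nat.mod (T_di u) M)) (Nat.mod (T_di u) M) u) (Nat.ble (nat_lit 33) j)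
noncomputable def dp_di_24 (j u : ℕ) : Bool :=
  Bool.rec (motive := fun _ => Bool) (lF [T_fi, T_c, T_di, T_di, T_fi, T_c, T_di] M (Nat.sub (T_di u) (Nat.mod (T_di u) M)) (Nat.mod (T_di u) M) u) (dp_di_23 j u) (Nat.ble (nat_lit 32) j)
noncomputable def dp_di_25 (j u : ℕ) : Bool :=
  Bool.rec (motive := fun _ => Bool) (dp_di_22 j u) (dp_di_24 j u) (Nat.ble (nat_lit 31) j)
noncomputable def dp_di_26 (j u : ℕ) : Bool :=
  Bool.rec (motive := fun _ => Bool) (lF [T_c, T_d, T_bi, T_c, T_di, T_b, T_c] M (Nat.sub (T_di u) (Nat.mod (T_di u) M)) (Nat.mod (T_di u) M) u) (lF [T_c, T_c, T_bi, T_c, T_b, T_ci, T_ci] M (Nat.sub (T_di u) (Nat.mod (T_di u) M)) (Nat.mod (T_di u) M) u) (Nat.ble (nat_lit 36) j)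
noncomputable def dp_di_27 (j u : ℕ) : Bool :=
  Bool.rec (motive := fun _ => Bool) (lF [T_c, T_fi, T_bi, T_bi, T_f, T_b, T_f] M (Nat.sub (T_di u) (Nat.mod (T_di u) M)) (Nat.mod (T_di u) M) u) (dp_di_26 j u) (Nat.ble (nat_lit 35) j)
noncomputable def dp_di_28 (j u : ℕ) : Bool :=
  Bool.rec (motive := fun _ => Bool) (lS MG [T_di, T_fi, T_bi, T_ci, T_di, T_f, T_bi] M (Nat.sub (T_di u) (Nat.mod (T_di u) M)) (nat_lit 40) (Nat.mod (T_di u) M) u) (lS MG [T_f, T_b, T_c, T_b, T_ci, T_bi, T_di] M (Nat.sub (T_di u) (Nat.mod (T_di u) M)) (nat_lit 40) (Nat.mod (T_di u) M) u) (Nat.ble (nat_lit 39) j)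
noncomputable def dp_di_29 (j u : ℕ) : Bool :=
  Bool.rec (motive := fun _ => Bool) (lS MG [T_c, T_d, T_bi, T_c, T_di, T_b, T_c] M (Nat.sub (T_di u) (Nat.mod (T_di u) M)) (nat_lit 40) (Nat.mod (T_di u) M) u) (dp_di_28 j u) (Nat.ble (nat_lit 38) j)
noncomputable def dp_di_30 (j u : ℕ) : Bool :=
  Bool.rec (motive := fun _ => Bool) (dp_di_27 j u) (dp_di_29 j u) (Nat.ble (nat_lit 37) j)
noncomputable def dp_di_31 (j u : ℕ) : Bool :=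
  Bool.rec (motive := fun _ => Bool) (dp_di_25 j u) (dp_di_30 j u) (Nat.ble (nat_lit 34) j)
noncomputable def dp_di_32 (j u : ℕ) : Bool :=
  Bool.rec (motive := fun _ => Bool) (dp_di_21 j u) (dp_di_31 j u) (Nat.ble (nat_lit 29) j)
noncomputable def dp_di_33 (j u : ℕ) : Bool :=
  Bool.rec (motive := fun _ => Bool) (dp_di_12 j u) (dp_di_32 j u) (Nat.ble (nat_lit 19) j)
noncomputable def dp_di_34 (j u : ℕ) : Bool :=
  Bool.rec (motive := fun _ => Bool) (lS MG [T_f, T_bi, T_di, T_di, T_fi, T_bi, T_ci] M (Nat.sub (T_di u) (Nat.mod (T_di u) M)) (nat_lit 40) (Nat.mod (T_di u) M) u) (lS MG [T_c, T_fi, T_bi, T_bi, T_f, T_b, T_f] M (Nat.sub (T_di u) (Nat.mod (T_di u) M)) (nat_lit 40) (Nat.mod (T_di u) M) u) (Nat.ble (nat_lit 42) j)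
noncomputable def dp_di_35 (j u : ℕ) : Bool :=
  Bool.rec (motive := fun _ => Bool) (lS MG [T_bi, T_c, T_c, T_di, T_bi, T_c, T_c] M (Nat.sub (T_di u) (Nat.mod (T_di u) M)) (nat_lit 40) (Nat.mod (T_di u) M) u) (dp_di_34 j u) (Nat.ble (nat_lit 41) j)
noncomputable def dp_di_36 (j u : ℕ) : Bool :=
  Bool.rec (motive := fun _ => Bool) (lS MG [T_f, T_bi, T_c, T_fi, T_di, T_ci, T_b] M (Nat.sub (T_di u) (Nat.mod (T_di u) M)) (nat_lit 40) (Nat.mod (T_di u) M) u) (lS MG [T_b, T_c, T_di, T_ci, T_bi, T_d, T_f] M (Nat.sub (T_di u) (Nat.mod (T_di u) M)) (nat_lit 40) (Nat.mod (T_di u) M) u) (Nat.ble (nat_lit 45) j)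
noncomputable def dp_di_37 (j u : ℕ) : Bool :=
  Bool.rec (motive := fun _ => Bool) (lF [T_b, T_f, T_c, T_di, T_b, T_f, T_c] M (Nat.sub (T_di u) (Nat.mod (T_di u) M)) (Nat.mod (T_di u) M) u) (dp_di_36 j u) (Nat.ble (nat_lit 44) j)
noncomputable def dp_di_38 (j u : ℕ) : Bool :=
  Bool.rec (motive := fun _ => Bool) (dp_di_35 j u) (dp_di_37 j u) (Nat.ble (nat_lit 43) j)
noncomputable def dp_di_39 (j u : ℕ) : Bool :=
  Bool.rec (motive := fun _ => Bool) (lF [T_fi, T_di, T_di, T_f, T_di, T_f, T_f] M (Nat.sub (T_di u) (Nat.mod (T_di u) M)) (Nat.mod (T_di u) M) u) (lS MG [T_di, T_fi, T_c, T_di, T_di, T_fi, T_c] M (Nat.sub (T_di u) (Nat.mod (T_di u) M)) (nat_lit 40) (Nat.mod (T_di u) M) u) (Nat.ble (nat_lit 48) j)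
noncomputable def dp_di_40 (j u : ℕ) : Bool :=
  Bool.rec (motive := fun _ => Bool) (lS MG [T_ci, T_ci, T_bi, T_ci, T_b, T_di, T_f] M (Nat.sub (T_di u) (Nat.mod (T_di u) M)) (nat_lit 40) (Nat.mod (T_di u) M) u) (dp_di_39 j u) (Nat.ble (nat_lit 47) j)
noncomputable def dp_di_41 (j u : ℕ) : Bool :=
  Bool.rec (motive := fun _ => Bool) (lF [T_f, T_c, T_b, T_c, T_d, T_f, T_b] M (Nat.sub (T_di u) (Nat.mod (T_di u) M)) (Nat.mod (T_di u) M) u) (lS MG [T_f, T_c, T_b, T_c, T_d, T_f, T_b] M (Nat.sub (T_di u) (Nat.mod (T_di u) M)) (nat_lit 40) (Nat.mod (T_di u) M) u) (Nat.ble (nat_lit 51) j)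
noncomputable def dp_di_42 (j u : ℕ) : Bool :=
  Bool.rec (motive := fun _ => Bool) (lF [T_b, T_c, T_di, T_c, T_d, T_bi, T_c] M (Nat.sub (T_di u) (Nat.mod (T_di u) M)) (Nat.mod (T_di u) M) u) (dp_di_41 j u) (Nat.ble (nat_lit 50) j)
noncomputable def dp_di_43 (j u : ℕ) : Bool :=
  Bool.rec (motive := fun _ => Bool) (dp_di_40 j u) (dp_di_42 j u) (Nat.ble (nat_lit 49) j)
noncomputable def dp_di_44 (j u : ℕ) : Bool :=
  Bool.rec (motive := fun _ => Bool) (dp_di_38 j u) (dp_di_43 j u) (Nat.ble (nat_lit 46) j)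
noncomputable def dp_di_45 (j u : ℕ) : Bool :=
  Bool.rec (motive := fun _ => Bool) (lS MG [T_f, T_ei, T_f, T_e, T_fi, T_ei, T_f, T_c] M (Nat.sub (T_di u) (Nat.mod (T_di u) M)) (nat_lit 40) (Nat.mod (T_di u) M) u) (lF [T_ci, T_bi, T_di, T_fi, T_b, T_c, T_bi] M (Nat.sub (T_di u) (Nat.mod (T_di u) M)) (Nat.mod (T_di u) M) u) (Nat.ble (nat_lit 54) j)
noncomputable def dp_di_46 (j u : ℕ) : Bool :=
  Bool.rec (motive := fun _ => Bool) (lS MG [T_b, T_c, T_di, T_c, T_d, T_bi, T_c] M (Nat.sub (T_di u) (Nat.mod (T_di u) M)) (nat_lit 40) (Nat.mod (T_di u) M) u) (dp_di_45 j u) (Nat.ble (nat_lit 53) j)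
noncomputable def dp_di_47 (j u : ℕ) : Bool :=
  Bool.rec (motive := fun _ => Bool) (lF [T_ci, T_b, T_di, T_f, T_bi, T_c, T_fi] M (Nat.sub (T_di u) (Nat.mod (T_di u) M)) (Nat.mod (T_di u) M) u) (lF [T_bi, T_ci, T_b, T_d, T_f, T_f, T_c] M (Nat.sub (T_di u) (Nat.mod (T_di u) M)) (Nat.mod (T_di u) M) u) (Nat.ble (nat_lit 56) j)
noncomputable def dp_di_48 (j u : ℕ) : Bool :=
  Bool.rec (motive := fun _ => Bool) (lS MG [T_b, T_di, T_di, T_b, T_di, T_bi, T_di] M (Nat.sub (T_di u) (Nat.mod (T_di u) M)) (nat_lit 40) (Nat.mod (T_di u) M) u) (lS MG [T_bi, T_ci, T_b, T_d, T_f, T_f, T_c] M (Nat.sub (T_di u) (Nat.mod (T_di u) M)) (nat_lit 40) (Nat.mod (T_di u) M) u) (Nat.ble (nat_lit 58) j)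
noncomputable def dp_di_49 (j u : ℕ) : Bool :=
  Bool.rec (motive := fun _ => Bool) (dp_di_47 j u) (dp_di_48 j u) (Nat.ble (nat_lit 57) j)
noncomputable def dp_di_50 (j u : ℕ) : Bool :=
  Bool.rec (motive := fun _ => Bool) (dp_di_46 j u) (dp_di_49 j u) (Nat.ble (nat_lit 55) j)
noncomputable def dp_di_51 (j u : ℕ) : Bool :=
  Bool.rec (motive := fun _ => Bool) (lS MG [T_fi, T_c, T_di, T_di, T_fi, T_c, T_di] M (Nat.sub (T_di u) (Nat.mod (T_di u) M)) (nat_lit 40) (Nat.mod (T_di u) M) u) (lF [T_ci, T_bi, T_ci, T_fi, T_d, T_bi, T_fi] M (Nat.sub (T_di u) (Nat.mod (T_di u) M)) (Nat.mod (T_di u) M) u) (Nat.ble (nat_lit 61) j)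
noncomputable def dp_di_52 (j u : ℕ) : Bool :=
  Bool.rec (motive := fun _ => Bool) (lF [T_c, T_b, T_ci, T_di, T_c, T_b, T_ci] M (Nat.sub (T_di u) (Nat.mod (T_di u) M)) (Nat.mod (T_di u) M) u) (dp_di_51 j u) (Nat.ble (nat_lit 60) j)
noncomputable def dp_di_53 (j u : ℕ) : Bool :=
  Bool.rec (motive := fun _ => Bool) (lS MG [T_di, T_b, T_di, T_di, T_b, T_di, T_bi] M (Nat.sub (T_di u) (Nat.mod (T_di u) M)) (nat_lit 40) (Nat.mod (T_di u) M) u) (lF [T_f, T_b, T_c, T_b, T_ci, T_bi, T_di] M (Nat.sub (T_di u) (Nat.mod (T_di u) M)) (Nat.mod (T_di u) M) u) (Nat.ble (nat_lit 63) j)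
noncomputable def dp_di_54 (j u : ℕ) : Bool :=
  Bool.rec (motive := fun _ => Bool) (lF [T_b, T_di, T_di, T_b, T_di, T_bi, T_di] M (Nat.sub (T_di u) (Nat.mod (T_di u) M)) (Nat.mod (T_di u) M) u) (lF [T_ci, T_f, T_b, T_ci, T_fi, T_b, T_di] M (Nat.sub (T_di u) (Nat.mod (T_di u) M)) (Nat.mod (T_di u) M) u) (Nat.ble (nat_lit 65) j)
noncomputable def dp_di_55 (j u : ℕ) : Bool :=
  Bool.rec (motive := fun _ => Bool) (dp_di_53 j u) (dp_di_54 j u) (Nat.ble (nat_lit 64) j)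
noncomputable def dp_di_56 (j u : ℕ) : Bool :=
  Bool.rec (motive := fun _ => Bool) (dp_di_52 j u) (dp_di_55 j u) (Nat.ble (nat_lit 62) j)
noncomputable def dp_di_57 (j u : ℕ) : Bool :=
  Bool.rec (motive := fun _ => Bool) (dp_di_50 j u) (dp_di_56 j u) (Nat.ble (nat_lit 59) j)
noncomputable def dp_di_58 (j u : ℕ) : Bool :=
  Bool.rec (motive := fun _ => Bool) (dp_di_44 j u) (dp_di_57 j u) (Nat.ble (nat_lit 52) j)
noncomputable def dp_di_59 (j u : ℕ) : Bool :=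
  Bool.rec (motive := fun _ => Bool) (lS MG [T_ci, T_bi, T_di, T_fi, T_b, T_c, T_bi] M (Nat.sub (T_di u) (Nat.mod (T_di u) M)) (nat_lit 40) (Nat.mod (T_di u) M) u) (lS MG [T_fi, T_di, T_di, T_f, T_di, T_f, T_f] M (Nat.sub (T_di u) (Nat.mod (T_di u) M)) (nat_lit 40) (Nat.mod (T_di u) M) u) (Nat.ble (nat_lit 67) j)
noncomputable def dp_di_60 (j u : ℕ) : Bool :=
  Bool.rec (motive := fun _ => Bool) (lF [T_fi, T_b, T_c, T_bi, T_di, T_ci, T_bi] M (Nat.sub (T_di u) (Nat.mod (T_di u) M)) (Nat.mod (T_di u) M) u) (lF [T_bi, T_c, T_c, T_di, T_bi, T_c, T_c] M (Nat.sub (T_di u) (Nat.mod (T_di u) M)) (Nat.mod (T_di u) M) u) (Nat.ble (nat_lit 69) j)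
noncomputable def dp_di_61 (j u : ℕ) : Bool :=
  Bool.rec (motive := fun _ => Bool) (dp_di_59 j u) (dp_di_60 j u) (Nat.ble (nat_lit 68) j)
noncomputable def dp_di_62 (j u : ℕ) : Bool :=
  Bool.rec (motive := fun _ => Bool) (lS MG [T_ci, T_bi, T_f, T_b, T_c, T_bi, T_bi] M (Nat.sub (T_di u) (Nat.mod (T_di u) M)) (nat_lit 40) (Nat.mod (T_di u) M) u) (lF [T_b, T_ci, T_d, T_b, T_f, T_ci, T_f] M (Nat.sub (T_di u) (Nat.mod (T_di u) M)) (Nat.mod (T_di u) M) u) (Nat.ble (nat_lit 71) j)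
noncomputable def dp_di_63 (j u : ℕ) : Bool :=
  Bool.rec (motive := fun _ => Bool) (lF [T_c, T_fi, T_b, T_c, T_d, T_c, T_bi] M (Nat.sub (T_di u) (Nat.mod (T_di u) M)) (Nat.mod (T_di u) M) u) (lS MG [T_fi, T_bi, T_ci, T_di, T_f, T_bi, T_di] M (Nat.sub (T_di u) (Nat.mod (T_di u) M)) (nat_lit 40) (Nat.mod (T_di u) M) u) (Nat.ble (nat_lit 73) j)
noncomputable def dp_di_64 (j u : ℕ) : Bool :=
  Bool.rec (motive := fun _ => Bool) (dp_di_62 j u) (dp_di_63 j u) (Nat.ble (nat_lit 72) j)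
noncomputable def dp_di_65 (j u : ℕ) : Bool :=
  Bool.rec (motive := fun _ => Bool) (dp_di_61 j u) (dp_di_64 j u) (Nat.ble (nat_lit 70) j)
noncomputable def dp_di_66 (j u : ℕ) : Bool :=
  Bool.rec (motive := fun _ => Bool) (lF [T_f, T_f, T_di, T_fi, T_di, T_di, T_f] M (Nat.sub (T_di u) (Nat.mod (T_di u) M)) (Nat.mod (T_di u) M) u) (lS MG [T_ci, T_bi, T_f, T_ci, T_d, T_b, T_ci] M (Nat.sub (T_di u) (Nat.mod (T_di u) M)) (nat_lit 40) (Nat.mod (T_di u) M) u) (Nat.ble (nat_lit 75) j)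
noncomputable def dp_di_67 (j u : ℕ) : Bool :=
  Bool.rec (motive := fun _ => Bool) (lF [T_di, T_b, T_di, T_di, T_b, T_di, T_bi] M (Nat.sub (T_di u) (Nat.mod (T_di u) M)) (Nat.mod (T_di u) M) u) (lS MG [T_fi, T_bi, T_f, T_e, T_f, T_ci, T_b, T_e] M (Nat.sub (T_di u) (Nat.mod (T_di u) M)) (nat_lit 40) (Nat.mod (T_di u) M) u) (Nat.ble (nat_lit 77) j)
noncomputable def dp_di_68 (j u : ℕ) : Bool :=
  Bool.rec (motive := fun _ => Bool) (dp_di_66 j u) (dp_di_67 j u) (Nat.ble (nat_lit 76) j)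
noncomputable def dp_di_69 (j u : ℕ) : Bool :=
  Bool.rec (motive := fun _ => Bool) (lS MG [T_f, T_f, T_di, T_fi, T_di, T_di, T_f] M (Nat.sub (T_di u) (Nat.mod (T_di u) M)) (nat_lit 40) (Nat.mod (T_di u) M) u) (lF [T_b, T_f, T_f, T_c, T_bi, T_bi, T_ci] M (Nat.sub (T_di u) (Nat.mod (T_di u) M)) (Nat.mod (T_di u) M) u) (Nat.ble (nat_lit 79) j)
noncomputable def dp_di_70 (j u : ℕ) : Bool :=
  Bool.rec (motive := fun _ => Bool) (lF [T_bi, T_di, T_di, T_b, T_di, T_di, T_b] M (Nat.sub (T_di u) (Nat.mod (T_di u) M)) (Nat.mod (T_di u) M) u) (lF [T_ci, T_bi, T_f, T_b, T_c, T_bi, T_bi] M (Nat.sub (T_di u) (Nat.mod (T_di u) M)) (Nat.mod (T_di u) M) u) (Nat.ble (nat_lit 82) j)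
noncomputable def dp_di_71 (j u : ℕ) : Bool :=
  Bool.rec (motive := fun _ => Bool) (lF [T_fi, T_bi, T_ci, T_di, T_f, T_bi, T_di] M (Nat.sub (T_di u) (Nat.mod (T_di u) M)) (Nat.mod (T_di u) M) u) (dp_di_70 j u) (Nat.ble (nat_lit 81) j)
noncomputable def dp_di_72 (j u : ℕ) : Bool :=
  Bool.rec (motive := fun _ => Bool) (dp_di_69 j u) (dp_di_71 j u) (Nat.ble (nat_lit 80) j)
noncomputable def dp_di_73 (j u : ℕ) : Bool :=
  Bool.rec (motive := fun _ => Bool) (dp_di_68 j u) (dp_di_72 j u) (Nat.ble (nat_lit 78) j)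
noncomputable def dp_di_74 (j u : ℕ) : Bool :=
  Bool.rec (motive := fun _ => Bool) (dp_di_65 j u) (dp_di_73 j u) (Nat.ble (nat_lit 74) j)
noncomputable def dp_di_75 (j u : ℕ) : Bool :=
  Bool.rec (motive := fun _ => Bool) (lS MG [T_f, T_di, T_f, T_f, T_di, T_fi, T_di] M (Nat.sub (T_di u) (Nat.mod (T_di u) M)) (nat_lit 40) (Nat.mod (T_di u) M) u) (lF [T_di, T_f, T_di, T_f, T_f, T_di, T_fi] M (Nat.sub (T_di u) (Nat.mod (T_di u) M)) (Nat.mod (T_di u) M) u) (Nat.ble (nat_lit 84) j)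
noncomputable def dp_di_76 (j u : ℕ) : Bool :=
  Bool.rec (motive := fun _ => Bool) (lF [T_f, T_di, T_ci, T_ci, T_bi, T_ci, T_b] M (Nat.sub (T_di u) (Nat.mod (T_di u) M)) (Nat.mod (T_di u) M) u) (lS MG [T_fi, T_b, T_c, T_bi, T_di, T_ci, T_bi] M (Nat.sub (T_di u) (Nat.mod (T_di u) M)) (nat_lit 40) (Nat.mod (T_di u) M) u) (Nat.ble (nat_lit 87) j)
noncomputable def dp_di_77 (j u : ℕ) : Bool :=
  Bool.rec (motive := fun _ => Bool) (lF [T_fi, T_bi, T_f, T_e, T_f, T_ci, T_b, T_e] M (Nat.sub (T_di u) (Nat.mod (T_di u) M)) (Nat.mod (T_di u) M) u) (dp_di_76 j u) (Nat.ble (nat_lit 86) j)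
noncomputable def dp_di_78 (j u : ℕ) : Bool :=
  Bool.rec (motive := fun _ => Bool) (dp_di_75 j u) (dp_di_77 j u) (Nat.ble (nat_lit 85) j)
noncomputable def dp_di_79 (j u : ℕ) : Bool :=
  Bool.rec (motive := fun _ => Bool) (lS MG [T_ci, T_bi, T_ci, T_fi, T_d, T_bi, T_fi] M (Nat.sub (T_di u) (Nat.mod (T_di u) M)) (nat_lit 40) (Nat.mod (T_di u) M) u) (lS MG [T_b, T_f, T_c, T_di, T_b, T_f, T_c] M (Nat.sub (T_di u) (Nat.mod (T_di u) M)) (nat_lit 40) (Nat.mod (T_di u) M) u) (Nat.ble (nat_lit 90) j)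
noncomputable def dp_di_80 (j u : ℕ) : Bool :=
  Bool.rec (motive := fun _ => Bool) (lS MG [T_di, T_f, T_di, T_f, T_f, T_di, T_fi] M (Nat.sub (T_di u) (Nat.mod (T_di u) M)) (nat_lit 40) (Nat.mod (T_di u) M) u) (dp_di_79 j u) (Nat.ble (nat_lit 89) j)
noncomputable def dp_di_81 (j u : ℕ) : Bool :=
  Bool.rec (motive := fun _ => Bool) (lF [T_di, T_b, T_di, T_bi, T_di, T_di, T_b] M (Nat.sub (T_di u) (Nat.mod (T_di u) M)) (Nat.mod (T_di u) M) u) (lF [T_di, T_fi, T_c, T_di, T_di, T_fi, T_c] M (Nat.sub (T_di u) (Nat.mod (T_di u) M)) (Nat.mod (T_di u) M) u) (Nat.ble (nat_lit 93) j)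
noncomputable def dp_di_82 (j u : ℕ) : Bool :=
  Bool.rec (motive := fun _ => Bool) (lS MG [T_c, T_bi, T_d, T_fi, T_c, T_fi, T_bi] M (Nat.sub (T_di u) (Nat.mod (T_di u) M)) (nat_lit 40) (Nat.mod (T_di u) M) u) (dp_di_81 j u) (Nat.ble (nat_lit 92) j)
noncomputable def dp_di_83 (j u : ℕ) : Bool :=
  Bool.rec (motive := fun _ => Bool) (dp_di_80 j u) (dp_di_82 j u) (Nat.ble (nat_lit 91) j)
noncomputable def dp_di_84 (j u : ℕ) : Bool :=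
  Bool.rec (motive := fun _ => Bool) (dp_di_78 j u) (dp_di_83 j u) (Nat.ble (nat_lit 88) j)
noncomputable def dp_di_85 (j u : ℕ) : Bool :=
  Bool.rec (motive := fun _ => Bool) (lF [T_b, T_di, T_bi, T_di, T_di, T_b, T_di] M (Nat.sub (T_di u) (Nat.mod (T_di u) M)) (Nat.mod (T_di u) M) u) (lS MG [T_b, T_f, T_f, T_c, T_bi, T_bi, T_ci] M (Nat.sub (T_di u) (Nat.mod (T_di u) M)) (nat_lit 40) (Nat.mod (T_di u) M) u) (Nat.ble (nat_lit 96) j)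
noncomputable def dp_di_86 (j u : ℕ) : Bool :=
  Bool.rec (motive := fun _ => Bool) (lS MG [T_f, T_di, T_ci, T_ci, T_bi, T_ci, T_b] M (Nat.sub (T_di u) (Nat.mod (T_di u) M)) (nat_lit 40) (Nat.mod (T_di u) M) u) (dp_di_85 j u) (Nat.ble (nat_lit 95) j)
noncomputable def dp_di_87 (j u : ℕ) : Bool :=
  Bool.rec (motive := fun _ => Bool) (lF [T_c, T_bi, T_d, T_fi, T_c, T_fi, T_bi] M (Nat.sub (T_di u) (Nat.mod (T_di u) M)) (Nat.mod (T_di u) M) u) (lF [T_di, T_fi, T_bi, T_ci, T_di, T_f, T_bi] M (Nat.sub (T_di u) (Nat.mod (T_di u) M)) (Nat.mod (T_di u) M) u) (Nat.ble (nat_lit 99) j)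
noncomputable def dp_di_88 (j u : ℕ) : Bool :=
  Bool.rec (motive := fun _ => Bool) (lS MG [T_b, T_di, T_bi, T_di, T_di, T_b, T_di] M (Nat.sub (T_di u) (Nat.mod (T_di u) M)) (nat_lit 40) (Nat.mod (T_di u) M) u) (dp_di_87 j u) (Nat.ble (nat_lit 98) j)
noncomputable def dp_di_89 (j u : ℕ) : Bool :=
  Bool.rec (motive := fun _ => Bool) (dp_di_86 j u) (dp_di_88 j u) (Nat.ble (nat_lit 97) j)
noncomputable def dp_di_90 (j u : ℕ) : Bool :=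
  Bool.rec (motive := fun _ => Bool) (lF [T_f, T_di, T_f, T_f, T_di, T_fi, T_di] M (Nat.sub (T_di u) (Nat.mod (T_di u) M)) (Nat.mod (T_di u) M) u) (lS MG [T_di, T_b, T_di, T_bi, T_di, T_di, T_b] M (Nat.sub (T_di u) (Nat.mod (T_di u) M)) (nat_lit 40) (Nat.mod (T_di u) M) u) (Nat.ble (nat_lit 101) j)
noncomputable def dp_di_91 (j u : ℕ) : Bool :=
  Bool.rec (motive := fun _ => Bool) (lF [T_ci, T_ei, T_fi, T_e, T_f, T_ei, T_d, T_f] M (Nat.sub (T_di u) (Nat.mod (T_di u) M)) (Nat.mod (T_di u) M) u) (lS MG [T_ci, T_ei, T_fi, T_e, T_f, T_ei, T_d, T_f] M (Nat.sub (T_di u) (Nat.mod (T_di u) M)) (nat_lit 40) (Nat.mod (T_di u) M) u) (Nat.ble (nat_lit 104) j)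
noncomputable def dp_di_92 (j u : ℕ) : Bool :=
  Bool.rec (motive := fun _ => Bool) (lF [T_e, T_fi, T_ei, T_f, T_e, T_c, T_d, T_fi] M (Nat.sub (T_di u) (Nat.mod (T_di u) M)) (Nat.mod (T_di u) M) u) (dp_di_91 j u) (Nat.ble (nat_lit 103) j)
noncomputable def dp_di_93 (j u : ℕ) : Bool :=
  Bool.rec (motive := fun _ => Bool) (dp_di_90 j u) (dp_di_92 j u) (Nat.ble (nat_lit 102) j)
noncomputable def dp_di_94 (j u : ℕ) : Bool :=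
  Bool.rec (motive := fun _ => Bool) (lS MG [T_c, T_f, T_d, T_d, T_ci, T_fi, T_d, T_c] M (Nat.sub (T_di u) (Nat.mod (T_di u) M)) (nat_lit 40) (Nat.mod (T_di u) M) u) (lF [T_f, T_b, T_d, T_c, T_bi, T_ci, T_b, T_b] M (Nat.sub (T_di u) (Nat.mod (T_di u) M)) (Nat.mod (T_di u) M) u) (Nat.ble (nat_lit 106) j)
noncomputable def dp_di_95 (j u : ℕ) : Bool :=
  Bool.rec (motive := fun _ => Bool) (lF [T_b, T_f, T_di, T_b, T_ci, T_di, T_ci, T_fi] M (Nat.sub (T_di u) (Nat.mod (T_di u) M)) (Nat.mod (T_di u) M) u) (lF [T_fi, T_ci, T_d, T_ci, T_fi, T_fi, T_ci, T_ci] M (Nat.sub (T_di u) (Nat.mod (T_di u) M)) (Nat.mod (T_di u) M) u) (Nat.ble (nat_lit 108) j)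
noncomputable def dp_di_96 (j u : ℕ) : Bool :=
  Bool.rec (motive := fun _ => Bool) (lF [T_f, T_c, T_bi, T_d, T_ci, T_di, T_b, T_ci] M (Nat.sub (T_di u) (Nat.mod (T_di u) M)) (Nat.mod (T_di u) M) u) (lS MG [T_e, T_fi, T_ei, T_f, T_e, T_c, T_d, T_fi] M (Nat.sub (T_di u) (Nat.mod (T_di u) M)) (nat_lit 40) (Nat.mod (T_di u) M) u) (Nat.ble (nat_lit 110) j)
noncomputable def dp_di_97 (j u : ℕ) : Bool :=
  Bool.rec (motive := fun _ => Bool) (dp_di_95 j u) (dp_di_96 j u) (Nat.ble (nat_lit 109) j)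
noncomputable def dp_di_98 (j u : ℕ) : Bool :=
  Bool.rec (motive := fun _ => Bool) (dp_di_94 j u) (dp_di_97 j u) (Nat.ble (nat_lit 107) j)
noncomputable def dp_di_99 (j u : ℕ) : Bool :=
  Bool.rec (motive := fun _ => Bool) (lS MG [T_f, T_c, T_di, T_di, T_fi, T_ci, T_d, T_ci] M (Nat.sub (T_di u) (Nat.mod (T_di u) M)) (nat_lit 40) (Nat.mod (T_di u) M) u) (lS MG [T_f, T_c, T_bi, T_d, T_ci, T_di, T_b, T_ci] M (Nat.sub (T_di u) (Nat.mod (T_di u) M)) (nat_lit 40) (Nat.mod (T_di u) M) u) (Nat.ble (nat_lit 112) j)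
noncomputable def dp_di_100 (j u : ℕ) : Bool :=
  Bool.rec (motive := fun _ => Bool) (lS MG [T_fi, T_ci, T_d, T_ci, T_di, T_f, T_c, T_di] M (Nat.sub (T_di u) (Nat.mod (T_di u) M)) (nat_lit 40) (Nat.mod (T_di u) M) u) (lF [T_c, T_f, T_b, T_b, T_b, T_ci, T_bi, T_bi] M (Nat.sub (T_di u) (Nat.mod (T_di u) M)) (Nat.mod (T_di u) M) u) (Nat.ble (nat_lit 114) j)
noncomputable def dp_di_101 (j u : ℕ) : Bool :=
  Bool.rec (motive := fun _ => Bool) (lS MG [T_fi, T_b, T_ci, T_f, T_b, T_fi, T_bi, T_di] M (Nat.sub (T_di u) (Nat.mod (T_di u) M)) (nat_lit 40) (Nat.mod (T_di u) M) u) (lS MG [T_f, T_f, T_ci, T_bi, T_ci, T_fi, T_b, T_b] M (Nat.sub (T_di u) (Nat.mod (T_di u) M)) (nat_lit 40) (Nat.mod (T_di u) M) u) (Nat.ble (nat_lit 116) j)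
noncomputable def dp_di_102 (j u : ℕ) : Bool :=
  Bool.rec (motive := fun _ => Bool) (dp_di_100 j u) (dp_di_101 j u) (Nat.ble (nat_lit 115) j)
noncomputable def dp_di_103 (j u : ℕ) : Bool :=
  Bool.rec (motive := fun _ => Bool) (dp_di_99 j u) (dp_di_102 j u) (Nat.ble (nat_lit 113) j)
noncomputable def dp_di_104 (j u : ℕ) : Bool :=
  Bool.rec (motive := fun _ => Bool) (lF [T_f, T_c, T_di, T_di, T_fi, T_ci, T_d, T_ci] M (Nat.sub (T_di u) (Nat.mod (T_di u) M)) (Nat.mod (T_di u) M) u) (lF [T_c, T_f, T_d, T_d, T_ci, T_fi, T_d, T_c] M (Nat.sub (T_di u) (Nat.mod (T_di u) M)) (Nat.mod (T_di u) M) u) (Nat.ble (nat_lit 118) j)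
noncomputable def dp_di_105 (j u : ℕ) : Bool :=
  Bool.rec (motive := fun _ => Bool) (lS MG [T_bi, T_fi, T_d, T_bi, T_bi, T_c, T_b, T_ci] M (Nat.sub (T_di u) (Nat.mod (T_di u) M)) (nat_lit 40) (Nat.mod (T_di u) M) u) (lF [T_b, T_fi, T_di, T_di, T_ci, T_b, T_ci, T_f] M (Nat.sub (T_di u) (Nat.mod (T_di u) M)) (Nat.mod (T_di u) M) u) (Nat.ble (nat_lit 120) j)
noncomputable def dp_di_106 (j u : ℕ) : Bool :=
  Bool.rec (motive := fun _ => Bool) (dp_di_104 j u) (dp_di_105 j u) (Nat.ble (nat_lit 119) j)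
noncomputable def dp_di_107 (j u : ℕ) : Bool :=
  Bool.rec (motive := fun _ => Bool) (lS MG [T_f, T_b, T_d, T_c, T_bi, T_ci, T_b, T_b] M (Nat.sub (T_di u) (Nat.mod (T_di u) M)) (nat_lit 40) (Nat.mod (T_di u) M) u) (lF [T_fi, T_b, T_ci, T_f, T_b, T_fi, T_bi, T_di] M (Nat.sub (T_di u) (Nat.mod (T_di u) M)) (Nat.mod (T_di u) M) u) (Nat.ble (nat_lit 122) j)
noncomputable def dp_di_108 (j u : ℕ) : Bool :=
  Bool.rec (motive := fun _ => Bool) (lS MG [T_b, T_ci, T_di, T_f, T_c, T_bi, T_d, T_ci] M (Nat.sub (T_di u) (Nat.mod (T_di u) M)) (nat_lit 40) (Nat.mod (T_di u) M) u) (lS MG [T_c, T_f, T_b, T_b, T_b, T_ci, T_bi, T_bi] M (Nat.sub (T_di u) (Nat.mod (T_di u) M)) (nat_lit 40) (Nat.mod (T_di u) M) u) (Nat.ble (nat_lit 124) j)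
noncomputable def dp_di_109 (j u : ℕ) : Bool :=
  Bool.rec (motive := fun _ => Bool) (dp_di_107 j u) (dp_di_108 j u) (Nat.ble (nat_lit 123) j)
noncomputable def dp_di_110 (j u : ℕ) : Bool :=
  Bool.rec (motive := fun _ => Bool) (dp_di_106 j u) (dp_di_109 j u) (Nat.ble (nat_lit 121) j)
noncomputable def dp_di_111 (j u : ℕ) : Bool :=
  Bool.rec (motive := fun _ => Bool) (dp_di_103 j u) (dp_di_110 j u) (Nat.ble (nat_lit 117) j)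
noncomputable def dp_di_112 (j u : ℕ) : Bool :=
  Bool.rec (motive := fun _ => Bool) (dp_di_98 j u) (dp_di_111 j u) (Nat.ble (nat_lit 111) j)
noncomputable def dp_di_113 (j u : ℕ) : Bool :=
  Bool.rec (motive := fun _ => Bool) (dp_di_93 j u) (dp_di_112 j u) (Nat.ble (nat_lit 105) j)
noncomputable def dp_di_114 (j u : ℕ) : Bool :=
  Bool.rec (motive := fun _ => Bool) (dp_di_89 j u) (dp_di_113 j u) (Nat.ble (nat_lit 100) j)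
noncomputable def dp_di_115 (j u : ℕ) : Bool :=
  Bool.rec (motive := fun _ => Bool) (dp_di_84 j u) (dp_di_114 j u) (Nat.ble (nat_lit 94) j)
noncomputable def dp_di_116 (j u : ℕ) : Bool :=
  Bool.rec (motive := fun _ => Bool) (dp_di_74 j u) (dp_di_115 j u) (Nat.ble (nat_lit 83) j)
noncomputable def dp_di_117 (j u : ℕ) : Bool :=
  Bool.rec (motive := fun _ => Bool) (dp_di_58 j u) (dp_di_116 j u) (Nat.ble (nat_lit 66) j)
noncomputable def dp_di_118 (j u : ℕ) : Bool :=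
  Bool.rec (motive := fun _ => Bool) (dp_di_33 j u) (dp_di_117 j u) (Nat.ble (nat_lit 40) j)
noncomputable def disp_di (j u : ℕ) : Bool :=
  Bool.rec (motive := fun _ => Bool) (Bool.rec (motive := fun _ => Bool) (lF1 T_d M (Nat.sub (T_di u) (Nat.mod (T_di u) M)) (Nat.mod (T_di u) M) u) (lDef P (nat_lit 2) u (Nat.mod (T_di u) M)) (Nat.ble (nat_lit 1) j)) (Bool.rec (motive := fun _ => Bool) (Bool.rec (motive := fun _ => Bool) (lDef P (nat_lit 3) (Nat.mod (T_di u) M) u) (Bool.rec (motive := fun _ => Bool) (lS MG [T_d] M (Nat.sub (T_di u) (Nat.mod (T_di u) M)) (nat_lit 40) (Nat.mod (T_di u) M) u) (lF [T_f, T_f, T_e, T_fi, T_ei, T_f, T_e, T_c] M (Nat.sub (T_di u) (Nat.mod (T_di u) M)) (Nat.mod (T_di u) M) u) (Nat.ble (nat_lit 4) j)) (Nat.ble (nat_lit 3) j)) (dp_di_118 j u) (Nat.ble (nat_lit 5) j)) (Nat.ble (nat_lit 2) j)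
noncomputable def chk_di (j u : ℕ) : Bool :=
  Bool.rec (motive := fun _ => Bool) (disp_di j u) (Nat.ble (Nat.succ (MG u)) A) (Nat.ble A (T_di u))
noncomputable def dp_c_0 (j u : ℕ) : Bool :=
  Bool.rec (motive := fun _ => Bool) (lS MG [T_fi, T_ei, T_fi, T_b, T_f, T_d, T_ei, T_bi] M (Nat.sub (T_c u) (Nat.mod (T_c u) M)) (nat_lit 40) (Nat.mod (T_c u) M) u) (lF [T_e, T_bi, T_e, T_c, T_e, T_bi, T_e] M (Nat.sub (T_c u) (Nat.mod (T_c u) M)) (Nat.mod (T_c u) M) u) (Nat.ble (nat_lit 6) j)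
noncomputable def dp_c_1 (j u : ℕ) : Bool :=
  Bool.rec (motive := fun _ => Bool) (lS MG [T_e, T_bi, T_e, T_c, T_e, T_bi, T_e] M (Nat.sub (T_c u) (Nat.mod (T_c u) M)) (nat_lit 40) (Nat.mod (T_c u) M) u) (dp_c_0 j u) (Nat.ble (nat_lit 5) j)
noncomputable def dp_c_2 (j u : ℕ) : Bool :=
  Bool.rec (motive := fun _ => Bool) (lF [T_d, T_bi, T_c, T_di, T_b, T_c, T_di] M (Nat.sub (T_c u) (Nat.mod (T_c u) M)) (Nat.mod (T_c u) M) u) (lF [T_fi, T_di, T_ci, T_b, T_di, T_f, T_bi] M (Nat.sub (T_c u) (Nat.mod (T_c u) M)) (Nat.mod (T_c u) M) u) (Nat.ble (nat_lit 9) j)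
noncomputable def dp_c_3 (j u : ℕ) : Bool :=
  Bool.rec (motive := fun _ => Bool) (lF [T_b, T_d, T_ci, T_fi, T_fi, T_di, T_bi] M (Nat.sub (T_c u) (Nat.mod (T_c u) M)) (Nat.mod (T_c u) M) u) (dp_c_2 j u) (Nat.ble (nat_lit 8) j)
noncomputable def dp_c_4 (j u : ℕ) : Bool :=
  Bool.rec (motive := fun _ => Bool) (dp_c_1 j u) (dp_c_3 j u) (Nat.ble (nat_lit 7) j)
noncomputable def dp_c_5 (j u : ℕ) : Bool :=
  Bool.rec (motive := fun _ => Bool) (lF [T_fi, T_b, T_c, T_d, T_c, T_bi, T_di] M (Nat.sub (T_c u) (Nat.mod (T_c u) M)) (Nat.mod (T_c u) M) u) (lF [T_d, T_fi, T_d, T_bi, T_c, T_b, T_c] M (Nat.sub (T_c u) (Nat.mod (T_c u) M)) (Nat.mod (T_c u) M) u) (Nat.ble (nat_lit 11) j)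
noncomputable def dp_c_6 (j u : ℕ) : Bool :=
  Bool.rec (motive := fun _ => Bool) (lF [T_bi, T_fi, T_c, T_d, T_d, T_bi, T_f] M (Nat.sub (T_c u) (Nat.mod (T_c u) M)) (Nat.mod (T_c u) M) u) (lS MG [T_bi, T_fi, T_c, T_d, T_d, T_bi, T_f] M (Nat.sub (T_c u) (Nat.mod (T_c u) M)) (nat_lit 40) (Nat.mod (T_c u) M) u) (Nat.ble (nat_lit 13) j)
noncomputable def dp_c_7 (j u : ℕ) : Bool :=
  Bool.rec (motive := fun _ => Bool) (dp_c_5 j u) (dp_c_6 j u) (Nat.ble (nat_lit 12) j)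
noncomputable def dp_c_8 (j u : ℕ) : Bool :=
  Bool.rec (motive := fun _ => Bool) (lF [T_d, T_f, T_ci, T_b, T_fi, T_d, T_bi] M (Nat.sub (T_c u) (Nat.mod (T_c u) M)) (Nat.mod (T_c u) M) u) (lS MG [T_fi, T_b, T_c, T_d, T_c, T_bi, T_di] M (Nat.sub (T_c u) (Nat.mod (T_c u) M)) (nat_lit 40) (Nat.mod (T_c u) M) u) (Nat.ble (nat_lit 15) j)
noncomputable def dp_c_9 (j u : ℕ) : Bool :=
  Bool.rec (motive := fun _ => Bool) (lS MG [T_b, T_d, T_ci, T_fi, T_fi, T_di, T_bi] M (Nat.sub (T_c u) (Nat.mod (T_c u) M)) (nat_lit 40) (Nat.mod (T_c u) M) u) (lF [T_d, T_ci, T_bi, T_d, T_fi, T_di, T_b] M (Nat.sub (T_c u) (Nat.mod (T_c u) M)) (Nat.mod (T_c u) M) u) (Nat.ble (nat_lit 17) j)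
noncomputable def dp_c_10 (j u : ℕ) : Bool :=
  Bool.rec (motive := fun _ => Bool) (dp_c_8 j u) (dp_c_9 j u) (Nat.ble (nat_lit 16) j)
noncomputable def dp_c_11 (j u : ℕ) : Bool :=
  Bool.rec (motive := fun _ => Bool) (dp_c_7 j u) (dp_c_10 j u) (Nat.ble (nat_lit 14) j)
noncomputable def dp_c_12 (j u : ℕ) : Bool :=
  Bool.rec (motive := fun _ => Bool) (dp_c_4 j u) (dp_c_11 j u) (Nat.ble (nat_lit 10) j)
noncomputable def dp_c_13 (j u : ℕ) : Bool :=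
  Bool.rec (motive := fun _ => Bool) (lF [T_fi, T_ei, T_fi, T_b, T_f, T_d, T_ei, T_bi] M (Nat.sub (T_c u) (Nat.mod (T_c u) M)) (Nat.mod (T_c u) M) u) (lS MG [T_bi, T_di, T_c, T_fi, T_b, T_c, T_d] M (Nat.sub (T_c u) (Nat.mod (T_c u) M)) (nat_lit 40) (Nat.mod (T_c u) M) u) (Nat.ble (nat_lit 19) j)
noncomputable def dp_c_14 (j u : ℕ) : Bool :=
  Bool.rec (motive := fun _ => Bool) (lS MG [T_d, T_fi, T_d, T_bi, T_c, T_b, T_c] M (Nat.sub (T_c u) (Nat.mod (T_c u) M)) (nat_lit 40) (Nat.mod (T_c u) M) u) (lF [T_d, T_d, T_bi, T_f, T_c, T_bi, T_fi] M (Nat.sub (T_c u) (Nat.mod (T_c u) M)) (Nat.mod (T_c u) M) u) (Nat.ble (nat_lit 22) j)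
noncomputable def dp_c_15 (j u : ℕ) : Bool :=
  Bool.rec (motive := fun _ => Bool) (lS MG [T_d, T_ci, T_bi, T_d, T_fi, T_di, T_b] M (Nat.sub (T_c u) (Nat.mod (T_c u) M)) (nat_lit 40) (Nat.mod (T_c u) M) u) (dp_c_14 j u) (Nat.ble (nat_lit 21) j)
noncomputable def dp_c_16 (j u : ℕ) : Bool :=
  Bool.rec (motive := fun _ => Bool) (dp_c_13 j u) (dp_c_15 j u) (Nat.ble (nat_lit 20) j)
noncomputable def dp_c_17 (j u : ℕ) : Bool :=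
  Bool.rec (motive := fun _ => Bool) (lF [T_di, T_bi, T_ci, T_b, T_d, T_f, T_f] M (Nat.sub (T_c u) (Nat.mod (T_c u) M)) (Nat.mod (T_c u) M) u) (lF [T_c, T_bi, T_ci, T_b, T_ci, T_ci, T_d] M (Nat.sub (T_c u) (Nat.mod (T_c u) M)) (Nat.mod (T_c u) M) u) (Nat.ble (nat_lit 24) j)
noncomputable def dp_c_18 (j u : ℕ) : Bool :=
  Bool.rec (motive := fun _ => Bool) (lF [T_f, T_b, T_fi, T_c, T_c, T_fi, T_bi] M (Nat.sub (T_c u) (Nat.mod (T_c u) M)) (Nat.mod (T_c u) M) u) (lS MG [T_d, T_d, T_bi, T_f, T_c, T_bi, T_fi] M (Nat.sub (T_c u) (Nat.mod (T_c u) M)) (nat_lit 40) (Nat.mod (T_c u) M) u) (Nat.ble (nat_lit 27) j)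
noncomputable def dp_c_19 (j u : ℕ) : Bool :=
  Bool.rec (motive := fun _ => Bool) (lF [T_c, T_d, T_fi, T_d, T_bi, T_c, T_b] M (Nat.sub (T_c u) (Nat.mod (T_c u) M)) (Nat.mod (T_c u) M) u) (dp_c_18 j u) (Nat.ble (nat_lit 26) j)
noncomputable def dp_c_20 (j u : ℕ) : Bool :=
  Bool.rec (motive := fun _ => Bool) (dp_c_17 j u) (dp_c_19 j u) (Nat.ble (nat_lit 25) j)
noncomputable def dp_c_21 (j u : ℕ) : Bool :=
  Bool.rec (motive := fun _ => Bool) (dp_c_16 j u) (dp_c_20 j u) (Nat.ble (nat_lit 23) j)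
noncomputable def dp_c_22 (j u : ℕ) : Bool :=
  Bool.rec (motive := fun _ => Bool) (lS MG [T_di, T_bi, T_ci, T_b, T_d, T_f, T_f] M (Nat.sub (T_c u) (Nat.mod (T_c u) M)) (nat_lit 40) (Nat.mod (T_c u) M) u) (lS MG [T_f, T_b, T_fi, T_c, T_c, T_fi, T_bi] M (Nat.sub (T_c u) (Nat.mod (T_c u) M)) (nat_lit 40) (Nat.mod (T_c u) M) u) (Nat.ble (nat_lit 29) j)
noncomputable def dp_c_23 (j u : ℕ) : Bool :=
  Bool.rec (motive := fun _ => Bool) (lS MG [T_fi, T_di, T_ci, T_b, T_di, T_f, T_bi] M (Nat.sub (T_c u) (Nat.mod (T_c u) M)) (nat_lit 40) (Nat.mod (T_c u) M) u) (lS MG [T_b, T_b, T_ci, T_fi, T_fi, T_bi, T_d] M (Nat.sub (T_c u) (Nat.mod (T_c u) M)) (nat_lit 40) (Nat.mod (T_c u) M) u) (Nat.ble (nat_lit 32) j)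
noncomputable def dp_c_24 (j u : ℕ) : Bool :=
  Bool.rec (motive := fun _ => Bool) (lS MG [T_c, T_bi, T_ci, T_b, T_ci, T_ci, T_d] M (Nat.sub (T_c u) (Nat.mod (T_c u) M)) (nat_lit 40) (Nat.mod (T_c u) M) u) (dp_c_23 j u) (Nat.ble (nat_lit 31) j)
noncomputable def dp_c_25 (j u : ℕ) : Bool :=
  Bool.rec (motive := fun _ => Bool) (dp_c_22 j u) (dp_c_24 j u) (Nat.ble (nat_lit 30) j)
noncomputable def dp_c_26 (j u : ℕ) : Bool :=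
  Bool.rec (motive := fun _ => Bool) (lS MG [T_di, T_b, T_f, T_c, T_di, T_b, T_f] M (Nat.sub (T_c u) (Nat.mod (T_c u) M)) (nat_lit 40) (Nat.mod (T_c u) M) u) (lF [T_c, T_di, T_bi, T_c, T_c, T_di, T_bi] M (Nat.sub (T_c u) (Nat.mod (T_c u) M)) (Nat.mod (T_c u) M) u) (Nat.ble (nat_lit 35) j)
noncomputable def dp_c_27 (j u : ℕ) : Bool :=
  Bool.rec (motive := fun _ => Bool) (lF [T_di, T_b, T_c, T_di, T_c, T_d, T_bi] M (Nat.sub (T_c u) (Nat.mod (T_c u) M)) (Nat.mod (T_c u) M) u) (dp_c_26 j u) (Nat.ble (nat_lit 34) j)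
noncomputable def dp_c_28 (j u : ℕ) : Bool :=
  Bool.rec (motive := fun _ => Bool) (lS MG [T_fi, T_bi, T_di, T_c, T_bi, T_d, T_fi] M (Nat.sub (T_c u) (Nat.mod (T_c u) M)) (nat_lit 40) (Nat.mod (T_c u) M) u) (lF [T_c, T_bi, T_c, T_b, T_ci, T_ci, T_di] M (Nat.sub (T_c u) (Nat.mod (T_c u) M)) (Nat.mod (T_c u) M) u) (Nat.ble (nat_lit 38) j)
noncomputable def dp_c_29 (j u : ℕ) : Bool :=
  Bool.rec (motive := fun _ => Bool) (lS MG [T_c, T_fi, T_bi, T_c, T_f, T_b, T_fi] M (Nat.sub (T_c u) (Nat.mod (T_c u) M)) (nat_lit 40) (Nat.mod (T_c u) M) u) (dp_c_28 j u) (Nat.ble (nat_lit 37) j)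
noncomputable def dp_c_30 (j u : ℕ) : Bool :=
  Bool.rec (motive := fun _ => Bool) (dp_c_27 j u) (dp_c_29 j u) (Nat.ble (nat_lit 36) j)
noncomputable def dp_c_31 (j u : ℕ) : Bool :=
  Bool.rec (motive := fun _ => Bool) (dp_c_25 j u) (dp_c_30 j u) (Nat.ble (nat_lit 33) j)
noncomputable def dp_c_32 (j u : ℕ) : Bool :=
  Bool.rec (motive := fun _ => Bool) (dp_c_21 j u) (dp_c_31 j u) (Nat.ble (nat_lit 28) j)
noncomputable def dp_c_33 (j u : ℕ) : Bool :=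
  Bool.rec (motive := fun _ => Bool) (dp_c_12 j u) (dp_c_32 j u) (Nat.ble (nat_lit 18) j)
noncomputable def dp_c_34 (j u : ℕ) : Bool :=
  Bool.rec (motive := fun _ => Bool) (lS MG [T_bi, T_d, T_fi, T_c, T_fi, T_bi, T_di] M (Nat.sub (T_c u) (Nat.mod (T_c u) M)) (nat_lit 40) (Nat.mod (T_c u) M) u) (lF [T_di, T_f, T_f, T_e, T_fi, T_ei, T_f, T_e] M (Nat.sub (T_c u) (Nat.mod (T_c u) M)) (Nat.mod (T_c u) M) u) (Nat.ble (nat_lit 41) j)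
noncomputable def dp_c_35 (j u : ℕ) : Bool :=
  Bool.rec (motive := fun _ => Bool) (lS MG [T_di, T_b, T_c, T_di, T_c, T_d, T_bi] M (Nat.sub (T_c u) (Nat.mod (T_c u) M)) (nat_lit 40) (Nat.mod (T_c u) M) u) (dp_c_34 j u) (Nat.ble (nat_lit 40) j)
noncomputable def dp_c_36 (j u : ℕ) : Bool :=
  Bool.rec (motive := fun _ => Bool) (lS MG [T_c, T_d, T_fi, T_d, T_bi, T_c, T_b] M (Nat.sub (T_c u) (Nat.mod (T_c u) M)) (nat_lit 40) (Nat.mod (T_c u) M) u) (lS MG [T_b, T_f, T_d, T_d, T_b, T_fi, T_d] M (Nat.sub (T_c u) (Nat.mod (T_c u) M)) (nat_lit 40) (Nat.mod (T_c u) M) u) (Nat.ble (nat_lit 44) j)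
noncomputable def dp_c_37 (j u : ℕ) : Bool :=
  Bool.rec (motive := fun _ => Bool) (lF [T_di, T_b, T_f, T_c, T_di, T_b, T_f] M (Nat.sub (T_c u) (Nat.mod (T_c u) M)) (Nat.mod (T_c u) M) u) (dp_c_36 j u) (Nat.ble (nat_lit 43) j)
noncomputable def dp_c_38 (j u : ℕ) : Bool :=
  Bool.rec (motive := fun _ => Bool) (dp_c_35 j u) (dp_c_37 j u) (Nat.ble (nat_lit 42) j)
noncomputable def dp_c_39 (j u : ℕ) : Bool :=
  Bool.rec (motive := fun _ => Bool) (lF [T_b, T_f, T_d, T_d, T_b, T_fi, T_d] M (Nat.sub (T_c u) (Nat.mod (T_c u) M)) (Nat.mod (T_c u) M) u) (lS MG [T_bi, T_bi, T_di, T_ci, T_bi, T_f, T_b] M (Nat.sub (T_c u) (Nat.mod (T_c u) M)) (nat_lit 40) (Nat.mod (T_c u) M) u) (Nat.ble (nat_lit 47) j)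
noncomputable def dp_c_40 (j u : ℕ) : Bool :=
  Bool.rec (motive := fun _ => Bool) (lF [T_bi, T_bi, T_ci, T_di, T_b, T_f, T_f] M (Nat.sub (T_c u) (Nat.mod (T_c u) M)) (Nat.mod (T_c u) M) u) (dp_c_39 j u) (Nat.ble (nat_lit 46) j)
noncomputable def dp_c_41 (j u : ℕ) : Bool :=
  Bool.rec (motive := fun _ => Bool) (lF [T_di, T_ci, T_bi, T_d, T_f, T_di, T_b] M (Nat.sub (T_c u) (Nat.mod (T_c u) M)) (Nat.mod (T_c u) M) u) (lF [T_b, T_ci, T_di, T_c, T_b, T_ci, T_di] M (Nat.sub (T_c u) (Nat.mod (T_c u) M)) (Nat.mod (T_c u) M) u) (Nat.ble (nat_lit 49) j)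
noncomputable def dp_c_42 (j u : ℕ) : Bool :=
  Bool.rec (motive := fun _ => Bool) (lF [T_fi, T_bi, T_di, T_c, T_bi, T_d, T_fi] M (Nat.sub (T_c u) (Nat.mod (T_c u) M)) (Nat.mod (T_c u) M) u) (lF [T_b, T_c, T_d, T_f, T_b, T_di, T_f] M (Nat.sub (T_c u) (Nat.mod (T_c u) M)) (Nat.mod (T_c u) M) u) (Nat.ble (nat_lit 51) j)
noncomputable def dp_c_43 (j u : ℕ) : Bool :=
  Bool.rec (motive := fun _ => Bool) (dp_c_41 j u) (dp_c_42 j u) (Nat.ble (nat_lit 50) j)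
noncomputable def dp_c_44 (j u : ℕ) : Bool :=
  Bool.rec (motive := fun _ => Bool) (dp_c_40 j u) (dp_c_43 j u) (Nat.ble (nat_lit 48) j)
noncomputable def dp_c_45 (j u : ℕ) : Bool :=
  Bool.rec (motive := fun _ => Bool) (dp_c_38 j u) (dp_c_44 j u) (Nat.ble (nat_lit 45) j)
noncomputable def dp_c_46 (j u : ℕ) : Bool :=
  Bool.rec (motive := fun _ => Bool) (lS MG [T_bi, T_ci, T_b, T_ci, T_ci, T_d, T_c] M (Nat.sub (T_c u) (Nat.mod (T_c u) M)) (nat_lit 40) (Nat.mod (T_c u) M) u) (lF [T_di, T_c, T_d, T_bi, T_c, T_di, T_b] M (Nat.sub (T_c u) (Nat.mod (T_c u) M)) (Nat.mod (T_c u) M) u) (Nat.ble (nat_lit 54) j)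
noncomputable def dp_c_47 (j u : ℕ) : Bool :=
  Bool.rec (motive := fun _ => Bool) (lS MG [T_di, T_ci, T_bi, T_d, T_f, T_di, T_b] M (Nat.sub (T_c u) (Nat.mod (T_c u) M)) (nat_lit 40) (Nat.mod (T_c u) M) u) (dp_c_46 j u) (Nat.ble (nat_lit 53) j)
noncomputable def dp_c_48 (j u : ℕ) : Bool :=
  Bool.rec (motive := fun _ => Bool) (lF [T_bi, T_ci, T_d, T_c, T_bi, T_ci, T_d] M (Nat.sub (T_c u) (Nat.mod (T_c u) M)) (Nat.mod (T_c u) M) u) (lS MG [T_bi, T_c, T_bi, T_c, T_bi, T_c, T_bi] M (Nat.sub (T_c u) (Nat.mod (T_c u) M)) (nat_lit 40) (Nat.mod (T_c u) M) u) (Nat.ble (nat_lit 56) j)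
noncomputable def dp_c_49 (j u : ℕ) : Bool :=
  Bool.rec (motive := fun _ => Bool) (lS MG [T_b, T_ci, T_di, T_c, T_b, T_ci, T_di] M (Nat.sub (T_c u) (Nat.mod (T_c u) M)) (nat_lit 40) (Nat.mod (T_c u) M) u) (lF [T_bi, T_c, T_b, T_ci, T_ci, T_di, T_c] M (Nat.sub (T_c u) (Nat.mod (T_c u) M)) (Nat.mod (T_c u) M) u) (Nat.ble (nat_lit 58) j)
noncomputable def dp_c_50 (j u : ℕ) : Bool :=
  Bool.rec (motive := fun _ => Bool) (dp_c_48 j u) (dp_c_49 j u) (Nat.ble (nat_lit 57) j)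
noncomputable def dp_c_51 (j u : ℕ) : Bool :=
  Bool.rec (motive := fun _ => Bool) (dp_c_47 j u) (dp_c_50 j u) (Nat.ble (nat_lit 55) j)
noncomputable def dp_c_52 (j u : ℕ) : Bool :=
  Bool.rec (motive := fun _ => Bool) (lS MG [T_c, T_di, T_bi, T_c, T_c, T_di, T_bi] M (Nat.sub (T_c u) (Nat.mod (T_c u) M)) (nat_lit 40) (Nat.mod (T_c u) M) u) (lS MG [T_b, T_c, T_d, T_f, T_b, T_di, T_f] M (Nat.sub (T_c u) (Nat.mod (T_c u) M)) (nat_lit 40) (Nat.mod (T_c u) M) u) (Nat.ble (nat_lit 60) j)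
noncomputable def dp_c_53 (j u : ℕ) : Bool :=
  Bool.rec (motive := fun _ => Bool) (lS MG [T_b, T_c, T_c, T_d, T_fi, T_d, T_bi] M (Nat.sub (T_c u) (Nat.mod (T_c u) M)) (nat_lit 40) (Nat.mod (T_c u) M) u) (lS MG [T_fi, T_bi, T_c, T_f, T_b, T_fi, T_c] M (Nat.sub (T_c u) (Nat.mod (T_c u) M)) (nat_lit 40) (Nat.mod (T_c u) M) u) (Nat.ble (nat_lit 62) j)
noncomputable def dp_c_54 (j u : ℕ) : Bool :=
  Bool.rec (motive := fun _ => Bool) (dp_c_52 j u) (dp_c_53 j u) (Nat.ble (nat_lit 61) j)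
noncomputable def dp_c_55 (j u : ℕ) : Bool :=
  Bool.rec (motive := fun _ => Bool) (lS MG [T_di, T_di, T_fi, T_c, T_di, T_di, T_fi] M (Nat.sub (T_c u) (Nat.mod (T_c u) M)) (nat_lit 40) (Nat.mod (T_c u) M) u) (lS MG [T_b, T_ci, T_bi, T_di, T_di, T_f, T_b] M (Nat.sub (T_c u) (Nat.mod (T_c u) M)) (nat_lit 40) (Nat.mod (T_c u) M) u) (Nat.ble (nat_lit 64) j)
noncomputable def dp_c_56 (j u : ℕ) : Bool :=
  Bool.rec (motive := fun _ => Bool) (lF [T_bi, T_di, T_ci, T_bi, T_di, T_fi, T_b] M (Nat.sub (T_c u) (Nat.mod (T_c u) M)) (Nat.mod (T_c u) M) u) (lS MG [T_bi, T_bi, T_ci, T_di, T_b, T_f, T_f] M (Nat.sub (T_c u) (Nat.mod (T_c u) M)) (nat_lit 40) (Nat.mod (T_c u) M) u) (Nat.ble (nat_lit 66) j)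
noncomputable def dp_c_57 (j u : ℕ) : Bool :=
  Bool.rec (motive := fun _ => Bool) (dp_c_55 j u) (dp_c_56 j u) (Nat.ble (nat_lit 65) j)
noncomputable def dp_c_58 (j u : ℕ) : Bool :=
  Bool.rec (motive := fun _ => Bool) (dp_c_54 j u) (dp_c_57 j u) (Nat.ble (nat_lit 63) j)
noncomputable def dp_c_59 (j u : ℕ) : Bool :=
  Bool.rec (motive := fun _ => Bool) (dp_c_51 j u) (dp_c_58 j u) (Nat.ble (nat_lit 59) j)
noncomputable def dp_c_60 (j u : ℕ) : Bool :=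
  Bool.rec (motive := fun _ => Bool) (dp_c_45 j u) (dp_c_59 j u) (Nat.ble (nat_lit 52) j)
noncomputable def dp_c_61 (j u : ℕ) : Bool :=
  Bool.rec (motive := fun _ => Bool) (lF [T_bi, T_ci, T_bi, T_fi, T_d, T_d, T_b] M (Nat.sub (T_c u) (Nat.mod (T_c u) M)) (Nat.mod (T_c u) M) u) (lS MG [T_d, T_f, T_ci, T_b, T_fi, T_d, T_bi] M (Nat.sub (T_c u) (Nat.mod (T_c u) M)) (nat_lit 40) (Nat.mod (T_c u) M) u) (Nat.ble (nat_lit 68) j)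
noncomputable def dp_c_62 (j u : ℕ) : Bool :=
  Bool.rec (motive := fun _ => Bool) (lS MG [T_di, T_bi, T_c, T_c, T_di, T_bi, T_c] M (Nat.sub (T_c u) (Nat.mod (T_c u) M)) (nat_lit 40) (Nat.mod (T_c u) M) u) (lF [T_b, T_ci, T_ci, T_di, T_c, T_c, T_bi] M (Nat.sub (T_c u) (Nat.mod (T_c u) M)) (Nat.mod (T_c u) M) u) (Nat.ble (nat_lit 70) j)
noncomputable def dp_c_63 (j u : ℕ) : Bool :=
  Bool.rec (motive := fun _ => Bool) (dp_c_61 j u) (dp_c_62 j u) (Nat.ble (nat_lit 69) j)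
noncomputable def dp_c_64 (j u : ℕ) : Bool :=
  Bool.rec (motive := fun _ => Bool) (lS MG [T_bi, T_c, T_b, T_ci, T_ci, T_di, T_c] M (Nat.sub (T_c u) (Nat.mod (T_c u) M)) (nat_lit 40) (Nat.mod (T_c u) M) u) (lS MG [T_c, T_bi, T_c, T_b, T_ci, T_ci, T_di] M (Nat.sub (T_c u) (Nat.mod (T_c u) M)) (nat_lit 40) (Nat.mod (T_c u) M) u) (Nat.ble (nat_lit 72) j)
noncomputable def dp_c_65 (j u : ℕ) : Bool :=
  Bool.rec (motive := fun _ => Bool) (lF [T_c, T_fi, T_bi, T_c, T_f, T_b, T_fi] M (Nat.sub (T_c u) (Nat.mod (T_c u) M)) (Nat.mod (T_c u) M) u) (lF [T_b, T_c, T_c, T_d, T_fi, T_d, T_bi] M (Nat.sub (T_c u) (Nat.mod (T_c u) M)) (Nat.mod (T_c u) M) u) (Nat.ble (nat_lit 74) j)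
noncomputable def dp_c_66 (j u : ℕ) : Bool :=
  Bool.rec (motive := fun _ => Bool) (dp_c_64 j u) (dp_c_65 j u) (Nat.ble (nat_lit 73) j)
noncomputable def dp_c_67 (j u : ℕ) : Bool :=
  Bool.rec (motive := fun _ => Bool) (dp_c_63 j u) (dp_c_66 j u) (Nat.ble (nat_lit 71) j)
noncomputable def dp_c_68 (j u : ℕ) : Bool :=
  Bool.rec (motive := fun _ => Bool) (lF [T_b, T_ci, T_bi, T_di, T_di, T_f, T_b] M (Nat.sub (T_c u) (Nat.mod (T_c u) M)) (Nat.mod (T_c u) M) u) (lS MG [T_bi, T_di, T_ci, T_bi, T_di, T_fi, T_b] M (Nat.sub (T_c u) (Nat.mod (T_c u) M)) (nat_lit 40) (Nat.mod (T_c u) M) u) (Nat.ble (nat_lit 76) j)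
noncomputable def dp_c_69 (j u : ℕ) : Bool :=
  Bool.rec (motive := fun _ => Bool) (lS MG [T_fi, T_bi, T_bi, T_f, T_b, T_f, T_di] M (Nat.sub (T_c u) (Nat.mod (T_c u) M)) (nat_lit 40) (Nat.mod (T_c u) M) u) (lS MG [T_d, T_c, T_bi, T_di, T_c, T_fi, T_b] M (Nat.sub (T_c u) (Nat.mod (T_c u) M)) (nat_lit 40) (Nat.mod (T_c u) M) u) (Nat.ble (nat_lit 79) j)
noncomputable def dp_c_70 (j u : ℕ) : Bool :=
  Bool.rec (motive := fun _ => Bool) (lF [T_bi, T_c, T_bi, T_c, T_bi, T_c, T_bi] M (Nat.sub (T_c u) (Nat.mod (T_c u) M)) (Nat.mod (T_c u) M) u) (dp_c_69 j u) (Nat.ble (nat_lit 78) j)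
noncomputable def dp_c_71 (j u : ℕ) : Bool :=
  Bool.rec (motive := fun _ => Bool) (dp_c_68 j u) (dp_c_70 j u) (Nat.ble (nat_lit 77) j)
noncomputable def dp_c_72 (j u : ℕ) : Bool :=
  Bool.rec (motive := fun _ => Bool) (lF [T_bi, T_di, T_c, T_fi, T_b, T_c, T_d] M (Nat.sub (T_c u) (Nat.mod (T_c u) M)) (Nat.mod (T_c u) M) u) (lS MG [T_bi, T_ci, T_bi, T_fi, T_d, T_d, T_b] M (Nat.sub (T_c u) (Nat.mod (T_c u) M)) (nat_lit 40) (Nat.mod (T_c u) M) u) (Nat.ble (nat_lit 81) j)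
noncomputable def dp_c_73 (j u : ℕ) : Bool :=
  Bool.rec (motive := fun _ => Bool) (lF [T_b, T_b, T_ci, T_fi, T_fi, T_bi, T_d] M (Nat.sub (T_c u) (Nat.mod (T_c u) M)) (Nat.mod (T_c u) M) u) (lS MG [T_di, T_c, T_d, T_bi, T_c, T_di, T_b] M (Nat.sub (T_c u) (Nat.mod (T_c u) M)) (nat_lit 40) (Nat.mod (T_c u) M) u) (Nat.ble (nat_lit 84) j)
noncomputable def dp_c_74 (j u : ℕ) : Bool :=
  Bool.rec (motive := fun _ => Bool) (lF [T_bi, T_ci, T_b, T_ci, T_ci, T_d, T_c] M (Nat.sub (T_c u) (Nat.mod (T_c u) M)) (Nat.mod (T_c u) M) u) (dp_c_73 j u) (Nat.ble (nat_lit 83) j)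
noncomputable def dp_c_75 (j u : ℕ) : Bool :=
  Bool.rec (motive := fun _ => Bool) (dp_c_72 j u) (dp_c_74 j u) (Nat.ble (nat_lit 82) j)
noncomputable def dp_c_76 (j u : ℕ) : Bool :=
  Bool.rec (motive := fun _ => Bool) (dp_c_71 j u) (dp_c_75 j u) (Nat.ble (nat_lit 80) j)
noncomputable def dp_c_77 (j u : ℕ) : Bool :=
  Bool.rec (motive := fun _ => Bool) (dp_c_67 j u) (dp_c_76 j u) (Nat.ble (nat_lit 75) j)
noncomputable def dp_c_78 (j u : ℕ) : Bool :=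
  Bool.rec (motive := fun _ => Bool) (lS MG [T_di, T_f, T_f, T_e, T_fi, T_ei, T_f, T_e] M (Nat.sub (T_c u) (Nat.mod (T_c u) M)) (nat_lit 40) (Nat.mod (T_c u) M) u) (lS MG [T_di, T_f, T_ei, T_f, T_e, T_fi, T_ei, T_f] M (Nat.sub (T_c u) (Nat.mod (T_c u) M)) (nat_lit 40) (Nat.mod (T_c u) M) u) (Nat.ble (nat_lit 86) j)
noncomputable def dp_c_79 (j u : ℕ) : Bool :=
  Bool.rec (motive := fun _ => Bool) (lS MG [T_d, T_b, T_b, T_ci, T_bi, T_fi, T_b] M (Nat.sub (T_c u) (Nat.mod (T_c u) M)) (nat_lit 40) (Nat.mod (T_c u) M) u) (lF [T_d, T_b, T_ci, T_bi, T_f, T_d, T_b] M (Nat.sub (T_c u) (Nat.mod (T_c u) M)) (Nat.mod (T_c u) M) u) (Nat.ble (nat_lit 89) j)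
noncomputable def dp_c_80 (j u : ℕ) : Bool :=
  Bool.rec (motive := fun _ => Bool) (lF [T_di, T_bi, T_c, T_c, T_di, T_bi, T_c] M (Nat.sub (T_c u) (Nat.mod (T_c u) M)) (Nat.mod (T_c u) M) u) (dp_c_79 j u) (Nat.ble (nat_lit 88) j)
noncomputable def dp_c_81 (j u : ℕ) : Bool :=
  Bool.rec (motive := fun _ => Bool) (dp_c_78 j u) (dp_c_80 j u) (Nat.ble (nat_lit 87) j)
noncomputable def dp_c_82 (j u : ℕ) : Bool :=
  Bool.rec (motive := fun _ => Bool) (lF [T_di, T_di, T_fi, T_c, T_di, T_di, T_fi] M (Nat.sub (T_c u) (Nat.mod (T_c u) M)) (Nat.mod (T_c u) M) u) (lS MG [T_d, T_f, T_b, T_di, T_f, T_c, T_b] M (Nat.sub (T_c u) (Nat.mod (T_c u) M)) (nat_lit 40) (Nat.mod (T_c u) M) u) (Nat.ble (nat_lit 92) j)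
noncomputable def dp_c_83 (j u : ℕ) : Bool :=
  Bool.rec (motive := fun _ => Bool) (lS MG [T_bi, T_ci, T_d, T_c, T_bi, T_ci, T_d] M (Nat.sub (T_c u) (Nat.mod (T_c u) M)) (nat_lit 40) (Nat.mod (T_c u) M) u) (dp_c_82 j u) (Nat.ble (nat_lit 91) j)
noncomputable def dp_c_84 (j u : ℕ) : Bool :=
  Bool.rec (motive := fun _ => Bool) (lF [T_d, T_c, T_bi, T_di, T_c, T_fi, T_b] M (Nat.sub (T_c u) (Nat.mod (T_c u) M)) (Nat.mod (T_c u) M) u) (lF [T_fi, T_bi, T_c, T_f, T_b, T_fi, T_c] M (Nat.sub (T_c u) (Nat.mod (T_c u) M)) (Nat.mod (T_c u) M) u) (Nat.ble (nat_lit 95) j)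
noncomputable def dp_c_85 (j u : ℕ) : Bool :=
  Bool.rec (motive := fun _ => Bool) (lF [T_bi, T_d, T_fi, T_c, T_fi, T_bi, T_di] M (Nat.sub (T_c u) (Nat.mod (T_c u) M)) (Nat.mod (T_c u) M) u) (dp_c_84 j u) (Nat.ble (nat_lit 94) j)
noncomputable def dp_c_86 (j u : ℕ) : Bool :=
  Bool.rec (motive := fun _ => Bool) (dp_c_83 j u) (dp_c_85 j u) (Nat.ble (nat_lit 93) j)
noncomputable def dp_c_87 (j u : ℕ) : Bool :=
  Bool.rec (motive := fun _ => Bool) (dp_c_81 j u) (dp_c_86 j u) (Nat.ble (nat_lit 90) j)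
noncomputable def dp_c_88 (j u : ℕ) : Bool :=
  Bool.rec (motive := fun _ => Bool) (lS MG [T_d, T_b, T_ci, T_bi, T_f, T_d, T_b] M (Nat.sub (T_c u) (Nat.mod (T_c u) M)) (nat_lit 40) (Nat.mod (T_c u) M) u) (lF [T_d, T_f, T_b, T_di, T_f, T_c, T_b] M (Nat.sub (T_c u) (Nat.mod (T_c u) M)) (Nat.mod (T_c u) M) u) (Nat.ble (nat_lit 98) j)
noncomputable def dp_c_89 (j u : ℕ) : Bool :=
  Bool.rec (motive := fun _ => Bool) (lS MG [T_d, T_bi, T_c, T_di, T_b, T_c, T_di] M (Nat.sub (T_c u) (Nat.mod (T_c u) M)) (nat_lit 40) (Nat.mod (T_c u) M) u) (dp_c_88 j u) (Nat.ble (nat_lit 97) j)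
noncomputable def dp_c_90 (j u : ℕ) : Bool :=
  Bool.rec (motive := fun _ => Bool) (lF [T_bi, T_bi, T_di, T_ci, T_bi, T_f, T_b] M (Nat.sub (T_c u) (Nat.mod (T_c u) M)) (Nat.mod (T_c u) M) u) (lS MG [T_bi, T_ci, T_bi, T_f, T_d, T_f, T_b] M (Nat.sub (T_c u) (Nat.mod (T_c u) M)) (nat_lit 40) (Nat.mod (T_c u) M) u) (Nat.ble (nat_lit 100) j)
noncomputable def dp_c_91 (j u : ℕ) : Bool :=
  Bool.rec (motive := fun _ => Bool) (lF [T_b, T_ci, T_bi, T_fi, T_di, T_fi, T_b] M (Nat.sub (T_c u) (Nat.mod (T_c u) M)) (Nat.mod (T_c u) M) u) (lF [T_bi, T_ci, T_bi, T_f, T_d, T_f, T_b] M (Nat.sub (T_c u) (Nat.mod (T_c u) M)) (Nat.mod (T_c u) M) u) (Nat.ble (nat_lit 102) j)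
noncomputable def dp_c_92 (j u : ℕ) : Bool :=
  Bool.rec (motive := fun _ => Bool) (dp_c_90 j u) (dp_c_91 j u) (Nat.ble (nat_lit 101) j)
noncomputable def dp_c_93 (j u : ℕ) : Bool :=
  Bool.rec (motive := fun _ => Bool) (dp_c_89 j u) (dp_c_92 j u) (Nat.ble (nat_lit 99) j)
noncomputable def dp_c_94 (j u : ℕ) : Bool :=
  Bool.rec (motive := fun _ => Bool) (lF [T_di, T_f, T_ei, T_f, T_e, T_fi, T_ei, T_f] M (Nat.sub (T_c u) (Nat.mod (T_c u) M)) (Nat.mod (T_c u) M) u) (lF [T_d, T_b, T_b, T_ci, T_bi, T_fi, T_b] M (Nat.sub (T_c u) (Nat.mod (T_c u) M)) (Nat.mod (T_c u) M) u) (Nat.ble (nat_lit 104) j)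
noncomputable def dp_c_95 (j u : ℕ) : Bool :=
  Bool.rec (motive := fun _ => Bool) (lS MG [T_d, T_fi, T_di, T_e, T_fi, T_ei, T_f, T_e] M (Nat.sub (T_c u) (Nat.mod (T_c u) M)) (nat_lit 40) (Nat.mod (T_c u) M) u) (lS MG [T_b, T_ci, T_bi, T_fi, T_di, T_fi, T_b] M (Nat.sub (T_c u) (Nat.mod (T_c u) M)) (nat_lit 40) (Nat.mod (T_c u) M) u) (Nat.ble (nat_lit 107) j)
noncomputable def dp_c_96 (j u : ℕ) : Bool :=
  Bool.rec (motive := fun _ => Bool) (lF [T_fi, T_bi, T_bi, T_f, T_b, T_f, T_di] M (Nat.sub (T_c u) (Nat.mod (T_c u) M)) (Nat.mod (T_c u) M) u) (dp_c_95 j u) (Nat.ble (nat_lit 106) j)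
noncomputable def dp_c_97 (j u : ℕ) : Bool :=
  Bool.rec (motive := fun _ => Bool) (dp_c_94 j u) (dp_c_96 j u) (Nat.ble (nat_lit 105) j)
noncomputable def dp_c_98 (j u : ℕ) : Bool :=
  Bool.rec (motive := fun _ => Bool) (lS MG [T_b, T_ci, T_ci, T_di, T_c, T_c, T_bi] M (Nat.sub (T_c u) (Nat.mod (T_c u) M)) (nat_lit 40) (Nat.mod (T_c u) M) u) (lF [T_b, T_ci, T_fi, T_d, T_ci, T_fi, T_b, T_c] M (Nat.sub (T_c u) (Nat.mod (T_c u) M)) (Nat.mod (T_c u) M) u) (Nat.ble (nat_lit 109) j)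
noncomputable def dp_c_99 (j u : ℕ) : Bool :=
  Bool.rec (motive := fun _ => Bool) (lF [T_b, T_c, T_fi, T_fi, T_d, T_bi, T_bi, T_f] M (Nat.sub (T_c u) (Nat.mod (T_c u) M)) (Nat.mod (T_c u) M) u) (lF [T_c, T_f, T_d, T_c, T_bi, T_ci, T_ci, T_f] M (Nat.sub (T_c u) (Nat.mod (T_c u) M)) (Nat.mod (T_c u) M) u) (Nat.ble (nat_lit 111) j)
noncomputable def dp_c_100 (j u : ℕ) : Bool :=
  Bool.rec (motive := fun _ => Bool) (lF [T_c, T_b, T_ci, T_fi, T_d, T_ci, T_fi, T_b] M (Nat.sub (T_c u) (Nat.mod (T_c u) M)) (Nat.mod (T_c u) M) u) (lS MG [T_bi, T_ci, T_ci, T_bi, T_f, T_c, T_di, T_f] M (Nat.sub (T_c u) (Nat.mod (T_c u) M)) (nat_lit 40) (Nat.mod (T_c u) M) u) (Nat.ble (nat_lit 113) j)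
noncomputable def dp_c_101 (j u : ℕ) : Bool :=
  Bool.rec (motive := fun _ => Bool) (dp_c_99 j u) (dp_c_100 j u) (Nat.ble (nat_lit 112) j)
noncomputable def dp_c_102 (j u : ℕ) : Bool :=
  Bool.rec (motive := fun _ => Bool) (dp_c_98 j u) (dp_c_101 j u) (Nat.ble (nat_lit 110) j)
noncomputable def dp_c_103 (j u : ℕ) : Bool :=
  Bool.rec (motive := fun _ => Bool) (lH [] [] M (Nat.sub (T_c u) (Nat.mod (T_c u) M)) (Nat.mod (T_c u) M) u) (lF [T_d, T_c, T_bi, T_d, T_fi, T_bi, T_d, T_f] M (Nat.sub (T_c u) (Nat.mod (T_c u) M)) (Nat.mod (T_c u) M) u) (Nat.ble (nat_lit 116) j)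
noncomputable def dp_c_104 (j u : ℕ) : Bool :=
  Bool.rec (motive := fun _ => Bool) (lS MG [T_b, T_ci, T_fi, T_d, T_ci, T_fi, T_b, T_c] M (Nat.sub (T_c u) (Nat.mod (T_c u) M)) (nat_lit 40) (Nat.mod (T_c u) M) u) (dp_c_103 j u) (Nat.ble (nat_lit 115) j)
noncomputable def dp_c_105 (j u : ℕ) : Bool :=
  Bool.rec (motive := fun _ => Bool) (lF [T_f, T_f, T_c, T_di, T_c, T_f, T_d, T_c] M (Nat.sub (T_c u) (Nat.mod (T_c u) M)) (Nat.mod (T_c u) M) u) (lF [T_bi, T_ci, T_ci, T_bi, T_f, T_c, T_di, T_f] M (Nat.sub (T_c u) (Nat.mod (T_c u) M)) (Nat.mod (T_c u) M) u) (Nat.ble (nat_lit 118) j)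
noncomputable def dp_c_106 (j u : ℕ) : Bool :=
  Bool.rec (motive := fun _ => Bool) (lS MG [T_f, T_f, T_c, T_di, T_c, T_f, T_d, T_c] M (Nat.sub (T_c u) (Nat.mod (T_c u) M)) (nat_lit 40) (Nat.mod (T_c u) M) u) (lS MG [T_c, T_f, T_d, T_c, T_bi, T_ci, T_ci, T_f] M (Nat.sub (T_c u) (Nat.mod (T_c u) M)) (nat_lit 40) (Nat.mod (T_c u) M) u) (Nat.ble (nat_lit 121) j)
noncomputable def dp_c_107 (j u : ℕ) : Bool :=
  Bool.rec (motive := fun _ => Bool) (lS MG [T_bi, T_c, T_d, T_d, T_f, T_bi, T_d, T_fi] M (Nat.sub (T_c u) (Nat.mod (T_c u) M)) (nat_lit 40) (Nat.mod (T_c u) M) u) (dp_c_106 j u) (Nat.ble (nat_lit 120) j)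
noncomputable def dp_c_108 (j u : ℕ) : Bool :=
  Bool.rec (motive := fun _ => Bool) (dp_c_105 j u) (dp_c_107 j u) (Nat.ble (nat_lit 119) j)
noncomputable def dp_c_109 (j u : ℕ) : Bool :=
  Bool.rec (motive := fun _ => Bool) (dp_c_104 j u) (dp_c_108 j u) (Nat.ble (nat_lit 117) j)
noncomputable def dp_c_110 (j u : ℕ) : Bool :=
  Bool.rec (motive := fun _ => Bool) (lF [T_f, T_bi, T_bi, T_bi, T_f, T_d, T_ci, T_di] M (Nat.sub (T_c u) (Nat.mod (T_c u) M)) (Nat.mod (T_c u) M) u) (lF [T_d, T_fi, T_di, T_e, T_fi, T_ei, T_f, T_e] M (Nat.sub (T_c u) (Nat.mod (T_c u) M)) (Nat.mod (T_c u) M) u) (Nat.ble (nat_lit 123) j)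
noncomputable def dp_c_111 (j u : ℕ) : Bool :=
  Bool.rec (motive := fun _ => Bool) (lS MG [T_b, T_c, T_fi, T_fi, T_d, T_bi, T_bi, T_f] M (Nat.sub (T_c u) (Nat.mod (T_c u) M)) (nat_lit 40) (Nat.mod (T_c u) M) u) (lS MG [T_bi, T_d, T_c, T_di, T_b, T_ci, T_fi, T_d] M (Nat.sub (T_c u) (Nat.mod (T_c u) M)) (nat_lit 40) (Nat.mod (T_c u) M) u) (Nat.ble (nat_lit 125) j)
noncomputable def dp_c_112 (j u : ℕ) : Bool :=
  Bool.rec (motive := fun _ => Bool) (dp_c_110 j u) (dp_c_111 j u) (Nat.ble (nat_lit 124) j)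
noncomputable def dp_c_113 (j u : ℕ) : Bool :=
  Bool.rec (motive := fun _ => Bool) (lF [T_f, T_d, T_c, T_bi, T_ci, T_ci, T_f, T_c] M (Nat.sub (T_c u) (Nat.mod (T_c u) M)) (Nat.mod (T_c u) M) u) (lF [T_fi, T_fi, T_d, T_bi, T_bi, T_f, T_c, T_b] M (Nat.sub (T_c u) (Nat.mod (T_c u) M)) (Nat.mod (T_c u) M) u) (Nat.ble (nat_lit 127) j)
noncomputable def dp_c_114 (j u : ℕ) : Bool :=
  Bool.rec (motive := fun _ => Bool) (lF [T_c, T_b, T_ci, T_di, T_fi, T_ci, T_ci, T_fi] M (Nat.sub (T_c u) (Nat.mod (T_c u) M)) (Nat.mod (T_c u) M) u) (lS MG [T_di, T_f, T_c, T_bi, T_ci, T_ci, T_bi, T_f] M (Nat.sub (T_c u) (Nat.mod (T_c u) M)) (nat_lit 40) (Nat.mod (T_c u) M) u) (Nat.ble (nat_lit 130) j)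
noncomputable def dp_c_115 (j u : ℕ) : Bool :=
  Bool.rec (motive := fun _ => Bool) (lS MG [T_c, T_b, T_ci, T_fi, T_d, T_ci, T_fi, T_b] M (Nat.sub (T_c u) (Nat.mod (T_c u) M)) (nat_lit 40) (Nat.mod (T_c u) M) u) (dp_c_114 j u) (Nat.ble (nat_lit 129) j)
noncomputable def dp_c_116 (j u : ℕ) : Bool :=
  Bool.rec (motive := fun _ => Bool) (dp_c_113 j u) (dp_c_115 j u) (Nat.ble (nat_lit 128) j)
noncomputable def dp_c_117 (j u : ℕ) : Bool :=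
  Bool.rec (motive := fun _ => Bool) (dp_c_112 j u) (dp_c_116 j u) (Nat.ble (nat_lit 126) j)
noncomputable def dp_c_118 (j u : ℕ) : Bool :=
  Bool.rec (motive := fun _ => Bool) (dp_c_109 j u) (dp_c_117 j u) (Nat.ble (nat_lit 122) j)
noncomputable def dp_c_119 (j u : ℕ) : Bool :=
  Bool.rec (motive := fun _ => Bool) (dp_c_102 j u) (dp_c_118 j u) (Nat.ble (nat_lit 114) j)
noncomputable def dp_c_120 (j u : ℕ) : Bool :=
  Bool.rec (motive := fun _ => Bool) (dp_c_97 j u) (dp_c_119 j u) (Nat.ble (nat_lit 108) j)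
noncomputable def dp_c_121 (j u : ℕ) : Bool :=
  Bool.rec (motive := fun _ => Bool) (dp_c_93 j u) (dp_c_120 j u) (Nat.ble (nat_lit 103) j)
noncomputable def dp_c_122 (j u : ℕ) : Bool :=
  Bool.rec (motive := fun _ => Bool) (dp_c_87 j u) (dp_c_121 j u) (Nat.ble (nat_lit 96) j)
noncomputable def dp_c_123 (j u : ℕ) : Bool :=
  Bool.rec (motive := fun _ => Bool) (dp_c_77 j u) (dp_c_122 j u) (Nat.ble (nat_lit 85) j)
noncomputable def dp_c_124 (j u : ℕ) : Bool :=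
  Bool.rec (motive := fun _ => Bool) (dp_c_60 j u) (dp_c_123 j u) (Nat.ble (nat_lit 67) j)
noncomputable def dp_c_125 (j u : ℕ) : Bool :=
  Bool.rec (motive := fun _ => Bool) (dp_c_33 j u) (dp_c_124 j u) (Nat.ble (nat_lit 39) j)
noncomputable def disp_c (j u : ℕ) : Bool :=
  Bool.rec (motive := fun _ => Bool) (Bool.rec (motive := fun _ => Bool) (lF1 T_ci M (Nat.sub (T_c u) (Nat.mod (T_c u) M)) (Nat.mod (T_c u) M) u) (lDef P (nat_lit 4) (Nat.mod (T_c u) M) u) (Nat.ble (nat_lit 1) j)) (Bool.rec (motive := fun _ => Bool) (Bool.rec (motive := fun _ => Bool) (lDef P (nat_lit 5) u (Nat.mod (T_c u) M)) (lS MG [T_ci] M (Nat.sub (T_c u) (Nat.mod (T_c u) M)) (nat_lit 40) (Nat.mod (T_c u) M) u) (Nat.ble (nat_lit 3) j)) (dp_c_125 j u) (Nat.ble (nat_lit 4) j)) (Nat.ble (nat_lit 2) j)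
noncomputable def chk_c (j u : ℕ) : Bool :=
  Bool.rec (motive := fun _ => Bool) (disp_c j u) (Nat.ble (Nat.succ (MG u)) A) (Nat.ble A (T_c u))
noncomputable def dp_ci_0 (j u : ℕ) : Bool :=
  Bool.rec (motive := fun _ => Bool) (lS MG [T_ei, T_b, T_ei, T_ci, T_ei, T_b, T_ei] M (Nat.sub (T_ci u) (Nat.mod (T_ci u) M)) (nat_lit 40) (Nat.mod (T_ci u) M) u) (lF [T_ei, T_b, T_ei, T_ci, T_ei, T_b, T_ei] M (Nat.sub (T_ci u) (Nat.mod (T_ci u) M)) (Nat.mod (T_ci u) M) u) (Nat.ble (nat_lit 5) j)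
noncomputable def dp_ci_1 (j u : ℕ) : Bool :=
  Bool.rec (motive := fun _ => Bool) (lF [T_bi, T_ci, T_b, T_di, T_f, T_di, T_ci] M (Nat.sub (T_ci u) (Nat.mod (T_ci u) M)) (Nat.mod (T_ci u) M) u) (lS MG [T_b, T_d, T_f, T_f, T_c, T_di, T_bi] M (Nat.sub (T_ci u) (Nat.mod (T_ci u) M)) (nat_lit 40) (Nat.mod (T_ci u) M) u) (Nat.ble (nat_lit 7) j)
noncomputable def dp_ci_2 (j u : ℕ) : Bool :=
  Bool.rec (motive := fun _ => Bool) (dp_ci_0 j u) (dp_ci_1 j u) (Nat.ble (nat_lit 6) j)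
noncomputable def dp_ci_3 (j u : ℕ) : Bool :=
  Bool.rec (motive := fun _ => Bool) (lF [T_fi, T_b, T_di, T_di, T_ci, T_f, T_b] M (Nat.sub (T_ci u) (Nat.mod (T_ci u) M)) (Nat.mod (T_ci u) M) u) (lF [T_b, T_d, T_f, T_f, T_c, T_di, T_bi] M (Nat.sub (T_ci u) (Nat.mod (T_ci u) M)) (Nat.mod (T_ci u) M) u) (Nat.ble (nat_lit 9) j)
noncomputable def dp_ci_4 (j u : ℕ) : Bool :=
  Bool.rec (motive := fun _ => Bool) (lS MG [T_bi, T_d, T_fi, T_di, T_b, T_c, T_d] M (Nat.sub (T_ci u) (Nat.mod (T_ci u) M)) (nat_lit 40) (Nat.mod (T_ci u) M) u) (lS MG [T_bi, T_ci, T_b, T_di, T_f, T_di, T_ci] M (Nat.sub (T_ci u) (Nat.mod (T_ci u) M)) (nat_lit 40) (Nat.mod (T_ci u) M) u) (Nat.ble (nat_lit 11) j)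
noncomputable def dp_ci_5 (j u : ℕ) : Bool :=
  Bool.rec (motive := fun _ => Bool) (dp_ci_3 j u) (dp_ci_4 j u) (Nat.ble (nat_lit 10) j)
noncomputable def dp_ci_6 (j u : ℕ) : Bool :=
  Bool.rec (motive := fun _ => Bool) (lF [T_d, T_ci, T_bi, T_d, T_ci, T_b, T_di] M (Nat.sub (T_ci u) (Nat.mod (T_ci u) M)) (Nat.mod (T_ci u) M) u) (lS MG [T_fi, T_b, T_di, T_di, T_ci, T_f, T_b] M (Nat.sub (T_ci u) (Nat.mod (T_ci u) M)) (nat_lit 40) (Nat.mod (T_ci u) M) u) (Nat.ble (nat_lit 13) j)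
noncomputable def dp_ci_7 (j u : ℕ) : Bool :=
  Bool.rec (motive := fun _ => Bool) (lF [T_ci, T_b, T_d, T_ci, T_ci, T_b, T_d] M (Nat.sub (T_ci u) (Nat.mod (T_ci u) M)) (Nat.mod (T_ci u) M) u) (lF [T_bi, T_d, T_fi, T_di, T_b, T_c, T_d] M (Nat.sub (T_ci u) (Nat.mod (T_ci u) M)) (Nat.mod (T_ci u) M) u) (Nat.ble (nat_lit 15) j)
noncomputable def dp_ci_8 (j u : ℕ) : Bool :=
  Bool.rec (motive := fun _ => Bool) (dp_ci_6 j u) (dp_ci_7 j u) (Nat.ble (nat_lit 14) j)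
noncomputable def dp_ci_9 (j u : ℕ) : Bool :=
  Bool.rec (motive := fun _ => Bool) (dp_ci_5 j u) (dp_ci_8 j u) (Nat.ble (nat_lit 12) j)
noncomputable def dp_ci_10 (j u : ℕ) : Bool :=
  Bool.rec (motive := fun _ => Bool) (dp_ci_2 j u) (dp_ci_9 j u) (Nat.ble (nat_lit 8) j)
noncomputable def dp_ci_11 (j u : ℕ) : Bool :=
  Bool.rec (motive := fun _ => Bool) (lS MG [T_f, T_di, T_b, T_ci, T_d, T_b, T_f] M (Nat.sub (T_ci u) (Nat.mod (T_ci u) M)) (nat_lit 40) (Nat.mod (T_ci u) M) u) (lF [T_ci, T_bi, T_ci, T_b, T_di, T_f, T_di] M (Nat.sub (T_ci u) (Nat.mod (T_ci u) M)) (Nat.mod (T_ci u) M) u) (Nat.ble (nat_lit 17) j)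
noncomputable def dp_ci_12 (j u : ℕ) : Bool :=
  Bool.rec (motive := fun _ => Bool) (lS MG [T_fi, T_fi, T_di, T_bi, T_c, T_b, T_d] M (Nat.sub (T_ci u) (Nat.mod (T_ci u) M)) (nat_lit 40) (Nat.mod (T_ci u) M) u) (lS MG [T_b, T_fi, T_d, T_bi, T_c, T_d, T_f] M (Nat.sub (T_ci u) (Nat.mod (T_ci u) M)) (nat_lit 40) (Nat.mod (T_ci u) M) u) (Nat.ble (nat_lit 20) j)
noncomputable def dp_ci_13 (j u : ℕ) : Bool :=
  Bool.rec (motive := fun _ => Bool) (lS MG [T_b, T_e, T_di, T_fi, T_bi, T_f, T_e, T_f] M (Nat.sub (T_ci u) (Nat.mod (T_ci u) M)) (nat_lit 40) (Nat.mod (T_ci u) M) u) (dp_ci_12 j u) (Nat.ble (nat_lit 19) j)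
noncomputable def dp_ci_14 (j u : ℕ) : Bool :=
  Bool.rec (motive := fun _ => Bool) (dp_ci_11 j u) (dp_ci_13 j u) (Nat.ble (nat_lit 18) j)
noncomputable def dp_ci_15 (j u : ℕ) : Bool :=
  Bool.rec (motive := fun _ => Bool) (lS MG [T_ci, T_bi, T_ci, T_b, T_di, T_f, T_di] M (Nat.sub (T_ci u) (Nat.mod (T_ci u) M)) (nat_lit 40) (Nat.mod (T_ci u) M) u) (lF [T_b, T_e, T_di, T_fi, T_bi, T_f, T_e, T_f] M (Nat.sub (T_ci u) (Nat.mod (T_ci u) M)) (Nat.mod (T_ci u) M) u) (Nat.ble (nat_lit 22) j)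
noncomputable def dp_ci_16 (j u : ℕ) : Bool :=
  Bool.rec (motive := fun _ => Bool) (lS MG [T_f, T_b, T_ci, T_fi, T_b, T_di, T_di] M (Nat.sub (T_ci u) (Nat.mod (T_ci u) M)) (nat_lit 40) (Nat.mod (T_ci u) M) u) (lF [T_b, T_f, T_ci, T_ci, T_f, T_bi, T_fi] M (Nat.sub (T_ci u) (Nat.mod (T_ci u) M)) (Nat.mod (T_ci u) M) u) (Nat.ble (nat_lit 25) j)
noncomputable def dp_ci_17 (j u : ℕ) : Bool :=
  Bool.rec (motive := fun _ => Bool) (lF [T_d, T_c, T_c, T_bi, T_ci, T_b, T_ci] M (Nat.sub (T_ci u) (Nat.mod (T_ci u) M)) (Nat.mod (T_ci u) M) u) (dp_ci_16 j u) (Nat.ble (nat_lit 24) j)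
noncomputable def dp_ci_18 (j u : ℕ) : Bool :=
  Bool.rec (motive := fun _ => Bool) (dp_ci_15 j u) (dp_ci_17 j u) (Nat.ble (nat_lit 23) j)
noncomputable def dp_ci_19 (j u : ℕ) : Bool :=
  Bool.rec (motive := fun _ => Bool) (dp_ci_14 j u) (dp_ci_18 j u) (Nat.ble (nat_lit 21) j)
noncomputable def dp_ci_20 (j u : ℕ) : Bool :=
  Bool.rec (motive := fun _ => Bool) (lS MG [T_d, T_b, T_ci, T_di, T_ci, T_bi, T_f] M (Nat.sub (T_ci u) (Nat.mod (T_ci u) M)) (nat_lit 40) (Nat.mod (T_ci u) M) u) (lF [T_d, T_b, T_ci, T_di, T_ci, T_bi, T_f] M (Nat.sub (T_ci u) (Nat.mod (T_ci u) M)) (Nat.mod (T_ci u) M) u) (Nat.ble (nat_lit 27) j)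
noncomputable def dp_ci_21 (j u : ℕ) : Bool :=
  Bool.rec (motive := fun _ => Bool) (lS MG [T_d, T_ci, T_bi, T_d, T_ci, T_b, T_di] M (Nat.sub (T_ci u) (Nat.mod (T_ci u) M)) (nat_lit 40) (Nat.mod (T_ci u) M) u) (lF [T_f, T_b, T_ci, T_fi, T_b, T_di, T_di] M (Nat.sub (T_ci u) (Nat.mod (T_ci u) M)) (Nat.mod (T_ci u) M) u) (Nat.ble (nat_lit 30) j)
noncomputable def dp_ci_22 (j u : ℕ) : Bool :=
  Bool.rec (motive := fun _ => Bool) (lS MG [T_fi, T_bi, T_d, T_ci, T_fi, T_bi, T_d] M (Nat.sub (T_ci u) (Nat.mod (T_ci u) M)) (nat_lit 40) (Nat.mod (T_ci u) M) u) (dp_ci_21 j u) (Nat.ble (nat_lit 29) j)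
noncomputable def dp_ci_23 (j u : ℕ) : Bool :=
  Bool.rec (motive := fun _ => Bool) (dp_ci_20 j u) (dp_ci_22 j u) (Nat.ble (nat_lit 28) j)
noncomputable def dp_ci_24 (j u : ℕ) : Bool :=
  Bool.rec (motive := fun _ => Bool) (lF [T_di, T_ci, T_bi, T_f, T_ci, T_d, T_b] M (Nat.sub (T_ci u) (Nat.mod (T_ci u) M)) (Nat.mod (T_ci u) M) u) (lS MG [T_f, T_bi, T_fi, T_ci, T_b, T_f, T_ci] M (Nat.sub (T_ci u) (Nat.mod (T_ci u) M)) (nat_lit 40) (Nat.mod (T_ci u) M) u) (Nat.ble (nat_lit 33) j)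
noncomputable def dp_ci_25 (j u : ℕ) : Bool :=
  Bool.rec (motive := fun _ => Bool) (lF [T_b, T_ci, T_b, T_ci, T_b, T_ci, T_b] M (Nat.sub (T_ci u) (Nat.mod (T_ci u) M)) (Nat.mod (T_ci u) M) u) (dp_ci_24 j u) (Nat.ble (nat_lit 32) j)
noncomputable def dp_ci_26 (j u : ℕ) : Bool :=
  Bool.rec (motive := fun _ => Bool) (lF [T_b, T_fi, T_d, T_bi, T_c, T_d, T_f] M (Nat.sub (T_ci u) (Nat.mod (T_ci u) M)) (Nat.mod (T_ci u) M) u) (lS MG [T_di, T_b, T_f, T_f, T_c, T_bi, T_bi] M (Nat.sub (T_ci u) (Nat.mod (T_ci u) M)) (nat_lit 40) (Nat.mod (T_ci u) M) u) (Nat.ble (nat_lit 36) j)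
noncomputable def dp_ci_27 (j u : ℕ) : Bool :=
  Bool.rec (motive := fun _ => Bool) (lF [T_f, T_di, T_b, T_ci, T_d, T_b, T_f] M (Nat.sub (T_ci u) (Nat.mod (T_ci u) M)) (Nat.mod (T_ci u) M) u) (dp_ci_26 j u) (Nat.ble (nat_lit 35) j)
noncomputable def dp_ci_28 (j u : ℕ) : Bool :=
  Bool.rec (motive := fun _ => Bool) (dp_ci_25 j u) (dp_ci_27 j u) (Nat.ble (nat_lit 34) j)
noncomputable def dp_ci_29 (j u : ℕ) : Bool :=
  Bool.rec (motive := fun _ => Bool) (dp_ci_23 j u) (dp_ci_28 j u) (Nat.ble (nat_lit 31) j)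
noncomputable def dp_ci_30 (j u : ℕ) : Bool :=
  Bool.rec (motive := fun _ => Bool) (dp_ci_19 j u) (dp_ci_29 j u) (Nat.ble (nat_lit 26) j)
noncomputable def dp_ci_31 (j u : ℕ) : Bool :=
  Bool.rec (motive := fun _ => Bool) (dp_ci_10 j u) (dp_ci_30 j u) (Nat.ble (nat_lit 16) j)
noncomputable def dp_ci_32 (j u : ℕ) : Bool :=
  Bool.rec (motive := fun _ => Bool) (lF [T_fi, T_fi, T_di, T_bi, T_c, T_b, T_d] M (Nat.sub (T_ci u) (Nat.mod (T_ci u) M)) (Nat.mod (T_ci u) M) u) (lF [T_b, T_di, T_ci, T_d, T_ci, T_bi, T_d] M (Nat.sub (T_ci u) (Nat.mod (T_ci u) M)) (Nat.mod (T_ci u) M) u) (Nat.ble (nat_lit 39) j)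
noncomputable def dp_ci_33 (j u : ℕ) : Bool :=
  Bool.rec (motive := fun _ => Bool) (lS MG [T_d, T_c, T_bi, T_ci, T_d, T_c, T_bi] M (Nat.sub (T_ci u) (Nat.mod (T_ci u) M)) (nat_lit 40) (Nat.mod (T_ci u) M) u) (dp_ci_32 j u) (Nat.ble (nat_lit 38) j)
noncomputable def dp_ci_34 (j u : ℕ) : Bool :=
  Bool.rec (motive := fun _ => Bool) (lS MG [T_b, T_ci, T_b, T_ci, T_b, T_ci, T_b] M (Nat.sub (T_ci u) (Nat.mod (T_ci u) M)) (nat_lit 40) (Nat.mod (T_ci u) M) u) (lF [T_b, T_d, T_ci, T_ci, T_b, T_d, T_ci] M (Nat.sub (T_ci u) (Nat.mod (T_ci u) M)) (Nat.mod (T_ci u) M) u) (Nat.ble (nat_lit 42) j)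
noncomputable def dp_ci_35 (j u : ℕ) : Bool :=
  Bool.rec (motive := fun _ => Bool) (lF [T_b, T_di, T_f, T_bi, T_c, T_fi, T_di] M (Nat.sub (T_ci u) (Nat.mod (T_ci u) M)) (Nat.mod (T_ci u) M) u) (dp_ci_34 j u) (Nat.ble (nat_lit 41) j)
noncomputable def dp_ci_36 (j u : ℕ) : Bool :=
  Bool.rec (motive := fun _ => Bool) (dp_ci_33 j u) (dp_ci_35 j u) (Nat.ble (nat_lit 40) j)
noncomputable def dp_ci_37 (j u : ℕ) : Bool :=
  Bool.rec (motive := fun _ => Bool) (lS MG [T_f, T_d, T_d, T_ci, T_f, T_d, T_d] M (Nat.sub (T_ci u) (Nat.mod (T_ci u) M)) (nat_lit 40) (Nat.mod (T_ci u) M) u) (lS MG [T_b, T_di, T_ci, T_d, T_ci, T_bi, T_d] M (Nat.sub (T_ci u) (Nat.mod (T_ci u) M)) (nat_lit 40) (Nat.mod (T_ci u) M) u) (Nat.ble (nat_lit 45) j)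
noncomputable def dp_ci_38 (j u : ℕ) : Bool :=
  Bool.rec (motive := fun _ => Bool) (lS MG [T_di, T_c, T_c, T_bi, T_c, T_b, T_ci] M (Nat.sub (T_ci u) (Nat.mod (T_ci u) M)) (nat_lit 40) (Nat.mod (T_ci u) M) u) (dp_ci_37 j u) (Nat.ble (nat_lit 44) j)
noncomputable def dp_ci_39 (j u : ℕ) : Bool :=
  Bool.rec (motive := fun _ => Bool) (lF [T_d, T_c, T_bi, T_ci, T_d, T_c, T_bi] M (Nat.sub (T_ci u) (Nat.mod (T_ci u) M)) (Nat.mod (T_ci u) M) u) (lF [T_fi, T_fi, T_bi, T_d, T_c, T_b, T_b] M (Nat.sub (T_ci u) (Nat.mod (T_ci u) M)) (Nat.mod (T_ci u) M) u) (Nat.ble (nat_lit 47) j)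
noncomputable def dp_ci_40 (j u : ℕ) : Bool :=
  Bool.rec (motive := fun _ => Bool) (lF [T_ci, T_d, T_c, T_c, T_bi, T_ci, T_b] M (Nat.sub (T_ci u) (Nat.mod (T_ci u) M)) (Nat.mod (T_ci u) M) u) (lS MG [T_fi, T_d, T_bi, T_fi, T_di, T_ci, T_bi] M (Nat.sub (T_ci u) (Nat.mod (T_ci u) M)) (nat_lit 40) (Nat.mod (T_ci u) M) u) (Nat.ble (nat_lit 49) j)
noncomputable def dp_ci_41 (j u : ℕ) : Bool :=
  Bool.rec (motive := fun _ => Bool) (dp_ci_39 j u) (dp_ci_40 j u) (Nat.ble (nat_lit 48) j)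
noncomputable def dp_ci_42 (j u : ℕ) : Bool :=
  Bool.rec (motive := fun _ => Bool) (dp_ci_38 j u) (dp_ci_41 j u) (Nat.ble (nat_lit 46) j)
noncomputable def dp_ci_43 (j u : ℕ) : Bool :=
  Bool.rec (motive := fun _ => Bool) (dp_ci_36 j u) (dp_ci_42 j u) (Nat.ble (nat_lit 43) j)
noncomputable def dp_ci_44 (j u : ℕ) : Bool :=
  Bool.rec (motive := fun _ => Bool) (lS MG [T_bi, T_d, T_ci, T_b, T_di, T_ci, T_d] M (Nat.sub (T_ci u) (Nat.mod (T_ci u) M)) (nat_lit 40) (Nat.mod (T_ci u) M) u) (lS MG [T_b, T_di, T_f, T_bi, T_c, T_fi, T_di] M (Nat.sub (T_ci u) (Nat.mod (T_ci u) M)) (nat_lit 40) (Nat.mod (T_ci u) M) u) (Nat.ble (nat_lit 51) j)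
noncomputable def dp_ci_45 (j u : ℕ) : Bool :=
  Bool.rec (motive := fun _ => Bool) (lS MG [T_di, T_f, T_bi, T_di, T_di, T_fi, T_bi] M (Nat.sub (T_ci u) (Nat.mod (T_ci u) M)) (nat_lit 40) (Nat.mod (T_ci u) M) u) (lS MG [T_bi, T_ci, T_fi, T_d, T_bi, T_fi, T_di] M (Nat.sub (T_ci u) (Nat.mod (T_ci u) M)) (nat_lit 40) (Nat.mod (T_ci u) M) u) (Nat.ble (nat_lit 53) j)
noncomputable def dp_ci_46 (j u : ℕ) : Bool :=
  Bool.rec (motive := fun _ => Bool) (dp_ci_44 j u) (dp_ci_45 j u) (Nat.ble (nat_lit 52) j)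
noncomputable def dp_ci_47 (j u : ℕ) : Bool :=
  Bool.rec (motive := fun _ => Bool) (lF [T_fi, T_d, T_bi, T_fi, T_di, T_ci, T_bi] M (Nat.sub (T_ci u) (Nat.mod (T_ci u) M)) (Nat.mod (T_ci u) M) u) (lS MG [T_d, T_c, T_c, T_bi, T_ci, T_b, T_ci] M (Nat.sub (T_ci u) (Nat.mod (T_ci u) M)) (nat_lit 40) (Nat.mod (T_ci u) M) u) (Nat.ble (nat_lit 55) j)
noncomputable def dp_ci_48 (j u : ℕ) : Bool :=
  Bool.rec (motive := fun _ => Bool) (lF [T_di, T_c, T_c, T_bi, T_c, T_b, T_ci] M (Nat.sub (T_ci u) (Nat.mod (T_ci u) M)) (Nat.mod (T_ci u) M) u) (lS MG [T_bi, T_di, T_di, T_f, T_b, T_c, T_b] M (Nat.sub (T_ci u) (Nat.mod (T_ci u) M)) (nat_lit 40) (Nat.mod (T_ci u) M) u) (Nat.ble (nat_lit 57) j)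
noncomputable def dp_ci_49 (j u : ℕ) : Bool :=
  Bool.rec (motive := fun _ => Bool) (dp_ci_47 j u) (dp_ci_48 j u) (Nat.ble (nat_lit 56) j)
noncomputable def dp_ci_50 (j u : ℕ) : Bool :=
  Bool.rec (motive := fun _ => Bool) (dp_ci_46 j u) (dp_ci_49 j u) (Nat.ble (nat_lit 54) j)
noncomputable def dp_ci_51 (j u : ℕ) : Bool :=
  Bool.rec (motive := fun _ => Bool) (lS MG [T_b, T_f, T_ci, T_ci, T_f, T_bi, T_fi] M (Nat.sub (T_ci u) (Nat.mod (T_ci u) M)) (nat_lit 40) (Nat.mod (T_ci u) M) u) (lF [T_di, T_f, T_bi, T_di, T_di, T_fi, T_bi] M (Nat.sub (T_ci u) (Nat.mod (T_ci u) M)) (Nat.mod (T_ci u) M) u) (Nat.ble (nat_lit 59) j)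
noncomputable def dp_ci_52 (j u : ℕ) : Bool :=
  Bool.rec (motive := fun _ => Bool) (lF [T_ci, T_f, T_bi, T_fi, T_ci, T_b, T_f] M (Nat.sub (T_ci u) (Nat.mod (T_ci u) M)) (Nat.mod (T_ci u) M) u) (lF [T_di, T_b, T_f, T_f, T_c, T_bi, T_bi] M (Nat.sub (T_ci u) (Nat.mod (T_ci u) M)) (Nat.mod (T_ci u) M) u) (Nat.ble (nat_lit 61) j)
noncomputable def dp_ci_53 (j u : ℕ) : Bool :=
  Bool.rec (motive := fun _ => Bool) (dp_ci_51 j u) (dp_ci_52 j u) (Nat.ble (nat_lit 60) j)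
noncomputable def dp_ci_54 (j u : ℕ) : Bool :=
  Bool.rec (motive := fun _ => Bool) (lS MG [T_bi, T_d, T_f, T_di, T_b, T_c, T_di] M (Nat.sub (T_ci u) (Nat.mod (T_ci u) M)) (nat_lit 40) (Nat.mod (T_ci u) M) u) (lS MG [T_ci, T_d, T_c, T_c, T_bi, T_ci, T_b] M (Nat.sub (T_ci u) (Nat.mod (T_ci u) M)) (nat_lit 40) (Nat.mod (T_ci u) M) u) (Nat.ble (nat_lit 63) j)
noncomputable def dp_ci_55 (j u : ℕ) : Bool :=
  Bool.rec (motive := fun _ => Bool) (lF [T_bi, T_d, T_f, T_di, T_b, T_c, T_di] M (Nat.sub (T_ci u) (Nat.mod (T_ci u) M)) (Nat.mod (T_ci u) M) u) (lF [T_f, T_d, T_d, T_ci, T_f, T_d, T_d] M (Nat.sub (T_ci u) (Nat.mod (T_ci u) M)) (Nat.mod (T_ci u) M) u) (Nat.ble (nat_lit 65) j)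
noncomputable def dp_ci_56 (j u : ℕ) : Bool :=
  Bool.rec (motive := fun _ => Bool) (dp_ci_54 j u) (dp_ci_55 j u) (Nat.ble (nat_lit 64) j)
noncomputable def dp_ci_57 (j u : ℕ) : Bool :=
  Bool.rec (motive := fun _ => Bool) (dp_ci_53 j u) (dp_ci_56 j u) (Nat.ble (nat_lit 62) j)
noncomputable def dp_ci_58 (j u : ℕ) : Bool :=
  Bool.rec (motive := fun _ => Bool) (dp_ci_50 j u) (dp_ci_57 j u) (Nat.ble (nat_lit 58) j)
noncomputable def dp_ci_59 (j u : ℕ) : Bool :=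
  Bool.rec (motive := fun _ => Bool) (dp_ci_43 j u) (dp_ci_58 j u) (Nat.ble (nat_lit 50) j)
noncomputable def dp_ci_60 (j u : ℕ) : Bool :=
  Bool.rec (motive := fun _ => Bool) (lS MG [T_ci, T_b, T_d, T_ci, T_ci, T_b, T_d] M (Nat.sub (T_ci u) (Nat.mod (T_ci u) M)) (nat_lit 40) (Nat.mod (T_ci u) M) u) (lF [T_f, T_bi, T_fi, T_ci, T_b, T_f, T_ci] M (Nat.sub (T_ci u) (Nat.mod (T_ci u) M)) (Nat.mod (T_ci u) M) u) (Nat.ble (nat_lit 67) j)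
noncomputable def dp_ci_61 (j u : ℕ) : Bool :=
  Bool.rec (motive := fun _ => Bool) (lS MG [T_b, T_d, T_ci, T_ci, T_b, T_d, T_ci] M (Nat.sub (T_ci u) (Nat.mod (T_ci u) M)) (nat_lit 40) (Nat.mod (T_ci u) M) u) (lF [T_ci, T_di, T_c, T_c, T_bi, T_c, T_b] M (Nat.sub (T_ci u) (Nat.mod (T_ci u) M)) (Nat.mod (T_ci u) M) u) (Nat.ble (nat_lit 69) j)
noncomputable def dp_ci_62 (j u : ℕ) : Bool :=
  Bool.rec (motive := fun _ => Bool) (dp_ci_60 j u) (dp_ci_61 j u) (Nat.ble (nat_lit 68) j)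
noncomputable def dp_ci_63 (j u : ℕ) : Bool :=
  Bool.rec (motive := fun _ => Bool) (lS MG [T_ci, T_f, T_bi, T_fi, T_ci, T_b, T_f] M (Nat.sub (T_ci u) (Nat.mod (T_ci u) M)) (nat_lit 40) (Nat.mod (T_ci u) M) u) (lF [T_fi, T_bi, T_d, T_ci, T_fi, T_bi, T_d] M (Nat.sub (T_ci u) (Nat.mod (T_ci u) M)) (Nat.mod (T_ci u) M) u) (Nat.ble (nat_lit 71) j)
noncomputable def dp_ci_64 (j u : ℕ) : Bool :=
  Bool.rec (motive := fun _ => Bool) (lS MG [T_bi, T_f, T_ci, T_d, T_b, T_ci, T_di] M (Nat.sub (T_ci u) (Nat.mod (T_ci u) M)) (nat_lit 40) (Nat.mod (T_ci u) M) u) (lF [T_b, T_di, T_f, T_di, T_ci, T_ci, T_bi] M (Nat.sub (T_ci u) (Nat.mod (T_ci u) M)) (Nat.mod (T_ci u) M) u) (Nat.ble (nat_lit 74) j)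
noncomputable def dp_ci_65 (j u : ℕ) : Bool :=
  Bool.rec (motive := fun _ => Bool) (lS MG [T_d, T_b, T_f, T_ci, T_f, T_di, T_b] M (Nat.sub (T_ci u) (Nat.mod (T_ci u) M)) (nat_lit 40) (Nat.mod (T_ci u) M) u) (dp_ci_64 j u) (Nat.ble (nat_lit 73) j)
noncomputable def dp_ci_66 (j u : ℕ) : Bool :=
  Bool.rec (motive := fun _ => Bool) (dp_ci_63 j u) (dp_ci_65 j u) (Nat.ble (nat_lit 72) j)
noncomputable def dp_ci_67 (j u : ℕ) : Bool :=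
  Bool.rec (motive := fun _ => Bool) (dp_ci_62 j u) (dp_ci_66 j u) (Nat.ble (nat_lit 70) j)
noncomputable def dp_ci_68 (j u : ℕ) : Bool :=
  Bool.rec (motive := fun _ => Bool) (lS MG [T_bi, T_di, T_fi, T_b, T_c, T_bi, T_di] M (Nat.sub (T_ci u) (Nat.mod (T_ci u) M)) (nat_lit 40) (Nat.mod (T_ci u) M) u) (lS MG [T_di, T_c, T_b, T_ci, T_di, T_c, T_b] M (Nat.sub (T_ci u) (Nat.mod (T_ci u) M)) (nat_lit 40) (Nat.mod (T_ci u) M) u) (Nat.ble (nat_lit 76) j)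
noncomputable def dp_ci_69 (j u : ℕ) : Bool :=
  Bool.rec (motive := fun _ => Bool) (lF [T_di, T_c, T_b, T_ci, T_di, T_c, T_b] M (Nat.sub (T_ci u) (Nat.mod (T_ci u) M)) (Nat.mod (T_ci u) M) u) (lS MG [T_b, T_ci, T_ci, T_d, T_c, T_c, T_bi] M (Nat.sub (T_ci u) (Nat.mod (T_ci u) M)) (nat_lit 40) (Nat.mod (T_ci u) M) u) (Nat.ble (nat_lit 79) j)
noncomputable def dp_ci_70 (j u : ℕ) : Bool :=
  Bool.rec (motive := fun _ => Bool) (lF [T_bi, T_d, T_ci, T_b, T_di, T_ci, T_d] M (Nat.sub (T_ci u) (Nat.mod (T_ci u) M)) (Nat.mod (T_ci u) M) u) (dp_ci_69 j u) (Nat.ble (nat_lit 78) j)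
noncomputable def dp_ci_71 (j u : ℕ) : Bool :=
  Bool.rec (motive := fun _ => Bool) (dp_ci_68 j u) (dp_ci_70 j u) (Nat.ble (nat_lit 77) j)
noncomputable def dp_ci_72 (j u : ℕ) : Bool :=
  Bool.rec (motive := fun _ => Bool) (lF [T_bi, T_fi, T_di, T_fi, T_b, T_c, T_b] M (Nat.sub (T_ci u) (Nat.mod (T_ci u) M)) (Nat.mod (T_ci u) M) u) (lS MG [T_fi, T_fi, T_bi, T_d, T_c, T_b, T_b] M (Nat.sub (T_ci u) (Nat.mod (T_ci u) M)) (nat_lit 40) (Nat.mod (T_ci u) M) u) (Nat.ble (nat_lit 81) j)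
noncomputable def dp_ci_73 (j u : ℕ) : Bool :=
  Bool.rec (motive := fun _ => Bool) (lF [T_bi, T_ci, T_fi, T_d, T_bi, T_fi, T_di] M (Nat.sub (T_ci u) (Nat.mod (T_ci u) M)) (Nat.mod (T_ci u) M) u) (lF [T_bi, T_f, T_b, T_c, T_bi, T_bi, T_di] M (Nat.sub (T_ci u) (Nat.mod (T_ci u) M)) (Nat.mod (T_ci u) M) u) (Nat.ble (nat_lit 84) j)
noncomputable def dp_ci_74 (j u : ℕ) : Bool :=
  Bool.rec (motive := fun _ => Bool) (lS MG [T_di, T_ci, T_bi, T_f, T_ci, T_d, T_b] M (Nat.sub (T_ci u) (Nat.mod (T_ci u) M)) (nat_lit 40) (Nat.mod (T_ci u) M) u) (dp_ci_73 j u) (Nat.ble (nat_lit 83) j)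
noncomputable def dp_ci_75 (j u : ℕ) : Bool :=
  Bool.rec (motive := fun _ => Bool) (dp_ci_72 j u) (dp_ci_74 j u) (Nat.ble (nat_lit 82) j)
noncomputable def dp_ci_76 (j u : ℕ) : Bool :=
  Bool.rec (motive := fun _ => Bool) (dp_ci_71 j u) (dp_ci_75 j u) (Nat.ble (nat_lit 80) j)
noncomputable def dp_ci_77 (j u : ℕ) : Bool :=
  Bool.rec (motive := fun _ => Bool) (dp_ci_67 j u) (dp_ci_76 j u) (Nat.ble (nat_lit 75) j)
noncomputable def dp_ci_78 (j u : ℕ) : Bool :=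
  Bool.rec (motive := fun _ => Bool) (lS MG [T_fi, T_e, T_f, T_ei, T_fi, T_e, T_fi, T_d] M (Nat.sub (T_ci u) (Nat.mod (T_ci u) M)) (nat_lit 40) (Nat.mod (T_ci u) M) u) (lF [T_bi, T_fi, T_d, T_d, T_b, T_c, T_bi] M (Nat.sub (T_ci u) (Nat.mod (T_ci u) M)) (Nat.mod (T_ci u) M) u) (Nat.ble (nat_lit 87) j)
noncomputable def dp_ci_79 (j u : ℕ) : Bool :=
  Bool.rec (motive := fun _ => Bool) (lS MG [T_ci, T_di, T_c, T_c, T_bi, T_c, T_b] M (Nat.sub (T_ci u) (Nat.mod (T_ci u) M)) (nat_lit 40) (Nat.mod (T_ci u) M) u) (dp_ci_78 j u) (Nat.ble (nat_lit 86) j)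
noncomputable def dp_ci_80 (j u : ℕ) : Bool :=
  Bool.rec (motive := fun _ => Bool) (lF [T_fi, T_e, T_f, T_ei, T_fi, T_e, T_fi, T_d] M (Nat.sub (T_ci u) (Nat.mod (T_ci u) M)) (Nat.mod (T_ci u) M) u) (lS MG [T_bi, T_fi, T_d, T_d, T_b, T_c, T_bi] M (Nat.sub (T_ci u) (Nat.mod (T_ci u) M)) (nat_lit 40) (Nat.mod (T_ci u) M) u) (Nat.ble (nat_lit 90) j)
noncomputable def dp_ci_81 (j u : ℕ) : Bool :=
  Bool.rec (motive := fun _ => Bool) (lF [T_bi, T_f, T_ci, T_d, T_b, T_ci, T_di] M (Nat.sub (T_ci u) (Nat.mod (T_ci u) M)) (Nat.mod (T_ci u) M) u) (dp_ci_80 j u) (Nat.ble (nat_lit 89) j)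
noncomputable def dp_ci_82 (j u : ℕ) : Bool :=
  Bool.rec (motive := fun _ => Bool) (dp_ci_79 j u) (dp_ci_81 j u) (Nat.ble (nat_lit 88) j)
noncomputable def dp_ci_83 (j u : ℕ) : Bool :=
  Bool.rec (motive := fun _ => Bool) (lF [T_ei, T_fi, T_e, T_f, T_ei, T_fi, T_fi, T_d] M (Nat.sub (T_ci u) (Nat.mod (T_ci u) M)) (Nat.mod (T_ci u) M) u) (lF [T_b, T_ci, T_ci, T_d, T_c, T_c, T_bi] M (Nat.sub (T_ci u) (Nat.mod (T_ci u) M)) (Nat.mod (T_ci u) M) u) (Nat.ble (nat_lit 93) j)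
noncomputable def dp_ci_84 (j u : ℕ) : Bool :=
  Bool.rec (motive := fun _ => Bool) (lS MG [T_d, T_fi, T_bi, T_fi, T_b, T_b, T_f] M (Nat.sub (T_ci u) (Nat.mod (T_ci u) M)) (nat_lit 40) (Nat.mod (T_ci u) M) u) (dp_ci_83 j u) (Nat.ble (nat_lit 92) j)
noncomputable def dp_ci_85 (j u : ℕ) : Bool :=
  Bool.rec (motive := fun _ => Bool) (lS MG [T_b, T_di, T_f, T_di, T_ci, T_ci, T_bi] M (Nat.sub (T_ci u) (Nat.mod (T_ci u) M)) (nat_lit 40) (Nat.mod (T_ci u) M) u) (lS MG [T_bi, T_f, T_d, T_f, T_b, T_c, T_bi] M (Nat.sub (T_ci u) (Nat.mod (T_ci u) M)) (nat_lit 40) (Nat.mod (T_ci u) M) u) (Nat.ble (nat_lit 96) j)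
noncomputable def dp_ci_86 (j u : ℕ) : Bool :=
  Bool.rec (motive := fun _ => Bool) (lF [T_d, T_b, T_f, T_ci, T_f, T_di, T_b] M (Nat.sub (T_ci u) (Nat.mod (T_ci u) M)) (Nat.mod (T_ci u) M) u) (dp_ci_85 j u) (Nat.ble (nat_lit 95) j)
noncomputable def dp_ci_87 (j u : ℕ) : Bool :=
  Bool.rec (motive := fun _ => Bool) (dp_ci_84 j u) (dp_ci_86 j u) (Nat.ble (nat_lit 94) j)
noncomputable def dp_ci_88 (j u : ℕ) : Bool :=
  Bool.rec (motive := fun _ => Bool) (dp_ci_82 j u) (dp_ci_87 j u) (Nat.ble (nat_lit 91) j)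
noncomputable def dp_ci_89 (j u : ℕ) : Bool :=
  Bool.rec (motive := fun _ => Bool) (lS MG [T_bi, T_fi, T_b, T_c, T_d, T_b, T_b] M (Nat.sub (T_ci u) (Nat.mod (T_ci u) M)) (nat_lit 40) (Nat.mod (T_ci u) M) u) (lF [T_bi, T_di, T_di, T_f, T_b, T_c, T_b] M (Nat.sub (T_ci u) (Nat.mod (T_ci u) M)) (Nat.mod (T_ci u) M) u) (Nat.ble (nat_lit 98) j)
noncomputable def dp_ci_90 (j u : ℕ) : Bool :=
  Bool.rec (motive := fun _ => Bool) (lS MG [T_bi, T_f, T_d, T_b, T_c, T_d, T_b] M (Nat.sub (T_ci u) (Nat.mod (T_ci u) M)) (nat_lit 40) (Nat.mod (T_ci u) M) u) (lS MG [T_bi, T_f, T_b, T_c, T_bi, T_bi, T_di] M (Nat.sub (T_ci u) (Nat.mod (T_ci u) M)) (nat_lit 40) (Nat.mod (T_ci u) M) u) (Nat.ble (nat_lit 100) j)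
noncomputable def dp_ci_91 (j u : ℕ) : Bool :=
  Bool.rec (motive := fun _ => Bool) (dp_ci_89 j u) (dp_ci_90 j u) (Nat.ble (nat_lit 99) j)
noncomputable def dp_ci_92 (j u : ℕ) : Bool :=
  Bool.rec (motive := fun _ => Bool) (lF [T_d, T_fi, T_bi, T_fi, T_b, T_b, T_f] M (Nat.sub (T_ci u) (Nat.mod (T_ci u) M)) (Nat.mod (T_ci u) M) u) (lS MG [T_ei, T_fi, T_e, T_f, T_ei, T_fi, T_fi, T_d] M (Nat.sub (T_ci u) (Nat.mod (T_ci u) M)) (nat_lit 40) (Nat.mod (T_ci u) M) u) (Nat.ble (nat_lit 102) j)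
noncomputable def dp_ci_93 (j u : ℕ) : Bool :=
  Bool.rec (motive := fun _ => Bool) (lF [T_bi, T_fi, T_b, T_c, T_d, T_b, T_b] M (Nat.sub (T_ci u) (Nat.mod (T_ci u) M)) (Nat.mod (T_ci u) M) u) (lF [T_bi, T_f, T_d, T_f, T_b, T_c, T_bi] M (Nat.sub (T_ci u) (Nat.mod (T_ci u) M)) (Nat.mod (T_ci u) M) u) (Nat.ble (nat_lit 104) j)
noncomputable def dp_ci_94 (j u : ℕ) : Bool :=
  Bool.rec (motive := fun _ => Bool) (dp_ci_92 j u) (dp_ci_93 j u) (Nat.ble (nat_lit 103) j)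
noncomputable def dp_ci_95 (j u : ℕ) : Bool :=
  Bool.rec (motive := fun _ => Bool) (dp_ci_91 j u) (dp_ci_94 j u) (Nat.ble (nat_lit 101) j)
noncomputable def dp_ci_96 (j u : ℕ) : Bool :=
  Bool.rec (motive := fun _ => Bool) (lF [T_bi, T_di, T_fi, T_b, T_c, T_bi, T_di] M (Nat.sub (T_ci u) (Nat.mod (T_ci u) M)) (Nat.mod (T_ci u) M) u) (lF [T_bi, T_f, T_d, T_b, T_c, T_d, T_b] M (Nat.sub (T_ci u) (Nat.mod (T_ci u) M)) (Nat.mod (T_ci u) M) u) (Nat.ble (nat_lit 106) j)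
noncomputable def dp_ci_97 (j u : ℕ) : Bool :=
  Bool.rec (motive := fun _ => Bool) (lF [T_ci, T_bi, T_f, T_c, T_di, T_f, T_c, T_bi] M (Nat.sub (T_ci u) (Nat.mod (T_ci u) M)) (Nat.mod (T_ci u) M) u) (lS MG [T_ei, T_fi, T_e, T_f, T_ei, T_d, T_f, T_di] M (Nat.sub (T_ci u) (Nat.mod (T_ci u) M)) (nat_lit 40) (Nat.mod (T_ci u) M) u) (Nat.ble (nat_lit 109) j)
noncomputable def dp_ci_98 (j u : ℕ) : Bool :=
  Bool.rec (motive := fun _ => Bool) (lS MG [T_bi, T_fi, T_di, T_fi, T_b, T_c, T_b] M (Nat.sub (T_ci u) (Nat.mod (T_ci u) M)) (nat_lit 40) (Nat.mod (T_ci u) M) u) (dp_ci_97 j u) (Nat.ble (nat_lit 108) j)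
noncomputable def dp_ci_99 (j u : ℕ) : Bool :=
  Bool.rec (motive := fun _ => Bool) (dp_ci_96 j u) (dp_ci_98 j u) (Nat.ble (nat_lit 107) j)
noncomputable def dp_ci_100 (j u : ℕ) : Bool :=
  Bool.rec (motive := fun _ => Bool) (lF [T_fi, T_c, T_c, T_b, T_ci, T_di, T_fi, T_ci] M (Nat.sub (T_ci u) (Nat.mod (T_ci u) M)) (Nat.mod (T_ci u) M) u) (lS MG [T_ci, T_fi, T_c, T_c, T_b, T_ci, T_di, T_fi] M (Nat.sub (T_ci u) (Nat.mod (T_ci u) M)) (nat_lit 40) (Nat.mod (T_ci u) M) u) (Nat.ble (nat_lit 112) j)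
noncomputable def dp_ci_101 (j u : ℕ) : Bool :=
  Bool.rec (motive := fun _ => Bool) (lF [T_bi, T_f, T_c, T_di, T_f, T_c, T_bi, T_ci] M (Nat.sub (T_ci u) (Nat.mod (T_ci u) M)) (Nat.mod (T_ci u) M) u) (dp_ci_100 j u) (Nat.ble (nat_lit 111) j)
noncomputable def dp_ci_102 (j u : ℕ) : Bool :=
  Bool.rec (motive := fun _ => Bool) (lS MG [T_ci, T_bi, T_f, T_c, T_di, T_f, T_c, T_bi] M (Nat.sub (T_ci u) (Nat.mod (T_ci u) M)) (nat_lit 40) (Nat.mod (T_ci u) M) u) (lF [T_f, T_di, T_b, T_fi, T_di, T_di, T_ci, T_b] M (Nat.sub (T_ci u) (Nat.mod (T_ci u) M)) (Nat.mod (T_ci u) M) u) (Nat.ble (nat_lit 114) j)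
noncomputable def dp_ci_103 (j u : ℕ) : Bool :=
  Bool.rec (motive := fun _ => Bool) (lF [T_fi, T_bi, T_fi, T_ci, T_d, T_fi, T_fi, T_b] M (Nat.sub (T_ci u) (Nat.mod (T_ci u) M)) (Nat.mod (T_ci u) M) u) (lF [T_bi, T_ci, T_fi, T_b, T_b, T_di, T_f, T_f] M (Nat.sub (T_ci u) (Nat.mod (T_ci u) M)) (Nat.mod (T_ci u) M) u) (Nat.ble (nat_lit 116) j)
noncomputable def dp_ci_104 (j u : ℕ) : Bool :=
  Bool.rec (motive := fun _ => Bool) (dp_ci_102 j u) (dp_ci_103 j u) (Nat.ble (nat_lit 115) j)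
noncomputable def dp_ci_105 (j u : ℕ) : Bool :=
  Bool.rec (motive := fun _ => Bool) (dp_ci_101 j u) (dp_ci_104 j u) (Nat.ble (nat_lit 113) j)
noncomputable def dp_ci_106 (j u : ℕ) : Bool :=
  Bool.rec (motive := fun _ => Bool) (lS MG [T_di, T_fi, T_ci, T_ci, T_fi, T_c, T_c, T_b] M (Nat.sub (T_ci u) (Nat.mod (T_ci u) M)) (nat_lit 40) (Nat.mod (T_ci u) M) u) (lF [T_fi, T_b, T_c, T_c, T_b, T_ci, T_fi, T_d] M (Nat.sub (T_ci u) (Nat.mod (T_ci u) M)) (Nat.mod (T_ci u) M) u) (Nat.ble (nat_lit 118) j)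
noncomputable def dp_ci_107 (j u : ℕ) : Bool :=
  Bool.rec (motive := fun _ => Bool) (lF [T_fi, T_d, T_ci, T_fi, T_b, T_c, T_c, T_b] M (Nat.sub (T_ci u) (Nat.mod (T_ci u) M)) (Nat.mod (T_ci u) M) u) (lF [T_f, T_d, T_c, T_c, T_fi, T_di, T_fi, T_di] M (Nat.sub (T_ci u) (Nat.mod (T_ci u) M)) (Nat.mod (T_ci u) M) u) (Nat.ble (nat_lit 120) j)
noncomputable def dp_ci_108 (j u : ℕ) : Bool :=
  Bool.rec (motive := fun _ => Bool) (dp_ci_106 j u) (dp_ci_107 j u) (Nat.ble (nat_lit 119) j)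
noncomputable def dp_ci_109 (j u : ℕ) : Bool :=
  Bool.rec (motive := fun _ => Bool) (lF [T_ei, T_fi, T_e, T_f, T_ei, T_d, T_f, T_di] M (Nat.sub (T_ci u) (Nat.mod (T_ci u) M)) (Nat.mod (T_ci u) M) u) (lF [T_ci, T_fi, T_c, T_c, T_b, T_ci, T_di, T_fi] M (Nat.sub (T_ci u) (Nat.mod (T_ci u) M)) (Nat.mod (T_ci u) M) u) (Nat.ble (nat_lit 122) j)
noncomputable def dp_ci_110 (j u : ℕ) : Bool :=
  Bool.rec (motive := fun _ => Bool) (lF [T_d, T_ci, T_di, T_f, T_c, T_di, T_di, T_fi] M (Nat.sub (T_ci u) (Nat.mod (T_ci u) M)) (Nat.mod (T_ci u) M) u) (lS MG [T_f, T_c, T_c, T_f, T_d, T_c, T_bi, T_ci] M (Nat.sub (T_ci u) (Nat.mod (T_ci u) M)) (nat_lit 40) (Nat.mod (T_ci u) M) u) (Nat.ble (nat_lit 124) j)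
noncomputable def dp_ci_111 (j u : ℕ) : Bool :=
  Bool.rec (motive := fun _ => Bool) (dp_ci_109 j u) (dp_ci_110 j u) (Nat.ble (nat_lit 123) j)
noncomputable def dp_ci_112 (j u : ℕ) : Bool :=
  Bool.rec (motive := fun _ => Bool) (dp_ci_108 j u) (dp_ci_111 j u) (Nat.ble (nat_lit 121) j)
noncomputable def dp_ci_113 (j u : ℕ) : Bool :=
  Bool.rec (motive := fun _ => Bool) (lS MG [T_fi, T_di, T_b, T_f, T_di, T_b, T_ci, T_di] M (Nat.sub (T_ci u) (Nat.mod (T_ci u) M)) (nat_lit 40) (Nat.mod (T_ci u) M) u) (lS MG [T_d, T_c, T_di, T_fi, T_b, T_b, T_b, T_fi] M (Nat.sub (T_ci u) (Nat.mod (T_ci u) M)) (nat_lit 40) (Nat.mod (T_ci u) M) u) (Nat.ble (nat_lit 126) j)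
noncomputable def dp_ci_114 (j u : ℕ) : Bool :=
  Bool.rec (motive := fun _ => Bool) (lF [T_di, T_f, T_c, T_bi, T_d, T_ci, T_di, T_b] M (Nat.sub (T_ci u) (Nat.mod (T_ci u) M)) (Nat.mod (T_ci u) M) u) (lF [T_d, T_fi, T_fi, T_b, T_ci, T_fi, T_bi, T_fi] M (Nat.sub (T_ci u) (Nat.mod (T_ci u) M)) (Nat.mod (T_ci u) M) u) (Nat.ble (nat_lit 128) j)
noncomputable def dp_ci_115 (j u : ℕ) : Bool :=
  Bool.rec (motive := fun _ => Bool) (dp_ci_113 j u) (dp_ci_114 j u) (Nat.ble (nat_lit 127) j)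
noncomputable def dp_ci_116 (j u : ℕ) : Bool :=
  Bool.rec (motive := fun _ => Bool) (lS MG [T_d, T_b, T_b, T_c, T_bi, T_bi, T_bi, T_fi] M (Nat.sub (T_ci u) (Nat.mod (T_ci u) M)) (nat_lit 40) (Nat.mod (T_ci u) M) u) (lS MG [T_bi, T_bi, T_di, T_c, T_f, T_b, T_b, T_b] M (Nat.sub (T_ci u) (Nat.mod (T_ci u) M)) (nat_lit 40) (Nat.mod (T_ci u) M) u) (Nat.ble (nat_lit 130) j)
noncomputable def dp_ci_117 (j u : ℕ) : Bool :=
  Bool.rec (motive := fun _ => Bool) (lS MG [T_ci, T_di, T_fi, T_ci, T_d, T_ci, T_fi, T_fi] M (Nat.sub (T_ci u) (Nat.mod (T_ci u) M)) (nat_lit 40) (Nat.mod (T_ci u) M) u) (lS MG [T_bi, T_f, T_c, T_di, T_f, T_c, T_bi, T_ci] M (Nat.sub (T_ci u) (Nat.mod (T_ci u) M)) (nat_lit 40) (Nat.mod (T_ci u) M) u) (Nat.ble (nat_lit 132) j)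
noncomputable def dp_ci_118 (j u : ℕ) : Bool :=
  Bool.rec (motive := fun _ => Bool) (dp_ci_116 j u) (dp_ci_117 j u) (Nat.ble (nat_lit 131) j)
noncomputable def dp_ci_119 (j u : ℕ) : Bool :=
  Bool.rec (motive := fun _ => Bool) (dp_ci_115 j u) (dp_ci_118 j u) (Nat.ble (nat_lit 129) j)
noncomputable def dp_ci_120 (j u : ℕ) : Bool :=
  Bool.rec (motive := fun _ => Bool) (dp_ci_112 j u) (dp_ci_119 j u) (Nat.ble (nat_lit 125) j)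
noncomputable def dp_ci_121 (j u : ℕ) : Bool :=
  Bool.rec (motive := fun _ => Bool) (dp_ci_105 j u) (dp_ci_120 j u) (Nat.ble (nat_lit 117) j)
noncomputable def dp_ci_122 (j u : ℕ) : Bool :=
  Bool.rec (motive := fun _ => Bool) (dp_ci_99 j u) (dp_ci_121 j u) (Nat.ble (nat_lit 110) j)
noncomputable def dp_ci_123 (j u : ℕ) : Bool :=
  Bool.rec (motive := fun _ => Bool) (dp_ci_95 j u) (dp_ci_122 j u) (Nat.ble (nat_lit 105) j)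
noncomputable def dp_ci_124 (j u : ℕ) : Bool :=
  Bool.rec (motive := fun _ => Bool) (dp_ci_88 j u) (dp_ci_123 j u) (Nat.ble (nat_lit 97) j)
noncomputable def dp_ci_125 (j u : ℕ) : Bool :=
  Bool.rec (motive := fun _ => Bool) (dp_ci_77 j u) (dp_ci_124 j u) (Nat.ble (nat_lit 85) j)
noncomputable def dp_ci_126 (j u : ℕ) : Bool :=
  Bool.rec (motive := fun _ => Bool) (dp_ci_59 j u) (dp_ci_125 j u) (Nat.ble (nat_lit 66) j)
noncomputable def dp_ci_127 (j u : ℕ) : Bool :=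
  Bool.rec (motive := fun _ => Bool) (dp_ci_31 j u) (dp_ci_126 j u) (Nat.ble (nat_lit 37) j)
noncomputable def disp_ci (j u : ℕ) : Bool :=
  Bool.rec (motive := fun _ => Bool) (Bool.rec (motive := fun _ => Bool) (lF1 T_c M (Nat.sub (T_ci u) (Nat.mod (T_ci u) M)) (Nat.mod (T_ci u) M) u) (lDef P (nat_lit 4) u (Nat.mod (T_ci u) M)) (Nat.ble (nat_lit 1) j)) (Bool.rec (motive := fun _ => Bool) (Bool.rec (motive := fun _ => Bool) (lDef P (nat_lit 5) (Nat.mod (T_ci u) M) u) (lS MG [T_c] M (Nat.sub (T_ci u) (Nat.mod (T_ci u) M)) (nat_lit 40) (Nat.mod (T_ci u) M) u) (Nat.ble (nat_lit 3) j)) (dp_ci_127 j u) (Nat.ble (nat_lit 4) j)) (Nat.ble (nat_lit 2) j)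
noncomputable def chk_ci (j u : ℕ) : Bool :=
  Bool.rec (motive := fun _ => Bool) (disp_ci j u) (Nat.ble (Nat.succ (MG u)) A) (Nat.ble A (T_ci u))
noncomputable def dp_f_0 (j u : ℕ) : Bool :=
  Bool.rec (motive := fun _ => Bool) (lS MG [T_ei, T_fi, T_e, T_fi, T_d, T_ci, T_fi, T_e] M (Nat.sub (T_f u) (Nat.mod (T_f u) M)) (nat_lit 40) (Nat.mod (T_f u) M) u) (lF [T_c, T_di, T_bi, T_ci, T_b, T_d, T_f] M (Nat.sub (T_f u) (Nat.mod (T_f u) M)) (Nat.mod (T_f u) M) u) (Nat.ble (nat_lit 7) j)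
noncomputable def dp_f_1 (j u : ℕ) : Bool :=
  Bool.rec (motive := fun _ => Bool) (lS MG [T_e, T_fi, T_ei, T_f, T_c, T_di, T_f, T_ei] M (Nat.sub (T_f u) (Nat.mod (T_f u) M)) (nat_lit 40) (Nat.mod (T_f u) M) u) (dp_f_0 j u) (Nat.ble (nat_lit 6) j)
noncomputable def dp_f_2 (j u : ℕ) : Bool :=
  Bool.rec (motive := fun _ => Bool) (lS MG [T_di, T_b, T_c, T_di, T_ci, T_bi, T_d] M (Nat.sub (T_f u) (Nat.mod (T_f u) M)) (nat_lit 40) (Nat.mod (T_f u) M) u) (lF [T_e, T_fi, T_ei, T_f, T_c, T_di, T_f, T_ei] M (Nat.sub (T_f u) (Nat.mod (T_f u) M)) (Nat.mod (T_f u) M) u) (Nat.ble (nat_lit 10) j)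
noncomputable def dp_f_3 (j u : ℕ) : Bool :=
  Bool.rec (motive := fun _ => Bool) (lF [T_di, T_b, T_c, T_di, T_ci, T_bi, T_d] M (Nat.sub (T_f u) (Nat.mod (T_f u) M)) (Nat.mod (T_f u) M) u) (dp_f_2 j u) (Nat.ble (nat_lit 9) j)
noncomputable def dp_f_4 (j u : ℕ) : Bool :=
  Bool.rec (motive := fun _ => Bool) (dp_f_1 j u) (dp_f_3 j u) (Nat.ble (nat_lit 8) j)
noncomputable def dp_f_5 (j u : ℕ) : Bool :=
  Bool.rec (motive := fun _ => Bool) (lF [T_ei, T_fi, T_e, T_fi, T_d, T_ci, T_fi, T_e] M (Nat.sub (T_f u) (Nat.mod (T_f u) M)) (Nat.mod (T_f u) M) u) (lS MG [T_f, T_c, T_di, T_bi, T_ci, T_b, T_d] M (Nat.sub (T_f u) (Nat.mod (T_f u) M)) (nat_lit 40) (Nat.mod (T_f u) M) u) (Nat.ble (nat_lit 13) j)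
noncomputable def dp_f_6 (j u : ℕ) : Bool :=
  Bool.rec (motive := fun _ => Bool) (lS MG [T_b, T_ci, T_fi, T_b, T_di, T_di, T_ci] M (Nat.sub (T_f u) (Nat.mod (T_f u) M)) (nat_lit 40) (Nat.mod (T_f u) M) u) (dp_f_5 j u) (Nat.ble (nat_lit 12) j)
noncomputable def dp_f_7 (j u : ℕ) : Bool :=
  Bool.rec (motive := fun _ => Bool) (lF [T_ci, T_f, T_di, T_b, T_ci, T_d, T_b] M (Nat.sub (T_f u) (Nat.mod (T_f u) M)) (Nat.mod (T_f u) M) u) (lF [T_c, T_b, T_c, T_d, T_f, T_b, T_di] M (Nat.sub (T_f u) (Nat.mod (T_f u) M)) (Nat.mod (T_f u) M) u) (Nat.ble (nat_lit 15) j)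
noncomputable def dp_f_8 (j u : ℕ) : Bool :=
  Bool.rec (motive := fun _ => Bool) (lF [T_f, T_c, T_di, T_bi, T_ci, T_b, T_d] M (Nat.sub (T_f u) (Nat.mod (T_f u) M)) (Nat.mod (T_f u) M) u) (lS MG [T_bi, T_di, T_di, T_fi, T_bi, T_ci, T_di] M (Nat.sub (T_f u) (Nat.mod (T_f u) M)) (nat_lit 40) (Nat.mod (T_f u) M) u) (Nat.ble (nat_lit 17) j)
noncomputable def dp_f_9 (j u : ℕ) : Bool :=
  Bool.rec (motive := fun _ => Bool) (dp_f_7 j u) (dp_f_8 j u) (Nat.ble (nat_lit 16) j)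
noncomputable def dp_f_10 (j u : ℕ) : Bool :=
  Bool.rec (motive := fun _ => Bool) (dp_f_6 j u) (dp_f_9 j u) (Nat.ble (nat_lit 14) j)
noncomputable def dp_f_11 (j u : ℕ) : Bool :=
  Bool.rec (motive := fun _ => Bool) (dp_f_4 j u) (dp_f_10 j u) (Nat.ble (nat_lit 11) j)
noncomputable def dp_f_12 (j u : ℕ) : Bool :=
  Bool.rec (motive := fun _ => Bool) (lS MG [T_c, T_bi, T_fi, T_c, T_d, T_d, T_bi] M (Nat.sub (T_f u) (Nat.mod (T_f u) M)) (nat_lit 40) (Nat.mod (T_f u) M) u) (lS MG [T_c, T_di, T_bi, T_ci, T_b, T_d, T_f] M (Nat.sub (T_f u) (Nat.mod (T_f u) M)) (nat_lit 40) (Nat.mod (T_f u) M) u) (Nat.ble (nat_lit 19) j)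
noncomputable def dp_f_13 (j u : ℕ) : Bool :=
  Bool.rec (motive := fun _ => Bool) (lF [T_f, T_di, T_fi, T_di, T_di, T_f, T_di] M (Nat.sub (T_f u) (Nat.mod (T_f u) M)) (Nat.mod (T_f u) M) u) (lS MG [T_b, T_c, T_b, T_ci, T_bi, T_di, T_di] M (Nat.sub (T_f u) (Nat.mod (T_f u) M)) (nat_lit 40) (Nat.mod (T_f u) M) u) (Nat.ble (nat_lit 21) j)
noncomputable def dp_f_14 (j u : ℕ) : Bool :=
  Bool.rec (motive := fun _ => Bool) (dp_f_12 j u) (dp_f_13 j u) (Nat.ble (nat_lit 20) j)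
noncomputable def dp_f_15 (j u : ℕ) : Bool :=
  Bool.rec (motive := fun _ => Bool) (lS MG [T_ci, T_f, T_di, T_b, T_ci, T_d, T_b] M (Nat.sub (T_f u) (Nat.mod (T_f u) M)) (nat_lit 40) (Nat.mod (T_f u) M) u) (lF [T_d, T_f, T_b, T_c, T_bi, T_ci, T_bi] M (Nat.sub (T_f u) (Nat.mod (T_f u) M)) (Nat.mod (T_f u) M) u) (Nat.ble (nat_lit 23) j)
noncomputable def dp_f_16 (j u : ℕ) : Bool :=
  Bool.rec (motive := fun _ => Bool) (lF [T_c, T_di, T_b, T_f, T_c, T_di, T_b] M (Nat.sub (T_f u) (Nat.mod (T_f u) M)) (Nat.mod (T_f u) M) u) (lS MG [T_bi, T_c, T_fi, T_di, T_ci, T_b, T_di] M (Nat.sub (T_f u) (Nat.mod (T_f u) M)) (nat_lit 40) (Nat.mod (T_f u) M) u) (Nat.ble (nat_lit 25) j)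
noncomputable def dp_f_17 (j u : ℕ) : Bool :=
  Bool.rec (motive := fun _ => Bool) (dp_f_15 j u) (dp_f_16 j u) (Nat.ble (nat_lit 24) j)
noncomputable def dp_f_18 (j u : ℕ) : Bool :=
  Bool.rec (motive := fun _ => Bool) (dp_f_14 j u) (dp_f_17 j u) (Nat.ble (nat_lit 22) j)
noncomputable def dp_f_19 (j u : ℕ) : Bool :=
  Bool.rec (motive := fun _ => Bool) (lF [T_bi, T_c, T_fi, T_di, T_ci, T_b, T_di] M (Nat.sub (T_f u) (Nat.mod (T_f u) M)) (Nat.mod (T_f u) M) u) (lS MG [T_b, T_fi, T_c, T_c, T_fi, T_bi, T_c] M (Nat.sub (T_f u) (Nat.mod (T_f u) M)) (nat_lit 40) (Nat.mod (T_f u) M) u) (Nat.ble (nat_lit 27) j)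
noncomputable def dp_f_20 (j u : ℕ) : Bool :=
  Bool.rec (motive := fun _ => Bool) (lS MG [T_ci, T_b, T_fi, T_d, T_bi, T_c, T_d] M (Nat.sub (T_f u) (Nat.mod (T_f u) M)) (nat_lit 40) (Nat.mod (T_f u) M) u) (lF [T_b, T_c, T_b, T_ci, T_bi, T_di, T_di] M (Nat.sub (T_f u) (Nat.mod (T_f u) M)) (Nat.mod (T_f u) M) u) (Nat.ble (nat_lit 29) j)
noncomputable def dp_f_21 (j u : ℕ) : Bool :=
  Bool.rec (motive := fun _ => Bool) (dp_f_19 j u) (dp_f_20 j u) (Nat.ble (nat_lit 28) j)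
noncomputable def dp_f_22 (j u : ℕ) : Bool :=
  Bool.rec (motive := fun _ => Bool) (lS MG [T_d, T_f, T_b, T_c, T_bi, T_ci, T_bi] M (Nat.sub (T_f u) (Nat.mod (T_f u) M)) (nat_lit 40) (Nat.mod (T_f u) M) u) (lF [T_bi, T_di, T_di, T_fi, T_bi, T_ci, T_di] M (Nat.sub (T_f u) (Nat.mod (T_f u) M)) (Nat.mod (T_f u) M) u) (Nat.ble (nat_lit 31) j)
noncomputable def dp_f_23 (j u : ℕ) : Bool :=
  Bool.rec (motive := fun _ => Bool) (lF [T_c, T_bi, T_fi, T_c, T_d, T_d, T_bi] M (Nat.sub (T_f u) (Nat.mod (T_f u) M)) (Nat.mod (T_f u) M) u) (lS MG [T_e, T_c, T_di, T_f, T_f, T_e, T_fi, T_ei] M (Nat.sub (T_f u) (Nat.mod (T_f u) M)) (nat_lit 40) (Nat.mod (T_f u) M) u) (Nat.ble (nat_lit 34) j)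
noncomputable def dp_f_24 (j u : ℕ) : Bool :=
  Bool.rec (motive := fun _ => Bool) (lS MG [T_c, T_bi, T_bi, T_ci, T_di, T_b, T_f] M (Nat.sub (T_f u) (Nat.mod (T_f u) M)) (nat_lit 40) (Nat.mod (T_f u) M) u) (dp_f_23 j u) (Nat.ble (nat_lit 33) j)
noncomputable def dp_f_25 (j u : ℕ) : Bool :=
  Bool.rec (motive := fun _ => Bool) (dp_f_22 j u) (dp_f_24 j u) (Nat.ble (nat_lit 32) j)
noncomputable def dp_f_26 (j u : ℕ) : Bool :=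
  Bool.rec (motive := fun _ => Bool) (dp_f_21 j u) (dp_f_25 j u) (Nat.ble (nat_lit 30) j)
noncomputable def dp_f_27 (j u : ℕ) : Bool :=
  Bool.rec (motive := fun _ => Bool) (dp_f_18 j u) (dp_f_26 j u) (Nat.ble (nat_lit 26) j)
noncomputable def dp_f_28 (j u : ℕ) : Bool :=
  Bool.rec (motive := fun _ => Bool) (dp_f_11 j u) (dp_f_27 j u) (Nat.ble (nat_lit 18) j)
noncomputable def dp_f_29 (j u : ℕ) : Bool :=
  Bool.rec (motive := fun _ => Bool) (lS MG [T_bi, T_fi, T_ci, T_b, T_f, T_ci, T_ci] M (Nat.sub (T_f u) (Nat.mod (T_f u) M)) (nat_lit 40) (Nat.mod (T_f u) M) u) (lS MG [T_b, T_di, T_f, T_c, T_b, T_c, T_d] M (Nat.sub (T_f u) (Nat.mod (T_f u) M)) (nat_lit 40) (Nat.mod (T_f u) M) u) (Nat.ble (nat_lit 36) j)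
noncomputable def dp_f_30 (j u : ℕ) : Bool :=
  Bool.rec (motive := fun _ => Bool) (lF [T_ci, T_b, T_fi, T_d, T_bi, T_c, T_d] M (Nat.sub (T_f u) (Nat.mod (T_f u) M)) (Nat.mod (T_f u) M) u) (lF [T_bi, T_fi, T_ci, T_b, T_f, T_ci, T_ci] M (Nat.sub (T_f u) (Nat.mod (T_f u) M)) (Nat.mod (T_f u) M) u) (Nat.ble (nat_lit 39) j)
noncomputable def dp_f_31 (j u : ℕ) : Bool :=
  Bool.rec (motive := fun _ => Bool) (lF [T_d, T_b, T_c, T_d, T_b, T_ci, T_bi] M (Nat.sub (T_f u) (Nat.mod (T_f u) M)) (Nat.mod (T_f u) M) u) (dp_f_30 j u) (Nat.ble (nat_lit 38) j)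
noncomputable def dp_f_32 (j u : ℕ) : Bool :=
  Bool.rec (motive := fun _ => Bool) (dp_f_29 j u) (dp_f_31 j u) (Nat.ble (nat_lit 37) j)
noncomputable def dp_f_33 (j u : ℕ) : Bool :=
  Bool.rec (motive := fun _ => Bool) (lF [T_d, T_d, T_ci, T_f, T_d, T_d, T_ci] M (Nat.sub (T_f u) (Nat.mod (T_f u) M)) (Nat.mod (T_f u) M) u) (lS MG [T_di, T_b, T_ci, T_d, T_b, T_f, T_ci] M (Nat.sub (T_f u) (Nat.mod (T_f u) M)) (nat_lit 40) (Nat.mod (T_f u) M) u) (Nat.ble (nat_lit 41) j)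
noncomputable def dp_f_34 (j u : ℕ) : Bool :=
  Bool.rec (motive := fun _ => Bool) (lF [T_ci, T_d, T_b, T_ci, T_di, T_ci, T_bi] M (Nat.sub (T_f u) (Nat.mod (T_f u) M)) (Nat.mod (T_f u) M) u) (lF [T_f, T_c, T_bi, T_bi, T_ci, T_di, T_b] M (Nat.sub (T_f u) (Nat.mod (T_f u) M)) (Nat.mod (T_f u) M) u) (Nat.ble (nat_lit 44) j)
noncomputable def dp_f_35 (j u : ℕ) : Bool :=
  Bool.rec (motive := fun _ => Bool) (lF [T_b, T_f, T_di, T_c, T_fi, T_bi, T_bi] M (Nat.sub (T_f u) (Nat.mod (T_f u) M)) (Nat.mod (T_f u) M) u) (dp_f_34 j u) (Nat.ble (nat_lit 43) j)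
noncomputable def dp_f_36 (j u : ℕ) : Bool :=
  Bool.rec (motive := fun _ => Bool) (dp_f_33 j u) (dp_f_35 j u) (Nat.ble (nat_lit 42) j)
noncomputable def dp_f_37 (j u : ℕ) : Bool :=
  Bool.rec (motive := fun _ => Bool) (dp_f_32 j u) (dp_f_36 j u) (Nat.ble (nat_lit 40) j)
noncomputable def dp_f_38 (j u : ℕ) : Bool :=
  Bool.rec (motive := fun _ => Bool) (lF [T_b, T_di, T_f, T_c, T_b, T_c, T_d] M (Nat.sub (T_f u) (Nat.mod (T_f u) M)) (Nat.mod (T_f u) M) u) (lS MG [T_d, T_d, T_ci, T_f, T_d, T_d, T_ci] M (Nat.sub (T_f u) (Nat.mod (T_f u) M)) (nat_lit 40) (Nat.mod (T_f u) M) u) (Nat.ble (nat_lit 46) j)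
noncomputable def dp_f_39 (j u : ℕ) : Bool :=
  Bool.rec (motive := fun _ => Bool) (lF [T_d, T_fi, T_fi, T_d, T_fi, T_d, T_d] M (Nat.sub (T_f u) (Nat.mod (T_f u) M)) (Nat.mod (T_f u) M) u) (lS MG [T_di, T_ci, T_ci, T_bi, T_ci, T_b, T_di] M (Nat.sub (T_f u) (Nat.mod (T_f u) M)) (nat_lit 40) (Nat.mod (T_f u) M) u) (Nat.ble (nat_lit 49) j)
noncomputable def dp_f_40 (j u : ℕ) : Bool :=
  Bool.rec (motive := fun _ => Bool) (lS MG [T_di, T_fi, T_di, T_di, T_f, T_di, T_f] M (Nat.sub (T_f u) (Nat.mod (T_f u) M)) (nat_lit 40) (Nat.mod (T_f u) M) u) (dp_f_39 j u) (Nat.ble (nat_lit 48) j)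
noncomputable def dp_f_41 (j u : ℕ) : Bool :=
  Bool.rec (motive := fun _ => Bool) (dp_f_38 j u) (dp_f_40 j u) (Nat.ble (nat_lit 47) j)
noncomputable def dp_f_42 (j u : ℕ) : Bool :=
  Bool.rec (motive := fun _ => Bool) (lS MG [T_f, T_c, T_bi, T_bi, T_ci, T_di, T_b] M (Nat.sub (T_f u) (Nat.mod (T_f u) M)) (nat_lit 40) (Nat.mod (T_f u) M) u) (lS MG [T_b, T_f, T_di, T_c, T_fi, T_bi, T_bi] M (Nat.sub (T_f u) (Nat.mod (T_f u) M)) (nat_lit 40) (Nat.mod (T_f u) M) u) (Nat.ble (nat_lit 52) j)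
noncomputable def dp_f_43 (j u : ℕ) : Bool :=
  Bool.rec (motive := fun _ => Bool) (lF [T_b, T_fi, T_c, T_c, T_fi, T_bi, T_c] M (Nat.sub (T_f u) (Nat.mod (T_f u) M)) (Nat.mod (T_f u) M) u) (dp_f_42 j u) (Nat.ble (nat_lit 51) j)
noncomputable def dp_f_44 (j u : ℕ) : Bool :=
  Bool.rec (motive := fun _ => Bool) (lF [T_c, T_bi, T_bi, T_ci, T_di, T_b, T_f] M (Nat.sub (T_f u) (Nat.mod (T_f u) M)) (Nat.mod (T_f u) M) u) (lF [T_ei, T_fi, T_fi, T_d, T_ci, T_ei, T_fi, T_e] M (Nat.sub (T_f u) (Nat.mod (T_f u) M)) (Nat.mod (T_f u) M) u) (Nat.ble (nat_lit 55) j)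
noncomputable def dp_f_45 (j u : ℕ) : Bool :=
  Bool.rec (motive := fun _ => Bool) (lF [T_b, T_c, T_bi, T_ci, T_bi, T_f, T_d] M (Nat.sub (T_f u) (Nat.mod (T_f u) M)) (Nat.mod (T_f u) M) u) (dp_f_44 j u) (Nat.ble (nat_lit 54) j)
noncomputable def dp_f_46 (j u : ℕ) : Bool :=
  Bool.rec (motive := fun _ => Bool) (dp_f_43 j u) (dp_f_45 j u) (Nat.ble (nat_lit 53) j)
noncomputable def dp_f_47 (j u : ℕ) : Bool :=
  Bool.rec (motive := fun _ => Bool) (dp_f_41 j u) (dp_f_46 j u) (Nat.ble (nat_lit 50) j)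
noncomputable def dp_f_48 (j u : ℕ) : Bool :=
  Bool.rec (motive := fun _ => Bool) (dp_f_37 j u) (dp_f_47 j u) (Nat.ble (nat_lit 45) j)
noncomputable def dp_f_49 (j u : ℕ) : Bool :=
  Bool.rec (motive := fun _ => Bool) (lS MG [T_f, T_di, T_fi, T_di, T_di, T_f, T_di] M (Nat.sub (T_f u) (Nat.mod (T_f u) M)) (nat_lit 40) (Nat.mod (T_f u) M) u) (lF [T_di, T_fi, T_di, T_di, T_f, T_di, T_f] M (Nat.sub (T_f u) (Nat.mod (T_f u) M)) (Nat.mod (T_f u) M) u) (Nat.ble (nat_lit 58) j)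
noncomputable def dp_f_50 (j u : ℕ) : Bool :=
  Bool.rec (motive := fun _ => Bool) (lS MG [T_d, T_fi, T_fi, T_d, T_fi, T_d, T_d] M (Nat.sub (T_f u) (Nat.mod (T_f u) M)) (nat_lit 40) (Nat.mod (T_f u) M) u) (dp_f_49 j u) (Nat.ble (nat_lit 57) j)
noncomputable def dp_f_51 (j u : ℕ) : Bool :=
  Bool.rec (motive := fun _ => Bool) (lS MG [T_b, T_c, T_bi, T_ci, T_bi, T_f, T_d] M (Nat.sub (T_f u) (Nat.mod (T_f u) M)) (nat_lit 40) (Nat.mod (T_f u) M) u) (lS MG [T_ci, T_d, T_fi, T_bi, T_fi, T_b, T_b] M (Nat.sub (T_f u) (Nat.mod (T_f u) M)) (nat_lit 40) (Nat.mod (T_f u) M) u) (Nat.ble (nat_lit 60) j)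
noncomputable def dp_f_52 (j u : ℕ) : Bool :=
  Bool.rec (motive := fun _ => Bool) (lS MG [T_d, T_d, T_b, T_fi, T_d, T_c, T_b] M (Nat.sub (T_f u) (Nat.mod (T_f u) M)) (nat_lit 40) (Nat.mod (T_f u) M) u) (lS MG [T_d, T_b, T_c, T_d, T_b, T_ci, T_bi] M (Nat.sub (T_f u) (Nat.mod (T_f u) M)) (nat_lit 40) (Nat.mod (T_f u) M) u) (Nat.ble (nat_lit 62) j)
noncomputable def dp_f_53 (j u : ℕ) : Bool :=
  Bool.rec (motive := fun _ => Bool) (dp_f_51 j u) (dp_f_52 j u) (Nat.ble (nat_lit 61) j)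
noncomputable def dp_f_54 (j u : ℕ) : Bool :=
  Bool.rec (motive := fun _ => Bool) (dp_f_50 j u) (dp_f_53 j u) (Nat.ble (nat_lit 59) j)
noncomputable def dp_f_55 (j u : ℕ) : Bool :=
  Bool.rec (motive := fun _ => Bool) (lS MG [T_ei, T_fi, T_fi, T_d, T_ci, T_ei, T_fi, T_e] M (Nat.sub (T_f u) (Nat.mod (T_f u) M)) (nat_lit 40) (Nat.mod (T_f u) M) u) (lF [T_di, T_ci, T_ci, T_bi, T_ci, T_b, T_di] M (Nat.sub (T_f u) (Nat.mod (T_f u) M)) (Nat.mod (T_f u) M) u) (Nat.ble (nat_lit 64) j)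
noncomputable def dp_f_56 (j u : ℕ) : Bool :=
  Bool.rec (motive := fun _ => Bool) (lS MG [T_c, T_di, T_b, T_f, T_c, T_di, T_b] M (Nat.sub (T_f u) (Nat.mod (T_f u) M)) (nat_lit 40) (Nat.mod (T_f u) M) u) (lS MG [T_ci, T_d, T_b, T_ci, T_di, T_ci, T_bi] M (Nat.sub (T_f u) (Nat.mod (T_f u) M)) (nat_lit 40) (Nat.mod (T_f u) M) u) (Nat.ble (nat_lit 66) j)
noncomputable def dp_f_57 (j u : ℕ) : Bool :=
  Bool.rec (motive := fun _ => Bool) (dp_f_55 j u) (dp_f_56 j u) (Nat.ble (nat_lit 65) j)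
noncomputable def dp_f_58 (j u : ℕ) : Bool :=
  Bool.rec (motive := fun _ => Bool) (lS MG [T_di, T_c, T_fi, T_bi, T_bi, T_f, T_b] M (Nat.sub (T_f u) (Nat.mod (T_f u) M)) (nat_lit 40) (Nat.mod (T_f u) M) u) (lF [T_di, T_b, T_ci, T_d, T_b, T_f, T_ci] M (Nat.sub (T_f u) (Nat.mod (T_f u) M)) (Nat.mod (T_f u) M) u) (Nat.ble (nat_lit 68) j)
noncomputable def dp_f_59 (j u : ℕ) : Bool :=
  Bool.rec (motive := fun _ => Bool) (lS MG [T_c, T_b, T_c, T_d, T_f, T_b, T_di] M (Nat.sub (T_f u) (Nat.mod (T_f u) M)) (nat_lit 40) (Nat.mod (T_f u) M) u) (lF [T_e, T_c, T_di, T_f, T_f, T_e, T_fi, T_ei] M (Nat.sub (T_f u) (Nat.mod (T_f u) M)) (Nat.mod (T_f u) M) u) (Nat.ble (nat_lit 70) j)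
noncomputable def dp_f_60 (j u : ℕ) : Bool :=
  Bool.rec (motive := fun _ => Bool) (dp_f_58 j u) (dp_f_59 j u) (Nat.ble (nat_lit 69) j)
noncomputable def dp_f_61 (j u : ℕ) : Bool :=
  Bool.rec (motive := fun _ => Bool) (dp_f_57 j u) (dp_f_60 j u) (Nat.ble (nat_lit 67) j)
noncomputable def dp_f_62 (j u : ℕ) : Bool :=
  Bool.rec (motive := fun _ => Bool) (dp_f_54 j u) (dp_f_61 j u) (Nat.ble (nat_lit 63) j)
noncomputable def dp_f_63 (j u : ℕ) : Bool :=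
  Bool.rec (motive := fun _ => Bool) (lS MG [T_ci, T_b, T_e, T_di, T_fi, T_bi, T_f, T_e] M (Nat.sub (T_f u) (Nat.mod (T_f u) M)) (nat_lit 40) (Nat.mod (T_f u) M) u) (lF [T_b, T_c, T_bi, T_bi, T_di, T_ci, T_bi] M (Nat.sub (T_f u) (Nat.mod (T_f u) M)) (Nat.mod (T_f u) M) u) (Nat.ble (nat_lit 72) j)
noncomputable def dp_f_64 (j u : ℕ) : Bool :=
  Bool.rec (motive := fun _ => Bool) (lF [T_d, T_d, T_b, T_fi, T_d, T_c, T_b] M (Nat.sub (T_f u) (Nat.mod (T_f u) M)) (Nat.mod (T_f u) M) u) (lS MG [T_b, T_c, T_bi, T_bi, T_di, T_ci, T_bi] M (Nat.sub (T_f u) (Nat.mod (T_f u) M)) (nat_lit 40) (Nat.mod (T_f u) M) u) (Nat.ble (nat_lit 74) j)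
noncomputable def dp_f_65 (j u : ℕ) : Bool :=
  Bool.rec (motive := fun _ => Bool) (dp_f_63 j u) (dp_f_64 j u) (Nat.ble (nat_lit 73) j)
noncomputable def dp_f_66 (j u : ℕ) : Bool :=
  Bool.rec (motive := fun _ => Bool) (lF [T_di, T_f, T_f, T_di, T_fi, T_di, T_di] M (Nat.sub (T_f u) (Nat.mod (T_f u) M)) (Nat.mod (T_f u) M) u) (lF [T_ci, T_ci, T_f, T_bi, T_fi, T_ci, T_b] M (Nat.sub (T_f u) (Nat.mod (T_f u) M)) (Nat.mod (T_f u) M) u) (Nat.ble (nat_lit 77) j)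
noncomputable def dp_f_67 (j u : ℕ) : Bool :=
  Bool.rec (motive := fun _ => Bool) (lF [T_ci, T_d, T_fi, T_bi, T_fi, T_b, T_b] M (Nat.sub (T_f u) (Nat.mod (T_f u) M)) (Nat.mod (T_f u) M) u) (dp_f_66 j u) (Nat.ble (nat_lit 76) j)
noncomputable def dp_f_68 (j u : ℕ) : Bool :=
  Bool.rec (motive := fun _ => Bool) (lS MG [T_di, T_f, T_f, T_di, T_fi, T_di, T_di] M (Nat.sub (T_f u) (Nat.mod (T_f u) M)) (nat_lit 40) (Nat.mod (T_f u) M) u) (lF [T_ei, T_f, T_e, T_fi, T_ei, T_f, T_c, T_di] M (Nat.sub (T_f u) (Nat.mod (T_f u) M)) (Nat.mod (T_f u) M) u) (Nat.ble (nat_lit 80) j)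
noncomputable def dp_f_69 (j u : ℕ) : Bool :=
  Bool.rec (motive := fun _ => Bool) (lS MG [T_ci, T_ci, T_f, T_bi, T_fi, T_ci, T_b] M (Nat.sub (T_f u) (Nat.mod (T_f u) M)) (nat_lit 40) (Nat.mod (T_f u) M) u) (dp_f_68 j u) (Nat.ble (nat_lit 79) j)
noncomputable def dp_f_70 (j u : ℕ) : Bool :=
  Bool.rec (motive := fun _ => Bool) (dp_f_67 j u) (dp_f_69 j u) (Nat.ble (nat_lit 78) j)
noncomputable def dp_f_71 (j u : ℕ) : Bool :=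
  Bool.rec (motive := fun _ => Bool) (dp_f_65 j u) (dp_f_70 j u) (Nat.ble (nat_lit 75) j)
noncomputable def dp_f_72 (j u : ℕ) : Bool :=
  Bool.rec (motive := fun _ => Bool) (lS MG [T_ei, T_d, T_f, T_di, T_ci, T_ei, T_fi, T_e] M (Nat.sub (T_f u) (Nat.mod (T_f u) M)) (nat_lit 40) (Nat.mod (T_f u) M) u) (lF [T_di, T_c, T_fi, T_bi, T_bi, T_f, T_b] M (Nat.sub (T_f u) (Nat.mod (T_f u) M)) (Nat.mod (T_f u) M) u) (Nat.ble (nat_lit 83) j)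
noncomputable def dp_f_73 (j u : ℕ) : Bool :=
  Bool.rec (motive := fun _ => Bool) (lS MG [T_d, T_ei, T_bi, T_c, T_fi, T_ei, T_fi, T_b] M (Nat.sub (T_f u) (Nat.mod (T_f u) M)) (nat_lit 40) (Nat.mod (T_f u) M) u) (dp_f_72 j u) (Nat.ble (nat_lit 82) j)
noncomputable def dp_f_74 (j u : ℕ) : Bool :=
  Bool.rec (motive := fun _ => Bool) (lS MG [T_e, T_c, T_d, T_fi, T_di, T_e, T_fi, T_ei] M (Nat.sub (T_f u) (Nat.mod (T_f u) M)) (nat_lit 40) (Nat.mod (T_f u) M) u) (lF [T_e, T_fi, T_ei, T_f, T_e, T_c, T_di, T_f] M (Nat.sub (T_f u) (Nat.mod (T_f u) M)) (Nat.mod (T_f u) M) u) (Nat.ble (nat_lit 85) j)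
noncomputable def dp_f_75 (j u : ℕ) : Bool :=
  Bool.rec (motive := fun _ => Bool) (lS MG [T_c, T_di, T_f, T_ei, T_f, T_e, T_fi, T_ei] M (Nat.sub (T_f u) (Nat.mod (T_f u) M)) (nat_lit 40) (Nat.mod (T_f u) M) u) (lF [T_e, T_f, T_ci, T_b, T_e, T_di, T_fi, T_bi] M (Nat.sub (T_f u) (Nat.mod (T_f u) M)) (Nat.mod (T_f u) M) u) (Nat.ble (nat_lit 88) j)
noncomputable def dp_f_76 (j u : ℕ) : Bool :=
  Bool.rec (motive := fun _ => Bool) (lF [T_di, T_ci, T_ei, T_fi, T_e, T_f, T_ei, T_d] M (Nat.sub (T_f u) (Nat.mod (T_f u) M)) (Nat.mod (T_f u) M) u) (dp_f_75 j u) (Nat.ble (nat_lit 87) j)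
noncomputable def dp_f_77 (j u : ℕ) : Bool :=
  Bool.rec (motive := fun _ => Bool) (dp_f_74 j u) (dp_f_76 j u) (Nat.ble (nat_lit 86) j)
noncomputable def dp_f_78 (j u : ℕ) : Bool :=
  Bool.rec (motive := fun _ => Bool) (dp_f_73 j u) (dp_f_77 j u) (Nat.ble (nat_lit 84) j)
noncomputable def dp_f_79 (j u : ℕ) : Bool :=
  Bool.rec (motive := fun _ => Bool) (lF [T_c, T_di, T_f, T_ei, T_f, T_e, T_fi, T_ei] M (Nat.sub (T_f u) (Nat.mod (T_f u) M)) (Nat.mod (T_f u) M) u) (lF [T_d, T_ei, T_bi, T_c, T_fi, T_ei, T_fi, T_b] M (Nat.sub (T_f u) (Nat.mod (T_f u) M)) (Nat.mod (T_f u) M) u) (Nat.ble (nat_lit 91) j)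
noncomputable def dp_f_80 (j u : ℕ) : Bool :=
  Bool.rec (motive := fun _ => Bool) (lS MG [T_e, T_f, T_ci, T_b, T_e, T_di, T_fi, T_bi] M (Nat.sub (T_f u) (Nat.mod (T_f u) M)) (nat_lit 40) (Nat.mod (T_f u) M) u) (dp_f_79 j u) (Nat.ble (nat_lit 90) j)
noncomputable def dp_f_81 (j u : ℕ) : Bool :=
  Bool.rec (motive := fun _ => Bool) (lS MG [T_ei, T_f, T_e, T_fi, T_ei, T_f, T_c, T_di] M (Nat.sub (T_f u) (Nat.mod (T_f u) M)) (nat_lit 40) (Nat.mod (T_f u) M) u) (lF [T_e, T_c, T_d, T_fi, T_di, T_e, T_fi, T_ei] M (Nat.sub (T_f u) (Nat.mod (T_f u) M)) (Nat.mod (T_f u) M) u) (Nat.ble (nat_lit 93) j)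
noncomputable def dp_f_82 (j u : ℕ) : Bool :=
  Bool.rec (motive := fun _ => Bool) (lF [T_ci, T_b, T_e, T_di, T_fi, T_bi, T_f, T_e] M (Nat.sub (T_f u) (Nat.mod (T_f u) M)) (Nat.mod (T_f u) M) u) (lF [T_f, T_e, T_fi, T_ei, T_f, T_e, T_c, T_di] M (Nat.sub (T_f u) (Nat.mod (T_f u) M)) (Nat.mod (T_f u) M) u) (Nat.ble (nat_lit 95) j)
noncomputable def dp_f_83 (j u : ℕ) : Bool :=
  Bool.rec (motive := fun _ => Bool) (dp_f_81 j u) (dp_f_82 j u) (Nat.ble (nat_lit 94) j)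
noncomputable def dp_f_84 (j u : ℕ) : Bool :=
  Bool.rec (motive := fun _ => Bool) (dp_f_80 j u) (dp_f_83 j u) (Nat.ble (nat_lit 92) j)
noncomputable def dp_f_85 (j u : ℕ) : Bool :=
  Bool.rec (motive := fun _ => Bool) (lF [T_d, T_c, T_c, T_f, T_f, T_c, T_di, T_c] M (Nat.sub (T_f u) (Nat.mod (T_f u) M)) (Nat.mod (T_f u) M) u) (lF [T_ei, T_d, T_f, T_di, T_ci, T_ei, T_fi, T_e] M (Nat.sub (T_f u) (Nat.mod (T_f u) M)) (Nat.mod (T_f u) M) u) (Nat.ble (nat_lit 98) j)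
noncomputable def dp_f_86 (j u : ℕ) : Bool :=
  Bool.rec (motive := fun _ => Bool) (lS MG [T_f, T_e, T_fi, T_ei, T_f, T_e, T_c, T_di] M (Nat.sub (T_f u) (Nat.mod (T_f u) M)) (nat_lit 40) (Nat.mod (T_f u) M) u) (dp_f_85 j u) (Nat.ble (nat_lit 97) j)
noncomputable def dp_f_87 (j u : ℕ) : Bool :=
  Bool.rec (motive := fun _ => Bool) (lF [T_d, T_f, T_ci, T_ci, T_di, T_fi, T_c, T_d] M (Nat.sub (T_f u) (Nat.mod (T_f u) M)) (Nat.mod (T_f u) M) u) (lS MG [T_di, T_ci, T_ei, T_fi, T_e, T_f, T_ei, T_d] M (Nat.sub (T_f u) (Nat.mod (T_f u) M)) (nat_lit 40) (Nat.mod (T_f u) M) u) (Nat.ble (nat_lit 100) j)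
noncomputable def dp_f_88 (j u : ℕ) : Bool :=
  Bool.rec (motive := fun _ => Bool) (lS MG [T_e, T_fi, T_ei, T_f, T_e, T_c, T_di, T_f] M (Nat.sub (T_f u) (Nat.mod (T_f u) M)) (nat_lit 40) (Nat.mod (T_f u) M) u) (lH [] [] M (Nat.sub (T_f u) (Nat.mod (T_f u) M)) (Nat.mod (T_f u) M) u) (Nat.ble (nat_lit 102) j)
noncomputable def dp_f_89 (j u : ℕ) : Bool :=
  Bool.rec (motive := fun _ => Bool) (dp_f_87 j u) (dp_f_88 j u) (Nat.ble (nat_lit 101) j)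
noncomputable def dp_f_90 (j u : ℕ) : Bool :=
  Bool.rec (motive := fun _ => Bool) (dp_f_86 j u) (dp_f_89 j u) (Nat.ble (nat_lit 99) j)
noncomputable def dp_f_91 (j u : ℕ) : Bool :=
  Bool.rec (motive := fun _ => Bool) (lS MG [T_bi, T_bi, T_bi, T_f, T_d, T_ci, T_di, T_c] M (Nat.sub (T_f u) (Nat.mod (T_f u) M)) (nat_lit 40) (Nat.mod (T_f u) M) u) (lS MG [T_f, T_c, T_di, T_c, T_f, T_d, T_c, T_c] M (Nat.sub (T_f u) (Nat.mod (T_f u) M)) (nat_lit 40) (Nat.mod (T_f u) M) u) (Nat.ble (nat_lit 104) j)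
noncomputable def dp_f_92 (j u : ℕ) : Bool :=
  Bool.rec (motive := fun _ => Bool) (lS MG [T_ci, T_ci, T_di, T_fi, T_c, T_d, T_f, T_d] M (Nat.sub (T_f u) (Nat.mod (T_f u) M)) (nat_lit 40) (Nat.mod (T_f u) M) u) (lF [T_f, T_c, T_di, T_c, T_f, T_d, T_c, T_c] M (Nat.sub (T_f u) (Nat.mod (T_f u) M)) (Nat.mod (T_f u) M) u) (Nat.ble (nat_lit 106) j)
noncomputable def dp_f_93 (j u : ℕ) : Bool :=
  Bool.rec (motive := fun _ => Bool) (dp_f_91 j u) (dp_f_92 j u) (Nat.ble (nat_lit 105) j)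
noncomputable def dp_f_94 (j u : ℕ) : Bool :=
  Bool.rec (motive := fun _ => Bool) (lS MG [T_c, T_c, T_f, T_d, T_c, T_bi, T_ci, T_ci] M (Nat.sub (T_f u) (Nat.mod (T_f u) M)) (nat_lit 40) (Nat.mod (T_f u) M) u) (lF [T_c, T_d, T_c, T_bi, T_d, T_fi, T_bi, T_d] M (Nat.sub (T_f u) (Nat.mod (T_f u) M)) (Nat.mod (T_f u) M) u) (Nat.ble (nat_lit 108) j)
noncomputable def dp_f_95 (j u : ℕ) : Bool :=
  Bool.rec (motive := fun _ => Bool) (lF [T_ci, T_ci, T_di, T_fi, T_c, T_d, T_f, T_d] M (Nat.sub (T_f u) (Nat.mod (T_f u) M)) (Nat.mod (T_f u) M) u) (lF [T_bi, T_bi, T_bi, T_f, T_d, T_ci, T_di, T_c] M (Nat.sub (T_f u) (Nat.mod (T_f u) M)) (Nat.mod (T_f u) M) u) (Nat.ble (nat_lit 110) j)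
noncomputable def dp_f_96 (j u : ℕ) : Bool :=
  Bool.rec (motive := fun _ => Bool) (dp_f_94 j u) (dp_f_95 j u) (Nat.ble (nat_lit 109) j)
noncomputable def dp_f_97 (j u : ℕ) : Bool :=
  Bool.rec (motive := fun _ => Bool) (dp_f_93 j u) (dp_f_96 j u) (Nat.ble (nat_lit 107) j)
noncomputable def dp_f_98 (j u : ℕ) : Bool :=
  Bool.rec (motive := fun _ => Bool) (lS MG [T_d, T_c, T_c, T_f, T_f, T_c, T_di, T_c] M (Nat.sub (T_f u) (Nat.mod (T_f u) M)) (nat_lit 40) (Nat.mod (T_f u) M) u) (lS MG [T_di, T_b, T_ci, T_di, T_ci, T_fi, T_di, T_b] M (Nat.sub (T_f u) (Nat.mod (T_f u) M)) (nat_lit 40) (Nat.mod (T_f u) M) u) (Nat.ble (nat_lit 112) j)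
noncomputable def dp_f_99 (j u : ℕ) : Bool :=
  Bool.rec (motive := fun _ => Bool) (lS MG [T_d, T_c, T_bi, T_ci, T_ci, T_f, T_c, T_c] M (Nat.sub (T_f u) (Nat.mod (T_f u) M)) (nat_lit 40) (Nat.mod (T_f u) M) u) (lS MG [T_b, T_d, T_c, T_bi, T_ci, T_b, T_b, T_di] M (Nat.sub (T_f u) (Nat.mod (T_f u) M)) (nat_lit 40) (Nat.mod (T_f u) M) u) (Nat.ble (nat_lit 114) j)
noncomputable def dp_f_100 (j u : ℕ) : Bool :=
  Bool.rec (motive := fun _ => Bool) (dp_f_98 j u) (dp_f_99 j u) (Nat.ble (nat_lit 113) j)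
noncomputable def dp_f_101 (j u : ℕ) : Bool :=
  Bool.rec (motive := fun _ => Bool) (lS MG [T_c, T_di, T_f, T_c, T_bi, T_ci, T_ci, T_bi] M (Nat.sub (T_f u) (Nat.mod (T_f u) M)) (nat_lit 40) (Nat.mod (T_f u) M) u) (lF [T_d, T_c, T_bi, T_ci, T_ci, T_f, T_c, T_c] M (Nat.sub (T_f u) (Nat.mod (T_f u) M)) (Nat.mod (T_f u) M) u) (Nat.ble (nat_lit 116) j)
noncomputable def dp_f_102 (j u : ℕ) : Bool :=
  Bool.rec (motive := fun _ => Bool) (lF [T_c, T_di, T_f, T_c, T_bi, T_ci, T_ci, T_bi] M (Nat.sub (T_f u) (Nat.mod (T_f u) M)) (Nat.mod (T_f u) M) u) (lF [T_c, T_bi, T_d, T_ci, T_di, T_b, T_ci, T_di] M (Nat.sub (T_f u) (Nat.mod (T_f u) M)) (Nat.mod (T_f u) M) u) (Nat.ble (nat_lit 118) j)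
noncomputable def dp_f_103 (j u : ℕ) : Bool :=
  Bool.rec (motive := fun _ => Bool) (dp_f_101 j u) (dp_f_102 j u) (Nat.ble (nat_lit 117) j)
noncomputable def dp_f_104 (j u : ℕ) : Bool :=
  Bool.rec (motive := fun _ => Bool) (dp_f_100 j u) (dp_f_103 j u) (Nat.ble (nat_lit 115) j)
noncomputable def dp_f_105 (j u : ℕ) : Bool :=
  Bool.rec (motive := fun _ => Bool) (dp_f_97 j u) (dp_f_104 j u) (Nat.ble (nat_lit 111) j)
noncomputable def dp_f_106 (j u : ℕ) : Bool :=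
  Bool.rec (motive := fun _ => Bool) (dp_f_90 j u) (dp_f_105 j u) (Nat.ble (nat_lit 103) j)
noncomputable def dp_f_107 (j u : ℕ) : Bool :=
  Bool.rec (motive := fun _ => Bool) (dp_f_84 j u) (dp_f_106 j u) (Nat.ble (nat_lit 96) j)
noncomputable def dp_f_108 (j u : ℕ) : Bool :=
  Bool.rec (motive := fun _ => Bool) (dp_f_78 j u) (dp_f_107 j u) (Nat.ble (nat_lit 89) j)
noncomputable def dp_f_109 (j u : ℕ) : Bool :=
  Bool.rec (motive := fun _ => Bool) (dp_f_71 j u) (dp_f_108 j u) (Nat.ble (nat_lit 81) j)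
noncomputable def dp_f_110 (j u : ℕ) : Bool :=
  Bool.rec (motive := fun _ => Bool) (dp_f_62 j u) (dp_f_109 j u) (Nat.ble (nat_lit 71) j)
noncomputable def dp_f_111 (j u : ℕ) : Bool :=
  Bool.rec (motive := fun _ => Bool) (dp_f_48 j u) (dp_f_110 j u) (Nat.ble (nat_lit 56) j)
noncomputable def dp_f_112 (j u : ℕ) : Bool :=
  Bool.rec (motive := fun _ => Bool) (dp_f_28 j u) (dp_f_111 j u) (Nat.ble (nat_lit 35) j)
noncomputable def disp_f (j u : ℕ) : Bool :=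
  Bool.rec (motive := fun _ => Bool) (Bool.rec (motive := fun _ => Bool) (lF1 T_fi M (Nat.sub (T_f u) (Nat.mod (T_f u) M)) (Nat.mod (T_f u) M) u) (lDef P (nat_lit 6) (Nat.mod (T_f u) M) u) (Nat.ble (nat_lit 1) j)) (Bool.rec (motive := fun _ => Bool) (Bool.rec (motive := fun _ => Bool) (lDef P (nat_lit 7) u (Nat.mod (T_f u) M)) (Bool.rec (motive := fun _ => Bool) (lS MG [T_fi] M (Nat.sub (T_f u) (Nat.mod (T_f u) M)) (nat_lit 40) (Nat.mod (T_f u) M) u) (lF [T_b, T_ci, T_fi, T_b, T_di, T_di, T_ci] M (Nat.sub (T_f u) (Nat.mod (T_f u) M)) (Nat.mod (T_f u) M) u) (Nat.ble (nat_lit 4) j)) (Nat.ble (nat_lit 3) j)) (dp_f_112 j u) (Nat.ble (nat_lit 5) j)) (Nat.ble (nat_lit 2) j)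
noncomputable def chk_f (j u : ℕ) : Bool :=
  Bool.rec (motive := fun _ => Bool) (disp_f j u) (Nat.ble (Nat.succ (MG u)) A) (Nat.ble A (T_f u))
noncomputable def dp_fi_0 (j u : ℕ) : Bool :=
  Bool.rec (motive := fun _ => Bool) (lS MG [T_ei, T_f, T_c, T_di, T_f, T_ei, T_f, T_e] M (Nat.sub (T_fi u) (Nat.mod (T_fi u) M)) (nat_lit 40) (Nat.mod (T_fi u) M) u) (lF [T_ei, T_f, T_c, T_di, T_f, T_ei, T_f, T_e] M (Nat.sub (T_fi u) (Nat.mod (T_fi u) M)) (Nat.mod (T_fi u) M) u) (Nat.ble (nat_lit 7) j)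
noncomputable def dp_fi_1 (j u : ℕ) : Bool :=
  Bool.rec (motive := fun _ => Bool) (lF [T_c, T_d, T_d, T_bi, T_f, T_c, T_bi] M (Nat.sub (T_fi u) (Nat.mod (T_fi u) M)) (Nat.mod (T_fi u) M) u) (dp_fi_0 j u) (Nat.ble (nat_lit 6) j)
noncomputable def dp_fi_2 (j u : ℕ) : Bool :=
  Bool.rec (motive := fun _ => Bool) (lF [T_di, T_bi, T_c, T_b, T_d, T_ci, T_fi] M (Nat.sub (T_fi u) (Nat.mod (T_fi u) M)) (Nat.mod (T_fi u) M) u) (lF [T_d, T_c, T_b, T_f, T_d, T_d, T_b] M (Nat.sub (T_fi u) (Nat.mod (T_fi u) M)) (Nat.mod (T_fi u) M) u) (Nat.ble (nat_lit 10) j)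
noncomputable def dp_fi_3 (j u : ℕ) : Bool :=
  Bool.rec (motive := fun _ => Bool) (lS MG [T_c, T_d, T_d, T_bi, T_f, T_c, T_bi] M (Nat.sub (T_fi u) (Nat.mod (T_fi u) M)) (nat_lit 40) (Nat.mod (T_fi u) M) u) (dp_fi_2 j u) (Nat.ble (nat_lit 9) j)
noncomputable def dp_fi_4 (j u : ℕ) : Bool :=
  Bool.rec (motive := fun _ => Bool) (dp_fi_1 j u) (dp_fi_3 j u) (Nat.ble (nat_lit 8) j)
noncomputable def dp_fi_5 (j u : ℕ) : Bool :=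
  Bool.rec (motive := fun _ => Bool) (lF [T_di, T_b, T_c, T_d, T_ci, T_bi, T_d] M (Nat.sub (T_fi u) (Nat.mod (T_fi u) M)) (Nat.mod (T_fi u) M) u) (lF [T_b, T_c, T_b, T_ci, T_bi, T_fi, T_di] M (Nat.sub (T_fi u) (Nat.mod (T_fi u) M)) (Nat.mod (T_fi u) M) u) (Nat.ble (nat_lit 12) j)
noncomputable def dp_fi_6 (j u : ℕ) : Bool :=
  Bool.rec (motive := fun _ => Bool) (lF [T_b, T_di, T_di, T_ci, T_f, T_b, T_ci] M (Nat.sub (T_fi u) (Nat.mod (T_fi u) M)) (Nat.mod (T_fi u) M) u) (lS MG [T_di, T_bi, T_c, T_b, T_d, T_ci, T_fi] M (Nat.sub (T_fi u) (Nat.mod (T_fi u) M)) (nat_lit 40) (Nat.mod (T_fi u) M) u) (Nat.ble (nat_lit 14) j)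
noncomputable def dp_fi_7 (j u : ℕ) : Bool :=
  Bool.rec (motive := fun _ => Bool) (dp_fi_5 j u) (dp_fi_6 j u) (Nat.ble (nat_lit 13) j)
noncomputable def dp_fi_8 (j u : ℕ) : Bool :=
  Bool.rec (motive := fun _ => Bool) (lS MG [T_fi, T_di, T_bi, T_c, T_b, T_d, T_ci] M (Nat.sub (T_fi u) (Nat.mod (T_fi u) M)) (nat_lit 40) (Nat.mod (T_fi u) M) u) (lS MG [T_di, T_ci, T_bi, T_ci, T_fi, T_d, T_bi] M (Nat.sub (T_fi u) (Nat.mod (T_fi u) M)) (nat_lit 40) (Nat.mod (T_fi u) M) u) (Nat.ble (nat_lit 16) j)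
noncomputable def dp_fi_9 (j u : ℕ) : Bool :=
  Bool.rec (motive := fun _ => Bool) (lF [T_d, T_bi, T_c, T_d, T_f, T_ci, T_b] M (Nat.sub (T_fi u) (Nat.mod (T_fi u) M)) (Nat.mod (T_fi u) M) u) (lF [T_bi, T_di, T_c, T_bi, T_d, T_fi, T_c] M (Nat.sub (T_fi u) (Nat.mod (T_fi u) M)) (Nat.mod (T_fi u) M) u) (Nat.ble (nat_lit 18) j)
noncomputable def dp_fi_10 (j u : ℕ) : Bool :=
  Bool.rec (motive := fun _ => Bool) (dp_fi_8 j u) (dp_fi_9 j u) (Nat.ble (nat_lit 17) j)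
noncomputable def dp_fi_11 (j u : ℕ) : Bool :=
  Bool.rec (motive := fun _ => Bool) (dp_fi_7 j u) (dp_fi_10 j u) (Nat.ble (nat_lit 15) j)
noncomputable def dp_fi_12 (j u : ℕ) : Bool :=
  Bool.rec (motive := fun _ => Bool) (dp_fi_4 j u) (dp_fi_11 j u) (Nat.ble (nat_lit 11) j)
noncomputable def dp_fi_13 (j u : ℕ) : Bool :=
  Bool.rec (motive := fun _ => Bool) (lF [T_e, T_fi, T_d, T_ci, T_fi, T_e, T_f, T_ei] M (Nat.sub (T_fi u) (Nat.mod (T_fi u) M)) (Nat.mod (T_fi u) M) u) (lS MG [T_ci, T_b, T_f, T_ci, T_ci, T_f, T_bi] M (Nat.sub (T_fi u) (Nat.mod (T_fi u) M)) (nat_lit 40) (Nat.mod (T_fi u) M) u) (Nat.ble (nat_lit 20) j)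
noncomputable def dp_fi_14 (j u : ℕ) : Bool :=
  Bool.rec (motive := fun _ => Bool) (lS MG [T_di, T_b, T_c, T_d, T_ci, T_bi, T_d] M (Nat.sub (T_fi u) (Nat.mod (T_fi u) M)) (nat_lit 40) (Nat.mod (T_fi u) M) u) (lS MG [T_c, T_c, T_fi, T_bi, T_c, T_f, T_b] M (Nat.sub (T_fi u) (Nat.mod (T_fi u) M)) (nat_lit 40) (Nat.mod (T_fi u) M) u) (Nat.ble (nat_lit 22) j)
noncomputable def dp_fi_15 (j u : ℕ) : Bool :=
  Bool.rec (motive := fun _ => Bool) (dp_fi_13 j u) (dp_fi_14 j u) (Nat.ble (nat_lit 21) j)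
noncomputable def dp_fi_16 (j u : ℕ) : Bool :=
  Bool.rec (motive := fun _ => Bool) (lF [T_fi, T_d, T_fi, T_d, T_d, T_f, T_d] M (Nat.sub (T_fi u) (Nat.mod (T_fi u) M)) (Nat.mod (T_fi u) M) u) (lS MG [T_e, T_fi, T_d, T_ci, T_fi, T_e, T_f, T_ei] M (Nat.sub (T_fi u) (Nat.mod (T_fi u) M)) (nat_lit 40) (Nat.mod (T_fi u) M) u) (Nat.ble (nat_lit 24) j)
noncomputable def dp_fi_17 (j u : ℕ) : Bool :=
  Bool.rec (motive := fun _ => Bool) (lS MG [T_ei, T_f, T_e, T_c, T_di, T_f, T_f, T_e] M (Nat.sub (T_fi u) (Nat.mod (T_fi u) M)) (nat_lit 40) (Nat.mod (T_fi u) M) u) (lS MG [T_d, T_c, T_b, T_f, T_d, T_d, T_b] M (Nat.sub (T_fi u) (Nat.mod (T_fi u) M)) (nat_lit 40) (Nat.mod (T_fi u) M) u) (Nat.ble (nat_lit 26) j)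
noncomputable def dp_fi_18 (j u : ℕ) : Bool :=
  Bool.rec (motive := fun _ => Bool) (dp_fi_16 j u) (dp_fi_17 j u) (Nat.ble (nat_lit 25) j)
noncomputable def dp_fi_19 (j u : ℕ) : Bool :=
  Bool.rec (motive := fun _ => Bool) (dp_fi_15 j u) (dp_fi_18 j u) (Nat.ble (nat_lit 23) j)
noncomputable def dp_fi_20 (j u : ℕ) : Bool :=
  Bool.rec (motive := fun _ => Bool) (lS MG [T_e, T_f, T_ei, T_fi, T_fi, T_d, T_ci, T_ei] M (Nat.sub (T_fi u) (Nat.mod (T_fi u) M)) (nat_lit 40) (Nat.mod (T_fi u) M) u) (lF [T_b, T_b, T_f, T_ci, T_d, T_fi, T_bi] M (Nat.sub (T_fi u) (Nat.mod (T_fi u) M)) (Nat.mod (T_fi u) M) u) (Nat.ble (nat_lit 28) j)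
noncomputable def dp_fi_21 (j u : ℕ) : Bool :=
  Bool.rec (motive := fun _ => Bool) (lS MG [T_b, T_b, T_f, T_ci, T_d, T_fi, T_bi] M (Nat.sub (T_fi u) (Nat.mod (T_fi u) M)) (nat_lit 40) (Nat.mod (T_fi u) M) u) (lF [T_e, T_f, T_ei, T_fi, T_fi, T_d, T_ci, T_ei] M (Nat.sub (T_fi u) (Nat.mod (T_fi u) M)) (Nat.mod (T_fi u) M) u) (Nat.ble (nat_lit 30) j)
noncomputable def dp_fi_22 (j u : ℕ) : Bool :=
  Bool.rec (motive := fun _ => Bool) (dp_fi_20 j u) (dp_fi_21 j u) (Nat.ble (nat_lit 29) j)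
noncomputable def dp_fi_23 (j u : ℕ) : Bool :=
  Bool.rec (motive := fun _ => Bool) (lS MG [T_bi, T_di, T_c, T_bi, T_d, T_fi, T_c] M (Nat.sub (T_fi u) (Nat.mod (T_fi u) M)) (nat_lit 40) (Nat.mod (T_fi u) M) u) (lS MG [T_b, T_di, T_di, T_ci, T_f, T_b, T_ci] M (Nat.sub (T_fi u) (Nat.mod (T_fi u) M)) (nat_lit 40) (Nat.mod (T_fi u) M) u) (Nat.ble (nat_lit 32) j)
noncomputable def dp_fi_24 (j u : ℕ) : Bool :=
  Bool.rec (motive := fun _ => Bool) (lS MG [T_b, T_c, T_b, T_ci, T_bi, T_fi, T_di] M (Nat.sub (T_fi u) (Nat.mod (T_fi u) M)) (nat_lit 40) (Nat.mod (T_fi u) M) u) (lF [T_b, T_c, T_d, T_c, T_bi, T_di, T_c] M (Nat.sub (T_fi u) (Nat.mod (T_fi u) M)) (Nat.mod (T_fi u) M) u) (Nat.ble (nat_lit 35) j)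
noncomputable def dp_fi_25 (j u : ℕ) : Bool :=
  Bool.rec (motive := fun _ => Bool) (lS MG [T_d, T_d, T_b, T_c, T_bi, T_ci, T_bi] M (Nat.sub (T_fi u) (Nat.mod (T_fi u) M)) (nat_lit 40) (Nat.mod (T_fi u) M) u) (dp_fi_24 j u) (Nat.ble (nat_lit 34) j)
noncomputable def dp_fi_26 (j u : ℕ) : Bool :=
  Bool.rec (motive := fun _ => Bool) (dp_fi_23 j u) (dp_fi_25 j u) (Nat.ble (nat_lit 33) j)
noncomputable def dp_fi_27 (j u : ℕ) : Bool :=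
  Bool.rec (motive := fun _ => Bool) (dp_fi_22 j u) (dp_fi_26 j u) (Nat.ble (nat_lit 31) j)
noncomputable def dp_fi_28 (j u : ℕ) : Bool :=
  Bool.rec (motive := fun _ => Bool) (dp_fi_19 j u) (dp_fi_27 j u) (Nat.ble (nat_lit 27) j)
noncomputable def dp_fi_29 (j u : ℕ) : Bool :=
  Bool.rec (motive := fun _ => Bool) (dp_fi_12 j u) (dp_fi_28 j u) (Nat.ble (nat_lit 19) j)
noncomputable def dp_fi_30 (j u : ℕ) : Bool :=
  Bool.rec (motive := fun _ => Bool) (lS MG [T_c, T_fi, T_bi, T_di, T_c, T_bi, T_d] M (Nat.sub (T_fi u) (Nat.mod (T_fi u) M)) (nat_lit 40) (Nat.mod (T_fi u) M) u) (lS MG [T_d, T_bi, T_c, T_d, T_f, T_ci, T_b] M (Nat.sub (T_fi u) (Nat.mod (T_fi u) M)) (nat_lit 40) (Nat.mod (T_fi u) M) u) (Nat.ble (nat_lit 37) j)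
noncomputable def dp_fi_31 (j u : ℕ) : Bool :=
  Bool.rec (motive := fun _ => Bool) (lS MG [T_bi, T_d, T_ci, T_fi, T_bi, T_d, T_ci] M (Nat.sub (T_fi u) (Nat.mod (T_fi u) M)) (nat_lit 40) (Nat.mod (T_fi u) M) u) (lS MG [T_bi, T_bi, T_f, T_b, T_f, T_di, T_c] M (Nat.sub (T_fi u) (Nat.mod (T_fi u) M)) (nat_lit 40) (Nat.mod (T_fi u) M) u) (Nat.ble (nat_lit 40) j)
noncomputable def dp_fi_32 (j u : ℕ) : Bool :=
  Bool.rec (motive := fun _ => Bool) (lS MG [T_fi, T_d, T_fi, T_d, T_d, T_f, T_d] M (Nat.sub (T_fi u) (Nat.mod (T_fi u) M)) (nat_lit 40) (Nat.mod (T_fi u) M) u) (dp_fi_31 j u) (Nat.ble (nat_lit 39) j)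
noncomputable def dp_fi_33 (j u : ℕ) : Bool :=
  Bool.rec (motive := fun _ => Bool) (dp_fi_30 j u) (dp_fi_32 j u) (Nat.ble (nat_lit 38) j)
noncomputable def dp_fi_34 (j u : ℕ) : Bool :=
  Bool.rec (motive := fun _ => Bool) (lS MG [T_bi, T_c, T_f, T_b, T_fi, T_c, T_c] M (Nat.sub (T_fi u) (Nat.mod (T_fi u) M)) (nat_lit 40) (Nat.mod (T_fi u) M) u) (lF [T_d, T_fi, T_d, T_d, T_f, T_d, T_fi] M (Nat.sub (T_fi u) (Nat.mod (T_fi u) M)) (Nat.mod (T_fi u) M) u) (Nat.ble (nat_lit 42) j)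
noncomputable def dp_fi_35 (j u : ℕ) : Bool :=
  Bool.rec (motive := fun _ => Bool) (lS MG [T_d, T_fi, T_d, T_d, T_f, T_d, T_fi] M (Nat.sub (T_fi u) (Nat.mod (T_fi u) M)) (nat_lit 40) (Nat.mod (T_fi u) M) u) (lF [T_ci, T_b, T_f, T_ci, T_ci, T_f, T_bi] M (Nat.sub (T_fi u) (Nat.mod (T_fi u) M)) (Nat.mod (T_fi u) M) u) (Nat.ble (nat_lit 45) j)
noncomputable def dp_fi_36 (j u : ℕ) : Bool :=
  Bool.rec (motive := fun _ => Bool) (lS MG [T_di, T_ci, T_b, T_di, T_f, T_bi, T_c] M (Nat.sub (T_fi u) (Nat.mod (T_fi u) M)) (nat_lit 40) (Nat.mod (T_fi u) M) u) (dp_fi_35 j u) (Nat.ble (nat_lit 44) j)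
noncomputable def dp_fi_37 (j u : ℕ) : Bool :=
  Bool.rec (motive := fun _ => Bool) (dp_fi_34 j u) (dp_fi_36 j u) (Nat.ble (nat_lit 43) j)
noncomputable def dp_fi_38 (j u : ℕ) : Bool :=
  Bool.rec (motive := fun _ => Bool) (dp_fi_33 j u) (dp_fi_37 j u) (Nat.ble (nat_lit 41) j)
noncomputable def dp_fi_39 (j u : ℕ) : Bool :=
  Bool.rec (motive := fun _ => Bool) (lF [T_c, T_c, T_fi, T_bi, T_c, T_f, T_b] M (Nat.sub (T_fi u) (Nat.mod (T_fi u) M)) (Nat.mod (T_fi u) M) u) (lS MG [T_b, T_c, T_d, T_c, T_bi, T_di, T_c] M (Nat.sub (T_fi u) (Nat.mod (T_fi u) M)) (nat_lit 40) (Nat.mod (T_fi u) M) u) (Nat.ble (nat_lit 48) j)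
noncomputable def dp_fi_40 (j u : ℕ) : Bool :=
  Bool.rec (motive := fun _ => Bool) (lF [T_di, T_di, T_f, T_di, T_f, T_f, T_di] M (Nat.sub (T_fi u) (Nat.mod (T_fi u) M)) (Nat.mod (T_fi u) M) u) (dp_fi_39 j u) (Nat.ble (nat_lit 47) j)
noncomputable def dp_fi_41 (j u : ℕ) : Bool :=
  Bool.rec (motive := fun _ => Bool) (lF [T_d, T_bi, T_c, T_b, T_c, T_c, T_d] M (Nat.sub (T_fi u) (Nat.mod (T_fi u) M)) (Nat.mod (T_fi u) M) u) (lF [T_d, T_d, T_b, T_c, T_bi, T_ci, T_bi] M (Nat.sub (T_fi u) (Nat.mod (T_fi u) M)) (Nat.mod (T_fi u) M) u) (Nat.ble (nat_lit 51) j)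
noncomputable def dp_fi_42 (j u : ℕ) : Bool :=
  Bool.rec (motive := fun _ => Bool) (lF [T_bi, T_d, T_ci, T_fi, T_bi, T_d, T_ci] M (Nat.sub (T_fi u) (Nat.mod (T_fi u) M)) (Nat.mod (T_fi u) M) u) (dp_fi_41 j u) (Nat.ble (nat_lit 50) j)
noncomputable def dp_fi_43 (j u : ℕ) : Bool :=
  Bool.rec (motive := fun _ => Bool) (dp_fi_40 j u) (dp_fi_42 j u) (Nat.ble (nat_lit 49) j)
noncomputable def dp_fi_44 (j u : ℕ) : Bool :=
  Bool.rec (motive := fun _ => Bool) (lF [T_c, T_di, T_di, T_fi, T_c, T_di, T_di] M (Nat.sub (T_fi u) (Nat.mod (T_fi u) M)) (Nat.mod (T_fi u) M) u) (lS MG [T_bi, T_d, T_c, T_b, T_b, T_ci, T_fi] M (Nat.sub (T_fi u) (Nat.mod (T_fi u) M)) (nat_lit 40) (Nat.mod (T_fi u) M) u) (Nat.ble (nat_lit 54) j)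
noncomputable def dp_fi_45 (j u : ℕ) : Bool :=
  Bool.rec (motive := fun _ => Bool) (lF [T_d, T_bi, T_fi, T_di, T_ci, T_bi, T_ci] M (Nat.sub (T_fi u) (Nat.mod (T_fi u) M)) (Nat.mod (T_fi u) M) u) (dp_fi_44 j u) (Nat.ble (nat_lit 53) j)
noncomputable def dp_fi_46 (j u : ℕ) : Bool :=
  Bool.rec (motive := fun _ => Bool) (lS MG [T_d, T_bi, T_c, T_b, T_c, T_c, T_d] M (Nat.sub (T_fi u) (Nat.mod (T_fi u) M)) (nat_lit 40) (Nat.mod (T_fi u) M) u) (lF [T_bi, T_d, T_c, T_b, T_b, T_ci, T_fi] M (Nat.sub (T_fi u) (Nat.mod (T_fi u) M)) (Nat.mod (T_fi u) M) u) (Nat.ble (nat_lit 57) j)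
noncomputable def dp_fi_47 (j u : ℕ) : Bool :=
  Bool.rec (motive := fun _ => Bool) (lS MG [T_fi, T_bi, T_d, T_c, T_b, T_b, T_ci] M (Nat.sub (T_fi u) (Nat.mod (T_fi u) M)) (nat_lit 40) (Nat.mod (T_fi u) M) u) (dp_fi_46 j u) (Nat.ble (nat_lit 56) j)
noncomputable def dp_fi_48 (j u : ℕ) : Bool :=
  Bool.rec (motive := fun _ => Bool) (dp_fi_45 j u) (dp_fi_47 j u) (Nat.ble (nat_lit 55) j)
noncomputable def dp_fi_49 (j u : ℕ) : Bool :=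
  Bool.rec (motive := fun _ => Bool) (dp_fi_43 j u) (dp_fi_48 j u) (Nat.ble (nat_lit 52) j)
noncomputable def dp_fi_50 (j u : ℕ) : Bool :=
  Bool.rec (motive := fun _ => Bool) (dp_fi_38 j u) (dp_fi_49 j u) (Nat.ble (nat_lit 46) j)
noncomputable def dp_fi_51 (j u : ℕ) : Bool :=
  Bool.rec (motive := fun _ => Bool) (lF [T_fi, T_bi, T_d, T_c, T_b, T_b, T_ci] M (Nat.sub (T_fi u) (Nat.mod (T_fi u) M)) (Nat.mod (T_fi u) M) u) (lS MG [T_bi, T_f, T_e, T_f, T_ci, T_b, T_e, T_di] M (Nat.sub (T_fi u) (Nat.mod (T_fi u) M)) (nat_lit 40) (Nat.mod (T_fi u) M) u) (Nat.ble (nat_lit 60) j)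
noncomputable def dp_fi_52 (j u : ℕ) : Bool :=
  Bool.rec (motive := fun _ => Bool) (lF [T_c, T_fi, T_bi, T_di, T_c, T_bi, T_d] M (Nat.sub (T_fi u) (Nat.mod (T_fi u) M)) (Nat.mod (T_fi u) M) u) (dp_fi_51 j u) (Nat.ble (nat_lit 59) j)
noncomputable def dp_fi_53 (j u : ℕ) : Bool :=
  Bool.rec (motive := fun _ => Bool) (lS MG [T_b, T_c, T_bi, T_di, T_ci, T_bi, T_di] M (Nat.sub (T_fi u) (Nat.mod (T_fi u) M)) (nat_lit 40) (Nat.mod (T_fi u) M) u) (lF [T_di, T_ci, T_b, T_di, T_f, T_bi, T_c] M (Nat.sub (T_fi u) (Nat.mod (T_fi u) M)) (Nat.mod (T_fi u) M) u) (Nat.ble (nat_lit 62) j)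
noncomputable def dp_fi_54 (j u : ℕ) : Bool :=
  Bool.rec (motive := fun _ => Bool) (lS MG [T_bi, T_ci, T_di, T_f, T_bi, T_di, T_di] M (Nat.sub (T_fi u) (Nat.mod (T_fi u) M)) (nat_lit 40) (Nat.mod (T_fi u) M) u) (lS MG [T_bi, T_fi, T_b, T_b, T_f, T_ci, T_d] M (Nat.sub (T_fi u) (Nat.mod (T_fi u) M)) (nat_lit 40) (Nat.mod (T_fi u) M) u) (Nat.ble (nat_lit 64) j)
noncomputable def dp_fi_55 (j u : ℕ) : Bool :=
  Bool.rec (motive := fun _ => Bool) (dp_fi_53 j u) (dp_fi_54 j u) (Nat.ble (nat_lit 63) j)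
noncomputable def dp_fi_56 (j u : ℕ) : Bool :=
  Bool.rec (motive := fun _ => Bool) (dp_fi_52 j u) (dp_fi_55 j u) (Nat.ble (nat_lit 61) j)
noncomputable def dp_fi_57 (j u : ℕ) : Bool :=
  Bool.rec (motive := fun _ => Bool) (lS MG [T_di, T_fi, T_b, T_c, T_b, T_ci, T_bi] M (Nat.sub (T_fi u) (Nat.mod (T_fi u) M)) (nat_lit 40) (Nat.mod (T_fi u) M) u) (lS MG [T_di, T_di, T_f, T_di, T_f, T_f, T_di] M (Nat.sub (T_fi u) (Nat.mod (T_fi u) M)) (nat_lit 40) (Nat.mod (T_fi u) M) u) (Nat.ble (nat_lit 66) j)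
noncomputable def dp_fi_58 (j u : ℕ) : Bool :=
  Bool.rec (motive := fun _ => Bool) (lF [T_bi, T_bi, T_f, T_b, T_f, T_di, T_c] M (Nat.sub (T_fi u) (Nat.mod (T_fi u) M)) (Nat.mod (T_fi u) M) u) (lF [T_di, T_fi, T_b, T_c, T_b, T_ci, T_bi] M (Nat.sub (T_fi u) (Nat.mod (T_fi u) M)) (Nat.mod (T_fi u) M) u) (Nat.ble (nat_lit 68) j)
noncomputable def dp_fi_59 (j u : ℕ) : Bool :=
  Bool.rec (motive := fun _ => Bool) (dp_fi_57 j u) (dp_fi_58 j u) (Nat.ble (nat_lit 67) j)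
noncomputable def dp_fi_60 (j u : ℕ) : Bool :=
  Bool.rec (motive := fun _ => Bool) (lF [T_ei, T_f, T_e, T_c, T_di, T_f, T_f, T_e] M (Nat.sub (T_fi u) (Nat.mod (T_fi u) M)) (Nat.mod (T_fi u) M) u) (lS MG [T_e, T_f, T_ei, T_d, T_f, T_di, T_ci, T_ei] M (Nat.sub (T_fi u) (Nat.mod (T_fi u) M)) (nat_lit 40) (Nat.mod (T_fi u) M) u) (Nat.ble (nat_lit 70) j)
noncomputable def dp_fi_61 (j u : ℕ) : Bool :=
  Bool.rec (motive := fun _ => Bool) (lS MG [T_b, T_c, T_d, T_b, T_b, T_ci, T_bi] M (Nat.sub (T_fi u) (Nat.mod (T_fi u) M)) (nat_lit 40) (Nat.mod (T_fi u) M) u) (lS MG [T_d, T_d, T_f, T_d, T_fi, T_fi, T_d] M (Nat.sub (T_fi u) (Nat.mod (T_fi u) M)) (nat_lit 40) (Nat.mod (T_fi u) M) u) (Nat.ble (nat_lit 72) j)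
noncomputable def dp_fi_62 (j u : ℕ) : Bool :=
  Bool.rec (motive := fun _ => Bool) (dp_fi_60 j u) (dp_fi_61 j u) (Nat.ble (nat_lit 71) j)
noncomputable def dp_fi_63 (j u : ℕ) : Bool :=
  Bool.rec (motive := fun _ => Bool) (dp_fi_59 j u) (dp_fi_62 j u) (Nat.ble (nat_lit 69) j)
noncomputable def dp_fi_64 (j u : ℕ) : Bool :=
  Bool.rec (motive := fun _ => Bool) (dp_fi_56 j u) (dp_fi_63 j u) (Nat.ble (nat_lit 65) j)
noncomputable def dp_fi_65 (j u : ℕ) : Bool :=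
  Bool.rec (motive := fun _ => Bool) (lF [T_e, T_f, T_ei, T_d, T_f, T_di, T_ci, T_ei] M (Nat.sub (T_fi u) (Nat.mod (T_fi u) M)) (Nat.mod (T_fi u) M) u) (lS MG [T_c, T_di, T_di, T_fi, T_c, T_di, T_di] M (Nat.sub (T_fi u) (Nat.mod (T_fi u) M)) (nat_lit 40) (Nat.mod (T_fi u) M) u) (Nat.ble (nat_lit 74) j)
noncomputable def dp_fi_66 (j u : ℕ) : Bool :=
  Bool.rec (motive := fun _ => Bool) (lF [T_bi, T_f, T_e, T_f, T_ci, T_b, T_e, T_di] M (Nat.sub (T_fi u) (Nat.mod (T_fi u) M)) (Nat.mod (T_fi u) M) u) (lF [T_b, T_c, T_bi, T_di, T_ci, T_bi, T_di] M (Nat.sub (T_fi u) (Nat.mod (T_fi u) M)) (Nat.mod (T_fi u) M) u) (Nat.ble (nat_lit 77) j)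
noncomputable def dp_fi_67 (j u : ℕ) : Bool :=
  Bool.rec (motive := fun _ => Bool) (lF [T_bi, T_fi, T_b, T_b, T_f, T_ci, T_d] M (Nat.sub (T_fi u) (Nat.mod (T_fi u) M)) (Nat.mod (T_fi u) M) u) (dp_fi_66 j u) (Nat.ble (nat_lit 76) j)
noncomputable def dp_fi_68 (j u : ℕ) : Bool :=
  Bool.rec (motive := fun _ => Bool) (dp_fi_65 j u) (dp_fi_67 j u) (Nat.ble (nat_lit 75) j)
noncomputable def dp_fi_69 (j u : ℕ) : Bool :=
  Bool.rec (motive := fun _ => Bool) (lF [T_bi, T_ci, T_di, T_f, T_bi, T_di, T_di] M (Nat.sub (T_fi u) (Nat.mod (T_fi u) M)) (Nat.mod (T_fi u) M) u) (lF [T_d, T_d, T_f, T_d, T_fi, T_fi, T_d] M (Nat.sub (T_fi u) (Nat.mod (T_fi u) M)) (Nat.mod (T_fi u) M) u) (Nat.ble (nat_lit 79) j)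
noncomputable def dp_fi_70 (j u : ℕ) : Bool :=
  Bool.rec (motive := fun _ => Bool) (lF [T_b, T_c, T_d, T_b, T_b, T_ci, T_bi] M (Nat.sub (T_fi u) (Nat.mod (T_fi u) M)) (Nat.mod (T_fi u) M) u) (lF [T_d, T_ci, T_ei, T_fi, T_e, T_f, T_ei, T_fi] M (Nat.sub (T_fi u) (Nat.mod (T_fi u) M)) (Nat.mod (T_fi u) M) u) (Nat.ble (nat_lit 82) j)
noncomputable def dp_fi_71 (j u : ℕ) : Bool :=
  Bool.rec (motive := fun _ => Bool) (lF [T_di, T_ci, T_bi, T_ci, T_fi, T_d, T_bi] M (Nat.sub (T_fi u) (Nat.mod (T_fi u) M)) (Nat.mod (T_fi u) M) u) (dp_fi_70 j u) (Nat.ble (nat_lit 81) j)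
noncomputable def dp_fi_72 (j u : ℕ) : Bool :=
  Bool.rec (motive := fun _ => Bool) (dp_fi_69 j u) (dp_fi_71 j u) (Nat.ble (nat_lit 80) j)
noncomputable def dp_fi_73 (j u : ℕ) : Bool :=
  Bool.rec (motive := fun _ => Bool) (dp_fi_68 j u) (dp_fi_72 j u) (Nat.ble (nat_lit 78) j)
noncomputable def dp_fi_74 (j u : ℕ) : Bool :=
  Bool.rec (motive := fun _ => Bool) (lS MG [T_d, T_bi, T_fi, T_di, T_ci, T_bi, T_ci] M (Nat.sub (T_fi u) (Nat.mod (T_fi u) M)) (nat_lit 40) (Nat.mod (T_fi u) M) u) (lS MG [T_d, T_ci, T_ei, T_fi, T_e, T_f, T_ei, T_fi] M (Nat.sub (T_fi u) (Nat.mod (T_fi u) M)) (nat_lit 40) (Nat.mod (T_fi u) M) u) (Nat.ble (nat_lit 85) j)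
noncomputable def dp_fi_75 (j u : ℕ) : Bool :=
  Bool.rec (motive := fun _ => Bool) (lF [T_bi, T_c, T_f, T_b, T_fi, T_c, T_c] M (Nat.sub (T_fi u) (Nat.mod (T_fi u) M)) (Nat.mod (T_fi u) M) u) (dp_fi_74 j u) (Nat.ble (nat_lit 84) j)
noncomputable def dp_fi_76 (j u : ℕ) : Bool :=
  Bool.rec (motive := fun _ => Bool) (lF [T_ei, T_f, T_e, T_c, T_d, T_fi, T_di, T_e] M (Nat.sub (T_fi u) (Nat.mod (T_fi u) M)) (Nat.mod (T_fi u) M) u) (lS MG [T_di, T_e, T_fi, T_ei, T_f, T_e, T_c, T_d] M (Nat.sub (T_fi u) (Nat.mod (T_fi u) M)) (nat_lit 40) (Nat.mod (T_fi u) M) u) (Nat.ble (nat_lit 88) j)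
noncomputable def dp_fi_77 (j u : ℕ) : Bool :=
  Bool.rec (motive := fun _ => Bool) (lS MG [T_ei, T_f, T_e, T_c, T_d, T_fi, T_di, T_e] M (Nat.sub (T_fi u) (Nat.mod (T_fi u) M)) (nat_lit 40) (Nat.mod (T_fi u) M) u) (dp_fi_76 j u) (Nat.ble (nat_lit 87) j)
noncomputable def dp_fi_78 (j u : ℕ) : Bool :=
  Bool.rec (motive := fun _ => Bool) (dp_fi_75 j u) (dp_fi_77 j u) (Nat.ble (nat_lit 86) j)
noncomputable def dp_fi_79 (j u : ℕ) : Bool :=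
  Bool.rec (motive := fun _ => Bool) (lS MG [T_ei, T_fi, T_b, T_f, T_d, T_ei, T_bi, T_c] M (Nat.sub (T_fi u) (Nat.mod (T_fi u) M)) (nat_lit 40) (Nat.mod (T_fi u) M) u) (lS MG [T_d, T_ci, T_fi, T_e, T_f, T_ei, T_fi, T_e] M (Nat.sub (T_fi u) (Nat.mod (T_fi u) M)) (nat_lit 40) (Nat.mod (T_fi u) M) u) (Nat.ble (nat_lit 90) j)
noncomputable def dp_fi_80 (j u : ℕ) : Bool :=
  Bool.rec (motive := fun _ => Bool) (lF [T_b, T_f, T_d, T_ei, T_bi, T_c, T_fi, T_ei] M (Nat.sub (T_fi u) (Nat.mod (T_fi u) M)) (Nat.mod (T_fi u) M) u) (lF [T_e, T_f, T_ei, T_fi, T_e, T_fi, T_d, T_ci] M (Nat.sub (T_fi u) (Nat.mod (T_fi u) M)) (Nat.mod (T_fi u) M) u) (Nat.ble (nat_lit 93) j)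
noncomputable def dp_fi_81 (j u : ℕ) : Bool :=
  Bool.rec (motive := fun _ => Bool) (lF [T_di, T_e, T_fi, T_ei, T_f, T_e, T_c, T_d] M (Nat.sub (T_fi u) (Nat.mod (T_fi u) M)) (Nat.mod (T_fi u) M) u) (dp_fi_80 j u) (Nat.ble (nat_lit 92) j)
noncomputable def dp_fi_82 (j u : ℕ) : Bool :=
  Bool.rec (motive := fun _ => Bool) (dp_fi_79 j u) (dp_fi_81 j u) (Nat.ble (nat_lit 91) j)
noncomputable def dp_fi_83 (j u : ℕ) : Bool :=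
  Bool.rec (motive := fun _ => Bool) (lS MG [T_e, T_f, T_ei, T_fi, T_e, T_fi, T_d, T_ci] M (Nat.sub (T_fi u) (Nat.mod (T_fi u) M)) (nat_lit 40) (Nat.mod (T_fi u) M) u) (lF [T_d, T_ci, T_fi, T_e, T_f, T_ei, T_fi, T_e] M (Nat.sub (T_fi u) (Nat.mod (T_fi u) M)) (Nat.mod (T_fi u) M) u) (Nat.ble (nat_lit 95) j)
noncomputable def dp_fi_84 (j u : ℕ) : Bool :=
  Bool.rec (motive := fun _ => Bool) (lF [T_d, T_bi, T_bi, T_f, T_c, T_b, T_c, T_fi] M (Nat.sub (T_fi u) (Nat.mod (T_fi u) M)) (Nat.mod (T_fi u) M) u) (lS MG [T_di, T_di, T_ci, T_b, T_ci, T_f, T_di, T_b] M (Nat.sub (T_fi u) (Nat.mod (T_fi u) M)) (nat_lit 40) (Nat.mod (T_fi u) M) u) (Nat.ble (nat_lit 98) j)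
noncomputable def dp_fi_85 (j u : ℕ) : Bool :=
  Bool.rec (motive := fun _ => Bool) (lS MG [T_fi, T_b, T_ci, T_fi, T_bi, T_fi, T_ci, T_d] M (Nat.sub (T_fi u) (Nat.mod (T_fi u) M)) (nat_lit 40) (Nat.mod (T_fi u) M) u) (dp_fi_84 j u) (Nat.ble (nat_lit 97) j)
noncomputable def dp_fi_86 (j u : ℕ) : Bool :=
  Bool.rec (motive := fun _ => Bool) (dp_fi_83 j u) (dp_fi_85 j u) (Nat.ble (nat_lit 96) j)
noncomputable def dp_fi_87 (j u : ℕ) : Bool :=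
  Bool.rec (motive := fun _ => Bool) (lS MG [T_fi, T_d, T_ci, T_ei, T_fi, T_e, T_f, T_ei] M (Nat.sub (T_fi u) (Nat.mod (T_fi u) M)) (nat_lit 40) (Nat.mod (T_fi u) M) u) (lS MG [T_b, T_f, T_d, T_ei, T_bi, T_c, T_fi, T_ei] M (Nat.sub (T_fi u) (Nat.mod (T_fi u) M)) (nat_lit 40) (Nat.mod (T_fi u) M) u) (Nat.ble (nat_lit 100) j)
noncomputable def dp_fi_88 (j u : ℕ) : Bool :=
  Bool.rec (motive := fun _ => Bool) (lF [T_di, T_fi, T_di, T_ci, T_f, T_d, T_c, T_c] M (Nat.sub (T_fi u) (Nat.mod (T_fi u) M)) (Nat.mod (T_fi u) M) u) (lF [T_c, T_c, T_b, T_ci, T_di, T_fi, T_ci, T_ci] M (Nat.sub (T_fi u) (Nat.mod (T_fi u) M)) (Nat.mod (T_fi u) M) u) (Nat.ble (nat_lit 103) j)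
noncomputable def dp_fi_89 (j u : ℕ) : Bool :=
  Bool.rec (motive := fun _ => Bool) (lF [T_b, T_b, T_di, T_f, T_f, T_ci, T_bi, T_ci] M (Nat.sub (T_fi u) (Nat.mod (T_fi u) M)) (Nat.mod (T_fi u) M) u) (dp_fi_88 j u) (Nat.ble (nat_lit 102) j)
noncomputable def dp_fi_90 (j u : ℕ) : Bool :=
  Bool.rec (motive := fun _ => Bool) (dp_fi_87 j u) (dp_fi_89 j u) (Nat.ble (nat_lit 101) j)
noncomputable def dp_fi_91 (j u : ℕ) : Bool :=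
  Bool.rec (motive := fun _ => Bool) (lF [T_b, T_ci, T_fi, T_bi, T_fi, T_ci, T_d, T_fi] M (Nat.sub (T_fi u) (Nat.mod (T_fi u) M)) (Nat.mod (T_fi u) M) u) (lS MG [T_ci, T_d, T_c, T_di, T_fi, T_b, T_b, T_b] M (Nat.sub (T_fi u) (Nat.mod (T_fi u) M)) (nat_lit 40) (Nat.mod (T_fi u) M) u) (Nat.ble (nat_lit 105) j)
noncomputable def dp_fi_92 (j u : ℕ) : Bool :=
  Bool.rec (motive := fun _ => Bool) (lF [T_d, T_ci, T_fi, T_b, T_c, T_c, T_b, T_ci] M (Nat.sub (T_fi u) (Nat.mod (T_fi u) M)) (Nat.mod (T_fi u) M) u) (lF [T_di, T_di, T_ci, T_b, T_ci, T_f, T_di, T_b] M (Nat.sub (T_fi u) (Nat.mod (T_fi u) M)) (Nat.mod (T_fi u) M) u) (Nat.ble (nat_lit 107) j)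
noncomputable def dp_fi_93 (j u : ℕ) : Bool :=
  Bool.rec (motive := fun _ => Bool) (dp_fi_91 j u) (dp_fi_92 j u) (Nat.ble (nat_lit 106) j)
noncomputable def dp_fi_94 (j u : ℕ) : Bool :=
  Bool.rec (motive := fun _ => Bool) (lF [T_ci, T_d, T_c, T_di, T_fi, T_b, T_b, T_b] M (Nat.sub (T_fi u) (Nat.mod (T_fi u) M)) (Nat.mod (T_fi u) M) u) (lF [T_fi, T_d, T_ci, T_ei, T_fi, T_e, T_f, T_ei] M (Nat.sub (T_fi u) (Nat.mod (T_fi u) M)) (Nat.mod (T_fi u) M) u) (Nat.ble (nat_lit 109) j)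
noncomputable def dp_fi_95 (j u : ℕ) : Bool :=
  Bool.rec (motive := fun _ => Bool) (lF [T_c, T_d, T_f, T_d, T_f, T_ci, T_ci, T_di] M (Nat.sub (T_fi u) (Nat.mod (T_fi u) M)) (Nat.mod (T_fi u) M) u) (lF [T_ei, T_fi, T_b, T_f, T_d, T_ei, T_bi, T_c] M (Nat.sub (T_fi u) (Nat.mod (T_fi u) M)) (Nat.mod (T_fi u) M) u) (Nat.ble (nat_lit 111) j)
noncomputable def dp_fi_96 (j u : ℕ) : Bool :=
  Bool.rec (motive := fun _ => Bool) (dp_fi_94 j u) (dp_fi_95 j u) (Nat.ble (nat_lit 110) j)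
noncomputable def dp_fi_97 (j u : ℕ) : Bool :=
  Bool.rec (motive := fun _ => Bool) (dp_fi_93 j u) (dp_fi_96 j u) (Nat.ble (nat_lit 108) j)
noncomputable def dp_fi_98 (j u : ℕ) : Bool :=
  Bool.rec (motive := fun _ => Bool) (dp_fi_90 j u) (dp_fi_97 j u) (Nat.ble (nat_lit 104) j)
noncomputable def dp_fi_99 (j u : ℕ) : Bool :=
  Bool.rec (motive := fun _ => Bool) (dp_fi_86 j u) (dp_fi_98 j u) (Nat.ble (nat_lit 99) j)
noncomputable def dp_fi_100 (j u : ℕ) : Bool :=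
  Bool.rec (motive := fun _ => Bool) (dp_fi_82 j u) (dp_fi_99 j u) (Nat.ble (nat_lit 94) j)
noncomputable def dp_fi_101 (j u : ℕ) : Bool :=
  Bool.rec (motive := fun _ => Bool) (dp_fi_78 j u) (dp_fi_100 j u) (Nat.ble (nat_lit 89) j)
noncomputable def dp_fi_102 (j u : ℕ) : Bool :=
  Bool.rec (motive := fun _ => Bool) (dp_fi_73 j u) (dp_fi_101 j u) (Nat.ble (nat_lit 83) j)
noncomputable def dp_fi_103 (j u : ℕ) : Bool :=
  Bool.rec (motive := fun _ => Bool) (dp_fi_64 j u) (dp_fi_102 j u) (Nat.ble (nat_lit 73) j)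
noncomputable def dp_fi_104 (j u : ℕ) : Bool :=
  Bool.rec (motive := fun _ => Bool) (dp_fi_50 j u) (dp_fi_103 j u) (Nat.ble (nat_lit 58) j)
noncomputable def dp_fi_105 (j u : ℕ) : Bool :=
  Bool.rec (motive := fun _ => Bool) (dp_fi_29 j u) (dp_fi_104 j u) (Nat.ble (nat_lit 36) j)
noncomputable def disp_fi (j u : ℕ) : Bool :=
  Bool.rec (motive := fun _ => Bool) (Bool.rec (motive := fun _ => Bool) (lF1 T_f M (Nat.sub (T_fi u) (Nat.mod (T_fi u) M)) (Nat.mod (T_fi u) M) u) (lDef P (nat_lit 6) u (Nat.mod (T_fi u) M)) (Nat.ble (nat_lit 1) j)) (Bool.rec (motive := fun _ => Bool) (Bool.rec (motive := fun _ => Bool) (lDef P (nat_lit 7) (Nat.mod (T_fi u) M) u) (Bool.rec (motive := fun _ => Bool) (lS MG [T_f] M (Nat.sub (T_fi u) (Nat.mod (T_fi u) M)) (nat_lit 40) (Nat.mod (T_fi u) M) u) (lF [T_fi, T_di, T_bi, T_c, T_b, T_d, T_ci] M (Nat.sub (T_fi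 u) (Nat.mod (T_fi u) M)) (Nat.mod (T_fi u) M) u) (Nat.ble (nat_lit 4) j)) (Nat.ble (nat_lit 3) j)) (dp_fi_105 j u) (Nat.ble (nat_lit 5) j)) (Nat.ble (nat_lit 2) j)
noncomputable def chk_fi (j u : ℕ) : Bool :=
  Bool.rec (motive := fun _ => Bool) (disp_fi j u) (Nat.ble (Nat.succ (MG u)) A) (Nat.ble A (T_fi u))
noncomputable def dp_e_0 (j u : ℕ) : Bool :=
  Bool.rec (motive := fun _ => Bool) (lS MG [T_c, T_e, T_bi, T_e, T_c, T_e, T_bi] M (Nat.sub (T_e u) (Nat.mod (T_e u) M)) (nat_lit 40) (Nat.mod (T_e u) M) u) (lF [T_c, T_e, T_bi, T_e, T_c, T_e, T_bi] M (Nat.sub (T_e u) (Nat.mod (T_e u) M)) (Nat.mod (T_e u) M) u) (Nat.ble (nat_lit 5) j)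
noncomputable def dp_e_1 (j u : ℕ) : Bool :=
  Bool.rec (motive := fun _ => Bool) (lS MG [T_bi, T_e, T_c, T_e, T_bi, T_e, T_c] M (Nat.sub (T_e u) (Nat.mod (T_e u) M)) (nat_lit 40) (Nat.mod (T_e u) M) u) (lF [T_bi, T_e, T_c, T_e, T_bi, T_e, T_c] M (Nat.sub (T_e u) (Nat.mod (T_e u) M)) (Nat.mod (T_e u) M) u) (Nat.ble (nat_lit 7) j)
noncomputable def dp_e_2 (j u : ℕ) : Bool :=
  Bool.rec (motive := fun _ => Bool) (lS MG [T_di, T_fi, T_bi, T_f, T_e, T_f, T_ci, T_b] M (Nat.sub (T_e u) (Nat.mod (T_e u) M)) (nat_lit 40) (Nat.mod (T_e u) M) u) (lS MG [T_fi, T_ei, T_f, T_c, T_di, T_f, T_ei, T_f] M (Nat.sub (T_e u) (Nat.mod (T_e u) M)) (nat_lit 40) (Nat.mod (T_e u) M) u) (Nat.ble (nat_lit 9) j)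
noncomputable def dp_e_3 (j u : ℕ) : Bool :=
  Bool.rec (motive := fun _ => Bool) (lS MG [T_f, T_ci, T_b, T_e, T_di, T_fi, T_bi, T_f] M (Nat.sub (T_e u) (Nat.mod (T_e u) M)) (nat_lit 40) (Nat.mod (T_e u) M) u) (lF [T_fi, T_ei, T_f, T_c, T_di, T_f, T_ei, T_f] M (Nat.sub (T_e u) (Nat.mod (T_e u) M)) (Nat.mod (T_e u) M) u) (Nat.ble (nat_lit 11) j)
noncomputable def dp_e_4 (j u : ℕ) : Bool :=
  Bool.rec (motive := fun _ => Bool) (lF [T_di, T_fi, T_bi, T_f, T_e, T_f, T_ci, T_b] M (Nat.sub (T_e u) (Nat.mod (T_e u) M)) (Nat.mod (T_e u) M) u) (lF [T_f, T_ci, T_b, T_e, T_di, T_fi, T_bi, T_f] M (Nat.sub (T_e u) (Nat.mod (T_e u) M)) (Nat.mod (T_e u) M) u) (Nat.ble (nat_lit 13) j)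
noncomputable def dp_e_5 (j u : ℕ) : Bool :=
  Bool.rec (motive := fun _ => Bool) (dp_e_3 j u) (dp_e_4 j u) (Nat.ble (nat_lit 12) j)
noncomputable def dp_e_6 (j u : ℕ) : Bool :=
  Bool.rec (motive := fun _ => Bool) (dp_e_2 j u) (dp_e_5 j u) (Nat.ble (nat_lit 10) j)
noncomputable def dp_e_7 (j u : ℕ) : Bool :=
  Bool.rec (motive := fun _ => Bool) (lS MG [T_fi, T_d, T_ci, T_fi, T_e, T_f, T_ei, T_fi] M (Nat.sub (T_e u) (Nat.mod (T_e u) M)) (nat_lit 40) (Nat.mod (T_e u) M) u) (lS MG [T_f, T_ei, T_fi, T_e, T_fi, T_d, T_ci, T_fi] M (Nat.sub (T_e u) (Nat.mod (T_e u) M)) (nat_lit 40) (Nat.mod (T_e u) M) u) (Nat.ble (nat_lit 15) j)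
noncomputable def dp_e_8 (j u : ℕ) : Bool :=
  Bool.rec (motive := fun _ => Bool) (lS MG [T_c, T_di, T_f, T_f, T_e, T_fi, T_ei, T_f] M (Nat.sub (T_e u) (Nat.mod (T_e u) M)) (nat_lit 40) (Nat.mod (T_e u) M) u) (lF [T_fi, T_d, T_ci, T_fi, T_e, T_f, T_ei, T_fi] M (Nat.sub (T_e u) (Nat.mod (T_e u) M)) (Nat.mod (T_e u) M) u) (Nat.ble (nat_lit 18) j)
noncomputable def dp_e_9 (j u : ℕ) : Bool :=
  Bool.rec (motive := fun _ => Bool) (lF [T_f, T_ei, T_fi, T_e, T_fi, T_d, T_ci, T_fi] M (Nat.sub (T_e u) (Nat.mod (T_e u) M)) (Nat.mod (T_e u) M) u) (dp_e_8 j u) (Nat.ble (nat_lit 17) j)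
noncomputable def dp_e_10 (j u : ℕ) : Bool :=
  Bool.rec (motive := fun _ => Bool) (dp_e_7 j u) (dp_e_9 j u) (Nat.ble (nat_lit 16) j)
noncomputable def dp_e_11 (j u : ℕ) : Bool :=
  Bool.rec (motive := fun _ => Bool) (lF [T_f, T_ei, T_fi, T_fi, T_d, T_ci, T_ei, T_fi] M (Nat.sub (T_e u) (Nat.mod (T_e u) M)) (Nat.mod (T_e u) M) u) (lF [T_c, T_di, T_f, T_f, T_e, T_fi, T_ei, T_f] M (Nat.sub (T_e u) (Nat.mod (T_e u) M)) (Nat.mod (T_e u) M) u) (Nat.ble (nat_lit 20) j)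
noncomputable def dp_e_12 (j u : ℕ) : Bool :=
  Bool.rec (motive := fun _ => Bool) (lS MG [T_f, T_ei, T_fi, T_fi, T_d, T_ci, T_ei, T_fi] M (Nat.sub (T_e u) (Nat.mod (T_e u) M)) (nat_lit 40) (Nat.mod (T_e u) M) u) (lS MG [T_f, T_ei, T_d, T_f, T_di, T_ci, T_ei, T_fi] M (Nat.sub (T_e u) (Nat.mod (T_e u) M)) (nat_lit 40) (Nat.mod (T_e u) M) u) (Nat.ble (nat_lit 22) j)
noncomputable def dp_e_13 (j u : ℕ) : Bool :=
  Bool.rec (motive := fun _ => Bool) (dp_e_11 j u) (dp_e_12 j u) (Nat.ble (nat_lit 21) j)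
noncomputable def dp_e_14 (j u : ℕ) : Bool :=
  Bool.rec (motive := fun _ => Bool) (lF [T_fi, T_ei, T_f, T_e, T_c, T_di, T_f, T_f] M (Nat.sub (T_e u) (Nat.mod (T_e u) M)) (Nat.mod (T_e u) M) u) (lF [T_fi, T_ei, T_f, T_e, T_c, T_d, T_fi, T_di] M (Nat.sub (T_e u) (Nat.mod (T_e u) M)) (Nat.mod (T_e u) M) u) (Nat.ble (nat_lit 25) j)
noncomputable def dp_e_15 (j u : ℕ) : Bool :=
  Bool.rec (motive := fun _ => Bool) (lS MG [T_fi, T_ei, T_f, T_e, T_c, T_di, T_f, T_f] M (Nat.sub (T_e u) (Nat.mod (T_e u) M)) (nat_lit 40) (Nat.mod (T_e u) M) u) (dp_e_14 j u) (Nat.ble (nat_lit 24) j)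
noncomputable def dp_e_16 (j u : ℕ) : Bool :=
  Bool.rec (motive := fun _ => Bool) (lS MG [T_c, T_d, T_fi, T_di, T_e, T_fi, T_ei, T_f] M (Nat.sub (T_e u) (Nat.mod (T_e u) M)) (nat_lit 40) (Nat.mod (T_e u) M) u) (lF [T_c, T_d, T_fi, T_di, T_e, T_fi, T_ei, T_f] M (Nat.sub (T_e u) (Nat.mod (T_e u) M)) (Nat.mod (T_e u) M) u) (Nat.ble (nat_lit 29) j)
noncomputable def dp_e_17 (j u : ℕ) : Bool :=
  Bool.rec (motive := fun _ => Bool) (lF [T_f, T_ei, T_d, T_f, T_di, T_ci, T_ei, T_fi] M (Nat.sub (T_e u) (Nat.mod (T_e u) M)) (Nat.mod (T_e u) M) u) (dp_e_16 j u) (Nat.ble (nat_lit 28) j)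
noncomputable def dp_e_18 (j u : ℕ) : Bool :=
  Bool.rec (motive := fun _ => Bool) (lS MG [T_fi, T_ei, T_f, T_e, T_c, T_d, T_fi, T_di] M (Nat.sub (T_e u) (Nat.mod (T_e u) M)) (nat_lit 40) (Nat.mod (T_e u) M) u) (dp_e_17 j u) (Nat.ble (nat_lit 27) j)
noncomputable def dp_e_19 (j u : ℕ) : Bool :=
  Bool.rec (motive := fun _ => Bool) (dp_e_15 j u) (dp_e_18 j u) (Nat.ble (nat_lit 26) j)
noncomputable def dp_e_20 (j u : ℕ) : Bool :=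
  Bool.rec (motive := fun _ => Bool) (dp_e_13 j u) (dp_e_19 j u) (Nat.ble (nat_lit 23) j)
noncomputable def dp_e_21 (j u : ℕ) : Bool :=
  Bool.rec (motive := fun _ => Bool) (dp_e_10 j u) (dp_e_20 j u) (Nat.ble (nat_lit 19) j)
noncomputable def dp_e_22 (j u : ℕ) : Bool :=
  Bool.rec (motive := fun _ => Bool) (dp_e_6 j u) (dp_e_21 j u) (Nat.ble (nat_lit 14) j)
noncomputable def dp_e_23 (j u : ℕ) : Bool :=
  Bool.rec (motive := fun _ => Bool) (Bool.rec (motive := fun _ => Bool) (dp_e_0 j u) (dp_e_1 j u) (Nat.ble (nat_lit 6) j)) (dp_e_22 j u) (Nat.ble (nat_lit 8) j)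
noncomputable def disp_e (j u : ℕ) : Bool :=
  Bool.rec (motive := fun _ => Bool) (Bool.rec (motive := fun _ => Bool) (lF1 T_ei M (Nat.sub (T_e u) (Nat.mod (T_e u) M)) (Nat.mod (T_e u) M) u) (lDef P (nat_lit 9) u (Nat.mod (T_e u) M)) (Nat.ble (nat_lit 1) j)) (Bool.rec (motive := fun _ => Bool) (Bool.rec (motive := fun _ => Bool) (lDef P (nat_lit 8) (Nat.mod (T_e u) M) u) (lS MG [T_ei] M (Nat.sub (T_e u) (Nat.mod (T_e u) M)) (nat_lit 40) (Nat.mod (T_e u) M) u) (Nat.ble (nat_lit 3) j)) (dp_e_23 j u) (Nat.ble (nat_lit 4) j)) (Nat.ble (nat_lit 2) j)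
noncomputable def chk_e (j u : ℕ) : Bool :=
  Bool.rec (motive := fun _ => Bool) (disp_e j u) (Nat.ble (Nat.succ (MG u)) A) (Nat.ble A (T_e u))
noncomputable def dp_ei_0 (j u : ℕ) : Bool :=
  Bool.rec (motive := fun _ => Bool) (lS MG [T_ci, T_ei, T_b, T_ei, T_ci, T_ei, T_b] M (Nat.sub (T_ei u) (Nat.mod (T_ei u) M)) (nat_lit 40) (Nat.mod (T_ei u) M) u) (lF [T_ci, T_ei, T_b, T_ei, T_ci, T_ei, T_b] M (Nat.sub (T_ei u) (Nat.mod (T_ei u) M)) (Nat.mod (T_ei u) M) u) (Nat.ble (nat_lit 5) j)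
noncomputable def dp_ei_1 (j u : ℕ) : Bool :=
  Bool.rec (motive := fun _ => Bool) (lS MG [T_b, T_ei, T_ci, T_ei, T_b, T_ei, T_ci] M (Nat.sub (T_ei u) (Nat.mod (T_ei u) M)) (nat_lit 40) (Nat.mod (T_ei u) M) u) (lF [T_b, T_ei, T_ci, T_ei, T_b, T_ei, T_ci] M (Nat.sub (T_ei u) (Nat.mod (T_ei u) M)) (Nat.mod (T_ei u) M) u) (Nat.ble (nat_lit 7) j)
noncomputable def dp_ei_2 (j u : ℕ) : Bool :=
  Bool.rec (motive := fun _ => Bool) (lS MG [T_bi, T_c, T_fi, T_ei, T_fi, T_b, T_f, T_d] M (Nat.sub (T_ei u) (Nat.mod (T_ei u) M)) (nat_lit 40) (Nat.mod (T_ei u) M) u) (lS MG [T_fi, T_e, T_fi, T_d, T_ci, T_fi, T_e, T_f] M (Nat.sub (T_ei u) (Nat.mod (T_ei u) M)) (nat_lit 40) (Nat.mod (T_ei u) M) u) (Nat.ble (nat_lit 10) j)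
noncomputable def dp_ei_3 (j u : ℕ) : Bool :=
  Bool.rec (motive := fun _ => Bool) (lS MG [T_f, T_e, T_fi, T_ei, T_f, T_c, T_di, T_f] M (Nat.sub (T_ei u) (Nat.mod (T_ei u) M)) (nat_lit 40) (Nat.mod (T_ei u) M) u) (dp_ei_2 j u) (Nat.ble (nat_lit 9) j)
noncomputable def dp_ei_4 (j u : ℕ) : Bool :=
  Bool.rec (motive := fun _ => Bool) (lF [T_bi, T_c, T_fi, T_ei, T_fi, T_b, T_f, T_d] M (Nat.sub (T_ei u) (Nat.mod (T_ei u) M)) (Nat.mod (T_ei u) M) u) (lS MG [T_fi, T_b, T_f, T_d, T_ei, T_bi, T_c, T_fi] M (Nat.sub (T_ei u) (Nat.mod (T_ei u) M)) (nat_lit 40) (Nat.mod (T_ei u) M) u) (Nat.ble (nat_lit 12) j)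
noncomputable def dp_ei_5 (j u : ℕ) : Bool :=
  Bool.rec (motive := fun _ => Bool) (lF [T_f, T_e, T_fi, T_ei, T_f, T_c, T_di, T_f] M (Nat.sub (T_ei u) (Nat.mod (T_ei u) M)) (Nat.mod (T_ei u) M) u) (lF [T_fi, T_b, T_f, T_d, T_ei, T_bi, T_c, T_fi] M (Nat.sub (T_ei u) (Nat.mod (T_ei u) M)) (Nat.mod (T_ei u) M) u) (Nat.ble (nat_lit 14) j)
noncomputable def dp_ei_6 (j u : ℕ) : Bool :=
  Bool.rec (motive := fun _ => Bool) (dp_ei_4 j u) (dp_ei_5 j u) (Nat.ble (nat_lit 13) j)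
noncomputable def dp_ei_7 (j u : ℕ) : Bool :=
  Bool.rec (motive := fun _ => Bool) (dp_ei_3 j u) (dp_ei_6 j u) (Nat.ble (nat_lit 11) j)
noncomputable def dp_ei_8 (j u : ℕ) : Bool :=
  Bool.rec (motive := fun _ => Bool) (lS MG [T_f, T_c, T_di, T_f, T_ei, T_f, T_e, T_fi] M (Nat.sub (T_ei u) (Nat.mod (T_ei u) M)) (nat_lit 40) (Nat.mod (T_ei u) M) u) (lF [T_fi, T_e, T_fi, T_d, T_ci, T_fi, T_e, T_f] M (Nat.sub (T_ei u) (Nat.mod (T_ei u) M)) (Nat.mod (T_ei u) M) u) (Nat.ble (nat_lit 16) j)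
noncomputable def dp_ei_9 (j u : ℕ) : Bool :=
  Bool.rec (motive := fun _ => Bool) (lS MG [T_fi, T_e, T_f, T_ei, T_fi, T_fi, T_d, T_ci] M (Nat.sub (T_ei u) (Nat.mod (T_ei u) M)) (nat_lit 40) (Nat.mod (T_ei u) M) u) (lS MG [T_f, T_e, T_c, T_d, T_fi, T_di, T_e, T_fi] M (Nat.sub (T_ei u) (Nat.mod (T_ei u) M)) (nat_lit 40) (Nat.mod (T_ei u) M) u) (Nat.ble (nat_lit 19) j)
noncomputable def dp_ei_10 (j u : ℕ) : Bool :=
  Bool.rec (motive := fun _ => Bool) (lF [T_f, T_c, T_di, T_f, T_ei, T_f, T_e, T_fi] M (Nat.sub (T_ei u) (Nat.mod (T_ei u) M)) (Nat.mod (T_ei u) M) u) (dp_ei_9 j u) (Nat.ble (nat_lit 18) j)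
noncomputable def dp_ei_11 (j u : ℕ) : Bool :=
  Bool.rec (motive := fun _ => Bool) (dp_ei_8 j u) (dp_ei_10 j u) (Nat.ble (nat_lit 17) j)
noncomputable def dp_ei_12 (j u : ℕ) : Bool :=
  Bool.rec (motive := fun _ => Bool) (lF [T_fi, T_fi, T_d, T_ci, T_ei, T_fi, T_e, T_f] M (Nat.sub (T_ei u) (Nat.mod (T_ei u) M)) (Nat.mod (T_ei u) M) u) (lS MG [T_f, T_e, T_c, T_di, T_f, T_f, T_e, T_fi] M (Nat.sub (T_ei u) (Nat.mod (T_ei u) M)) (nat_lit 40) (Nat.mod (T_ei u) M) u) (Nat.ble (nat_lit 21) j)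
noncomputable def dp_ei_13 (j u : ℕ) : Bool :=
  Bool.rec (motive := fun _ => Bool) (lS MG [T_fi, T_fi, T_d, T_ci, T_ei, T_fi, T_e, T_f] M (Nat.sub (T_ei u) (Nat.mod (T_ei u) M)) (nat_lit 40) (Nat.mod (T_ei u) M) u) (lF [T_f, T_e, T_c, T_di, T_f, T_f, T_e, T_fi] M (Nat.sub (T_ei u) (Nat.mod (T_ei u) M)) (Nat.mod (T_ei u) M) u) (Nat.ble (nat_lit 23) j)
noncomputable def dp_ei_14 (j u : ℕ) : Bool :=
  Bool.rec (motive := fun _ => Bool) (dp_ei_12 j u) (dp_ei_13 j u) (Nat.ble (nat_lit 22) j)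
noncomputable def dp_ei_15 (j u : ℕ) : Bool :=
  Bool.rec (motive := fun _ => Bool) (lF [T_fi, T_e, T_f, T_ei, T_fi, T_fi, T_d, T_ci] M (Nat.sub (T_ei u) (Nat.mod (T_ei u) M)) (Nat.mod (T_ei u) M) u) (lS MG [T_d, T_f, T_di, T_ci, T_ei, T_fi, T_e, T_f] M (Nat.sub (T_ei u) (Nat.mod (T_ei u) M)) (nat_lit 40) (Nat.mod (T_ei u) M) u) (Nat.ble (nat_lit 25) j)
noncomputable def dp_ei_16 (j u : ℕ) : Bool :=
  Bool.rec (motive := fun _ => Bool) (lS MG [T_fi, T_e, T_f, T_ei, T_d, T_f, T_di, T_ci] M (Nat.sub (T_ei u) (Nat.mod (T_ei u) M)) (nat_lit 40) (Nat.mod (T_ei u) M) u) (lF [T_f, T_e, T_c, T_d, T_fi, T_di, T_e, T_fi] M (Nat.sub (T_ei u) (Nat.mod (T_ei u) M)) (Nat.mod (T_ei u) M) u) (Nat.ble (nat_lit 27) j)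
noncomputable def dp_ei_17 (j u : ℕ) : Bool :=
  Bool.rec (motive := fun _ => Bool) (lF [T_d, T_f, T_di, T_ci, T_ei, T_fi, T_e, T_f] M (Nat.sub (T_ei u) (Nat.mod (T_ei u) M)) (Nat.mod (T_ei u) M) u) (lF [T_fi, T_e, T_f, T_ei, T_d, T_f, T_di, T_ci] M (Nat.sub (T_ei u) (Nat.mod (T_ei u) M)) (Nat.mod (T_ei u) M) u) (Nat.ble (nat_lit 29) j)
noncomputable def dp_ei_18 (j u : ℕ) : Bool :=
  Bool.rec (motive := fun _ => Bool) (dp_ei_16 j u) (dp_ei_17 j u) (Nat.ble (nat_lit 28) j)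
noncomputable def dp_ei_19 (j u : ℕ) : Bool :=
  Bool.rec (motive := fun _ => Bool) (dp_ei_15 j u) (dp_ei_18 j u) (Nat.ble (nat_lit 26) j)
noncomputable def dp_ei_20 (j u : ℕ) : Bool :=
  Bool.rec (motive := fun _ => Bool) (dp_ei_14 j u) (dp_ei_19 j u) (Nat.ble (nat_lit 24) j)
noncomputable def dp_ei_21 (j u : ℕ) : Bool :=
  Bool.rec (motive := fun _ => Bool) (dp_ei_11 j u) (dp_ei_20 j u) (Nat.ble (nat_lit 20) j)
noncomputable def dp_ei_22 (j u : ℕ) : Bool :=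
  Bool.rec (motive := fun _ => Bool) (dp_ei_7 j u) (dp_ei_21 j u) (Nat.ble (nat_lit 15) j)
noncomputable def dp_ei_23 (j u : ℕ) : Bool :=
  Bool.rec (motive := fun _ => Bool) (Bool.rec (motive := fun _ => Bool) (dp_ei_0 j u) (dp_ei_1 j u) (Nat.ble (nat_lit 6) j)) (dp_ei_22 j u) (Nat.ble (nat_lit 8) j)
noncomputable def disp_ei (j u : ℕ) : Bool :=
  Bool.rec (motive := fun _ => Bool) (Bool.rec (motive := fun _ => Bool) (lF1 T_e M (Nat.sub (T_ei u) (Nat.mod (T_ei u) M)) (Nat.mod (T_ei u) M) u) (lDef P (nat_lit 9) (Nat.mod (T_ei u) M) u) (Nat.ble (nat_lit 1) j)) (Bool.rec (motive := fun _ => Bool) (Bool.rec (motive := fun _ => Bool) (lDef P (nat_lit 8) u (Nat.mod (T_ei u) M)) (lS MG [T_e] M (Nat.sub (T_ei u) (Nat.mod (T_ei u) M)) (nat_lit 40) (Nat.mod (T_ei u) M) u) (Nat.ble (nat_lit 3) j)) (dp_ei_23 j u) (Nat.ble (nat_lit 4) j)) (Nat.ble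 (nat_lit 2) j)
noncomputable def chk_ei (j u : ℕ) : Bool :=
  Bool.rec (motive := fun _ => Bool) (disp_ei j u) (Nat.ble (Nat.succ (MG u)) A) (Nat.ble A (T_ei u))
noncomputable def dM_0 (j z1 z2 u : ℕ) : Bool :=
  Bool.rec (motive := fun _ => Bool) (Bool.rec (motive := fun _ => Bool) (mCo MG T_ci M (Nat.sub (MG u) (Nat.mod (MG u) M)) (nat_lit 40) z1 z2 u (Nat.mod (MG u) M)) (mCo MG T_f M (Nat.sub (MG u) (Nat.mod (MG u) M)) (nat_lit 40) z1 z2 u (Nat.mod (MG u) M)) (Nat.ble (nat_lit 1) j)) (Bool.rec (motive := fun _ => Bool) (mCo MG T_b M (Nat.sub (MG u) (Nat.mod (MG u) M)) (nat_lit 40) z1 z2 u (Nat.mod (MG u) M)) (Bool.rec (motive := fun _ => Bool) (mCo MG T_fi M (Nat.sub (MG u) (Nat.mod (MG u) M)) (nat_lit 40) z1 z2 u (Nat.mod (MG u) M)) (mCo MG T_bi M (Nat.sub (MG u) (Nat.mod (MG u) M)) (nat_lit 40) z1 z2 u (Nat.mod (MG u) M)) (Nat.ble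 (nat_lit 4) j)) (Nat.ble (nat_lit 3) j)) (Nat.ble (nat_lit 2) j)
noncomputable def dM_1 (j z1 z2 u : ℕ) : Bool :=
  Bool.rec (motive := fun _ => Bool) (mCo MG T_c M (Nat.sub (MG u) (Nat.mod (MG u) M)) (nat_lit 40) z1 z2 u (Nat.mod (MG u) M)) (mCo MG T_d M (Nat.sub (MG u) (Nat.mod (MG u) M)) (nat_lit 40) z1 z2 u (Nat.mod (MG u) M)) (Nat.ble (nat_lit 6) j)
noncomputable def dM_2 (j z1 z2 u : ℕ) : Bool :=
  Bool.rec (motive := fun _ => Bool) (Bool.rec (motive := fun _ => Bool) (mCo MG T_di M (Nat.sub (MG u) (Nat.mod (MG u) M)) (nat_lit 40) z1 z2 u (Nat.mod (MG u) M)) (mCo MG T_e M (Nat.sub (MG u) (Nat.mod (MG u) M)) (nat_lit 40) z1 z2 u (Nat.mod (MG u) M)) (Nat.ble (nat_lit 8) j)) (Bool.rec (motive := fun _ => Bool) (mCo MG T_ei M (Nat.sub (MG u) (Nat.mod (MG u) M)) (nat_lit 40) z1 z2 u (Nat.mod (MG u) M)) (Bool.rec (motive := fun _ => Bool)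 (Bool.rec (motive := fun _ => Bool) (mRel MG [T_ei, T_b] [T_c, T_e, T_bi, T_e, T_c, T_e] M (Nat.sub (MG u) (Nat.mod (MG u) M)) (nat_lit 40) z1 u (Nat.mod (MG u) M)) (Bool.rec (motive := fun _ => Bool) (mRel MG [T_ei, T_b, T_ei] [T_c, T_e, T_bi, T_e, T_c] M (Nat.sub (MG u) (Nat.mod (MG u) M)) (nat_lit 40) z1 u (Nat.mod (MG u) M)) (mRel MG [T_e, T_bi] [T_ci, T_ei, T_b, T_ei, T_ci, T_ei] M (Nat.sub (MG u) (Nat.mod (MG u) M)) (nat_lit 40) z1 u (Nat.mod (MG u) M)) (Nat.ble (nat_lit 12) j)) (Nat.ble (nat_lit 11) j)) (Bool.rec (motive := fun _ => Bool) (Bool.rec (motive := fun _ => Bool) (mRel MG [T_ei, T_b, T_ei, T_ci, T_ei, T_b, T_ei] [T_c] M (Nat.sub (MG u) (Nat.mod (MG u) M)) (nat_lit 40) z1 u (Nat.mod (MG u) M)) (mRel MG [T_ei, T_b, T_ei, T_ci, T_ei, T_b] [T_c, T_e] M (Nat.sub (MG u) (Nat.mod (MG u) M)) (nat_lit 40) z1 u (Nat.mod (MG u) M))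 (Nat.ble (nat_lit 14) j)) (Bool.rec (motive := fun _ => Bool) (mRel MG [T_e, T_c, T_e, T_bi, T_e, T_c, T_e] [T_b] M (Nat.sub (MG u) (Nat.mod (MG u) M)) (nat_lit 40) z1 u (Nat.mod (MG u) M)) (Bool.rec (motive := fun _ => Bool) (mRel MG [T_ei, T_ci] [T_bi, T_e, T_c, T_e, T_bi, T_e] M (Nat.sub (MG u) (Nat.mod (MG u) M)) (nat_lit 40) z1 u (Nat.mod (MG u) M)) (mRel MG [T_e, T_c, T_e] [T_b, T_ei, T_ci, T_ei, T_b] M (Nat.sub (MG u) (Nat.mod (MG u) M)) (nat_lit 40) z1 u (Nat.mod (MG u) M)) (Nat.ble (nat_lit 17) j)) (Nat.ble (nat_lit 16) j)) (Nat.ble (nat_lit 15) j)) (Nat.ble (nat_lit 13) j)) (Nat.ble (nat_lit 10) j)) (Nat.ble (nat_lit 9) j)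
noncomputable def dM_3 (j z1 z2 u : ℕ) : Bool :=
  Bool.rec (motive := fun _ => Bool) (dM_1 j z1 z2 u) (dM_2 j z1 z2 u) (Nat.ble (nat_lit 7) j)
noncomputable def dM_4 (j z1 z2 u : ℕ) : Bool :=
  Bool.rec (motive := fun _ => Bool) (dM_0 j z1 z2 u) (dM_3 j z1 z2 u) (Nat.ble (nat_lit 5) j)
noncomputable def dM_5 (j z1 z2 u : ℕ) : Bool :=
  Bool.rec (motive := fun _ => Bool) (Bool.rec (motive := fun _ => Bool) (Bool.rec (motive := fun _ => Bool) (mRel MG [T_e, T_bi, T_e, T_c, T_e, T_bi] [T_ci, T_ei] M (Nat.sub (MG u) (Nat.mod (MG u) M)) (nat_lit 40) z1 u (Nat.mod (MG u) M)) (mRel MG [T_ei, T_ci, T_ei, T_b, T_ei, T_ci, T_ei] [T_bi] M (Nat.sub (MG u) (Nat.mod (MG u) M)) (nat_lit 40) z1 u (Nat.mod (MG u) M)) (Nat.ble (nat_lit 19) j)) (Bool.rec (motive := fun _ => Bool) (mRel MG [T_ei, T_ci, T_ei, T_b] [T_bi, T_e, T_c, T_e] M (Nat.sub (MG u) (Nat.mod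 (MG u) M)) (nat_lit 40) z1 u (Nat.mod (MG u) M)) (mRel MG [T_e, T_c, T_e, T_bi, T_e, T_c] [T_b, T_ei] M (Nat.sub (MG u) (Nat.mod (MG u) M)) (nat_lit 40) z1 u (Nat.mod (MG u) M)) (Nat.ble (nat_lit 21) j)) (Nat.ble (nat_lit 20) j)) (Bool.rec (motive := fun _ => Bool) (Bool.rec (motive := fun _ => Bool) (mRel MG [T_ei, T_ci, T_ei] [T_bi, T_e, T_c, T_e, T_bi] M (Nat.sub (MG u) (Nat.mod (MG u) M)) (nat_lit 40) z1 u (Nat.mod (MG u) M)) (mRel MG [T_e, T_bi, T_e] [T_ci, T_ei, T_b, T_ei, T_ci] M (Nat.sub (MG u) (Nat.mod (MG u) M)) (nat_lit 40) z1 u (Nat.mod (MG u) M)) (Nat.ble (nat_lit 23) j)) (Bool.rec (motive := fun _ => Bool) (mRel MG [T_e, T_bi, T_e, T_c, T_e, T_bi, T_e] [T_ci] M (Nat.sub (MG u) (Nat.mod (MG u) M)) (nat_lit 40) z1 u (Nat.mod (MG u) M)) (mRel MG [T_e, T_bi, T_e, T_c, T_e] [T_ci, T_ei, T_b] M (Nat.sub (MG u) (Nat.mod (MG u) M))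 (nat_lit 40) z1 u (Nat.mod (MG u) M)) (Nat.ble (nat_lit 25) j)) (Nat.ble (nat_lit 24) j)) (Nat.ble (nat_lit 22) j)
noncomputable def dM_6 (j z1 z2 u : ℕ) : Bool :=
  Bool.rec (motive := fun _ => Bool) (Bool.rec (motive := fun _ => Bool) (Bool.rec (motive := fun _ => Bool) (mRel MG [T_ei, T_ci, T_ei, T_b, T_ei] [T_bi, T_e, T_c] M (Nat.sub (MG u) (Nat.mod (MG u) M)) (nat_lit 40) z1 u (Nat.mod (MG u) M)) (mRel MG [T_ei, T_b, T_ei, T_ci] [T_c, T_e, T_bi, T_e] M (Nat.sub (MG u) (Nat.mod (MG u) M)) (nat_lit 40) z1 u (Nat.mod (MG u) M)) (Nat.ble (nat_lit 27) j)) (Bool.rec (motive := fun _ => Bool) (mRel MG [T_ei, T_ci, T_ei, T_b, T_ei, T_ci] [T_bi, T_e] M (Nat.sub (MG u) (Nat.mod (MG u) M)) (nat_lit 40) z1 u (Nat.mod (MG u) M)) (Bool.rec (motive := fun _ => Bool) (mRel MG [T_e, T_bi, T_e, T_c] [T_ci, T_ei, T_b, T_ei] M (Nat.sub (MG u) (Nat.mod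 (MG u) M)) (nat_lit 40) z1 u (Nat.mod (MG u) M)) (mRel MG [T_e, T_c, T_e, T_bi] [T_b, T_ei, T_ci, T_ei] M (Nat.sub (MG u) (Nat.mod (MG u) M)) (nat_lit 40) z1 u (Nat.mod (MG u) M)) (Nat.ble (nat_lit 30) j)) (Nat.ble (nat_lit 29) j)) (Nat.ble (nat_lit 28) j)) (Bool.rec (motive := fun _ => Bool) (Bool.rec (motive := fun _ => Bool) (mRel MG [T_ci, T_ei] [T_e, T_bi, T_e, T_c, T_e, T_bi] M (Nat.sub (MG u) (Nat.mod (MG u) M)) (nat_lit 40) z1 u (Nat.mod (MG u) M)) (Bool.rec (motive := fun _ => Bool) (mRel MG [T_e, T_c] [T_b, T_ei, T_ci, T_ei, T_b, T_ei] M (Nat.sub (MG u) (Nat.mod (MG u) M)) (nat_lit 40) z1 u (Nat.mod (MG u) M)) (mRel MG [T_fi, T_e, T_fi, T_d] [T_e, T_fi, T_ei, T_f, T_c] M (Nat.sub (MG u) (Nat.mod (MG u) M)) (nat_lit 40) z1 u (Nat.mod (MG u) M)) (Nat.ble (nat_lit 33) j)) (Nat.ble (nat_lit 32) j)) (Bool.rec (motive := fun _ => Bool)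 (Bool.rec (motive := fun _ => Bool) (mRel MG [T_b, T_ei, T_ci, T_ei, T_b] [T_e, T_c, T_e] M (Nat.sub (MG u) (Nat.mod (MG u) M)) (nat_lit 40) z1 u (Nat.mod (MG u) M)) (mRel MG [T_ei, T_b, T_ei, T_ci, T_ei] [T_c, T_e, T_bi] M (Nat.sub (MG u) (Nat.mod (MG u) M)) (nat_lit 40) z1 u (Nat.mod (MG u) M)) (Nat.ble (nat_lit 35) j)) (Bool.rec (motive := fun _ => Bool) (mRel MG [T_b] [T_c, T_fi, T_ei, T_fi, T_b, T_f, T_d, T_ei] M (Nat.sub (MG u) (Nat.mod (MG u) M)) (nat_lit 40) z1 u (Nat.mod (MG u) M)) (mRel MG [T_fi, T_ei, T_f, T_c, T_di, T_f, T_ei] [T_ei, T_fi] M (Nat.sub (MG u) (Nat.mod (MG u) M)) (nat_lit 40) z1 u (Nat.mod (MG u) M)) (Nat.ble (nat_lit 37) j)) (Nat.ble (nat_lit 36) j)) (Nat.ble (nat_lit 34) j)) (Nat.ble (nat_lit 31) j)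
noncomputable def dM_7 (j z1 z2 u : ℕ) : Bool :=
  Bool.rec (motive := fun _ => Bool) (dM_5 j z1 z2 u) (dM_6 j z1 z2 u) (Nat.ble (nat_lit 26) j)
noncomputable def dM_8 (j z1 z2 u : ℕ) : Bool :=
  Bool.rec (motive := fun _ => Bool) (Bool.rec (motive := fun _ => Bool) (Bool.rec (motive := fun _ => Bool) (mRel MG [T_bi, T_ci, T_di, T_b, T_f, T_f] [T_b, T_ci] M (Nat.sub (MG u) (Nat.mod (MG u) M)) (nat_lit 40) z1 u (Nat.mod (MG u) M)) (mRel MG [T_b, T_di, T_f, T_bi] [T_c, T_d, T_f, T_ci] M (Nat.sub (MG u) (Nat.mod (MG u) M)) (nat_lit 40) z1 u (Nat.mod (MG u) M)) (Nat.ble (nat_lit 39) j)) (Bool.rec (motive := fun _ => Bool) (mRel MG [T_d, T_bi, T_d, T_d, T_b] [T_di, T_b, T_di] M (Nat.sub (MG u) (Nat.mod (MG u) M)) (nat_lit 40) z1 u (Nat.mod (MG u) M)) (mRel MG [T_f, T_e, T_f, T_ci, T_b, T_e] [T_b, T_f, T_d] M (Nat.sub (MG u) (Nat.mod (MG u) M))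 (nat_lit 40) z1 u (Nat.mod (MG u) M)) (Nat.ble (nat_lit 41) j)) (Nat.ble (nat_lit 40) j)) (Bool.rec (motive := fun _ => Bool) (Bool.rec (motive := fun _ => Bool) (mRel MG [T_d, T_f, T_ci, T_b, T_fi, T_d] [T_ci, T_b] M (Nat.sub (MG u) (Nat.mod (MG u) M)) (nat_lit 40) z1 u (Nat.mod (MG u) M)) (mRel MG [T_b, T_ci, T_di, T_ci, T_bi, T_f] [T_di, T_c] M (Nat.sub (MG u) (Nat.mod (MG u) M)) (nat_lit 40) z1 u (Nat.mod (MG u) M)) (Nat.ble (nat_lit 43) j)) (Bool.rec (motive := fun _ => Bool) (mRel MG [T_d, T_ei] [T_fi, T_bi, T_f, T_e, T_f, T_ci, T_b] M (Nat.sub (MG u) (Nat.mod (MG u) M)) (nat_lit 40) z1 u (Nat.mod (MG u) M)) (mRel MG [T_b, T_e, T_di, T_fi, T_bi, T_f, T_e] [T_c, T_fi] M (Nat.sub (MG u) (Nat.mod (MG u) M)) (nat_lit 40) z1 u (Nat.mod (MG u) M)) (Nat.ble (nat_lit 45) j)) (Nat.ble (nat_lit 44) j)) (Nat.ble (nat_lit 42) j)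
noncomputable def dM_9 (j z1 z2 u : ℕ) : Bool :=
  Bool.rec (motive := fun _ => Bool) (Bool.rec (motive := fun _ => Bool) (Bool.rec (motive := fun _ => Bool) (mRel MG [T_ei, T_bi, T_c, T_fi] [T_di, T_fi, T_bi, T_f, T_e] M (Nat.sub (MG u) (Nat.mod (MG u) M)) (nat_lit 40) z1 u (Nat.mod (MG u) M)) (mRel MG [T_b, T_ci, T_bi, T_fi, T_di, T_fi] [T_ci, T_bi] M (Nat.sub (MG u) (Nat.mod (MG u) M)) (nat_lit 40) z1 u (Nat.mod (MG u) M)) (Nat.ble (nat_lit 47) j)) (Bool.rec (motive := fun _ => Bool) (mRel MG [T_f, T_d, T_ei, T_bi, T_c, T_fi, T_ei] [T_bi, T_f] M (Nat.sub (MG u) (Nat.mod (MG u) M)) (nat_lit 40) z1 u (Nat.mod (MG u) M)) (mRel MG [T_bi, T_f, T_e] [T_f, T_d, T_ei, T_bi, T_c, T_fi] M (Nat.sub (MG u) (Nat.mod (MG u) M)) (nat_lit 40) z1 u (Nat.mod (MG u) M)) (Nat.ble (nat_lit 49) j)) (Nat.ble (nat_lit 48) j)) (Bool.rec (motive := fun _ => Bool)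 (Bool.rec (motive := fun _ => Bool) (mRel MG [T_c, T_di, T_f, T_f] [T_ei, T_fi, T_e, T_f, T_ei] M (Nat.sub (MG u) (Nat.mod (MG u) M)) (nat_lit 40) z1 u (Nat.mod (MG u) M)) (mRel MG [T_ci, T_bi] [T_di, T_ci, T_bi, T_d, T_f, T_di] M (Nat.sub (MG u) (Nat.mod (MG u) M)) (nat_lit 40) z1 u (Nat.mod (MG u) M)) (Nat.ble (nat_lit 51) j)) (Bool.rec (motive := fun _ => Bool) (mRel MG [T_c, T_di, T_c] [T_bi, T_d, T_ci, T_b, T_di] M (Nat.sub (MG u) (Nat.mod (MG u) M)) (nat_lit 40) z1 u (Nat.mod (MG u) M)) (Bool.rec (motive := fun _ => Bool) (mRel MG [T_ci, T_ei, T_b, T_ei, T_ci] [T_e, T_bi, T_e] M (Nat.sub (MG u) (Nat.mod (MG u) M)) (nat_lit 40) z1 u (Nat.mod (MG u) M)) (mRel MG [T_e, T_di, T_fi, T_bi, T_f, T_e] [T_bi, T_c, T_fi] M (Nat.sub (MG u) (Nat.mod (MG u) M)) (nat_lit 40) z1 u (Nat.mod (MG u) M)) (Nat.ble (nat_lit 54) j)) (Nat.ble (nat_lit 53)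 j)) (Nat.ble (nat_lit 52) j)) (Nat.ble (nat_lit 50) j)
noncomputable def dM_10 (j z1 z2 u : ℕ) : Bool :=
  Bool.rec (motive := fun _ => Bool) (dM_8 j z1 z2 u) (dM_9 j z1 z2 u) (Nat.ble (nat_lit 46) j)
noncomputable def dM_11 (j z1 z2 u : ℕ) : Bool :=
  Bool.rec (motive := fun _ => Bool) (Bool.rec (motive := fun _ => Bool) (Bool.rec (motive := fun _ => Bool) (mRel MG [T_c, T_e, T_bi, T_e] [T_ei, T_b, T_ei, T_ci] M (Nat.sub (MG u) (Nat.mod (MG u) M)) (nat_lit 40) z1 u (Nat.mod (MG u) M)) (mRel MG [T_ci, T_d] [T_d, T_bi, T_c, T_di, T_b, T_c] M (Nat.sub (MG u) (Nat.mod (MG u) M)) (nat_lit 40) z1 u (Nat.mod (MG u) M)) (Nat.ble (nat_lit 56) j)) (Bool.rec (motive := fun _ => Bool) (mRel MG [T_c, T_e, T_bi, T_e, T_c, T_e] [T_ei, T_b] M (Nat.sub (MG u) (Nat.mod (MG u) M)) (nat_lit 40) z1 u (Nat.mod (MG u) M)) (Bool.rec (motive := fun _ => Bool)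 (mRel MG [T_d, T_fi, T_d, T_d, T_f, T_d] [T_f, T_f] M (Nat.sub (MG u) (Nat.mod (MG u) M)) (nat_lit 40) z1 u (Nat.mod (MG u) M)) (mRel MG [T_c, T_b, T_d, T_ci, T_fi, T_fi, T_di] [T_b] M (Nat.sub (MG u) (Nat.mod (MG u) M)) (nat_lit 40) z1 u (Nat.mod (MG u) M)) (Nat.ble (nat_lit 59) j)) (Nat.ble (nat_lit 58) j)) (Nat.ble (nat_lit 57) j)) (Bool.rec (motive := fun _ => Bool) (Bool.rec (motive := fun _ => Bool) (mRel MG [T_c, T_b, T_c, T_c, T_d] [T_b, T_di, T_f] M (Nat.sub (MG u) (Nat.mod (MG u) M)) (nat_lit 40) z1 u (Nat.mod (MG u) M)) (mRel MG [T_b, T_c, T_bi, T_ci, T_bi] [T_di, T_di, T_f] M (Nat.sub (MG u) (Nat.mod (MG u) M)) (nat_lit 40) z1 u (Nat.mod (MG u) M)) (Nat.ble (nat_lit 61) j)) (Bool.rec (motive := fun _ => Bool) (mRel MG [T_d, T_c, T_bi, T_ci] [T_c, T_b, T_ci, T_di] M (Nat.sub (MG u) (Nat.mod (MG u) M)) (nat_lit 40) z1 u (Nat.mod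 (MG u) M)) (Bool.rec (motive := fun _ => Bool) (mRel MG [T_e, T_f, T_ci, T_b, T_e] [T_fi, T_b, T_f, T_d] M (Nat.sub (MG u) (Nat.mod (MG u) M)) (nat_lit 40) z1 u (Nat.mod (MG u) M)) (mRel MG [T_f, T_ei, T_fi] [T_ei, T_f, T_c, T_di, T_f, T_ei] M (Nat.sub (MG u) (Nat.mod (MG u) M)) (nat_lit 40) z1 u (Nat.mod (MG u) M)) (Nat.ble (nat_lit 64) j)) (Nat.ble (nat_lit 63) j)) (Nat.ble (nat_lit 62) j)) (Nat.ble (nat_lit 60) j)
noncomputable def dM_12 (j z1 z2 u : ℕ) : Bool :=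
  Bool.rec (motive := fun _ => Bool) (Bool.rec (motive := fun _ => Bool) (Bool.rec (motive := fun _ => Bool) (mRel MG [T_b, T_f, T_d, T_ei] [T_f, T_e, T_f, T_ci, T_b] M (Nat.sub (MG u) (Nat.mod (MG u) M)) (nat_lit 40) z1 u (Nat.mod (MG u) M)) (mRel MG [T_bi, T_ci, T_di, T_f, T_bi] [T_f, T_d, T_d] M (Nat.sub (MG u) (Nat.mod (MG u) M)) (nat_lit 40) z1 u (Nat.mod (MG u) M)) (Nat.ble (nat_lit 66) j)) (Bool.rec (motive := fun _ => Bool) (mRel MG [T_c, T_e, T_bi, T_e, T_c] [T_ei, T_b, T_ei] M (Nat.sub (MG u) (Nat.mod (MG u) M)) (nat_lit 40) z1 u (Nat.mod (MG u) M)) (Bool.rec (motive := fun _ => Bool) (mRel MG [T_b, T_ci, T_d, T_b, T_f, T_ci] [T_d, T_fi] M (Nat.sub (MG u) (Nat.mod (MG u) M)) (nat_lit 40) z1 u (Nat.mod (MG u) M)) (mRel MG [T_bi, T_di, T_c, T_bi, T_d, T_fi] [T_f, T_ci] M (Nat.sub (MG u) (Nat.mod (MG u) M)) (nat_lit 40) z1 u (Nat.mod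 (MG u) M)) (Nat.ble (nat_lit 69) j)) (Nat.ble (nat_lit 68) j)) (Nat.ble (nat_lit 67) j)) (Bool.rec (motive := fun _ => Bool) (Bool.rec (motive := fun _ => Bool) (mRel MG [T_e, T_fi, T_ei, T_f, T_e] [T_fi, T_fi, T_d, T_ci] M (Nat.sub (MG u) (Nat.mod (MG u) M)) (nat_lit 40) z1 u (Nat.mod (MG u) M)) (Bool.rec (motive := fun _ => Bool) (mRel MG [T_c, T_di, T_f, T_f, T_e] [T_ei, T_fi, T_e, T_f] M (Nat.sub (MG u) (Nat.mod (MG u) M)) (nat_lit 40) z1 u (Nat.mod (MG u) M)) (mRel MG [T_f, T_b, T_ci, T_fi, T_b] [T_c, T_d, T_d] M (Nat.sub (MG u) (Nat.mod (MG u) M)) (nat_lit 40) z1 u (Nat.mod (MG u) M)) (Nat.ble (nat_lit 72) j)) (Nat.ble (nat_lit 71) j)) (Bool.rec (motive := fun _ => Bool) (mRel MG [T_fi, T_e, T_f, T_ei, T_fi, T_e] [T_c, T_di, T_f] M (Nat.sub (MG u) (Nat.mod (MG u) M)) (nat_lit 40) z1 u (Nat.mod (MG u) M)) (Bool.rec (motive := fun _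 => Bool) (mRel MG [T_e, T_c, T_e, T_bi, T_e] [T_b, T_ei, T_ci] M (Nat.sub (MG u) (Nat.mod (MG u) M)) (nat_lit 40) z1 u (Nat.mod (MG u) M)) (mRel MG [T_bi, T_bi, T_f, T_b, T_f, T_di] [T_f, T_ci] M (Nat.sub (MG u) (Nat.mod (MG u) M)) (nat_lit 40) z1 u (Nat.mod (MG u) M)) (Nat.ble (nat_lit 75) j)) (Nat.ble (nat_lit 74) j)) (Nat.ble (nat_lit 73) j)) (Nat.ble (nat_lit 70) j)
noncomputable def dM_13 (j z1 z2 u : ℕ) : Bool :=
  Bool.rec (motive := fun _ => Bool) (dM_11 j z1 z2 u) (dM_12 j z1 z2 u) (Nat.ble (nat_lit 65) j)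
noncomputable def dM_14 (j z1 z2 u : ℕ) : Bool :=
  Bool.rec (motive := fun _ => Bool) (dM_10 j z1 z2 u) (dM_13 j z1 z2 u) (Nat.ble (nat_lit 55) j)
noncomputable def dM_15 (j z1 z2 u : ℕ) : Bool :=
  Bool.rec (motive := fun _ => Bool) (dM_7 j z1 z2 u) (dM_14 j z1 z2 u) (Nat.ble (nat_lit 38) j)
noncomputable def dM_16 (j z1 z2 u : ℕ) : Bool :=
  Bool.rec (motive := fun _ => Bool) (Bool.rec (motive := fun _ => Bool) (Bool.rec (motive := fun _ => Bool) (mRel MG [T_c, T_bi, T_c, T_bi, T_c] [T_b, T_ci, T_b] M (Nat.sub (MG u) (Nat.mod (MG u) M)) (nat_lit 40) z1 u (Nat.mod (MG u) M)) (mRel MG [T_ci, T_bi, T_d, T_fi, T_di] [T_di, T_ci, T_bi] M (Nat.sub (MG u) (Nat.mod (MG u) M)) (nat_lit 40) z1 u (Nat.mod (MG u) M)) (Nat.ble (nat_lit 77) j)) (Bool.rec (motive := fun _ => Bool) (mRel MG [T_f, T_ei, T_fi, T_e] [T_ei, T_f, T_c, T_di, T_f] M (Nat.sub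 (MG u) (Nat.mod (MG u) M)) (nat_lit 40) z1 u (Nat.mod (MG u) M)) (Bool.rec (motive := fun _ => Bool) (mRel MG [T_e, T_fi, T_d, T_ci, T_fi, T_e, T_f, T_ei] [T_f] M (Nat.sub (MG u) (Nat.mod (MG u) M)) (nat_lit 40) z1 u (Nat.mod (MG u) M)) (mRel MG [T_ci, T_b, T_ci, T_ci, T_d] [T_b, T_ci, T_ci] M (Nat.sub (MG u) (Nat.mod (MG u) M)) (nat_lit 40) z1 u (Nat.mod (MG u) M)) (Nat.ble (nat_lit 80) j)) (Nat.ble (nat_lit 79) j)) (Nat.ble (nat_lit 78) j)) (Bool.rec (motive := fun _ => Bool) (Bool.rec (motive := fun _ => Bool) (mRel MG [T_bi, T_fi, T_ci, T_b, T_f, T_ci] [T_fi, T_c] M (Nat.sub (MG u) (Nat.mod (MG u) M)) (nat_lit 40) z1 u (Nat.mod (MG u) M)) (mRel MG [T_d, T_ci, T_fi, T_fi] [T_bi, T_ci, T_b, T_d] M (Nat.sub (MG u) (Nat.mod (MG u) M)) (nat_lit 40) z1 u (Nat.mod (MG u) M)) (Nat.ble (nat_lit 82) j)) (Bool.rec (motive := fun _ => Bool) (mRel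 MG [T_b, T_ci, T_bi, T_fi, T_b, T_c] [T_bi, T_di] M (Nat.sub (MG u) (Nat.mod (MG u) M)) (nat_lit 40) z1 u (Nat.mod (MG u) M)) (Bool.rec (motive := fun _ => Bool) (mRel MG [T_fi, T_b, T_f, T_d] [T_e, T_f, T_ci, T_b, T_e] M (Nat.sub (MG u) (Nat.mod (MG u) M)) (nat_lit 40) z1 u (Nat.mod (MG u) M)) (mRel MG [T_ei, T_fi, T_e, T_fi, T_d, T_ci, T_fi, T_e] [T_fi] M (Nat.sub (MG u) (Nat.mod (MG u) M)) (nat_lit 40) z1 u (Nat.mod (MG u) M)) (Nat.ble (nat_lit 85) j)) (Nat.ble (nat_lit 84) j)) (Nat.ble (nat_lit 83) j)) (Nat.ble (nat_lit 81) j)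
noncomputable def dM_17 (j z1 z2 u : ℕ) : Bool :=
  Bool.rec (motive := fun _ => Bool) (Bool.rec (motive := fun _ => Bool) (Bool.rec (motive := fun _ => Bool) (mRel MG [T_b, T_ci, T_ci] [T_ci, T_b, T_ci, T_ci, T_d] M (Nat.sub (MG u) (Nat.mod (MG u) M)) (nat_lit 40) z1 u (Nat.mod (MG u) M)) (mRel MG [T_ei, T_fi, T_b, T_f, T_d, T_ei] [T_f, T_ci, T_b] M (Nat.sub (MG u) (Nat.mod (MG u) M)) (nat_lit 40) z1 u (Nat.mod (MG u) M)) (Nat.ble (nat_lit 87) j)) (Bool.rec (motive := fun _ => Bool) (mRel MG [T_f, T_f, T_c, T_di, T_bi, T_ci] [T_di, T_bi] M (Nat.sub (MG u) (Nat.mod (MG u) M)) (nat_lit 40) z1 u (Nat.mod (MG u) M)) (Bool.rec (motive := fun _ => Bool) (mRel MG [T_d, T_ci, T_bi, T_d, T_ci, T_b] [T_c, T_d] M (Nat.sub (MG u) (Nat.mod (MG u) M)) (nat_lit 40) z1 u (Nat.mod (MG u) M)) (mRel MG [T_f, T_c, T_di, T_b] [T_bi, T_d, T_ci, T_fi] M (Nat.sub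 (MG u) (Nat.mod (MG u) M)) (nat_lit 40) z1 u (Nat.mod (MG u) M)) (Nat.ble (nat_lit 90) j)) (Nat.ble (nat_lit 89) j)) (Nat.ble (nat_lit 88) j)) (Bool.rec (motive := fun _ => Bool) (Bool.rec (motive := fun _ => Bool) (mRel MG [T_ci, T_d, T_b] [T_bi, T_d, T_fi, T_c, T_fi] M (Nat.sub (MG u) (Nat.mod (MG u) M)) (nat_lit 40) z1 u (Nat.mod (MG u) M)) (Bool.rec (motive := fun _ => Bool) (mRel MG [T_f, T_ci, T_b] [T_ei, T_fi, T_b, T_f, T_d, T_ei] M (Nat.sub (MG u) (Nat.mod (MG u) M)) (nat_lit 40) z1 u (Nat.mod (MG u) M)) (mRel MG [T_bi, T_c, T_b, T_ci] [T_ci, T_ci, T_d, T_c] M (Nat.sub (MG u) (Nat.mod (MG u) M)) (nat_lit 40) z1 u (Nat.mod (MG u) M)) (Nat.ble (nat_lit 93) j)) (Nat.ble (nat_lit 92) j)) (Bool.rec (motive := fun _ => Bool) (mRel MG [T_f, T_e, T_fi, T_ei] [T_e, T_fi, T_d, T_ci, T_fi] M (Nat.sub (MG u) (Nat.mod (MG u) M)) (nat_lit 40)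 z1 u (Nat.mod (MG u) M)) (Bool.rec (motive := fun _ => Bool) (mRel MG [T_ci, T_ei, T_b, T_ei] [T_e, T_bi, T_e, T_c] M (Nat.sub (MG u) (Nat.mod (MG u) M)) (nat_lit 40) z1 u (Nat.mod (MG u) M)) (mRel MG [T_e, T_fi, T_d, T_ci, T_fi] [T_f, T_e, T_fi, T_ei] M (Nat.sub (MG u) (Nat.mod (MG u) M)) (nat_lit 40) z1 u (Nat.mod (MG u) M)) (Nat.ble (nat_lit 96) j)) (Nat.ble (nat_lit 95) j)) (Nat.ble (nat_lit 94) j)) (Nat.ble (nat_lit 91) j)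
noncomputable def dM_18 (j z1 z2 u : ℕ) : Bool :=
  Bool.rec (motive := fun _ => Bool) (dM_16 j z1 z2 u) (dM_17 j z1 z2 u) (Nat.ble (nat_lit 86) j)
noncomputable def dM_19 (j z1 z2 u : ℕ) : Bool :=
  Bool.rec (motive := fun _ => Bool) (Bool.rec (motive := fun _ => Bool) (Bool.rec (motive := fun _ => Bool) (mRel MG [T_fi, T_bi, T_bi, T_f, T_b] [T_ci, T_d, T_fi] M (Nat.sub (MG u) (Nat.mod (MG u) M)) (nat_lit 40) z1 u (Nat.mod (MG u) M)) (mRel MG [T_b, T_f, T_c, T_di] [T_d, T_ci, T_fi, T_bi] M (Nat.sub (MG u) (Nat.mod (MG u) M)) (nat_lit 40) z1 u (Nat.mod (MG u) M)) (Nat.ble (nat_lit 98) j)) (Bool.rec (motive := fun _ => Bool) (mRel MG [T_b, T_ei] [T_e, T_c, T_e, T_bi, T_e, T_c] M (Nat.sub (MG u) (Nat.mod (MG u) M)) (nat_lit 40) z1 u (Nat.mod (MG u) M)) (Bool.rec (motive := fun _ => Bool) (mRel MG [T_e, T_c, T_di, T_f, T_f, T_e] [T_fi, T_e,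 T_f] M (Nat.sub (MG u) (Nat.mod (MG u) M)) (nat_lit 40) z1 u (Nat.mod (MG u) M)) (mRel MG [T_ci, T_b, T_e, T_di, T_fi, T_bi, T_f, T_e] [T_fi] M (Nat.sub (MG u) (Nat.mod (MG u) M)) (nat_lit 40) z1 u (Nat.mod (MG u) M)) (Nat.ble (nat_lit 101) j)) (Nat.ble (nat_lit 100) j)) (Nat.ble (nat_lit 99) j)) (Bool.rec (motive := fun _ => Bool) (Bool.rec (motive := fun _ => Bool) (mRel MG [T_d, T_d, T_b, T_fi, T_d] [T_fi, T_bi, T_ci] M (Nat.sub (MG u) (Nat.mod (MG u) M)) (nat_lit 40) z1 u (Nat.mod (MG u) M)) (Bool.rec (motive := fun _ => Bool) (mRel MG [T_d] [T_fi, T_bi, T_f, T_e, T_f, T_ci, T_b, T_e] M (Nat.sub (MG u) (Nat.mod (MG u) M)) (nat_lit 40) z1 u (Nat.mod (MG u) M)) (mRel MG [T_bi, T_f] [T_c, T_b, T_ci, T_bi, T_fi, T_di] M (Nat.sub (MG u) (Nat.mod (MG u) M)) (nat_lit 40) z1 u (Nat.mod (MG u) M)) (Nat.ble (nat_lit 104) j)) (Nat.ble (nat_lit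 103) j)) (Bool.rec (motive := fun _ => Bool) (mRel MG [T_f, T_di, T_ci, T_ei, T_fi, T_e, T_f, T_ei] [T_di] M (Nat.sub (MG u) (Nat.mod (MG u) M)) (nat_lit 40) z1 u (Nat.mod (MG u) M)) (Bool.rec (motive := fun _ => Bool) (mRel MG [T_fi, T_d, T_ci, T_fi] [T_ei, T_f, T_e, T_fi, T_ei] M (Nat.sub (MG u) (Nat.mod (MG u) M)) (nat_lit 40) z1 u (Nat.mod (MG u) M)) (mRel MG [T_bi, T_fi, T_di, T_fi] [T_c, T_bi, T_ci, T_bi] M (Nat.sub (MG u) (Nat.mod (MG u) M)) (nat_lit 40) z1 u (Nat.mod (MG u) M)) (Nat.ble (nat_lit 107) j)) (Nat.ble (nat_lit 106) j)) (Nat.ble (nat_lit 105) j)) (Nat.ble (nat_lit 102) j)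
noncomputable def dM_20 (j z1 z2 u : ℕ) : Bool :=
  Bool.rec (motive := fun _ => Bool) (Bool.rec (motive := fun _ => Bool) (Bool.rec (motive := fun _ => Bool) (mRel MG [T_bi, T_f, T_e, T_f, T_ci, T_b, T_e] [T_f, T_d] M (Nat.sub (MG u) (Nat.mod (MG u) M)) (nat_lit 40) z1 u (Nat.mod (MG u) M)) (mRel MG [T_ci, T_b] [T_fi, T_ei, T_fi, T_b, T_f, T_d, T_ei] M (Nat.sub (MG u) (Nat.mod (MG u) M)) (nat_lit 40) z1 u (Nat.mod (MG u) M)) (Nat.ble (nat_lit 109) j)) (Bool.rec (motive := fun _ => Bool) (mRel MG [T_b, T_ei, T_ci, T_ei] [T_e, T_c, T_e, T_bi] M (Nat.sub (MG u) (Nat.mod (MG u) M)) (nat_lit 40) z1 u (Nat.mod (MG u) M)) (Bool.rec (motive := fun _ => Bool) (mRel MG [T_b, T_f, T_d, T_ei, T_bi, T_c, T_fi] [T_f, T_e] M (Nat.sub (MG u) (Nat.mod (MG u) M)) (nat_lit 40) z1 u (Nat.mod (MG u) M)) (mRel MG [T_c, T_di, T_b] [T_fi, T_bi, T_d, T_ci, T_fi]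 M (Nat.sub (MG u) (Nat.mod (MG u) M)) (nat_lit 40) z1 u (Nat.mod (MG u) M)) (Nat.ble (nat_lit 112) j)) (Nat.ble (nat_lit 111) j)) (Nat.ble (nat_lit 110) j)) (Bool.rec (motive := fun _ => Bool) (Bool.rec (motive := fun _ => Bool) (mRel MG [T_bi, T_c, T_fi, T_ei, T_fi, T_b, T_f, T_d, T_ei] [] M (Nat.sub (MG u) (Nat.mod (MG u) M)) (nat_lit 40) z1 u (Nat.mod (MG u) M)) (Bool.rec (motive := fun _ => Bool) (mRel MG [T_c, T_c, T_di, T_bi] [T_b, T_d, T_ci, T_ci] M (Nat.sub (MG u) (Nat.mod (MG u) M)) (nat_lit 40) z1 u (Nat.mod (MG u) M)) (mRel MG [T_bi, T_ci, T_bi, T_fi] [T_ci, T_bi, T_di, T_di] M (Nat.sub (MG u) (Nat.mod (MG u) M)) (nat_lit 40) z1 u (Nat.mod (MG u) M)) (Nat.ble (nat_lit 115) j)) (Nat.ble (nat_lit 114) j)) (Bool.rec (motive := fun _ => Bool) (mRel MG [T_b, T_fi] [T_di, T_di, T_fi, T_bi, T_ci, T_di] M (Nat.sub (MG u) (Nat.mod (MG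 u) M)) (nat_lit 40) z1 u (Nat.mod (MG u) M)) (Bool.rec (motive := fun _ => Bool) (mRel MG [T_di, T_c, T_b, T_ci] [T_c, T_bi, T_ci, T_d] M (Nat.sub (MG u) (Nat.mod (MG u) M)) (nat_lit 40) z1 u (Nat.mod (MG u) M)) (mRel MG [T_fi, T_ei, T_fi, T_b, T_f, T_d, T_ei] [T_ci, T_b] M (Nat.sub (MG u) (Nat.mod (MG u) M)) (nat_lit 40) z1 u (Nat.mod (MG u) M)) (Nat.ble (nat_lit 118) j)) (Nat.ble (nat_lit 117) j)) (Nat.ble (nat_lit 116) j)) (Nat.ble (nat_lit 113) j)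
noncomputable def dM_21 (j z1 z2 u : ℕ) : Bool :=
  Bool.rec (motive := fun _ => Bool) (dM_19 j z1 z2 u) (dM_20 j z1 z2 u) (Nat.ble (nat_lit 108) j)
noncomputable def dM_22 (j z1 z2 u : ℕ) : Bool :=
  Bool.rec (motive := fun _ => Bool) (dM_18 j z1 z2 u) (dM_21 j z1 z2 u) (Nat.ble (nat_lit 97) j)
noncomputable def dM_23 (j z1 z2 u : ℕ) : Bool :=
  Bool.rec (motive := fun _ => Bool) (Bool.rec (motive := fun _ => Bool) (Bool.rec (motive := fun _ => Bool) (mRel MG [T_ci, T_ci, T_b, T_d, T_ci] [T_di, T_bi, T_c] M (Nat.sub (MG u) (Nat.mod (MG u) M)) (nat_lit 40) z1 u (Nat.mod (MG u) M)) (mRel MG [T_di, T_bi, T_ci, T_b, T_d, T_f] [T_ci, T_fi] M (Nat.sub (MG u) (Nat.mod (MG u) M)) (nat_lit 40) z1 u (Nat.mod (MG u) M)) (Nat.ble (nat_lit 120) j)) (Bool.rec (motive := fun _ => Bool) (mRel MG [T_ci, T_bi, T_f, T_b, T_c, T_bi] [T_d, T_b] M (Nat.sub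 (MG u) (Nat.mod (MG u) M)) (nat_lit 40) z1 u (Nat.mod (MG u) M)) (Bool.rec (motive := fun _ => Bool) (mRel MG [T_b, T_di] [T_f, T_c, T_bi, T_fi, T_c, T_d] M (Nat.sub (MG u) (Nat.mod (MG u) M)) (nat_lit 40) z1 u (Nat.mod (MG u) M)) (mRel MG [T_ci] [T_e, T_bi, T_e, T_c, T_e, T_bi, T_e] M (Nat.sub (MG u) (Nat.mod (MG u) M)) (nat_lit 40) z1 u (Nat.mod (MG u) M)) (Nat.ble (nat_lit 123) j)) (Nat.ble (nat_lit 122) j)) (Nat.ble (nat_lit 121) j)) (Bool.rec (motive := fun _ => Bool) (Bool.rec (motive := fun _ => Bool) (mRel MG [T_bi, T_e] [T_ei, T_ci, T_ei, T_b, T_ei, T_ci] M (Nat.sub (MG u) (Nat.mod (MG u) M)) (nat_lit 40) z1 u (Nat.mod (MG u) M)) (Bool.rec (motive := fun _ => Bool) (mRel MG [T_c, T_fi, T_b, T_c] [T_d, T_b, T_ci, T_di] M (Nat.sub (MG u) (Nat.mod (MG u) M)) (nat_lit 40) z1 u (Nat.mod (MG u) M)) (mRel MG [T_ci, T_b, T_d, T_f, T_f]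 [T_b, T_d, T_ci] M (Nat.sub (MG u) (Nat.mod (MG u) M)) (nat_lit 40) z1 u (Nat.mod (MG u) M)) (Nat.ble (nat_lit 126) j)) (Nat.ble (nat_lit 125) j)) (Bool.rec (motive := fun _ => Bool) (Bool.rec (motive := fun _ => Bool) (mRel MG [T_ci, T_fi, T_d, T_bi] [T_b, T_c, T_d, T_f] M (Nat.sub (MG u) (Nat.mod (MG u) M)) (nat_lit 40) z1 u (Nat.mod (MG u) M)) (mRel MG [T_f, T_f, T_di] [T_d, T_fi, T_d, T_d, T_f] M (Nat.sub (MG u) (Nat.mod (MG u) M)) (nat_lit 40) z1 u (Nat.mod (MG u) M)) (Nat.ble (nat_lit 128) j)) (Bool.rec (motive := fun _ => Bool) (mRel MG [T_bi, T_c, T_c, T_di] [T_d, T_ci, T_ci, T_b] M (Nat.sub (MG u) (Nat.mod (MG u) M)) (nat_lit 40) z1 u (Nat.mod (MG u) M)) (mRel MG [T_di, T_c, T_c, T_bi, T_c] [T_c, T_c, T_bi] M (Nat.sub (MG u) (Nat.mod (MG u) M)) (nat_lit 40) z1 u (Nat.mod (MG u) M)) (Nat.ble (nat_lit 130) j)) (Nat.ble (nat_lit 129)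 j)) (Nat.ble (nat_lit 127) j)) (Nat.ble (nat_lit 124) j)
noncomputable def dM_24 (j z1 z2 u : ℕ) : Bool :=
  Bool.rec (motive := fun _ => Bool) (Bool.rec (motive := fun _ => Bool) (mRel MG [T_b, T_d] [T_c, T_c, T_di, T_bi, T_c, T_c] M (Nat.sub (MG u) (Nat.mod (MG u) M)) (nat_lit 40) z1 u (Nat.mod (MG u) M)) (Bool.rec (motive := fun _ => Bool) (mRel MG [T_c, T_di, T_bi, T_c] [T_ci, T_b, T_d, T_ci] M (Nat.sub (MG u) (Nat.mod (MG u) M)) (nat_lit 40) z1 u (Nat.mod (MG u) M)) (mRel MG [T_c, T_d, T_fi, T_d] [T_ci, T_bi, T_ci, T_b] M (Nat.sub (MG u) (Nat.mod (MG u) M)) (nat_lit 40) z1 u (Nat.mod (MG u) M)) (Nat.ble (nat_lit 133) j)) (Nat.ble (nat_lit 132) j)) (Bool.rec (motive := fun _ => Bool) (Bool.rec (motive := fun _ => Bool) (mRel MG [T_b, T_ci, T_b, T_ci, T_b] [T_c, T_bi, T_c] M (Nat.sub (MG u) (Nat.mod (MG u) M)) (nat_lit 40) z1 u (Nat.mod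 (MG u) M)) (mRel MG [T_b, T_c, T_di, T_c, T_d] [T_d, T_ci, T_b] M (Nat.sub (MG u) (Nat.mod (MG u) M)) (nat_lit 40) z1 u (Nat.mod (MG u) M)) (Nat.ble (nat_lit 135) j)) (Bool.rec (motive := fun _ => Bool) (mRel MG [T_d, T_bi, T_c, T_di] [T_ci, T_d, T_ci, T_bi] M (Nat.sub (MG u) (Nat.mod (MG u) M)) (nat_lit 40) z1 u (Nat.mod (MG u) M)) (mRel MG [T_di, T_b, T_ci, T_d, T_b, T_f, T_ci] [T_fi] M (Nat.sub (MG u) (Nat.mod (MG u) M)) (nat_lit 40) z1 u (Nat.mod (MG u) M)) (Nat.ble (nat_lit 137) j)) (Nat.ble (nat_lit 136) j)) (Nat.ble (nat_lit 134) j)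
noncomputable def dM_25 (j z1 z2 u : ℕ) : Bool :=
  Bool.rec (motive := fun _ => Bool) (Bool.rec (motive := fun _ => Bool) (mRel MG [T_c, T_c, T_fi, T_bi, T_c] [T_f, T_bi, T_fi] M (Nat.sub (MG u) (Nat.mod (MG u) M)) (nat_lit 40) z1 u (Nat.mod (MG u) M)) (Bool.rec (motive := fun _ => Bool) (mRel MG [T_di, T_c] [T_fi, T_bi, T_fi, T_b, T_b, T_f] M (Nat.sub (MG u) (Nat.mod (MG u) M)) (nat_lit 40) z1 u (Nat.mod (MG u) M)) (mRel MG [T_bi, T_ci, T_di, T_b] [T_b, T_ci, T_fi, T_fi] M (Nat.sub (MG u) (Nat.mod (MG u) M)) (nat_lit 40) z1 u (Nat.mod (MG u) M)) (Nat.ble (nat_lit 140) j)) (Nat.ble (nat_lit 139) j)) (Bool.rec (motive := fun _ => Bool) (Bool.rec (motive := fun _ => Bool) (mRel MG [T_b, T_f, T_ci] [T_c, T_f, T_b, T_fi, T_c] M (Nat.sub (MG u) (Nat.mod (MG u) M)) (nat_lit 40) z1 u (Nat.mod (MG u) M)) (mRel MG [T_b, T_c, T_c, T_d, T_fi] [T_ci,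 T_b, T_di] M (Nat.sub (MG u) (Nat.mod (MG u) M)) (nat_lit 40) z1 u (Nat.mod (MG u) M)) (Nat.ble (nat_lit 142) j)) (Bool.rec (motive := fun _ => Bool) (mRel MG [T_f, T_di, T_c, T_fi] [T_bi, T_fi, T_b, T_b] M (Nat.sub (MG u) (Nat.mod (MG u) M)) (nat_lit 40) z1 u (Nat.mod (MG u) M)) (mRel MG [T_ci, T_bi, T_fi, T_di, T_fi] [T_bi, T_ci, T_bi] M (Nat.sub (MG u) (Nat.mod (MG u) M)) (nat_lit 40) z1 u (Nat.mod (MG u) M)) (Nat.ble (nat_lit 144) j)) (Nat.ble (nat_lit 143) j)) (Nat.ble (nat_lit 141) j)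
noncomputable def dM_26 (j z1 z2 u : ℕ) : Bool :=
  Bool.rec (motive := fun _ => Bool) (dM_24 j z1 z2 u) (dM_25 j z1 z2 u) (Nat.ble (nat_lit 138) j)
noncomputable def dM_27 (j z1 z2 u : ℕ) : Bool :=
  Bool.rec (motive := fun _ => Bool) (dM_23 j z1 z2 u) (dM_26 j z1 z2 u) (Nat.ble (nat_lit 131) j)
noncomputable def dM_28 (j z1 z2 u : ℕ) : Bool :=
  Bool.rec (motive := fun _ => Bool) (Bool.rec (motive := fun _ => Bool) (mRel MG [T_f, T_e, T_fi, T_ei, T_f, T_c, T_di] [T_e, T_fi] M (Nat.sub (MG u) (Nat.mod (MG u) M)) (nat_lit 40) z1 u (Nat.mod (MG u) M)) (Bool.rec (motive := fun _ => Bool) (mRel MG [T_d, T_fi, T_c, T_fi, T_bi] [T_b, T_ci, T_d] M (Nat.sub (MG u) (Nat.mod (MG u) M)) (nat_lit 40) z1 u (Nat.mod (MG u) M)) (mRel MG [T_bi, T_f, T_ci, T_d] [T_c, T_d, T_c, T_bi] M (Nat.sub (MG u) (Nat.mod (MG u) M)) (nat_lit 40) z1 u (Nat.mod (MG u)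 M)) (Nat.ble (nat_lit 147) j)) (Nat.ble (nat_lit 146) j)) (Bool.rec (motive := fun _ => Bool) (Bool.rec (motive := fun _ => Bool) (mRel MG [T_b, T_di, T_f, T_c, T_b, T_c] [T_fi, T_di] M (Nat.sub (MG u) (Nat.mod (MG u) M)) (nat_lit 40) z1 u (Nat.mod (MG u) M)) (mRel MG [T_c, T_d, T_fi] [T_ci, T_bi, T_ci, T_b, T_di] M (Nat.sub (MG u) (Nat.mod (MG u) M)) (nat_lit 40) z1 u (Nat.mod (MG u) M)) (Nat.ble (nat_lit 149) j)) (Bool.rec (motive := fun _ => Bool) (mRel MG [T_c, T_fi, T_bi] [T_ci, T_f, T_bi, T_fi, T_ci] M (Nat.sub (MG u) (Nat.mod (MG u) M)) (nat_lit 40) z1 u (Nat.mod (MG u) M)) (mRel MG [T_d, T_ci, T_bi, T_d, T_ci, T_b, T_di] [T_c] M (Nat.sub (MG u) (Nat.mod (MG u) M)) (nat_lit 40) z1 u (Nat.mod (MG u) M)) (Nat.ble (nat_lit 151) j)) (Nat.ble (nat_lit 150) j)) (Nat.ble (nat_lit 148) j)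
noncomputable def dM_29 (j z1 z2 u : ℕ) : Bool :=
  Bool.rec (motive := fun _ => Bool) (Bool.rec (motive := fun _ => Bool) (mRel MG [T_di, T_fi, T_c, T_di, T_di] [T_d, T_ci, T_f] M (Nat.sub (MG u) (Nat.mod (MG u) M)) (nat_lit 40) z1 u (Nat.mod (MG u) M)) (Bool.rec (motive := fun _ => Bool) (mRel MG [T_d, T_b, T_ci, T_di, T_ci] [T_c, T_fi, T_b] M (Nat.sub (MG u) (Nat.mod (MG u) M)) (nat_lit 40) z1 u (Nat.mod (MG u) M)) (mRel MG [T_f, T_d, T_ei] [T_bi, T_f, T_e, T_f, T_ci, T_b] M (Nat.sub (MG u) (Nat.mod (MG u) M)) (nat_lit 40) z1 u (Nat.mod (MG u) M)) (Nat.ble (nat_lit 154) j)) (Nat.ble (nat_lit 153) j)) (Bool.rec (motive := fun _ => Bool) (Bool.rec (motive := fun _ => Bool) (mRel MG [T_f, T_e, T_c, T_di, T_f, T_f] [T_e, T_f, T_ei] M (Nat.sub (MG u) (Nat.mod (MG u) M)) (nat_lit 40) z1 u (Nat.mod (MG u) M)) (mRel MG [T_di, T_ci] [T_ci, T_bi,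 T_d, T_fi, T_di, T_b] M (Nat.sub (MG u) (Nat.mod (MG u) M)) (nat_lit 40) z1 u (Nat.mod (MG u) M)) (Nat.ble (nat_lit 156) j)) (Bool.rec (motive := fun _ => Bool) (mRel MG [T_bi, T_ci, T_b, T_ci, T_ci] [T_ci, T_ci, T_di] M (Nat.sub (MG u) (Nat.mod (MG u) M)) (nat_lit 40) z1 u (Nat.mod (MG u) M)) (mRel MG [T_fi, T_bi, T_bi, T_f, T_b, T_f] [T_ci, T_d] M (Nat.sub (MG u) (Nat.mod (MG u) M)) (nat_lit 40) z1 u (Nat.mod (MG u) M)) (Nat.ble (nat_lit 158) j)) (Nat.ble (nat_lit 157) j)) (Nat.ble (nat_lit 155) j)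
noncomputable def dM_30 (j z1 z2 u : ℕ) : Bool :=
  Bool.rec (motive := fun _ => Bool) (dM_28 j z1 z2 u) (dM_29 j z1 z2 u) (Nat.ble (nat_lit 152) j)
noncomputable def dM_31 (j z1 z2 u : ℕ) : Bool :=
  Bool.rec (motive := fun _ => Bool) (Bool.rec (motive := fun _ => Bool) (mRel MG [T_c, T_bi, T_d, T_fi, T_c] [T_d, T_b, T_f] M (Nat.sub (MG u) (Nat.mod (MG u) M)) (nat_lit 40) z1 u (Nat.mod (MG u) M)) (Bool.rec (motive := fun _ => Bool) (mRel MG [T_di, T_ci, T_bi, T_f, T_b, T_c] [T_b, T_b] M (Nat.sub (MG u) (Nat.mod (MG u) M)) (nat_lit 40) z1 u (Nat.mod (MG u) M)) (mRel MG [T_d, T_b, T_d] [T_di, T_b, T_di, T_di, T_b] M (Nat.sub (MG u) (Nat.mod (MG u) M)) (nat_lit 40) z1 u (Nat.mod (MG u) M)) (Nat.ble (nat_lit 161) j)) (Nat.ble (nat_lit 160) j)) (Bool.rec (motive := fun _ => Bool) (Bool.rec (motive := fun _ => Bool) (mRel MG [T_f, T_e, T_fi,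 T_ei, T_f] [T_fi, T_d, T_ci, T_ei] M (Nat.sub (MG u) (Nat.mod (MG u) M)) (nat_lit 40) z1 u (Nat.mod (MG u) M)) (mRel MG [T_fi, T_d, T_ci, T_fi, T_e] [T_ei, T_f, T_e, T_fi] M (Nat.sub (MG u) (Nat.mod (MG u) M)) (nat_lit 40) z1 u (Nat.mod (MG u) M)) (Nat.ble (nat_lit 163) j)) (Bool.rec (motive := fun _ => Bool) (mRel MG [T_f, T_b, T_di, T_f, T_c] [T_di, T_ci, T_bi] M (Nat.sub (MG u) (Nat.mod (MG u) M)) (nat_lit 40) z1 u (Nat.mod (MG u) M)) (mRel MG [T_di, T_f] [T_bi, T_c, T_d, T_f, T_ci, T_b] M (Nat.sub (MG u) (Nat.mod (MG u) M)) (nat_lit 40) z1 u (Nat.mod (MG u) M)) (Nat.ble (nat_lit 165) j)) (Nat.ble (nat_lit 164) j)) (Nat.ble (nat_lit 162) j)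
noncomputable def dM_32 (j z1 z2 u : ℕ) : Bool :=
  Bool.rec (motive := fun _ => Bool) (Bool.rec (motive := fun _ => Bool) (mRel MG [T_d, T_d, T_bi, T_d, T_d, T_b] [T_b, T_di] M (Nat.sub (MG u) (Nat.mod (MG u) M)) (nat_lit 40) z1 u (Nat.mod (MG u) M)) (Bool.rec (motive := fun _ => Bool) (mRel MG [T_ci, T_b, T_di] [T_b, T_c, T_c, T_d, T_fi] M (Nat.sub (MG u) (Nat.mod (MG u) M)) (nat_lit 40) z1 u (Nat.mod (MG u) M)) (mRel MG [T_fi, T_di, T_b, T_c, T_d] [T_di, T_b, T_c] M (Nat.sub (MG u) (Nat.mod (MG u) M)) (nat_lit 40) z1 u (Nat.mod (MG u) M)) (Nat.ble (nat_lit 168) j)) (Nat.ble (nat_lit 167) j)) (Bool.rec (motive := fun _ => Bool) (Bool.rec (motive := fun _ => Bool) (mRel MG [T_f, T_c, T_di, T_b, T_f] [T_bi, T_d, T_ci] M (Nat.sub (MG u) (Nat.mod (MG u) M)) (nat_lit 40) z1 u (Nat.mod (MG u) M)) (mRel MG [T_f, T_e, T_c, T_di, T_f, T_f, T_e]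 [T_e, T_f] M (Nat.sub (MG u) (Nat.mod (MG u) M)) (nat_lit 40) z1 u (Nat.mod (MG u) M)) (Nat.ble (nat_lit 170) j)) (Bool.rec (motive := fun _ => Bool) (mRel MG [T_d, T_d, T_b] [T_b, T_di, T_di, T_b, T_di] M (Nat.sub (MG u) (Nat.mod (MG u) M)) (nat_lit 40) z1 u (Nat.mod (MG u) M)) (mRel MG [T_d, T_c, T_b, T_f, T_d] [T_f, T_bi, T_di] M (Nat.sub (MG u) (Nat.mod (MG u) M)) (nat_lit 40) z1 u (Nat.mod (MG u) M)) (Nat.ble (nat_lit 172) j)) (Nat.ble (nat_lit 171) j)) (Nat.ble (nat_lit 169) j)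
noncomputable def dM_33 (j z1 z2 u : ℕ) : Bool :=
  Bool.rec (motive := fun _ => Bool) (dM_31 j z1 z2 u) (dM_32 j z1 z2 u) (Nat.ble (nat_lit 166) j)
noncomputable def dM_34 (j z1 z2 u : ℕ) : Bool :=
  Bool.rec (motive := fun _ => Bool) (dM_30 j z1 z2 u) (dM_33 j z1 z2 u) (Nat.ble (nat_lit 159) j)
noncomputable def dM_35 (j z1 z2 u : ℕ) : Bool :=
  Bool.rec (motive := fun _ => Bool) (dM_27 j z1 z2 u) (dM_34 j z1 z2 u) (Nat.ble (nat_lit 145) j)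
noncomputable def dM_36 (j z1 z2 u : ℕ) : Bool :=
  Bool.rec (motive := fun _ => Bool) (dM_22 j z1 z2 u) (dM_35 j z1 z2 u) (Nat.ble (nat_lit 119) j)
noncomputable def dM_37 (j z1 z2 u : ℕ) : Bool :=
  Bool.rec (motive := fun _ => Bool) (dM_15 j z1 z2 u) (dM_36 j z1 z2 u) (Nat.ble (nat_lit 76) j)
noncomputable def dM_38 (j z1 z2 u : ℕ) : Bool :=
  Bool.rec (motive := fun _ => Bool) (Bool.rec (motive := fun _ => Bool) (mRel MG [T_b, T_c, T_di] [T_d, T_ci, T_b, T_di, T_ci] M (Nat.sub (MG u) (Nat.mod (MG u) M)) (nat_lit 40) z1 u (Nat.mod (MG u) M)) (Bool.rec (motive := fun _ => Bool) (mRel MG [T_c, T_d] [T_ei, T_fi, T_e, T_f, T_ei, T_d, T_f] M (Nat.sub (MG u) (Nat.mod (MG u) M)) (nat_lit 40) z1 u (Nat.mod (MG u) M)) (mRel MG [T_c, T_b, T_ci, T_bi, T_di, T_di] [T_bi, T_fi] M (Nat.sub (MG u) (Nat.mod (MG u) M)) (nat_lit 40) z1 u (Nat.mod (MG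 u) M)) (Nat.ble (nat_lit 175) j)) (Nat.ble (nat_lit 174) j)) (Bool.rec (motive := fun _ => Bool) (Bool.rec (motive := fun _ => Bool) (mRel MG [T_ci, T_ci, T_d, T_c] [T_bi, T_c, T_b, T_ci] M (Nat.sub (MG u) (Nat.mod (MG u) M)) (nat_lit 40) z1 u (Nat.mod (MG u) M)) (mRel MG [T_d, T_fi] [T_ci, T_ci, T_bi, T_ci, T_b, T_di] M (Nat.sub (MG u) (Nat.mod (MG u) M)) (nat_lit 40) z1 u (Nat.mod (MG u) M)) (Nat.ble (nat_lit 177) j)) (Bool.rec (motive := fun _ => Bool) (mRel MG [T_di, T_b, T_ci] [T_fi, T_c, T_fi, T_bi, T_di] M (Nat.sub (MG u) (Nat.mod (MG u) M)) (nat_lit 40) z1 u (Nat.mod (MG u) M)) (mRel MG [T_b, T_d, T_f] [T_c, T_b, T_d, T_ci, T_fi] M (Nat.sub (MG u) (Nat.mod (MG u) M)) (nat_lit 40) z1 u (Nat.mod (MG u) M)) (Nat.ble (nat_lit 179) j)) (Nat.ble (nat_lit 178) j)) (Nat.ble (nat_lit 176) j)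
noncomputable def dM_39 (j z1 z2 u : ℕ) : Bool :=
  Bool.rec (motive := fun _ => Bool) (Bool.rec (motive := fun _ => Bool) (mRel MG [T_b, T_b, T_ci, T_bi] [T_di, T_ci, T_bi, T_f] M (Nat.sub (MG u) (Nat.mod (MG u) M)) (nat_lit 40) z1 u (Nat.mod (MG u) M)) (Bool.rec (motive := fun _ => Bool) (mRel MG [T_b, T_ci, T_ci, T_d, T_c] [T_c, T_b, T_ci] M (Nat.sub (MG u) (Nat.mod (MG u) M)) (nat_lit 40) z1 u (Nat.mod (MG u) M)) (mRel MG [T_b, T_f] [T_d, T_c, T_b, T_b, T_ci, T_fi] M (Nat.sub (MG u) (Nat.mod (MG u) M)) (nat_lit 40) z1 u (Nat.mod (MG u) M)) (Nat.ble (nat_lit 182) j)) (Nat.ble (nat_lit 181) j)) (Bool.rec (motive := fun _ => Bool) (Bool.rec (motive := fun _ => Bool) (mRel MG [T_ei, T_fi, T_b, T_f, T_d] [T_f, T_ci, T_b, T_e] M (Nat.sub (MG u) (Nat.mod (MG u) M)) (nat_lit 40) z1 u (Nat.mod (MG u) M)) (mRel MG [T_ei, T_fi, T_e, T_f, T_ei]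 [T_c, T_di, T_f, T_f] M (Nat.sub (MG u) (Nat.mod (MG u) M)) (nat_lit 40) z1 u (Nat.mod (MG u) M)) (Nat.ble (nat_lit 184) j)) (Bool.rec (motive := fun _ => Bool) (mRel MG [T_bi, T_f, T_ci] [T_c, T_d, T_c, T_bi, T_di] M (Nat.sub (MG u) (Nat.mod (MG u) M)) (nat_lit 40) z1 u (Nat.mod (MG u) M)) (mRel MG [T_f, T_di, T_b] [T_c, T_fi, T_bi, T_di, T_c] M (Nat.sub (MG u) (Nat.mod (MG u) M)) (nat_lit 40) z1 u (Nat.mod (MG u) M)) (Nat.ble (nat_lit 186) j)) (Nat.ble (nat_lit 185) j)) (Nat.ble (nat_lit 183) j)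
noncomputable def dM_40 (j z1 z2 u : ℕ) : Bool :=
  Bool.rec (motive := fun _ => Bool) (dM_38 j z1 z2 u) (dM_39 j z1 z2 u) (Nat.ble (nat_lit 180) j)
noncomputable def dM_41 (j z1 z2 u : ℕ) : Bool :=
  Bool.rec (motive := fun _ => Bool) (Bool.rec (motive := fun _ => Bool) (mRel MG [T_c, T_bi, T_bi, T_ci, T_di, T_b] [T_fi, T_fi] M (Nat.sub (MG u) (Nat.mod (MG u) M)) (nat_lit 40) z1 u (Nat.mod (MG u) M)) (Bool.rec (motive := fun _ => Bool) (mRel MG [T_ci, T_fi, T_e, T_f, T_ei, T_fi] [T_di, T_f, T_ei] M (Nat.sub (MG u) (Nat.mod (MG u) M)) (nat_lit 40) z1 u (Nat.mod (MG u) M)) (mRel MG [T_b, T_ci, T_fi, T_fi, T_bi] [T_bi, T_ci, T_di] M (Nat.sub (MG u) (Nat.mod (MG u) M)) (nat_lit 40) z1 u (Nat.mod (MG u) M)) (Nat.ble (nat_lit 189) j)) (Nat.ble (nat_lit 188) j)) (Bool.rec (motive := fun _ => Bool) (Bool.rec (motive := fun _ => Bool) (mRel MG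 [T_f, T_c, T_di, T_f] [T_e, T_f, T_ei, T_fi, T_e] M (Nat.sub (MG u) (Nat.mod (MG u) M)) (nat_lit 40) z1 u (Nat.mod (MG u) M)) (mRel MG [T_e, T_fi, T_ei, T_f] [T_fi, T_fi, T_d, T_ci, T_ei] M (Nat.sub (MG u) (Nat.mod (MG u) M)) (nat_lit 40) z1 u (Nat.mod (MG u) M)) (Nat.ble (nat_lit 191) j)) (Bool.rec (motive := fun _ => Bool) (mRel MG [T_f, T_ci, T_b, T_e] [T_ei, T_fi, T_b, T_f, T_d] M (Nat.sub (MG u) (Nat.mod (MG u) M)) (nat_lit 40) z1 u (Nat.mod (MG u) M)) (mRel MG [T_fi, T_d, T_bi, T_c, T_d] [T_bi, T_c, T_fi] M (Nat.sub (MG u) (Nat.mod (MG u) M)) (nat_lit 40) z1 u (Nat.mod (MG u) M)) (Nat.ble (nat_lit 193) j)) (Nat.ble (nat_lit 192) j)) (Nat.ble (nat_lit 190) j)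
noncomputable def dM_42 (j z1 z2 u : ℕ) : Bool :=
  Bool.rec (motive := fun _ => Bool) (Bool.rec (motive := fun _ => Bool) (mRel MG [T_c, T_e] [T_ei, T_b, T_ei, T_ci, T_ei, T_b] M (Nat.sub (MG u) (Nat.mod (MG u) M)) (nat_lit 40) z1 u (Nat.mod (MG u) M)) (Bool.rec (motive := fun _ => Bool) (mRel MG [T_bi, T_d, T_fi, T_di] [T_c, T_di, T_ci, T_bi] M (Nat.sub (MG u) (Nat.mod (MG u) M)) (nat_lit 40) z1 u (Nat.mod (MG u) M)) (mRel MG [T_ci, T_bi, T_f, T_ci, T_d] [T_d, T_c, T_bi] M (Nat.sub (MG u) (Nat.mod (MG u) M)) (nat_lit 40) z1 u (Nat.mod (MG u) M)) (Nat.ble (nat_lit 196) j)) (Nat.ble (nat_lit 195) j)) (Bool.rec (motive := fun _ => Bool) (Bool.rec (motive := fun _ => Bool) (mRel MG [T_bi, T_c, T_di, T_b, T_c, T_di] [T_di, T_ci] M (Nat.sub (MG u) (Nat.mod (MG u) M)) (nat_lit 40) z1 u (Nat.mod (MG u) M)) (mRel MG [T_bi, T_e, T_c, T_e, T_bi]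 [T_ei, T_ci, T_ei] M (Nat.sub (MG u) (Nat.mod (MG u) M)) (nat_lit 40) z1 u (Nat.mod (MG u) M)) (Nat.ble (nat_lit 198) j)) (Bool.rec (motive := fun _ => Bool) (mRel MG [T_ci, T_ei, T_b, T_ei, T_ci, T_ei] [T_e, T_bi] M (Nat.sub (MG u) (Nat.mod (MG u) M)) (nat_lit 40) z1 u (Nat.mod (MG u) M)) (mRel MG [T_b, T_c, T_d, T_f, T_b] [T_ci, T_fi, T_d] M (Nat.sub (MG u) (Nat.mod (MG u) M)) (nat_lit 40) z1 u (Nat.mod (MG u) M)) (Nat.ble (nat_lit 200) j)) (Nat.ble (nat_lit 199) j)) (Nat.ble (nat_lit 197) j)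
noncomputable def dM_43 (j z1 z2 u : ℕ) : Bool :=
  Bool.rec (motive := fun _ => Bool) (dM_41 j z1 z2 u) (dM_42 j z1 z2 u) (Nat.ble (nat_lit 194) j)
noncomputable def dM_44 (j z1 z2 u : ℕ) : Bool :=
  Bool.rec (motive := fun _ => Bool) (dM_40 j z1 z2 u) (dM_43 j z1 z2 u) (Nat.ble (nat_lit 187) j)
noncomputable def dM_45 (j z1 z2 u : ℕ) : Bool :=
  Bool.rec (motive := fun _ => Bool) (Bool.rec (motive := fun _ => Bool) (mRel MG [T_fi, T_bi] [T_d, T_d, T_b, T_fi, T_d, T_c] M (Nat.sub (MG u) (Nat.mod (MG u) M)) (nat_lit 40) z1 u (Nat.mod (MG u) M)) (Bool.rec (motive := fun _ => Bool) (mRel MG [T_b, T_c, T_d] [T_d, T_f, T_di, T_b, T_c] M (Nat.sub (MG u) (Nat.mod (MG u) M)) (nat_lit 40) z1 u (Nat.mod (MG u) M)) (mRel MG [T_e, T_fi, T_d, T_ci, T_fi, T_e] [T_f, T_e, T_fi] M (Nat.sub (MG u) (Nat.mod (MG u) M)) (nat_lit 40) z1 u (Nat.mod (MG u) M))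 (Nat.ble (nat_lit 203) j)) (Nat.ble (nat_lit 202) j)) (Bool.rec (motive := fun _ => Bool) (Bool.rec (motive := fun _ => Bool) (mRel MG [T_ci, T_fi] [T_di, T_b, T_f, T_c, T_di, T_b] M (Nat.sub (MG u) (Nat.mod (MG u) M)) (nat_lit 40) z1 u (Nat.mod (MG u) M)) (mRel MG [T_b, T_ci, T_b, T_ci, T_b, T_ci] [T_c, T_bi] M (Nat.sub (MG u) (Nat.mod (MG u) M)) (nat_lit 40) z1 u (Nat.mod (MG u) M)) (Nat.ble (nat_lit 205) j)) (Bool.rec (motive := fun _ => Bool) (mRel MG [T_di, T_fi, T_bi, T_f, T_e, T_f, T_ci, T_b] [T_ei] M (Nat.sub (MG u) (Nat.mod (MG u) M)) (nat_lit 40) z1 u (Nat.mod (MG u) M)) (mRel MG [T_d, T_bi, T_f] [T_di, T_ci, T_f, T_b, T_ci] M (Nat.sub (MG u) (Nat.mod (MG u) M)) (nat_lit 40) z1 u (Nat.mod (MG u) M)) (Nat.ble (nat_lit 207) j)) (Nat.ble (nat_lit 206) j)) (Nat.ble (nat_lit 204) j)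
noncomputable def dM_46 (j z1 z2 u : ℕ) : Bool :=
  Bool.rec (motive := fun _ => Bool) (Bool.rec (motive := fun _ => Bool) (mRel MG [T_f, T_e, T_fi, T_ei, T_f, T_c, T_di, T_f, T_ei] [] M (Nat.sub (MG u) (Nat.mod (MG u) M)) (nat_lit 40) z1 u (Nat.mod (MG u) M)) (Bool.rec (motive := fun _ => Bool) (mRel MG [T_c, T_c] [T_b, T_d, T_ci, T_ci, T_b, T_d] M (Nat.sub (MG u) (Nat.mod (MG u) M)) (nat_lit 40) z1 u (Nat.mod (MG u) M)) (mRel MG [T_di, T_f, T_bi, T_c, T_fi, T_di] [T_bi, T_c] M (Nat.sub (MG u) (Nat.mod (MG u) M)) (nat_lit 40) z1 u (Nat.mod (MG u) M)) (Nat.ble (nat_lit 210) j)) (Nat.ble (nat_lit 209) j)) (Bool.rec (motive := fun _ => Bool) (Bool.rec (motive := fun _ => Bool) (mRel MG [T_di, T_b, T_f, T_f, T_c] [T_c, T_b, T_b] M (Nat.sub (MG u) (Nat.mod (MG u) M)) (nat_lit 40) z1 u (Nat.mod (MG u) M)) (mRel MG [T_f, T_e, T_fi, T_ei, T_f,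 T_e] [T_fi, T_d, T_ci] M (Nat.sub (MG u) (Nat.mod (MG u) M)) (nat_lit 40) z1 u (Nat.mod (MG u) M)) (Nat.ble (nat_lit 212) j)) (Bool.rec (motive := fun _ => Bool) (mRel MG [T_bi, T_fi, T_d] [T_c, T_b, T_ci, T_bi, T_di] M (Nat.sub (MG u) (Nat.mod (MG u) M)) (nat_lit 40) z1 u (Nat.mod (MG u) M)) (mRel MG [T_d, T_fi, T_di] [T_ci, T_ei, T_fi, T_e, T_f, T_ei] M (Nat.sub (MG u) (Nat.mod (MG u) M)) (nat_lit 40) z1 u (Nat.mod (MG u) M)) (Nat.ble (nat_lit 214) j)) (Nat.ble (nat_lit 213) j)) (Nat.ble (nat_lit 211) j)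
noncomputable def dM_47 (j z1 z2 u : ℕ) : Bool :=
  Bool.rec (motive := fun _ => Bool) (dM_45 j z1 z2 u) (dM_46 j z1 z2 u) (Nat.ble (nat_lit 208) j)
noncomputable def dM_48 (j z1 z2 u : ℕ) : Bool :=
  Bool.rec (motive := fun _ => Bool) (Bool.rec (motive := fun _ => Bool) (mRel MG [T_c, T_d, T_ci] [T_bi, T_d, T_f, T_di, T_b] M (Nat.sub (MG u) (Nat.mod (MG u) M)) (nat_lit 40) z1 u (Nat.mod (MG u) M)) (Bool.rec (motive := fun _ => Bool) (mRel MG [T_di, T_di, T_f, T_b, T_c, T_b] [T_b, T_c] M (Nat.sub (MG u) (Nat.mod (MG u) M)) (nat_lit 40) z1 u (Nat.mod (MG u) M)) (mRel MG [T_f, T_f, T_e] [T_d, T_ci, T_ei, T_fi, T_e, T_f] M (Nat.sub (MG u) (Nat.mod (MG u) M)) (nat_lit 40) z1 u (Nat.mod (MG u) M)) (Nat.ble (nat_lit 217) j)) (Nat.ble (nat_lit 216) j)) (Bool.rec (motive := fun _ => Bool) (Bool.rec (motive := fun _ => Bool) (mRel MG [T_d, T_f,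 T_di, T_ci, T_ei] [T_e, T_fi, T_ei, T_f] M (Nat.sub (MG u) (Nat.mod (MG u) M)) (nat_lit 40) z1 u (Nat.mod (MG u) M)) (mRel MG [T_bi, T_c, T_fi] [T_e, T_di, T_fi, T_bi, T_f, T_e] M (Nat.sub (MG u) (Nat.mod (MG u) M)) (nat_lit 40) z1 u (Nat.mod (MG u) M)) (Nat.ble (nat_lit 219) j)) (Bool.rec (motive := fun _ => Bool) (mRel MG [T_f, T_d] [T_bi, T_f, T_e, T_f, T_ci, T_b, T_e] M (Nat.sub (MG u) (Nat.mod (MG u) M)) (nat_lit 40) z1 u (Nat.mod (MG u) M)) (mRel MG [T_c, T_di, T_bi, T_ci] [T_fi, T_fi, T_di, T_bi] M (Nat.sub (MG u) (Nat.mod (MG u) M)) (nat_lit 40) z1 u (Nat.mod (MG u) M)) (Nat.ble (nat_lit 221) j)) (Nat.ble (nat_lit 220) j)) (Nat.ble (nat_lit 218) j)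
noncomputable def dM_49 (j z1 z2 u : ℕ) : Bool :=
  Bool.rec (motive := fun _ => Bool) (Bool.rec (motive := fun _ => Bool) (Bool.rec (motive := fun _ => Bool) (mRel MG [T_di, T_b, T_f, T_c, T_di, T_b] [T_ci, T_fi] M (Nat.sub (MG u) (Nat.mod (MG u) M)) (nat_lit 40) z1 u (Nat.mod (MG u) M)) (mRel MG [T_f, T_c, T_di, T_b, T_f, T_c] [T_bi, T_d] M (Nat.sub (MG u) (Nat.mod (MG u) M)) (nat_lit 40) z1 u (Nat.mod (MG u) M)) (Nat.ble (nat_lit 223) j)) (Bool.rec (motive := fun _ => Bool) (mRel MG [T_ci, T_bi, T_f, T_b, T_c] [T_d, T_b, T_b] M (Nat.sub (MG u) (Nat.mod (MG u) M)) (nat_lit 40) z1 u (Nat.mod (MG u) M)) (mRel MG [T_b, T_ci, T_ci, T_di] [T_ci, T_b, T_ci, T_ci] M (Nat.sub (MG u) (Nat.mod (MG u) M)) (nat_lit 40) z1 u (Nat.mod (MG u) M)) (Nat.ble (nat_lit 225) j)) (Nat.ble (nat_lit 224) j)) (Bool.rec (motive := fun _ => Bool) (Bool.rec (motive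 := fun _ => Bool) (mRel MG [T_f, T_c, T_di, T_f, T_ei] [T_e, T_f, T_ei, T_fi] M (Nat.sub (MG u) (Nat.mod (MG u) M)) (nat_lit 40) z1 u (Nat.mod (MG u) M)) (mRel MG [T_di, T_di, T_b, T_di, T_bi] [T_bi, T_d, T_d] M (Nat.sub (MG u) (Nat.mod (MG u) M)) (nat_lit 40) z1 u (Nat.mod (MG u) M)) (Nat.ble (nat_lit 227) j)) (Bool.rec (motive := fun _ => Bool) (mRel MG [T_c, T_d, T_fi, T_d, T_bi] [T_ci, T_bi, T_ci] M (Nat.sub (MG u) (Nat.mod (MG u) M)) (nat_lit 40) z1 u (Nat.mod (MG u) M)) (mRel MG [T_fi, T_bi, T_f] [T_d, T_ei, T_bi, T_c, T_fi, T_ei] M (Nat.sub (MG u) (Nat.mod (MG u) M)) (nat_lit 40) z1 u (Nat.mod (MG u) M)) (Nat.ble (nat_lit 229) j)) (Nat.ble (nat_lit 228) j)) (Nat.ble (nat_lit 226) j)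
noncomputable def dM_50 (j z1 z2 u : ℕ) : Bool :=
  Bool.rec (motive := fun _ => Bool) (dM_48 j z1 z2 u) (dM_49 j z1 z2 u) (Nat.ble (nat_lit 222) j)
noncomputable def dM_51 (j z1 z2 u : ℕ) : Bool :=
  Bool.rec (motive := fun _ => Bool) (dM_47 j z1 z2 u) (dM_50 j z1 z2 u) (Nat.ble (nat_lit 215) j)
noncomputable def dM_52 (j z1 z2 u : ℕ) : Bool :=
  Bool.rec (motive := fun _ => Bool) (dM_44 j z1 z2 u) (dM_51 j z1 z2 u) (Nat.ble (nat_lit 201) j)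
noncomputable def dM_53 (j z1 z2 u : ℕ) : Bool :=
  Bool.rec (motive := fun _ => Bool) (Bool.rec (motive := fun _ => Bool) (mRel MG [T_ei, T_f, T_e] [T_f, T_ei, T_fi, T_fi, T_d, T_ci] M (Nat.sub (MG u) (Nat.mod (MG u) M)) (nat_lit 40) z1 u (Nat.mod (MG u) M)) (Bool.rec (motive := fun _ => Bool) (mRel MG [T_d, T_fi, T_fi, T_d, T_fi] [T_fi, T_di, T_di] M (Nat.sub (MG u) (Nat.mod (MG u) M)) (nat_lit 40) z1 u (Nat.mod (MG u) M)) (mRel MG [T_b, T_d, T_bi, T_d] [T_di, T_di, T_b, T_di] M (Nat.sub (MG u) (Nat.mod (MG u) M)) (nat_lit 40) z1 u (Nat.mod (MG u) M)) (Nat.ble (nat_lit 232) j)) (Nat.ble (nat_lit 231) j)) (Bool.rec (motive := fun _ => Bool) (Bool.rec (motive := fun _ => Bool) (mRel MG [T_b, T_ci, T_fi, T_b, T_di, T_di] [T_fi, T_c] M (Nat.sub (MG u) (Nat.mod (MG u) M)) (nat_lit 40) z1 u (Nat.mod (MG u) M)) (mRel MG [T_ci, T_b, T_d, T_f]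 [T_b, T_d, T_ci, T_fi] M (Nat.sub (MG u) (Nat.mod (MG u) M)) (nat_lit 40) z1 u (Nat.mod (MG u) M)) (Nat.ble (nat_lit 234) j)) (Bool.rec (motive := fun _ => Bool) (mRel MG [T_di, T_fi, T_di, T_di, T_f, T_di] [T_fi, T_fi] M (Nat.sub (MG u) (Nat.mod (MG u) M)) (nat_lit 40) z1 u (Nat.mod (MG u) M)) (mRel MG [T_c, T_di, T_di, T_fi, T_c] [T_f, T_d, T_d] M (Nat.sub (MG u) (Nat.mod (MG u) M)) (nat_lit 40) z1 u (Nat.mod (MG u) M)) (Nat.ble (nat_lit 236) j)) (Nat.ble (nat_lit 235) j)) (Nat.ble (nat_lit 233) j)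
noncomputable def dM_54 (j z1 z2 u : ℕ) : Bool :=
  Bool.rec (motive := fun _ => Bool) (Bool.rec (motive := fun _ => Bool) (mRel MG [T_c, T_fi, T_bi, T_c, T_f] [T_ci, T_f, T_bi] M (Nat.sub (MG u) (Nat.mod (MG u) M)) (nat_lit 40) z1 u (Nat.mod (MG u) M)) (Bool.rec (motive := fun _ => Bool) (mRel MG [T_bi, T_d, T_ci, T_fi] [T_f, T_c, T_di, T_b] M (Nat.sub (MG u) (Nat.mod (MG u) M)) (nat_lit 40) z1 u (Nat.mod (MG u) M)) (mRel MG [T_ci, T_b, T_d, T_ci, T_ci, T_b] [T_c, T_di] M (Nat.sub (MG u) (Nat.mod (MG u) M)) (nat_lit 40) z1 u (Nat.mod (MG u) M)) (Nat.ble (nat_lit 239) j)) (Nat.ble (nat_lit 238) j)) (Bool.rec (motive := fun _ => Bool) (Bool.rec (motive := fun _ => Bool) (mRel MG [T_d, T_c, T_bi] [T_c, T_b, T_ci, T_di, T_c] M (Nat.sub (MG u) (Nat.mod (MG u) M)) (nat_lit 40) z1 u (Nat.mod (MG u) M)) (mRel MG [T_b, T_b] [T_ci, T_di, T_b, T_f,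 T_f, T_c] M (Nat.sub (MG u) (Nat.mod (MG u) M)) (nat_lit 40) z1 u (Nat.mod (MG u) M)) (Nat.ble (nat_lit 241) j)) (Bool.rec (motive := fun _ => Bool) (mRel MG [T_d, T_d, T_ci, T_f, T_d, T_d] [T_fi, T_c] M (Nat.sub (MG u) (Nat.mod (MG u) M)) (nat_lit 40) z1 u (Nat.mod (MG u) M)) (mRel MG [T_b, T_c, T_di, T_ci, T_bi] [T_d, T_fi, T_di] M (Nat.sub (MG u) (Nat.mod (MG u) M)) (nat_lit 40) z1 u (Nat.mod (MG u) M)) (Nat.ble (nat_lit 243) j)) (Nat.ble (nat_lit 242) j)) (Nat.ble (nat_lit 240) j)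
noncomputable def dM_55 (j z1 z2 u : ℕ) : Bool :=
  Bool.rec (motive := fun _ => Bool) (dM_53 j z1 z2 u) (dM_54 j z1 z2 u) (Nat.ble (nat_lit 237) j)
noncomputable def dM_56 (j z1 z2 u : ℕ) : Bool :=
  Bool.rec (motive := fun _ => Bool) (Bool.rec (motive := fun _ => Bool) (mRel MG [T_d, T_d, T_b, T_fi, T_d, T_c] [T_fi, T_bi] M (Nat.sub (MG u) (Nat.mod (MG u) M)) (nat_lit 40) z1 u (Nat.mod (MG u) M)) (Bool.rec (motive := fun _ => Bool) (mRel MG [T_d, T_fi, T_c] [T_b, T_ci, T_d, T_b, T_f] M (Nat.sub (MG u) (Nat.mod (MG u) M)) (nat_lit 40) z1 u (Nat.mod (MG u) M)) (mRel MG [T_bi, T_d, T_fi] [T_c, T_di, T_ci, T_bi, T_d] M (Nat.sub (MG u) (Nat.mod (MG u) M)) (nat_lit 40) z1 u (Nat.mod (MG u) M)) (Nat.ble (nat_lit 246) j)) (Nat.ble (nat_lit 245) j)) (Bool.rec (motive := fun _ => Bool) (Bool.rec (motive := fun _ => Bool) (mRel MG [T_di, T_c, T_c,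 T_bi] [T_c, T_c, T_bi, T_ci] M (Nat.sub (MG u) (Nat.mod (MG u) M)) (nat_lit 40) z1 u (Nat.mod (MG u) M)) (mRel MG [T_ci, T_ci] [T_d, T_fi, T_d, T_bi, T_c, T_b] M (Nat.sub (MG u) (Nat.mod (MG u) M)) (nat_lit 40) z1 u (Nat.mod (MG u) M)) (Nat.ble (nat_lit 248) j)) (Bool.rec (motive := fun _ => Bool) (mRel MG [T_ci, T_f] [T_d, T_d, T_bi, T_f, T_c, T_bi] M (Nat.sub (MG u) (Nat.mod (MG u) M)) (nat_lit 40) z1 u (Nat.mod (MG u) M)) (mRel MG [T_e, T_fi, T_ei, T_f, T_c, T_di, T_f, T_ei] [T_fi] M (Nat.sub (MG u) (Nat.mod (MG u) M)) (nat_lit 40) z1 u (Nat.mod (MG u) M)) (Nat.ble (nat_lit 250) j)) (Nat.ble (nat_lit 249) j)) (Nat.ble (nat_lit 247) j)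
noncomputable def dM_57 (j z1 z2 u : ℕ) : Bool :=
  Bool.rec (motive := fun _ => Bool) (Bool.rec (motive := fun _ => Bool) (Bool.rec (motive := fun _ => Bool) (mRel MG [T_b, T_di, T_f, T_bi, T_c, T_fi] [T_c, T_d] M (Nat.sub (MG u) (Nat.mod (MG u) M)) (nat_lit 40) z1 u (Nat.mod (MG u) M)) (mRel MG [T_d, T_b, T_fi, T_d] [T_di, T_fi, T_bi, T_ci] M (Nat.sub (MG u) (Nat.mod (MG u) M)) (nat_lit 40) z1 u (Nat.mod (MG u) M)) (Nat.ble (nat_lit 252) j)) (Bool.rec (motive := fun _ => Bool) (mRel MG [T_fi, T_c, T_di, T_di, T_fi] [T_d, T_d, T_ci] M (Nat.sub (MG u) (Nat.mod (MG u) M)) (nat_lit 40) z1 u (Nat.mod (MG u) M)) (mRel MG [T_c, T_e, T_bi, T_e, T_c, T_e, T_bi, T_e] [] M (Nat.sub (MG u) (Nat.mod (MG u) M)) (nat_lit 40) z1 u (Nat.mod (MG u) M)) (Nat.ble (nat_lit 254) j)) (Nat.ble (nat_lit 253) j)) (Bool.rec (motive := fun _ => Bool) (Bool.rec (motive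 := fun _ => Bool) (mRel MG [T_ci, T_bi, T_d, T_fi] [T_di, T_ci, T_bi, T_d] M (Nat.sub (MG u) (Nat.mod (MG u) M)) (nat_lit 40) z1 u (Nat.mod (MG u) M)) (mRel MG [T_bi, T_di] [T_ci, T_di, T_ci, T_bi, T_f, T_ci] M (Nat.sub (MG u) (Nat.mod (MG u) M)) (nat_lit 40) z1 u (Nat.mod (MG u) M)) (Nat.ble (nat_lit 256) j)) (Bool.rec (motive := fun _ => Bool) (mRel MG [T_c, T_b, T_ci, T_bi, T_fi] [T_bi, T_f, T_d] M (Nat.sub (MG u) (Nat.mod (MG u) M)) (nat_lit 40) z1 u (Nat.mod (MG u) M)) (Bool.rec (motive := fun _ => Bool) (mRel MG [T_ci, T_bi] [T_fi, T_fi, T_d, T_bi, T_bi, T_f, T_c] M (Nat.sub (MG u) (Nat.mod (MG u) M)) (nat_lit 40) z1 u (Nat.mod (MG u) M)) (mRel MG [T_b, T_di, T_bi] [T_d, T_d, T_bi, T_d, T_d] M (Nat.sub (MG u) (Nat.mod (MG u) M)) (nat_lit 40) z1 u (Nat.mod (MG u) M)) (Nat.ble (nat_lit 259) j)) (Nat.ble (nat_lit 258) j)) (Nat.ble (nat_lit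 257) j)) (Nat.ble (nat_lit 255) j)
noncomputable def dM_58 (j z1 z2 u : ℕ) : Bool :=
  Bool.rec (motive := fun _ => Bool) (dM_56 j z1 z2 u) (dM_57 j z1 z2 u) (Nat.ble (nat_lit 251) j)
noncomputable def dM_59 (j z1 z2 u : ℕ) : Bool :=
  Bool.rec (motive := fun _ => Bool) (dM_55 j z1 z2 u) (dM_58 j z1 z2 u) (Nat.ble (nat_lit 244) j)
noncomputable def dM_60 (j z1 z2 u : ℕ) : Bool :=
  Bool.rec (motive := fun _ => Bool) (Bool.rec (motive := fun _ => Bool) (Bool.rec (motive := fun _ => Bool) (mRel MG [T_c, T_c, T_di, T_bi, T_c, T_c, T_di] [T_b] M (Nat.sub (MG u) (Nat.mod (MG u) M)) (nat_lit 40) z1 u (Nat.mod (MG u) M)) (mRel MG [T_di, T_b, T_di, T_di] [T_d, T_b, T_d, T_bi] M (Nat.sub (MG u) (Nat.mod (MG u) M)) (nat_lit 40) z1 u (Nat.mod (MG u) M)) (Nat.ble (nat_lit 261) j)) (Bool.rec (motive := fun _ => Bool) (mRel MG [T_ci, T_fi, T_bi, T_d,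 T_ci, T_fi] [T_di, T_b] M (Nat.sub (MG u) (Nat.mod (MG u) M)) (nat_lit 40) z1 u (Nat.mod (MG u) M)) (Bool.rec (motive := fun _ => Bool) (mRel MG [T_d, T_bi, T_c, T_di, T_b] [T_ci, T_d, T_ci] M (Nat.sub (MG u) (Nat.mod (MG u) M)) (nat_lit 40) z1 u (Nat.mod (MG u) M)) (mRel MG [T_bi, T_ci, T_b, T_d, T_f] [T_d, T_ci, T_fi] M (Nat.sub (MG u) (Nat.mod (MG u) M)) (nat_lit 40) z1 u (Nat.mod (MG u) M)) (Nat.ble (nat_lit 264) j)) (Nat.ble (nat_lit 263) j)) (Nat.ble (nat_lit 262) j)) (Bool.rec (motive := fun _ => Bool) (Bool.rec (motive := fun _ => Bool) (mRel MG [T_di, T_bi, T_c, T_c, T_di, T_bi, T_c] [T_ci] M (Nat.sub (MG u) (Nat.mod (MG u) M)) (nat_lit 40) z1 u (Nat.mod (MG u) M)) (mRel MG [T_b, T_b] [T_di, T_ci, T_bi, T_f, T_b, T_c] M (Nat.sub (MG u) (Nat.mod (MG u) M)) (nat_lit 40) z1 u (Nat.mod (MG u) M)) (Nat.ble (nat_lit 266) j)) (Bool.rec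 (motive := fun _ => Bool) (mRel MG [T_d, T_b, T_f] [T_c, T_bi, T_d, T_fi, T_c] M (Nat.sub (MG u) (Nat.mod (MG u) M)) (nat_lit 40) z1 u (Nat.mod (MG u) M)) (Bool.rec (motive := fun _ => Bool) (mRel MG [T_bi, T_d, T_d, T_b, T_d] [T_di, T_di, T_b] M (Nat.sub (MG u) (Nat.mod (MG u) M)) (nat_lit 40) z1 u (Nat.mod (MG u) M)) (mRel MG [T_b, T_d, T_ci, T_ci] [T_c, T_c, T_di, T_bi] M (Nat.sub (MG u) (Nat.mod (MG u) M)) (nat_lit 40) z1 u (Nat.mod (MG u) M)) (Nat.ble (nat_lit 269) j)) (Nat.ble (nat_lit 268) j)) (Nat.ble (nat_lit 267) j)) (Nat.ble (nat_lit 265) j)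
noncomputable def dM_61 (j z1 z2 u : ℕ) : Bool :=
  Bool.rec (motive := fun _ => Bool) (Bool.rec (motive := fun _ => Bool) (Bool.rec (motive := fun _ => Bool) (mRel MG [T_bi, T_c, T_b, T_ci, T_ci, T_di] [T_ci, T_ci] M (Nat.sub (MG u) (Nat.mod (MG u) M)) (nat_lit 40) z1 u (Nat.mod (MG u) M)) (mRel MG [T_fi, T_c, T_d] [T_b, T_ci, T_fi, T_b, T_di] M (Nat.sub (MG u) (Nat.mod (MG u) M)) (nat_lit 40) z1 u (Nat.mod (MG u) M)) (Nat.ble (nat_lit 271) j)) (Bool.rec (motive := fun _ => Bool) (mRel MG [T_bi, T_d, T_d] [T_di, T_di, T_b, T_di, T_bi] M (Nat.sub (MG u) (Nat.mod (MG u) M)) (nat_lit 40) z1 u (Nat.mod (MG u) M)) (Bool.rec (motive := fun _ => Bool) (mRel MG [T_e, T_fi, T_ei, T_f, T_e, T_c] [T_d, T_f, T_di] M (Nat.sub (MG u) (Nat.mod (MG u) M)) (nat_lit 40) z1 u (Nat.mod (MG u) M)) (mRel MG [T_d, T_ci, T_bi, T_d, T_fi, T_di] [T_ci, T_bi] M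 (Nat.sub (MG u) (Nat.mod (MG u) M)) (nat_lit 40) z1 u (Nat.mod (MG u) M)) (Nat.ble (nat_lit 274) j)) (Nat.ble (nat_lit 273) j)) (Nat.ble (nat_lit 272) j)) (Bool.rec (motive := fun _ => Bool) (Bool.rec (motive := fun _ => Bool) (mRel MG [T_bi, T_f, T_b] [T_b, T_f, T_ci, T_d, T_fi] M (Nat.sub (MG u) (Nat.mod (MG u) M)) (nat_lit 40) z1 u (Nat.mod (MG u) M)) (Bool.rec (motive := fun _ => Bool) (mRel MG [T_bi, T_d, T_fi, T_c, T_fi] [T_ci, T_d, T_b] M (Nat.sub (MG u) (Nat.mod (MG u) M)) (nat_lit 40) z1 u (Nat.mod (MG u) M)) (mRel MG [T_c, T_di, T_ci, T_bi] [T_bi, T_d, T_fi, T_di] M (Nat.sub (MG u) (Nat.mod (MG u) M)) (nat_lit 40) z1 u (Nat.mod (MG u) M)) (Nat.ble (nat_lit 277) j)) (Nat.ble (nat_lit 276) j)) (Bool.rec (motive := fun _ => Bool) (mRel MG [T_ci, T_bi, T_fi, T_b] [T_bi, T_bi, T_di, T_ci] M (Nat.sub (MG u) (Nat.mod (MG u) M)) (nat_lit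 40) z1 u (Nat.mod (MG u) M)) (Bool.rec (motive := fun _ => Bool) (mRel MG [T_b, T_c, T_b, T_ci, T_bi, T_fi] [T_f, T_d] M (Nat.sub (MG u) (Nat.mod (MG u) M)) (nat_lit 40) z1 u (Nat.mod (MG u) M)) (mRel MG [T_c, T_bi, T_ci, T_ci, T_f, T_c, T_c] [T_di, T_fi] M (Nat.sub (MG u) (Nat.mod (MG u) M)) (nat_lit 40) z1 u (Nat.mod (MG u) M)) (Nat.ble (nat_lit 280) j)) (Nat.ble (nat_lit 279) j)) (Nat.ble (nat_lit 278) j)) (Nat.ble (nat_lit 275) j)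
noncomputable def dM_62 (j z1 z2 u : ℕ) : Bool :=
  Bool.rec (motive := fun _ => Bool) (dM_60 j z1 z2 u) (dM_61 j z1 z2 u) (Nat.ble (nat_lit 270) j)
noncomputable def dM_63 (j z1 z2 u : ℕ) : Bool :=
  Bool.rec (motive := fun _ => Bool) (Bool.rec (motive := fun _ => Bool) (Bool.rec (motive := fun _ => Bool) (mRel MG [T_f, T_di, T_f, T_f] [T_d, T_d, T_f, T_d] M (Nat.sub (MG u) (Nat.mod (MG u) M)) (nat_lit 40) z1 u (Nat.mod (MG u) M)) (mRel MG [T_d, T_f] [T_ci, T_bi, T_ci, T_fi, T_d, T_bi] M (Nat.sub (MG u) (Nat.mod (MG u) M)) (nat_lit 40) z1 u (Nat.mod (MG u) M)) (Nat.ble (nat_lit 282) j)) (Bool.rec (motive := fun _ => Bool) (mRel MG [T_d, T_d, T_bi] [T_ci, T_f, T_b, T_ci, T_fi] M (Nat.sub (MG u) (Nat.mod (MG u) M)) (nat_lit 40) z1 u (Nat.mod (MG u) M)) (Bool.rec (motive := fun _ => Bool) (mRel MG [T_b, T_d, T_ci, T_ci, T_b, T_d, T_ci, T_ci]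 [] M (Nat.sub (MG u) (Nat.mod (MG u) M)) (nat_lit 40) z1 u (Nat.mod (MG u) M)) (mRel MG [T_fi, T_d, T_ci, T_fi, T_e, T_f, T_ei] [T_ei, T_f] M (Nat.sub (MG u) (Nat.mod (MG u) M)) (nat_lit 40) z1 u (Nat.mod (MG u) M)) (Nat.ble (nat_lit 285) j)) (Nat.ble (nat_lit 284) j)) (Nat.ble (nat_lit 283) j)) (Bool.rec (motive := fun _ => Bool) (Bool.rec (motive := fun _ => Bool) (mRel MG [T_f, T_b, T_di] [T_di, T_ci, T_bi, T_ci, T_fi] M (Nat.sub (MG u) (Nat.mod (MG u) M)) (nat_lit 40) z1 u (Nat.mod (MG u) M)) (Bool.rec (motive := fun _ => Bool) (mRel MG [T_ci, T_ci, T_f, T_bi, T_fi, T_ci] [T_fi, T_bi] M (Nat.sub (MG u) (Nat.mod (MG u) M)) (nat_lit 40) z1 u (Nat.mod (MG u) M)) (mRel MG [T_b, T_di, T_f, T_bi, T_c] [T_c, T_d, T_f] M (Nat.sub (MG u) (Nat.mod (MG u) M)) (nat_lit 40) z1 u (Nat.mod (MG u) M)) (Nat.ble (nat_lit 288) j)) (Nat.ble (nat_lit 287)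 j)) (Bool.rec (motive := fun _ => Bool) (mRel MG [T_b, T_di, T_f, T_bi, T_c, T_fi, T_di] [T_c] M (Nat.sub (MG u) (Nat.mod (MG u) M)) (nat_lit 40) z1 u (Nat.mod (MG u) M)) (Bool.rec (motive := fun _ => Bool) (mRel MG [T_f, T_ei, T_f, T_e, T_fi, T_ei] [T_d, T_ci, T_fi] M (Nat.sub (MG u) (Nat.mod (MG u) M)) (nat_lit 40) z1 u (Nat.mod (MG u) M)) (mRel MG [T_ci, T_di, T_c, T_b, T_ci] [T_bi, T_ci, T_d] M (Nat.sub (MG u) (Nat.mod (MG u) M)) (nat_lit 40) z1 u (Nat.mod (MG u) M)) (Nat.ble (nat_lit 291) j)) (Nat.ble (nat_lit 290) j)) (Nat.ble (nat_lit 289) j)) (Nat.ble (nat_lit 286) j)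
noncomputable def dM_64 (j z1 z2 u : ℕ) : Bool :=
  Bool.rec (motive := fun _ => Bool) (Bool.rec (motive := fun _ => Bool) (Bool.rec (motive := fun _ => Bool) (mRel MG [T_di, T_f, T_bi, T_c, T_fi] [T_bi, T_c, T_d] M (Nat.sub (MG u) (Nat.mod (MG u) M)) (nat_lit 40) z1 u (Nat.mod (MG u) M)) (mRel MG [T_b, T_ei, T_ci, T_ei, T_b, T_ei] [T_e, T_c] M (Nat.sub (MG u) (Nat.mod (MG u) M)) (nat_lit 40) z1 u (Nat.mod (MG u) M)) (Nat.ble (nat_lit 293) j)) (Bool.rec (motive := fun _ => Bool) (mRel MG [T_fi, T_e] [T_e, T_fi, T_ei, T_f, T_c, T_di, T_f] M (Nat.sub (MG u) (Nat.mod (MG u) M)) (nat_lit 40) z1 u (Nat.mod (MG u) M)) (Bool.rec (motive := fun _ => Bool) (mRel MG [T_ci, T_bi, T_f, T_ci] [T_d, T_c, T_bi, T_di] M (Nat.sub (MG u) (Nat.mod (MG u) M)) (nat_lit 40) z1 u (Nat.mod (MG u) M)) (mRel MG [T_ci, T_ci, T_di, T_c] [T_bi, T_ci, T_b, T_ci] M (Nat.sub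 (MG u) (Nat.mod (MG u) M)) (nat_lit 40) z1 u (Nat.mod (MG u) M)) (Nat.ble (nat_lit 296) j)) (Nat.ble (nat_lit 295) j)) (Nat.ble (nat_lit 294) j)) (Bool.rec (motive := fun _ => Bool) (Bool.rec (motive := fun _ => Bool) (mRel MG [T_di, T_ci, T_d, T_ci] [T_bi, T_c, T_di, T_b] M (Nat.sub (MG u) (Nat.mod (MG u) M)) (nat_lit 40) z1 u (Nat.mod (MG u) M)) (Bool.rec (motive := fun _ => Bool) (mRel MG [T_b, T_fi, T_c, T_c, T_fi, T_bi, T_c] [T_fi] M (Nat.sub (MG u) (Nat.mod (MG u) M)) (nat_lit 40) z1 u (Nat.mod (MG u) M)) (mRel MG [T_ci, T_ci, T_bi, T_ci, T_b, T_di] [T_d, T_fi] M (Nat.sub (MG u) (Nat.mod (MG u) M)) (nat_lit 40) z1 u (Nat.mod (MG u) M)) (Nat.ble (nat_lit 299) j)) (Nat.ble (nat_lit 298) j)) (Bool.rec (motive := fun _ => Bool) (mRel MG [T_bi, T_f, T_b, T_c, T_bi] [T_c, T_d, T_b] M (Nat.sub (MG u) (Nat.mod (MG u) M)) (nat_lit 40) z1 u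 (Nat.mod (MG u) M)) (Bool.rec (motive := fun _ => Bool) (mRel MG [T_f, T_ei, T_f, T_e, T_fi] [T_d, T_ci, T_fi, T_e] M (Nat.sub (MG u) (Nat.mod (MG u) M)) (nat_lit 40) z1 u (Nat.mod (MG u) M)) (mRel MG [T_f, T_c, T_b, T_c, T_d] [T_d, T_bi, T_fi] M (Nat.sub (MG u) (Nat.mod (MG u) M)) (nat_lit 40) z1 u (Nat.mod (MG u) M)) (Nat.ble (nat_lit 302) j)) (Nat.ble (nat_lit 301) j)) (Nat.ble (nat_lit 300) j)) (Nat.ble (nat_lit 297) j)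
noncomputable def dM_65 (j z1 z2 u : ℕ) : Bool :=
  Bool.rec (motive := fun _ => Bool) (dM_63 j z1 z2 u) (dM_64 j z1 z2 u) (Nat.ble (nat_lit 292) j)
noncomputable def dM_66 (j z1 z2 u : ℕ) : Bool :=
  Bool.rec (motive := fun _ => Bool) (dM_62 j z1 z2 u) (dM_65 j z1 z2 u) (Nat.ble (nat_lit 281) j)
noncomputable def dM_67 (j z1 z2 u : ℕ) : Bool :=
  Bool.rec (motive := fun _ => Bool) (dM_59 j z1 z2 u) (dM_66 j z1 z2 u) (Nat.ble (nat_lit 260) j)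
noncomputable def dM_68 (j z1 z2 u : ℕ) : Bool :=
  Bool.rec (motive := fun _ => Bool) (dM_52 j z1 z2 u) (dM_67 j z1 z2 u) (Nat.ble (nat_lit 230) j)
noncomputable def dM_69 (j z1 z2 u : ℕ) : Bool :=
  Bool.rec (motive := fun _ => Bool) (Bool.rec (motive := fun _ => Bool) (Bool.rec (motive := fun _ => Bool) (mRel MG [T_d, T_f, T_d, T_fi, T_fi, T_d] [T_di, T_f] M (Nat.sub (MG u) (Nat.mod (MG u) M)) (nat_lit 40) z1 u (Nat.mod (MG u) M)) (mRel MG [T_d, T_bi, T_c, T_b, T_c] [T_f, T_di, T_ci] M (Nat.sub (MG u) (Nat.mod (MG u) M)) (nat_lit 40) z1 u (Nat.mod (MG u) M)) (Nat.ble (nat_lit 304) j)) (Bool.rec (motive := fun _ => Bool) (mRel MG [T_b, T_b, T_ci] [T_ci, T_di, T_b, T_f, T_f] M (Nat.sub (MG u) (Nat.mod (MG u) M)) (nat_lit 40) z1 u (Nat.mod (MG u) M)) (Bool.rec (motive := fun _ => Bool) (mRel MG [T_f, T_b, T_di, T_f] [T_di, T_ci, T_bi, T_ci]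 M (Nat.sub (MG u) (Nat.mod (MG u) M)) (nat_lit 40) z1 u (Nat.mod (MG u) M)) (mRel MG [T_fi, T_d, T_bi] [T_c, T_b, T_c, T_d, T_f] M (Nat.sub (MG u) (Nat.mod (MG u) M)) (nat_lit 40) z1 u (Nat.mod (MG u) M)) (Nat.ble (nat_lit 307) j)) (Nat.ble (nat_lit 306) j)) (Nat.ble (nat_lit 305) j)) (Bool.rec (motive := fun _ => Bool) (Bool.rec (motive := fun _ => Bool) (mRel MG [T_f, T_c, T_bi, T_fi, T_c, T_d] [T_b, T_di] M (Nat.sub (MG u) (Nat.mod (MG u) M)) (nat_lit 40) z1 u (Nat.mod (MG u) M)) (mRel MG [T_bi, T_c, T_d, T_f] [T_di, T_f, T_bi, T_c] M (Nat.sub (MG u) (Nat.mod (MG u) M)) (nat_lit 40) z1 u (Nat.mod (MG u) M)) (Nat.ble (nat_lit 309) j)) (Bool.rec (motive := fun _ => Bool) (mRel MG [T_d, T_ci, T_fi, T_bi, T_d, T_ci] [T_b, T_f] M (Nat.sub (MG u) (Nat.mod (MG u) M)) (nat_lit 40) z1 u (Nat.mod (MG u) M)) (Bool.rec (motive := fun _ => Bool)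 (mRel MG [T_d, T_d, T_ci, T_f] [T_fi, T_c, T_di, T_di] M (Nat.sub (MG u) (Nat.mod (MG u) M)) (nat_lit 40) z1 u (Nat.mod (MG u) M)) (mRel MG [T_bi, T_fi, T_di, T_ci, T_bi, T_ci] [T_di, T_f] M (Nat.sub (MG u) (Nat.mod (MG u) M)) (nat_lit 40) z1 u (Nat.mod (MG u) M)) (Nat.ble (nat_lit 312) j)) (Nat.ble (nat_lit 311) j)) (Nat.ble (nat_lit 310) j)) (Nat.ble (nat_lit 308) j)
noncomputable def dM_70 (j z1 z2 u : ℕ) : Bool :=
  Bool.rec (motive := fun _ => Bool) (Bool.rec (motive := fun _ => Bool) (Bool.rec (motive := fun _ => Bool) (mRel MG [T_d, T_b, T_ci, T_bi, T_f] [T_ci, T_bi, T_di] M (Nat.sub (MG u) (Nat.mod (MG u) M)) (nat_lit 40) z1 u (Nat.mod (MG u) M)) (mRel MG [T_bi, T_bi, T_ci, T_di, T_b, T_f] [T_ci, T_fi] M (Nat.sub (MG u) (Nat.mod (MG u) M)) (nat_lit 40) z1 u (Nat.mod (MG u) M)) (Nat.ble (nat_lit 314) j)) (Bool.rec (motive := fun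 _ => Bool) (mRel MG [T_b, T_d, T_f, T_f] [T_c, T_b, T_d, T_ci] M (Nat.sub (MG u) (Nat.mod (MG u) M)) (nat_lit 40) z1 u (Nat.mod (MG u) M)) (Bool.rec (motive := fun _ => Bool) (mRel MG [T_b, T_ci, T_di, T_ci, T_bi, T_f, T_ci] [T_di] M (Nat.sub (MG u) (Nat.mod (MG u) M)) (nat_lit 40) z1 u (Nat.mod (MG u) M)) (mRel MG [T_f, T_ci, T_b, T_e, T_di] [T_ei, T_fi, T_b, T_f] M (Nat.sub (MG u) (Nat.mod (MG u) M)) (nat_lit 40) z1 u (Nat.mod (MG u) M)) (Nat.ble (nat_lit 317) j)) (Nat.ble (nat_lit 316) j)) (Nat.ble (nat_lit 315) j)) (Bool.rec (motive := fun _ => Bool) (Bool.rec (motive := fun _ => Bool) (mRel MG [T_b, T_f, T_ci, T_d, T_fi, T_bi] [T_bi, T_f] M (Nat.sub (MG u) (Nat.mod (MG u) M)) (nat_lit 40) z1 u (Nat.mod (MG u) M)) (Bool.rec (motive := fun _ => Bool) (mRel MG [T_bi, T_c, T_b, T_d, T_ci, T_fi] [T_d, T_f] M (Nat.sub (MG u) (Nat.mod (MG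 u) M)) (nat_lit 40) z1 u (Nat.mod (MG u) M)) (mRel MG [T_b, T_c, T_d, T_f] [T_ci, T_fi, T_d, T_bi] M (Nat.sub (MG u) (Nat.mod (MG u) M)) (nat_lit 40) z1 u (Nat.mod (MG u) M)) (Nat.ble (nat_lit 320) j)) (Nat.ble (nat_lit 319) j)) (Bool.rec (motive := fun _ => Bool) (mRel MG [T_b] [T_f, T_c, T_bi, T_fi, T_c, T_d, T_d] M (Nat.sub (MG u) (Nat.mod (MG u) M)) (nat_lit 40) z1 u (Nat.mod (MG u) M)) (Bool.rec (motive := fun _ => Bool) (mRel MG [T_di, T_c, T_d, T_bi] [T_ci, T_bi, T_d, T_ci] M (Nat.sub (MG u) (Nat.mod (MG u) M)) (nat_lit 40) z1 u (Nat.mod (MG u) M)) (mRel MG [T_f, T_d, T_b, T_c, T_d] [T_b, T_c, T_bi] M (Nat.sub (MG u) (Nat.mod (MG u) M)) (nat_lit 40) z1 u (Nat.mod (MG u) M)) (Nat.ble (nat_lit 323) j)) (Nat.ble (nat_lit 322) j)) (Nat.ble (nat_lit 321) j)) (Nat.ble (nat_lit 318) j)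
noncomputable def dM_71 (j z1 z2 u : ℕ) : Bool :=
  Bool.rec (motive := fun _ => Bool) (dM_69 j z1 z2 u) (dM_70 j z1 z2 u) (Nat.ble (nat_lit 313) j)
noncomputable def dM_72 (j z1 z2 u : ℕ) : Bool :=
  Bool.rec (motive := fun _ => Bool) (Bool.rec (motive := fun _ => Bool) (Bool.rec (motive := fun _ => Bool) (mRel MG [T_c, T_di, T_f, T_ei, T_f, T_e, T_fi] [T_fi, T_e] M (Nat.sub (MG u) (Nat.mod (MG u) M)) (nat_lit 40) z1 u (Nat.mod (MG u) M)) (mRel MG [T_b, T_d, T_ci, T_fi, T_fi, T_di, T_bi, T_c] [] M (Nat.sub (MG u) (Nat.mod (MG u) M)) (nat_lit 40) z1 u (Nat.mod (MG u) M)) (Nat.ble (nat_lit 325) j)) (Bool.rec (motive := fun _ => Bool) (mRel MG [T_di, T_f, T_ei, T_f, T_e, T_fi] [T_ci, T_fi, T_e] M (Nat.sub (MG u) (Nat.mod (MG u) M)) (nat_lit 40) z1 u (Nat.mod (MG u) M)) (Bool.rec (motive := fun _ => Bool) (mRel MG [T_f, T_c, T_di] [T_e, T_f,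 T_ei, T_fi, T_e, T_fi] M (Nat.sub (MG u) (Nat.mod (MG u) M)) (nat_lit 40) z1 u (Nat.mod (MG u) M)) (mRel MG [T_bi, T_fi] [T_c, T_b, T_ci, T_bi, T_di, T_di] M (Nat.sub (MG u) (Nat.mod (MG u) M)) (nat_lit 40) z1 u (Nat.mod (MG u) M)) (Nat.ble (nat_lit 328) j)) (Nat.ble (nat_lit 327) j)) (Nat.ble (nat_lit 326) j)) (Bool.rec (motive := fun _ => Bool) (Bool.rec (motive := fun _ => Bool) (mRel MG [T_bi, T_d, T_fi] [T_ci, T_d, T_b, T_f, T_ci] M (Nat.sub (MG u) (Nat.mod (MG u) M)) (nat_lit 40) z1 u (Nat.mod (MG u) M)) (mRel MG [T_di, T_bi, T_ci, T_b, T_d] [T_ci, T_fi, T_fi] M (Nat.sub (MG u) (Nat.mod (MG u) M)) (nat_lit 40) z1 u (Nat.mod (MG u) M)) (Nat.ble (nat_lit 330) j)) (Bool.rec (motive := fun _ => Bool) (mRel MG [T_ei, T_f, T_e, T_c, T_di, T_f, T_f] [T_f, T_ei] M (Nat.sub (MG u) (Nat.mod (MG u) M)) (nat_lit 40) z1 u (Nat.mod (MG u) M)) (Bool.rec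 (motive := fun _ => Bool) (mRel MG [T_ci, T_f, T_d, T_d, T_ci, T_f] [T_di, T_di] M (Nat.sub (MG u) (Nat.mod (MG u) M)) (nat_lit 40) z1 u (Nat.mod (MG u) M)) (mRel MG [T_e, T_di, T_fi, T_bi, T_f] [T_bi, T_c, T_fi, T_ei] M (Nat.sub (MG u) (Nat.mod (MG u) M)) (nat_lit 40) z1 u (Nat.mod (MG u) M)) (Nat.ble (nat_lit 333) j)) (Nat.ble (nat_lit 332) j)) (Nat.ble (nat_lit 331) j)) (Nat.ble (nat_lit 329) j)
noncomputable def dM_73 (j z1 z2 u : ℕ) : Bool :=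
  Bool.rec (motive := fun _ => Bool) (Bool.rec (motive := fun _ => Bool) (Bool.rec (motive := fun _ => Bool) (mRel MG [T_bi, T_f] [T_b, T_f, T_ci, T_d, T_fi, T_bi] M (Nat.sub (MG u) (Nat.mod (MG u) M)) (nat_lit 40) z1 u (Nat.mod (MG u) M)) (mRel MG [T_di, T_fi, T_bi, T_ci, T_di] [T_d, T_b, T_fi] M (Nat.sub (MG u) (Nat.mod (MG u) M)) (nat_lit 40) z1 u (Nat.mod (MG u) M)) (Nat.ble (nat_lit 335) j)) (Bool.rec (motive := fun _ => Bool) (mRel MG [T_f, T_ci, T_d, T_b, T_ci, T_di] [T_b, T_c] M (Nat.sub (MG u) (Nat.mod (MG u) M)) (nat_lit 40) z1 u (Nat.mod (MG u) M)) (Bool.rec (motive := fun _ => Bool) (mRel MG [T_bi, T_f] [T_f, T_d, T_ei, T_bi, T_c, T_fi, T_ei] M (Nat.sub (MG u) (Nat.mod (MG u) M)) (nat_lit 40) z1 u (Nat.mod (MG u) M)) (mRel MG [T_ci, T_d, T_b] [T_fi, T_b, T_c, T_d, T_c] M (Nat.sub (MG u) (Nat.mod (MG u) M)) (nat_lit 40) z1 u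 (Nat.mod (MG u) M)) (Nat.ble (nat_lit 338) j)) (Nat.ble (nat_lit 337) j)) (Nat.ble (nat_lit 336) j)) (Bool.rec (motive := fun _ => Bool) (Bool.rec (motive := fun _ => Bool) (mRel MG [T_ci, T_bi, T_ci, T_b] [T_c, T_d, T_fi, T_d] M (Nat.sub (MG u) (Nat.mod (MG u) M)) (nat_lit 40) z1 u (Nat.mod (MG u) M)) (Bool.rec (motive := fun _ => Bool) (mRel MG [T_c, T_bi] [T_d, T_b, T_f, T_ci, T_f, T_di] M (Nat.sub (MG u) (Nat.mod (MG u) M)) (nat_lit 40) z1 u (Nat.mod (MG u) M)) (mRel MG [T_di, T_di, T_b, T_di, T_bi, T_di] [T_bi, T_d] M (Nat.sub (MG u) (Nat.mod (MG u) M)) (nat_lit 40) z1 u (Nat.mod (MG u) M)) (Nat.ble (nat_lit 341) j)) (Nat.ble (nat_lit 340) j)) (Bool.rec (motive := fun _ => Bool) (mRel MG [T_d, T_ci, T_ci, T_b, T_d, T_ci] [T_bi, T_c] M (Nat.sub (MG u) (Nat.mod (MG u) M)) (nat_lit 40) z1 u (Nat.mod (MG u) M)) (Bool.rec (motive := fun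 _ => Bool) (mRel MG [T_b, T_c, T_bi, T_ci, T_bi] [T_fi, T_di, T_fi] M (Nat.sub (MG u) (Nat.mod (MG u) M)) (nat_lit 40) z1 u (Nat.mod (MG u) M)) (mRel MG [T_di, T_di, T_f, T_di, T_f, T_f] [T_f, T_d] M (Nat.sub (MG u) (Nat.mod (MG u) M)) (nat_lit 40) z1 u (Nat.mod (MG u) M)) (Nat.ble (nat_lit 344) j)) (Nat.ble (nat_lit 343) j)) (Nat.ble (nat_lit 342) j)) (Nat.ble (nat_lit 339) j)
noncomputable def dM_74 (j z1 z2 u : ℕ) : Bool :=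
  Bool.rec (motive := fun _ => Bool) (dM_72 j z1 z2 u) (dM_73 j z1 z2 u) (Nat.ble (nat_lit 334) j)
noncomputable def dM_75 (j z1 z2 u : ℕ) : Bool :=
  Bool.rec (motive := fun _ => Bool) (dM_71 j z1 z2 u) (dM_74 j z1 z2 u) (Nat.ble (nat_lit 324) j)
noncomputable def dM_76 (j z1 z2 u : ℕ) : Bool :=
  Bool.rec (motive := fun _ => Bool) (Bool.rec (motive := fun _ => Bool) (Bool.rec (motive := fun _ => Bool) (mRel MG [T_di, T_ci, T_d, T_ci, T_bi, T_d] [T_bi, T_c] M (Nat.sub (MG u) (Nat.mod (MG u) M)) (nat_lit 40) z1 u (Nat.mod (MG u) M)) (mRel MG [T_ci, T_d] [T_bi, T_d, T_fi, T_c, T_fi, T_bi] M (Nat.sub (MG u) (Nat.mod (MG u) M)) (nat_lit 40) z1 u (Nat.mod (MG u) M)) (Nat.ble (nat_lit 346) j)) (Bool.rec (motive := fun _ => Bool) (mRel MG [T_f, T_f, T_di, T_fi, T_di] [T_d, T_fi, T_d] M (Nat.sub (MG u) (Nat.mod (MG u) M)) (nat_lit 40) z1 u (Nat.mod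 (MG u) M)) (Bool.rec (motive := fun _ => Bool) (mRel MG [T_di, T_ci, T_bi, T_ci, T_fi, T_d] [T_f, T_b] M (Nat.sub (MG u) (Nat.mod (MG u) M)) (nat_lit 40) z1 u (Nat.mod (MG u) M)) (mRel MG [T_bi, T_c, T_bi] [T_ci, T_b, T_ci, T_b, T_ci] M (Nat.sub (MG u) (Nat.mod (MG u) M)) (nat_lit 40) z1 u (Nat.mod (MG u) M)) (Nat.ble (nat_lit 349) j)) (Nat.ble (nat_lit 348) j)) (Nat.ble (nat_lit 347) j)) (Bool.rec (motive := fun _ => Bool) (Bool.rec (motive := fun _ => Bool) (mRel MG [T_fi, T_bi, T_fi, T_b, T_b] [T_di, T_c, T_fi] M (Nat.sub (MG u) (Nat.mod (MG u) M)) (nat_lit 40) z1 u (Nat.mod (MG u) M)) (mRel MG [T_di, T_c, T_bi, T_d, T_fi] [T_b, T_f, T_ci] M (Nat.sub (MG u) (Nat.mod (MG u) M)) (nat_lit 40) z1 u (Nat.mod (MG u) M)) (Nat.ble (nat_lit 351) j)) (Bool.rec (motive := fun _ => Bool) (mRel MG [T_c, T_c, T_fi, T_bi, T_c, T_f, T_b, T_fi] [] M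 (Nat.sub (MG u) (Nat.mod (MG u) M)) (nat_lit 40) z1 u (Nat.mod (MG u) M)) (Bool.rec (motive := fun _ => Bool) (mRel MG [T_d, T_ci, T_bi, T_d] [T_ci, T_bi, T_d, T_f] M (Nat.sub (MG u) (Nat.mod (MG u) M)) (nat_lit 40) z1 u (Nat.mod (MG u) M)) (mRel MG [T_fi, T_ei, T_f, T_c, T_di, T_f, T_ei, T_f] [T_ei] M (Nat.sub (MG u) (Nat.mod (MG u) M)) (nat_lit 40) z1 u (Nat.mod (MG u) M)) (Nat.ble (nat_lit 354) j)) (Nat.ble (nat_lit 353) j)) (Nat.ble (nat_lit 352) j)) (Nat.ble (nat_lit 350) j)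
noncomputable def dM_77 (j z1 z2 u : ℕ) : Bool :=
  Bool.rec (motive := fun _ => Bool) (Bool.rec (motive := fun _ => Bool) (Bool.rec (motive := fun _ => Bool) (mRel MG [T_c, T_c, T_d, T_fi, T_d, T_bi, T_c] [T_bi] M (Nat.sub (MG u) (Nat.mod (MG u) M)) (nat_lit 40) z1 u (Nat.mod (MG u) M)) (mRel MG [T_fi, T_d, T_d, T_b, T_c, T_bi] [T_b, T_c] M (Nat.sub (MG u) (Nat.mod (MG u) M)) (nat_lit 40) z1 u (Nat.mod (MG u) M)) (Nat.ble (nat_lit 356) j)) (Bool.rec (motive := fun _ => Bool) (mRel MG [T_d, T_b, T_c, T_bi] [T_di, T_f, T_b, T_c] M (Nat.sub (MG u) (Nat.mod (MG u) M)) (nat_lit 40) z1 u (Nat.mod (MG u) M)) (Bool.rec (motive := fun _ => Bool) (mRel MG [T_b, T_ci, T_bi, T_f, T_d] [T_di, T_ci, T_bi] M (Nat.sub (MG u) (Nat.mod (MG u) M)) (nat_lit 40) z1 u (Nat.mod (MG u) M)) (mRel MG [T_b] [T_c, T_b, T_c, T_c, T_d, T_fi, T_d] M (Nat.sub (MG u)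 (Nat.mod (MG u) M)) (nat_lit 40) z1 u (Nat.mod (MG u) M)) (Nat.ble (nat_lit 359) j)) (Nat.ble (nat_lit 358) j)) (Nat.ble (nat_lit 357) j)) (Bool.rec (motive := fun _ => Bool) (Bool.rec (motive := fun _ => Bool) (mRel MG [T_fi, T_e, T_f, T_ei, T_fi] [T_c, T_di, T_f, T_ei] M (Nat.sub (MG u) (Nat.mod (MG u) M)) (nat_lit 40) z1 u (Nat.mod (MG u) M)) (Bool.rec (motive := fun _ => Bool) (mRel MG [T_bi, T_c, T_c, T_di, T_bi] [T_d, T_ci, T_ci] M (Nat.sub (MG u) (Nat.mod (MG u) M)) (nat_lit 40) z1 u (Nat.mod (MG u) M)) (mRel MG [T_fi, T_d, T_d, T_f, T_d, T_fi] [T_di, T_f] M (Nat.sub (MG u) (Nat.mod (MG u) M)) (nat_lit 40) z1 u (Nat.mod (MG u) M)) (Nat.ble (nat_lit 362) j)) (Nat.ble (nat_lit 361) j)) (Bool.rec (motive := fun _ => Bool) (mRel MG [T_ei] [T_di, T_fi, T_bi, T_f, T_e, T_f, T_ci, T_b] M (Nat.sub (MG u) (Nat.mod (MG u) M)) (nat_lit 40)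 z1 u (Nat.mod (MG u) M)) (Bool.rec (motive := fun _ => Bool) (mRel MG [T_bi, T_bi] [T_f, T_ci, T_d, T_fi, T_bi, T_fi] M (Nat.sub (MG u) (Nat.mod (MG u) M)) (nat_lit 40) z1 u (Nat.mod (MG u) M)) (mRel MG [T_ei, T_fi, T_fi, T_d, T_ci, T_ei] [T_fi, T_ei, T_f] M (Nat.sub (MG u) (Nat.mod (MG u) M)) (nat_lit 40) z1 u (Nat.mod (MG u) M)) (Nat.ble (nat_lit 365) j)) (Nat.ble (nat_lit 364) j)) (Nat.ble (nat_lit 363) j)) (Nat.ble (nat_lit 360) j)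
noncomputable def dM_78 (j z1 z2 u : ℕ) : Bool :=
  Bool.rec (motive := fun _ => Bool) (dM_76 j z1 z2 u) (dM_77 j z1 z2 u) (Nat.ble (nat_lit 355) j)
noncomputable def dM_79 (j z1 z2 u : ℕ) : Bool :=
  Bool.rec (motive := fun _ => Bool) (Bool.rec (motive := fun _ => Bool) (Bool.rec (motive := fun _ => Bool) (mRel MG [T_b, T_b, T_ci, T_fi, T_fi] [T_ci, T_di, T_b] M (Nat.sub (MG u) (Nat.mod (MG u) M)) (nat_lit 40) z1 u (Nat.mod (MG u) M)) (mRel MG [T_bi, T_c] [T_d, T_f, T_f, T_c, T_di, T_bi] M (Nat.sub (MG u) (Nat.mod (MG u) M)) (nat_lit 40) z1 u (Nat.mod (MG u) M)) (Nat.ble (nat_lit 367) j)) (Bool.rec (motive := fun _ => Bool) (mRel MG [T_b, T_f, T_di, T_c, T_fi, T_bi] [T_fi, T_b] M (Nat.sub (MG u) (Nat.mod (MG u) M)) (nat_lit 40) z1 u (Nat.mod (MG u) M)) (Bool.rec (motive := fun _ => Bool) (mRel MG [T_fi, T_ci, T_b, T_f, T_ci, T_ci] [T_b,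 T_fi] M (Nat.sub (MG u) (Nat.mod (MG u) M)) (nat_lit 40) z1 u (Nat.mod (MG u) M)) (mRel MG [T_ci, T_ci, T_d] [T_bi, T_c, T_b, T_ci, T_ci] M (Nat.sub (MG u) (Nat.mod (MG u) M)) (nat_lit 40) z1 u (Nat.mod (MG u) M)) (Nat.ble (nat_lit 370) j)) (Nat.ble (nat_lit 369) j)) (Nat.ble (nat_lit 368) j)) (Bool.rec (motive := fun _ => Bool) (Bool.rec (motive := fun _ => Bool) (mRel MG [T_fi, T_di, T_ci, T_bi, T_ci, T_fi] [T_b, T_di] M (Nat.sub (MG u) (Nat.mod (MG u) M)) (nat_lit 40) z1 u (Nat.mod (MG u) M)) (Bool.rec (motive := fun _ => Bool) (mRel MG [T_d, T_ci, T_ci, T_b, T_d, T_ci, T_ci, T_b] [] M (Nat.sub (MG u) (Nat.mod (MG u) M)) (nat_lit 40) z1 u (Nat.mod (MG u) M)) (mRel MG [T_di, T_ci, T_bi, T_ci] [T_f, T_b, T_di, T_f] M (Nat.sub (MG u) (Nat.mod (MG u) M)) (nat_lit 40) z1 u (Nat.mod (MG u) M)) (Nat.ble (nat_lit 373) j)) (Nat.ble (nat_lit 372)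 j)) (Bool.rec (motive := fun _ => Bool) (mRel MG [T_d, T_ei, T_bi, T_c, T_fi, T_ei] [T_fi, T_bi, T_f] M (Nat.sub (MG u) (Nat.mod (MG u) M)) (nat_lit 40) z1 u (Nat.mod (MG u) M)) (Bool.rec (motive := fun _ => Bool) (mRel MG [T_c, T_bi, T_ci] [T_di, T_c, T_b, T_ci, T_di] M (Nat.sub (MG u) (Nat.mod (MG u) M)) (nat_lit 40) z1 u (Nat.mod (MG u) M)) (mRel MG [T_d, T_b, T_f, T_ci] [T_c, T_bi, T_d, T_fi] M (Nat.sub (MG u) (Nat.mod (MG u) M)) (nat_lit 40) z1 u (Nat.mod (MG u) M)) (Nat.ble (nat_lit 376) j)) (Nat.ble (nat_lit 375) j)) (Nat.ble (nat_lit 374) j)) (Nat.ble (nat_lit 371) j)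
noncomputable def dM_80 (j z1 z2 u : ℕ) : Bool :=
  Bool.rec (motive := fun _ => Bool) (Bool.rec (motive := fun _ => Bool) (Bool.rec (motive := fun _ => Bool) (mRel MG [T_ci, T_di, T_c, T_b, T_ci, T_di] [T_bi, T_ci] M (Nat.sub (MG u) (Nat.mod (MG u) M)) (nat_lit 40) z1 u (Nat.mod (MG u) M)) (mRel MG [T_bi, T_e, T_c, T_e] [T_ei, T_ci, T_ei, T_b] M (Nat.sub (MG u) (Nat.mod (MG u) M)) (nat_lit 40) z1 u (Nat.mod (MG u) M)) (Nat.ble (nat_lit 378) j)) (Bool.rec (motive := fun _ => Bool) (mRel MG [T_ei, T_fi, T_fi, T_d, T_ci] [T_fi, T_ei, T_f, T_e] M (Nat.sub (MG u) (Nat.mod (MG u) M)) (nat_lit 40) z1 u (Nat.mod (MG u) M)) (Bool.rec (motive := fun _ => Bool) (mRel MG [T_b, T_d, T_ci, T_ci, T_b] [T_c, T_c, T_di] M (Nat.sub (MG u) (Nat.mod (MG u) M)) (nat_lit 40) z1 u (Nat.mod (MG u) M)) (mRel MG [T_bi, T_fi, T_ci, T_b] [T_fi, T_c, T_c, T_fi] M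 (Nat.sub (MG u) (Nat.mod (MG u) M)) (nat_lit 40) z1 u (Nat.mod (MG u) M)) (Nat.ble (nat_lit 381) j)) (Nat.ble (nat_lit 380) j)) (Nat.ble (nat_lit 379) j)) (Bool.rec (motive := fun _ => Bool) (Bool.rec (motive := fun _ => Bool) (mRel MG [T_bi, T_f, T_b, T_f] [T_b, T_f, T_ci, T_d] M (Nat.sub (MG u) (Nat.mod (MG u) M)) (nat_lit 40) z1 u (Nat.mod (MG u) M)) (Bool.rec (motive := fun _ => Bool) (mRel MG [T_ci, T_bi, T_d, T_f, T_di] [T_d, T_ci, T_bi] M (Nat.sub (MG u) (Nat.mod (MG u) M)) (nat_lit 40) z1 u (Nat.mod (MG u) M)) (mRel MG [T_b, T_di, T_f] [T_fi, T_di, T_ci, T_bi, T_ci] M (Nat.sub (MG u) (Nat.mod (MG u) M)) (nat_lit 40) z1 u (Nat.mod (MG u) M)) (Nat.ble (nat_lit 384) j)) (Nat.ble (nat_lit 383) j)) (Bool.rec (motive := fun _ => Bool) (mRel MG [T_ci, T_bi, T_fi, T_d, T_d, T_b, T_c] [T_b] M (Nat.sub (MG u) (Nat.mod (MG u) M)) (nat_lit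 40) z1 u (Nat.mod (MG u) M)) (Bool.rec (motive := fun _ => Bool) (mRel MG [T_d, T_ci, T_fi, T_fi, T_di] [T_bi, T_ci, T_b] M (Nat.sub (MG u) (Nat.mod (MG u) M)) (nat_lit 40) z1 u (Nat.mod (MG u) M)) (mRel MG [T_f, T_f] [T_d, T_ci, T_ei, T_fi, T_e, T_f, T_ei] M (Nat.sub (MG u) (Nat.mod (MG u) M)) (nat_lit 40) z1 u (Nat.mod (MG u) M)) (Nat.ble (nat_lit 387) j)) (Nat.ble (nat_lit 386) j)) (Nat.ble (nat_lit 385) j)) (Nat.ble (nat_lit 382) j)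
noncomputable def dM_81 (j z1 z2 u : ℕ) : Bool :=
  Bool.rec (motive := fun _ => Bool) (dM_79 j z1 z2 u) (dM_80 j z1 z2 u) (Nat.ble (nat_lit 377) j)
noncomputable def dM_82 (j z1 z2 u : ℕ) : Bool :=
  Bool.rec (motive := fun _ => Bool) (dM_78 j z1 z2 u) (dM_81 j z1 z2 u) (Nat.ble (nat_lit 366) j)
noncomputable def dM_83 (j z1 z2 u : ℕ) : Bool :=
  Bool.rec (motive := fun _ => Bool) (dM_75 j z1 z2 u) (dM_82 j z1 z2 u) (Nat.ble (nat_lit 345) j)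
noncomputable def dM_84 (j z1 z2 u : ℕ) : Bool :=
  Bool.rec (motive := fun _ => Bool) (Bool.rec (motive := fun _ => Bool) (Bool.rec (motive := fun _ => Bool) (mRel MG [T_d, T_fi, T_c, T_fi] [T_b, T_ci, T_d, T_b] M (Nat.sub (MG u) (Nat.mod (MG u) M)) (nat_lit 40) z1 u (Nat.mod (MG u) M)) (mRel MG [T_fi, T_b, T_f, T_d, T_ei, T_bi, T_c, T_fi, T_ei] [] M (Nat.sub (MG u) (Nat.mod (MG u) M)) (nat_lit 40) z1 u (Nat.mod (MG u) M)) (Nat.ble (nat_lit 389) j)) (Bool.rec (motive := fun _ => Bool) (mRel MG [T_fi, T_fi, T_d, T_fi, T_d, T_d] [T_di, T_fi] M (Nat.sub (MG u) (Nat.mod (MG u) M)) (nat_lit 40) z1 u (Nat.mod (MG u) M)) (Bool.rec (motive := fun _ => Bool) (mRel MG [T_bi, T_ci, T_b, T_ci] [T_ci, T_ci, T_di, T_c] M (Nat.sub (MG u) (Nat.mod (MG u) M)) (nat_lit 40) z1 u (Nat.mod (MG u) M)) (mRel MG [T_d] [T_ci, T_bi, T_di, T_fi, T_b, T_c, T_bi]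 M (Nat.sub (MG u) (Nat.mod (MG u) M)) (nat_lit 40) z1 u (Nat.mod (MG u) M)) (Nat.ble (nat_lit 392) j)) (Nat.ble (nat_lit 391) j)) (Nat.ble (nat_lit 390) j)) (Bool.rec (motive := fun _ => Bool) (Bool.rec (motive := fun _ => Bool) (mRel MG [T_fi, T_b, T_f, T_d, T_ei] [T_e, T_f, T_ci, T_b] M (Nat.sub (MG u) (Nat.mod (MG u) M)) (nat_lit 40) z1 u (Nat.mod (MG u) M)) (mRel MG [T_e, T_fi, T_ei, T_f, T_c] [T_fi, T_e, T_fi, T_d] M (Nat.sub (MG u) (Nat.mod (MG u) M)) (nat_lit 40) z1 u (Nat.mod (MG u) M)) (Nat.ble (nat_lit 394) j)) (Bool.rec (motive := fun _ => Bool) (mRel MG [T_c, T_d, T_d, T_bi, T_f, T_c] [T_f, T_b] M (Nat.sub (MG u) (Nat.mod (MG u) M)) (nat_lit 40) z1 u (Nat.mod (MG u) M)) (Bool.rec (motive := fun _ => Bool) (mRel MG [T_di, T_f, T_b, T_c, T_b, T_ci] [T_d, T_b] M (Nat.sub (MG u) (Nat.mod (MG u) M)) (nat_lit 40) z1 u (Nat.mod (MG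 u) M)) (mRel MG [T_bi, T_ci] [T_d, T_ci, T_fi, T_fi, T_di, T_bi] M (Nat.sub (MG u) (Nat.mod (MG u) M)) (nat_lit 40) z1 u (Nat.mod (MG u) M)) (Nat.ble (nat_lit 397) j)) (Nat.ble (nat_lit 396) j)) (Nat.ble (nat_lit 395) j)) (Nat.ble (nat_lit 393) j)
noncomputable def dM_85 (j z1 z2 u : ℕ) : Bool :=
  Bool.rec (motive := fun _ => Bool) (Bool.rec (motive := fun _ => Bool) (Bool.rec (motive := fun _ => Bool) (mRel MG [T_fi, T_b, T_c, T_b, T_ci, T_bi, T_fi] [T_d] M (Nat.sub (MG u) (Nat.mod (MG u) M)) (nat_lit 40) z1 u (Nat.mod (MG u) M)) (mRel MG [T_di, T_f, T_f, T_e, T_fi] [T_ci, T_ei, T_fi, T_e] M (Nat.sub (MG u) (Nat.mod (MG u) M)) (nat_lit 40) z1 u (Nat.mod (MG u) M)) (Nat.ble (nat_lit 399) j)) (Bool.rec (motive := fun _ => Bool) (mRel MG [T_bi, T_di, T_di, T_fi, T_bi] [T_fi, T_d, T_c] M (Nat.sub (MG u) (Nat.mod (MG u) M)) (nat_lit 40) z1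 u (Nat.mod (MG u) M)) (Bool.rec (motive := fun _ => Bool) (mRel MG [T_c, T_d, T_f, T_ci, T_b] [T_b, T_di, T_f] M (Nat.sub (MG u) (Nat.mod (MG u) M)) (nat_lit 40) z1 u (Nat.mod (MG u) M)) (mRel MG [T_b, T_di, T_ci, T_d] [T_c, T_di, T_b, T_c] M (Nat.sub (MG u) (Nat.mod (MG u) M)) (nat_lit 40) z1 u (Nat.mod (MG u) M)) (Nat.ble (nat_lit 402) j)) (Nat.ble (nat_lit 401) j)) (Nat.ble (nat_lit 400) j)) (Bool.rec (motive := fun _ => Bool) (Bool.rec (motive := fun _ => Bool) (mRel MG [T_c, T_e, T_bi] [T_ei, T_b, T_ei, T_ci, T_ei] M (Nat.sub (MG u) (Nat.mod (MG u) M)) (nat_lit 40) z1 u (Nat.mod (MG u) M)) (Bool.rec (motive := fun _ => Bool) (mRel MG [T_fi] [T_e, T_fi, T_ei, T_f, T_c, T_di, T_f, T_ei] M (Nat.sub (MG u) (Nat.mod (MG u) M)) (nat_lit 40) z1 u (Nat.mod (MG u) M)) (mRel MG [T_c, T_di, T_bi, T_ci, T_b, T_d] [T_fi, T_fi] M (Nat.sub (MG u)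 (Nat.mod (MG u) M)) (nat_lit 40) z1 u (Nat.mod (MG u) M)) (Nat.ble (nat_lit 405) j)) (Nat.ble (nat_lit 404) j)) (Bool.rec (motive := fun _ => Bool) (mRel MG [T_f, T_di, T_ci, T_ei, T_fi] [T_di, T_e, T_fi, T_ei] M (Nat.sub (MG u) (Nat.mod (MG u) M)) (nat_lit 40) z1 u (Nat.mod (MG u) M)) (Bool.rec (motive := fun _ => Bool) (mRel MG [T_fi, T_e, T_f] [T_e, T_c, T_di, T_f, T_f, T_e] M (Nat.sub (MG u) (Nat.mod (MG u) M)) (nat_lit 40) z1 u (Nat.mod (MG u) M)) (mRel MG [T_bi, T_di, T_di] [T_c, T_bi, T_ci, T_bi, T_fi] M (Nat.sub (MG u) (Nat.mod (MG u) M)) (nat_lit 40) z1 u (Nat.mod (MG u) M)) (Nat.ble (nat_lit 408) j)) (Nat.ble (nat_lit 407) j)) (Nat.ble (nat_lit 406) j)) (Nat.ble (nat_lit 403) j)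
noncomputable def dM_86 (j z1 z2 u : ℕ) : Bool :=
  Bool.rec (motive := fun _ => Bool) (dM_84 j z1 z2 u) (dM_85 j z1 z2 u) (Nat.ble (nat_lit 398) j)
noncomputable def dM_87 (j z1 z2 u : ℕ) : Bool :=
  Bool.rec (motive := fun _ => Bool) (Bool.rec (motive := fun _ => Bool) (Bool.rec (motive := fun _ => Bool) (mRel MG [T_f, T_c, T_b, T_c, T_d, T_f] [T_d, T_bi] M (Nat.sub (MG u) (Nat.mod (MG u) M)) (nat_lit 40) z1 u (Nat.mod (MG u) M)) (mRel MG [T_c, T_fi, T_di] [T_b, T_fi, T_d, T_bi, T_c] M (Nat.sub (MG u) (Nat.mod (MG u) M)) (nat_lit 40) z1 u (Nat.mod (MG u) M)) (Nat.ble (nat_lit 410) j)) (Bool.rec (motive := fun _ => Bool) (mRel MG [T_bi, T_ci, T_bi, T_f, T_d] [T_ci, T_bi, T_fi] M (Nat.sub (MG u) (Nat.mod (MG u) M)) (nat_lit 40) z1 u (Nat.mod (MG u) M)) (Bool.rec (motive := fun _ => Bool) (mRel MG [T_di, T_ci, T_bi, T_d, T_f] [T_ci, T_bi,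 T_d] M (Nat.sub (MG u) (Nat.mod (MG u) M)) (nat_lit 40) z1 u (Nat.mod (MG u) M)) (mRel MG [T_di, T_f, T_bi, T_di, T_di] [T_c, T_b, T_f] M (Nat.sub (MG u) (Nat.mod (MG u) M)) (nat_lit 40) z1 u (Nat.mod (MG u) M)) (Nat.ble (nat_lit 413) j)) (Nat.ble (nat_lit 412) j)) (Nat.ble (nat_lit 411) j)) (Bool.rec (motive := fun _ => Bool) (Bool.rec (motive := fun _ => Bool) (mRel MG [T_bi, T_ci, T_bi, T_fi, T_d] [T_ci, T_bi, T_di] M (Nat.sub (MG u) (Nat.mod (MG u) M)) (nat_lit 40) z1 u (Nat.mod (MG u) M)) (Bool.rec (motive := fun _ => Bool) (mRel MG [T_bi, T_fi, T_ci, T_b, T_f] [T_fi, T_c, T_c] M (Nat.sub (MG u) (Nat.mod (MG u) M)) (nat_lit 40) z1 u (Nat.mod (MG u) M)) (mRel MG [T_b, T_ci, T_bi, T_di, T_di] [T_ci, T_bi, T_fi] M (Nat.sub (MG u) (Nat.mod (MG u) M)) (nat_lit 40) z1 u (Nat.mod (MG u) M)) (Nat.ble (nat_lit 416) j)) (Nat.ble (nat_lit 415)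 j)) (Bool.rec (motive := fun _ => Bool) (mRel MG [T_fi, T_e, T_f, T_ei] [T_e, T_c, T_di, T_f, T_f] M (Nat.sub (MG u) (Nat.mod (MG u) M)) (nat_lit 40) z1 u (Nat.mod (MG u) M)) (Bool.rec (motive := fun _ => Bool) (mRel MG [T_d, T_b, T_b] [T_ci, T_bi, T_f, T_b, T_c] M (Nat.sub (MG u) (Nat.mod (MG u) M)) (nat_lit 40) z1 u (Nat.mod (MG u) M)) (mRel MG [T_ci, T_f] [T_fi, T_bi, T_di, T_c, T_bi, T_d] M (Nat.sub (MG u) (Nat.mod (MG u) M)) (nat_lit 40) z1 u (Nat.mod (MG u) M)) (Nat.ble (nat_lit 419) j)) (Nat.ble (nat_lit 418) j)) (Nat.ble (nat_lit 417) j)) (Nat.ble (nat_lit 414) j)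
noncomputable def dM_88 (j z1 z2 u : ℕ) : Bool :=
  Bool.rec (motive := fun _ => Bool) (Bool.rec (motive := fun _ => Bool) (Bool.rec (motive := fun _ => Bool) (mRel MG [T_ci, T_d, T_fi, T_bi, T_fi] [T_fi, T_bi, T_bi] M (Nat.sub (MG u) (Nat.mod (MG u) M)) (nat_lit 40) z1 u (Nat.mod (MG u) M)) (mRel MG [T_ci, T_ci] [T_fi, T_bi, T_c, T_f, T_b, T_fi] M (Nat.sub (MG u) (Nat.mod (MG u) M)) (nat_lit 40) z1 u (Nat.mod (MG u) M)) (Nat.ble (nat_lit 421) j)) (Bool.rec (motive := fun _ => Bool) (mRel MG [T_d, T_f, T_b, T_di] [T_ci, T_bi, T_ci, T_fi] M (Nat.sub (MG u) (Nat.mod (MG u) M)) (nat_lit 40) z1 u (Nat.mod (MG u) M)) (Bool.rec (motive := fun _ => Bool) (mRel MG [T_f, T_ei, T_fi, T_e, T_fi, T_d, T_ci, T_fi] [T_ei] M (Nat.sub (MG u) (Nat.mod (MG u) M)) (nat_lit 40) z1 u (Nat.mod (MG u) M)) (mRel MG [T_ci, T_bi, T_fi, T_d, T_d] [T_b, T_ci, T_bi]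 M (Nat.sub (MG u) (Nat.mod (MG u) M)) (nat_lit 40) z1 u (Nat.mod (MG u) M)) (Nat.ble (nat_lit 424) j)) (Nat.ble (nat_lit 423) j)) (Nat.ble (nat_lit 422) j)) (Bool.rec (motive := fun _ => Bool) (Bool.rec (motive := fun _ => Bool) (mRel MG [T_ci, T_fi, T_b, T_di] [T_bi, T_fi, T_c, T_d] M (Nat.sub (MG u) (Nat.mod (MG u) M)) (nat_lit 40) z1 u (Nat.mod (MG u) M)) (Bool.rec (motive := fun _ => Bool) (mRel MG [T_f, T_d, T_d] [T_c, T_di, T_di, T_fi, T_c] M (Nat.sub (MG u) (Nat.mod (MG u) M)) (nat_lit 40) z1 u (Nat.mod (MG u) M)) (mRel MG [T_c, T_di, T_f, T_ei, T_f] [T_fi, T_e, T_f, T_ei] M (Nat.sub (MG u) (Nat.mod (MG u) M)) (nat_lit 40) z1 u (Nat.mod (MG u) M)) (Nat.ble (nat_lit 427) j)) (Nat.ble (nat_lit 426) j)) (Bool.rec (motive := fun _ => Bool) (mRel MG [T_b, T_ci, T_fi, T_d, T_c, T_bi, T_d] [T_d, T_ci] M (Nat.sub (MG u) (Nat.mod (MG u) M))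 (nat_lit 40) z1 u (Nat.mod (MG u) M)) (Bool.rec (motive := fun _ => Bool) (mRel MG [T_f, T_ci, T_d, T_fi] [T_bi, T_bi, T_f, T_b] M (Nat.sub (MG u) (Nat.mod (MG u) M)) (nat_lit 40) z1 u (Nat.mod (MG u) M)) (mRel MG [T_ci, T_b, T_e] [T_fi, T_ei, T_fi, T_b, T_f, T_d] M (Nat.sub (MG u) (Nat.mod (MG u) M)) (nat_lit 40) z1 u (Nat.mod (MG u) M)) (Nat.ble (nat_lit 430) j)) (Nat.ble (nat_lit 429) j)) (Nat.ble (nat_lit 428) j)) (Nat.ble (nat_lit 425) j)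
noncomputable def dM_89 (j z1 z2 u : ℕ) : Bool :=
  Bool.rec (motive := fun _ => Bool) (dM_87 j z1 z2 u) (dM_88 j z1 z2 u) (Nat.ble (nat_lit 420) j)
noncomputable def dM_90 (j z1 z2 u : ℕ) : Bool :=
  Bool.rec (motive := fun _ => Bool) (dM_86 j z1 z2 u) (dM_89 j z1 z2 u) (Nat.ble (nat_lit 409) j)
noncomputable def dM_91 (j z1 z2 u : ℕ) : Bool :=
  Bool.rec (motive := fun _ => Bool) (Bool.rec (motive := fun _ => Bool) (Bool.rec (motive := fun _ => Bool) (mRel MG [T_f, T_f, T_c, T_bi, T_bi, T_ci] [T_bi, T_d] M (Nat.sub (MG u) (Nat.mod (MG u) M)) (nat_lit 40) z1 u (Nat.mod (MG u) M)) (mRel MG [T_ci, T_fi, T_fi, T_bi, T_d, T_c] [T_bi, T_bi] M (Nat.sub (MG u) (Nat.mod (MG u) M)) (nat_lit 40) z1 u (Nat.mod (MG u) M)) (Nat.ble (nat_lit 432) j)) (Bool.rec (motive := fun _ => Bool) (mRel MG [T_c, T_di, T_ci, T_bi, T_d, T_f] [T_bi, T_d] M (Nat.sub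 (MG u) (Nat.mod (MG u) M)) (nat_lit 40) z1 u (Nat.mod (MG u) M)) (Bool.rec (motive := fun _ => Bool) (mRel MG [T_bi, T_ci, T_bi, T_f, T_d, T_f] [T_ci, T_bi] M (Nat.sub (MG u) (Nat.mod (MG u) M)) (nat_lit 40) z1 u (Nat.mod (MG u) M)) (mRel MG [T_c, T_c, T_bi, T_ci] [T_di, T_c, T_c, T_bi] M (Nat.sub (MG u) (Nat.mod (MG u) M)) (nat_lit 40) z1 u (Nat.mod (MG u) M)) (Nat.ble (nat_lit 435) j)) (Nat.ble (nat_lit 434) j)) (Nat.ble (nat_lit 433) j)) (Bool.rec (motive := fun _ => Bool) (Bool.rec (motive := fun _ => Bool) (mRel MG [T_d, T_bi] [T_di, T_ci, T_f, T_b, T_ci, T_fi] M (Nat.sub (MG u) (Nat.mod (MG u) M)) (nat_lit 40) z1 u (Nat.mod (MG u) M)) (mRel MG [T_c, T_c, T_di, T_bi, T_c] [T_b, T_d, T_ci] M (Nat.sub (MG u) (Nat.mod (MG u) M)) (nat_lit 40) z1 u (Nat.mod (MG u) M)) (Nat.ble (nat_lit 437) j)) (Bool.rec (motive := fun _ => Bool) (mRel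 MG [T_b, T_ei, T_ci, T_ei, T_b, T_ei, T_ci, T_ei] [] M (Nat.sub (MG u) (Nat.mod (MG u) M)) (nat_lit 40) z1 u (Nat.mod (MG u) M)) (Bool.rec (motive := fun _ => Bool) (mRel MG [T_d, T_bi, T_c, T_d, T_f, T_ci, T_b] [T_f] M (Nat.sub (MG u) (Nat.mod (MG u) M)) (nat_lit 40) z1 u (Nat.mod (MG u) M)) (mRel MG [T_c, T_d, T_c, T_bi] [T_bi, T_f, T_ci, T_d] M (Nat.sub (MG u) (Nat.mod (MG u) M)) (nat_lit 40) z1 u (Nat.mod (MG u) M)) (Nat.ble (nat_lit 440) j)) (Nat.ble (nat_lit 439) j)) (Nat.ble (nat_lit 438) j)) (Nat.ble (nat_lit 436) j)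
noncomputable def dM_92 (j z1 z2 u : ℕ) : Bool :=
  Bool.rec (motive := fun _ => Bool) (Bool.rec (motive := fun _ => Bool) (Bool.rec (motive := fun _ => Bool) (mRel MG [T_fi, T_di, T_bi, T_c, T_b] [T_f, T_c, T_di] M (Nat.sub (MG u) (Nat.mod (MG u) M)) (nat_lit 40) z1 u (Nat.mod (MG u) M)) (mRel MG [T_d, T_ci, T_b, T_di, T_ci] [T_b, T_c, T_di] M (Nat.sub (MG u) (Nat.mod (MG u) M)) (nat_lit 40) z1 u (Nat.mod (MG u) M)) (Nat.ble (nat_lit 442) j)) (Bool.rec (motive := fun _ => Bool) (mRel MG [T_f, T_ci, T_b, T_e, T_di, T_fi, T_bi, T_f, T_e] [] M (Nat.sub (MG u) (Nat.mod (MG u) M)) (nat_lit 40) z1 u (Nat.mod (MG u) M)) (Bool.rec (motive := fun _ => Bool) (mRel MG [T_e, T_fi, T_ei] [T_fi, T_e, T_fi, T_d, T_ci, T_fi] M (Nat.sub (MG u) (Nat.mod (MG u) M)) (nat_lit 40) z1 u (Nat.mod (MG u) M)) (mRel MG [T_ei, T_fi, T_fi, T_d, T_ci, T_ei, T_fi] [T_fi,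 T_ei] M (Nat.sub (MG u) (Nat.mod (MG u) M)) (nat_lit 40) z1 u (Nat.mod (MG u) M)) (Nat.ble (nat_lit 445) j)) (Nat.ble (nat_lit 444) j)) (Nat.ble (nat_lit 443) j)) (Bool.rec (motive := fun _ => Bool) (Bool.rec (motive := fun _ => Bool) (mRel MG [T_d, T_ci, T_fi] [T_b, T_f, T_c, T_di, T_b] M (Nat.sub (MG u) (Nat.mod (MG u) M)) (nat_lit 40) z1 u (Nat.mod (MG u) M)) (Bool.rec (motive := fun _ => Bool) (mRel MG [T_f, T_c, T_di, T_f, T_ei, T_f, T_e] [T_e, T_f] M (Nat.sub (MG u) (Nat.mod (MG u) M)) (nat_lit 40) z1 u (Nat.mod (MG u) M)) (mRel MG [T_di, T_f, T_ei, T_f] [T_ci, T_fi, T_e, T_f, T_ei] M (Nat.sub (MG u) (Nat.mod (MG u) M)) (nat_lit 40) z1 u (Nat.mod (MG u) M)) (Nat.ble (nat_lit 448) j)) (Nat.ble (nat_lit 447) j)) (Bool.rec (motive := fun _ => Bool) (mRel MG [T_d, T_ci] [T_f, T_f, T_e, T_fi, T_ei, T_f, T_e] M (Nat.sub (MG u) (Nat.mod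 (MG u) M)) (nat_lit 40) z1 u (Nat.mod (MG u) M)) (Bool.rec (motive := fun _ => Bool) (mRel MG [T_f] [T_ei, T_f, T_c, T_di, T_f, T_ei, T_f, T_e] M (Nat.sub (MG u) (Nat.mod (MG u) M)) (nat_lit 40) z1 u (Nat.mod (MG u) M)) (mRel MG [T_di, T_ci, T_ei, T_fi, T_e] [T_fi, T_di, T_e, T_fi] M (Nat.sub (MG u) (Nat.mod (MG u) M)) (nat_lit 40) z1 u (Nat.mod (MG u) M)) (Nat.ble (nat_lit 451) j)) (Nat.ble (nat_lit 450) j)) (Nat.ble (nat_lit 449) j)) (Nat.ble (nat_lit 446) j)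
noncomputable def dM_93 (j z1 z2 u : ℕ) : Bool :=
  Bool.rec (motive := fun _ => Bool) (dM_91 j z1 z2 u) (dM_92 j z1 z2 u) (Nat.ble (nat_lit 441) j)
noncomputable def dM_94 (j z1 z2 u : ℕ) : Bool :=
  Bool.rec (motive := fun _ => Bool) (Bool.rec (motive := fun _ => Bool) (Bool.rec (motive := fun _ => Bool) (mRel MG [T_f, T_ei, T_fi, T_fi, T_d, T_ci] [T_ei, T_f, T_e] M (Nat.sub (MG u) (Nat.mod (MG u) M)) (nat_lit 40) z1 u (Nat.mod (MG u) M)) (mRel MG [T_fi, T_e, T_fi, T_d, T_ci, T_fi, T_e] [T_e, T_fi] M (Nat.sub (MG u) (Nat.mod (MG u) M)) (nat_lit 40) z1 u (Nat.mod (MG u) M)) (Nat.ble (nat_lit 453) j)) (Bool.rec (motive := fun _ => Bool) (mRel MG [T_d, T_fi, T_di, T_e, T_fi, T_ei, T_f] [T_ci, T_ei] M (Nat.sub (MG u) (Nat.mod (MG u) M)) (nat_lit 40) z1 u (Nat.mod (MG u) M)) (Bool.rec (motive := fun _ => Bool) (mRel MG [T_fi, T_e, T_f, T_ei,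 T_fi, T_fi, T_d, T_ci, T_ei] [] M (Nat.sub (MG u) (Nat.mod (MG u) M)) (nat_lit 40) z1 u (Nat.mod (MG u) M)) (mRel MG [T_e, T_fi] [T_fi, T_e, T_fi, T_d, T_ci, T_fi, T_e] M (Nat.sub (MG u) (Nat.mod (MG u) M)) (nat_lit 40) z1 u (Nat.mod (MG u) M)) (Nat.ble (nat_lit 456) j)) (Nat.ble (nat_lit 455) j)) (Nat.ble (nat_lit 454) j)) (Bool.rec (motive := fun _ => Bool) (Bool.rec (motive := fun _ => Bool) (mRel MG [T_d, T_ci, T_fi, T_e, T_f, T_ei] [T_f, T_ei, T_f] M (Nat.sub (MG u) (Nat.mod (MG u) M)) (nat_lit 40) z1 u (Nat.mod (MG u) M)) (Bool.rec (motive := fun _ => Bool) (mRel MG [T_c, T_b, T_b, T_ci] [T_di, T_b, T_f, T_f] M (Nat.sub (MG u) (Nat.mod (MG u) M)) (nat_lit 40) z1 u (Nat.mod (MG u) M)) (mRel MG [T_d, T_b, T_ci, T_bi, T_f, T_d, T_b] [T_ci] M (Nat.sub (MG u) (Nat.mod (MG u) M)) (nat_lit 40) z1 u (Nat.mod (MG u) M)) (Nat.ble (nat_lit 459)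 j)) (Nat.ble (nat_lit 458) j)) (Bool.rec (motive := fun _ => Bool) (mRel MG [T_bi, T_d] [T_f, T_c, T_di, T_b, T_f, T_c] M (Nat.sub (MG u) (Nat.mod (MG u) M)) (nat_lit 40) z1 u (Nat.mod (MG u) M)) (Bool.rec (motive := fun _ => Bool) (mRel MG [T_bi, T_fi, T_b, T_b, T_f] [T_f, T_di, T_c] M (Nat.sub (MG u) (Nat.mod (MG u) M)) (nat_lit 40) z1 u (Nat.mod (MG u) M)) (mRel MG [T_b, T_di, T_ci, T_d, T_ci, T_bi] [T_c, T_di] M (Nat.sub (MG u) (Nat.mod (MG u) M)) (nat_lit 40) z1 u (Nat.mod (MG u) M)) (Nat.ble (nat_lit 462) j)) (Nat.ble (nat_lit 461) j)) (Nat.ble (nat_lit 460) j)) (Nat.ble (nat_lit 457) j)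
noncomputable def dM_95 (j z1 z2 u : ℕ) : Bool :=
  Bool.rec (motive := fun _ => Bool) (Bool.rec (motive := fun _ => Bool) (Bool.rec (motive := fun _ => Bool) (mRel MG [T_d, T_d] [T_b, T_di, T_di, T_b, T_di, T_bi] M (Nat.sub (MG u) (Nat.mod (MG u) M)) (nat_lit 40) z1 u (Nat.mod (MG u) M)) (mRel MG [T_d, T_d, T_bi, T_d] [T_b, T_di, T_bi, T_di] M (Nat.sub (MG u) (Nat.mod (MG u) M)) (nat_lit 40) z1 u (Nat.mod (MG u) M)) (Nat.ble (nat_lit 464) j)) (Bool.rec (motive := fun _ => Bool) (mRel MG [T_fi, T_di, T_bi] [T_f, T_c, T_di, T_bi, T_ci] M (Nat.sub (MG u) (Nat.mod (MG u) M)) (nat_lit 40) z1 u (Nat.mod (MG u) M)) (Bool.rec (motive := fun _ => Bool) (mRel MG [T_c, T_fi] [T_f, T_di, T_b, T_ci, T_d, T_b] M (Nat.sub (MG u) (Nat.mod (MG u) M)) (nat_lit 40) z1 u (Nat.mod (MG u) M)) (mRel MG [T_fi] [T_ci, T_b, T_e, T_di, T_fi, T_bi, T_f, T_e] M (Nat.sub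 (MG u) (Nat.mod (MG u) M)) (nat_lit 40) z1 u (Nat.mod (MG u) M)) (Nat.ble (nat_lit 467) j)) (Nat.ble (nat_lit 466) j)) (Nat.ble (nat_lit 465) j)) (Bool.rec (motive := fun _ => Bool) (Bool.rec (motive := fun _ => Bool) (mRel MG [T_f, T_b, T_ci, T_fi, T_b, T_di] [T_c, T_d] M (Nat.sub (MG u) (Nat.mod (MG u) M)) (nat_lit 40) z1 u (Nat.mod (MG u) M)) (Bool.rec (motive := fun _ => Bool) (mRel MG [T_d, T_ci] [T_b, T_f, T_c, T_di, T_b, T_f] M (Nat.sub (MG u) (Nat.mod (MG u) M)) (nat_lit 40) z1 u (Nat.mod (MG u) M)) (mRel MG [T_ci, T_di, T_c, T_b] [T_bi, T_ci, T_d, T_c] M (Nat.sub (MG u) (Nat.mod (MG u) M)) (nat_lit 40) z1 u (Nat.mod (MG u) M)) (Nat.ble (nat_lit 470) j)) (Nat.ble (nat_lit 469) j)) (Bool.rec (motive := fun _ => Bool) (mRel MG [T_ci, T_fi, T_d, T_c, T_bi] [T_bi, T_d, T_ci, T_di] M (Nat.sub (MG u) (Nat.mod (MG u) M)) (nat_lit 40) z1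 u (Nat.mod (MG u) M)) (Bool.rec (motive := fun _ => Bool) (mRel MG [T_di, T_f, T_di, T_f, T_f] [T_d, T_f, T_d] M (Nat.sub (MG u) (Nat.mod (MG u) M)) (nat_lit 40) z1 u (Nat.mod (MG u) M)) (mRel MG [T_d, T_ei, T_bi, T_c, T_fi] [T_fi, T_bi, T_f, T_e] M (Nat.sub (MG u) (Nat.mod (MG u) M)) (nat_lit 40) z1 u (Nat.mod (MG u) M)) (Nat.ble (nat_lit 473) j)) (Nat.ble (nat_lit 472) j)) (Nat.ble (nat_lit 471) j)) (Nat.ble (nat_lit 468) j)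
noncomputable def dM_96 (j z1 z2 u : ℕ) : Bool :=
  Bool.rec (motive := fun _ => Bool) (dM_94 j z1 z2 u) (dM_95 j z1 z2 u) (Nat.ble (nat_lit 463) j)
noncomputable def dM_97 (j z1 z2 u : ℕ) : Bool :=
  Bool.rec (motive := fun _ => Bool) (dM_93 j z1 z2 u) (dM_96 j z1 z2 u) (Nat.ble (nat_lit 452) j)
noncomputable def dM_98 (j z1 z2 u : ℕ) : Bool :=
  Bool.rec (motive := fun _ => Bool) (dM_90 j z1 z2 u) (dM_97 j z1 z2 u) (Nat.ble (nat_lit 431) j)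
noncomputable def dM_99 (j z1 z2 u : ℕ) : Bool :=
  Bool.rec (motive := fun _ => Bool) (dM_83 j z1 z2 u) (dM_98 j z1 z2 u) (Nat.ble (nat_lit 388) j)
noncomputable def dM_100 (j z1 z2 u : ℕ) : Bool :=
  Bool.rec (motive := fun _ => Bool) (dM_68 j z1 z2 u) (dM_99 j z1 z2 u) (Nat.ble (nat_lit 303) j)
noncomputable def dM_101 (j z1 z2 u : ℕ) : Bool :=
  Bool.rec (motive := fun _ => Bool) (dM_37 j z1 z2 u) (dM_100 j z1 z2 u) (Nat.ble (nat_lit 173) j)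
noncomputable def dM_102 (j z1 z2 u : ℕ) : Bool :=
  Bool.rec (motive := fun _ => Bool) (Bool.rec (motive := fun _ => Bool) (Bool.rec (motive := fun _ => Bool) (mRel MG [T_c, T_d, T_f] [T_bi, T_ci, T_fi, T_d, T_bi] M (Nat.sub (MG u) (Nat.mod (MG u) M)) (nat_lit 40) z1 u (Nat.mod (MG u) M)) (mRel MG [T_c, T_fi, T_bi, T_bi, T_f] [T_d, T_fi, T_bi] M (Nat.sub (MG u) (Nat.mod (MG u) M)) (nat_lit 40) z1 u (Nat.mod (MG u) M)) (Nat.ble (nat_lit 475) j)) (Bool.rec (motive := fun _ => Bool) (mRel MG [T_di, T_ci, T_ci, T_bi, T_ci, T_b] [T_fi, T_d] M (Nat.sub (MG u) (Nat.mod (MG u) M)) (nat_lit 40) z1 u (Nat.mod (MG u) M)) (Bool.rec (motive := fun _ => Bool) (mRel MG [T_f, T_bi, T_c, T_fi, T_di] [T_d, T_bi, T_c] M (Nat.sub (MG u) (Nat.mod (MG u) M)) (nat_lit 40) z1 u (Nat.mod (MG u) M)) (mRel MG [T_ci, T_fi] [T_b, T_c, T_d, T_f, T_b, T_di] M (Nat.sub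 (MG u) (Nat.mod (MG u) M)) (nat_lit 40) z1 u (Nat.mod (MG u) M)) (Nat.ble (nat_lit 478) j)) (Nat.ble (nat_lit 477) j)) (Nat.ble (nat_lit 476) j)) (Bool.rec (motive := fun _ => Bool) (Bool.rec (motive := fun _ => Bool) (mRel MG [T_bi, T_f, T_c, T_bi, T_fi] [T_di, T_di, T_ci] M (Nat.sub (MG u) (Nat.mod (MG u) M)) (nat_lit 40) z1 u (Nat.mod (MG u) M)) (mRel MG [T_ci] [T_bi, T_bi, T_ci, T_di, T_b, T_f, T_f] M (Nat.sub (MG u) (Nat.mod (MG u) M)) (nat_lit 40) z1 u (Nat.mod (MG u) M)) (Nat.ble (nat_lit 480) j)) (Bool.rec (motive := fun _ => Bool) (mRel MG [T_f, T_b, T_c, T_bi, T_bi, T_di] [T_b, T_c] M (Nat.sub (MG u) (Nat.mod (MG u) M)) (nat_lit 40) z1 u (Nat.mod (MG u) M)) (Bool.rec (motive := fun _ => Bool) (mRel MG [T_f] [T_b, T_f, T_d, T_ei, T_bi, T_c, T_fi, T_ei] M (Nat.sub (MG u) (Nat.mod (MG u) M)) (nat_lit 40) z1 u (Nat.mod (MG u) M))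 (mRel MG [T_fi, T_d, T_c, T_b] [T_bi, T_di, T_di, T_fi] M (Nat.sub (MG u) (Nat.mod (MG u) M)) (nat_lit 40) z1 u (Nat.mod (MG u) M)) (Nat.ble (nat_lit 483) j)) (Nat.ble (nat_lit 482) j)) (Nat.ble (nat_lit 481) j)) (Nat.ble (nat_lit 479) j)
noncomputable def dM_103 (j z1 z2 u : ℕ) : Bool :=
  Bool.rec (motive := fun _ => Bool) (Bool.rec (motive := fun _ => Bool) (Bool.rec (motive := fun _ => Bool) (mRel MG [T_di, T_f, T_c, T_b, T_c, T_d] [T_bi, T_fi] M (Nat.sub (MG u) (Nat.mod (MG u) M)) (nat_lit 40) z1 u (Nat.mod (MG u) M)) (mRel MG [T_bi, T_c, T_b, T_c] [T_di, T_f, T_di, T_ci] M (Nat.sub (MG u) (Nat.mod (MG u) M)) (nat_lit 40) z1 u (Nat.mod (MG u) M)) (Nat.ble (nat_lit 485) j)) (Bool.rec (motive := fun _ => Bool) (mRel MG [T_di, T_c, T_fi, T_bi, T_bi, T_f] [T_fi, T_bi] M (Nat.sub (MG u) (Nat.mod (MG u) M)) (nat_lit 40) z1 u (Nat.mod (MG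 u) M)) (Bool.rec (motive := fun _ => Bool) (mRel MG [T_c, T_d, T_d, T_bi] [T_f, T_b, T_ci, T_fi] M (Nat.sub (MG u) (Nat.mod (MG u) M)) (nat_lit 40) z1 u (Nat.mod (MG u) M)) (mRel MG [T_c, T_di, T_f] [T_fi, T_e, T_f, T_ei, T_fi, T_e] M (Nat.sub (MG u) (Nat.mod (MG u) M)) (nat_lit 40) z1 u (Nat.mod (MG u) M)) (Nat.ble (nat_lit 488) j)) (Nat.ble (nat_lit 487) j)) (Nat.ble (nat_lit 486) j)) (Bool.rec (motive := fun _ => Bool) (Bool.rec (motive := fun _ => Bool) (mRel MG [T_bi, T_c, T_fi, T_di, T_ci, T_b] [T_fi, T_d] M (Nat.sub (MG u) (Nat.mod (MG u) M)) (nat_lit 40) z1 u (Nat.mod (MG u) M)) (Bool.rec (motive := fun _ => Bool) (mRel MG [T_di, T_e, T_fi, T_ei] [T_f, T_di, T_ci, T_ei, T_fi] M (Nat.sub (MG u) (Nat.mod (MG u) M)) (nat_lit 40) z1 u (Nat.mod (MG u) M)) (mRel MG [T_ei, T_f, T_c, T_di, T_f, T_ei, T_f] [T_f, T_ei] M (Nat.sub (MG u) (Nat.mod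 (MG u) M)) (nat_lit 40) z1 u (Nat.mod (MG u) M)) (Nat.ble (nat_lit 491) j)) (Nat.ble (nat_lit 490) j)) (Bool.rec (motive := fun _ => Bool) (mRel MG [T_b, T_ei, T_ci] [T_e, T_c, T_e, T_bi, T_e] M (Nat.sub (MG u) (Nat.mod (MG u) M)) (nat_lit 40) z1 u (Nat.mod (MG u) M)) (Bool.rec (motive := fun _ => Bool) (mRel MG [T_c, T_d, T_c, T_bi, T_di, T_c] [T_bi, T_f] M (Nat.sub (MG u) (Nat.mod (MG u) M)) (nat_lit 40) z1 u (Nat.mod (MG u) M)) (mRel MG [T_fi, T_c, T_c, T_fi] [T_bi, T_fi, T_ci, T_b] M (Nat.sub (MG u) (Nat.mod (MG u) M)) (nat_lit 40) z1 u (Nat.mod (MG u) M)) (Nat.ble (nat_lit 494) j)) (Nat.ble (nat_lit 493) j)) (Nat.ble (nat_lit 492) j)) (Nat.ble (nat_lit 489) j)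
noncomputable def dM_104 (j z1 z2 u : ℕ) : Bool :=
  Bool.rec (motive := fun _ => Bool) (dM_102 j z1 z2 u) (dM_103 j z1 z2 u) (Nat.ble (nat_lit 484) j)
noncomputable def dM_105 (j z1 z2 u : ℕ) : Bool :=
  Bool.rec (motive := fun _ => Bool) (Bool.rec (motive := fun _ => Bool) (Bool.rec (motive := fun _ => Bool) (mRel MG [T_f, T_bi] [T_d, T_bi, T_c, T_d, T_f, T_ci] M (Nat.sub (MG u) (Nat.mod (MG u) M)) (nat_lit 40) z1 u (Nat.mod (MG u) M)) (mRel MG [T_bi, T_ci, T_bi, T_f] [T_ci, T_bi, T_fi, T_di] M (Nat.sub (MG u) (Nat.mod (MG u) M)) (nat_lit 40) z1 u (Nat.mod (MG u) M)) (Nat.ble (nat_lit 496) j)) (Bool.rec (motive := fun _ => Bool) (mRel MG [T_bi, T_fi] [T_di, T_f, T_c, T_b, T_c, T_d] M (Nat.sub (MG u) (Nat.mod (MG u) M)) (nat_lit 40) z1 u (Nat.mod (MG u) M)) (Bool.rec (motive := fun _ => Bool) (mRel MG [T_d, T_f, T_di, T_ci, T_ei, T_fi]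 [T_e, T_fi, T_ei] M (Nat.sub (MG u) (Nat.mod (MG u) M)) (nat_lit 40) z1 u (Nat.mod (MG u) M)) (mRel MG [T_d, T_f, T_d, T_fi, T_fi] [T_di, T_f, T_di] M (Nat.sub (MG u) (Nat.mod (MG u) M)) (nat_lit 40) z1 u (Nat.mod (MG u) M)) (Nat.ble (nat_lit 499) j)) (Nat.ble (nat_lit 498) j)) (Nat.ble (nat_lit 497) j)) (Bool.rec (motive := fun _ => Bool) (Bool.rec (motive := fun _ => Bool) (mRel MG [T_ci, T_d, T_c, T_bi] [T_b, T_ci, T_di, T_c] M (Nat.sub (MG u) (Nat.mod (MG u) M)) (nat_lit 40) z1 u (Nat.mod (MG u) M)) (mRel MG [T_f, T_f, T_e, T_fi, T_ei] [T_d, T_ci, T_ei, T_fi] M (Nat.sub (MG u) (Nat.mod (MG u) M)) (nat_lit 40) z1 u (Nat.mod (MG u) M)) (Nat.ble (nat_lit 501) j)) (Bool.rec (motive := fun _ => Bool) (mRel MG [T_f, T_di, T_f, T_f, T_di, T_fi] [T_d, T_d] M (Nat.sub (MG u) (Nat.mod (MG u) M)) (nat_lit 40) z1 u (Nat.mod (MG u) M)) (Bool.rec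 (motive := fun _ => Bool) (mRel MG [T_bi, T_d] [T_f, T_f, T_c, T_bi, T_bi, T_ci] M (Nat.sub (MG u) (Nat.mod (MG u) M)) (nat_lit 40) z1 u (Nat.mod (MG u) M)) (mRel MG [T_f, T_b, T_c, T_b] [T_d, T_d, T_b, T_c] M (Nat.sub (MG u) (Nat.mod (MG u) M)) (nat_lit 40) z1 u (Nat.mod (MG u) M)) (Nat.ble (nat_lit 504) j)) (Nat.ble (nat_lit 503) j)) (Nat.ble (nat_lit 502) j)) (Nat.ble (nat_lit 500) j)
noncomputable def dM_106 (j z1 z2 u : ℕ) : Bool :=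
  Bool.rec (motive := fun _ => Bool) (Bool.rec (motive := fun _ => Bool) (Bool.rec (motive := fun _ => Bool) (mRel MG [T_bi, T_fi, T_di, T_ci, T_bi, T_ci, T_fi] [T_di] M (Nat.sub (MG u) (Nat.mod (MG u) M)) (nat_lit 40) z1 u (Nat.mod (MG u) M)) (mRel MG [T_ci, T_b] [T_d, T_f, T_ci, T_b, T_fi, T_d] M (Nat.sub (MG u) (Nat.mod (MG u) M)) (nat_lit 40) z1 u (Nat.mod (MG u) M)) (Nat.ble (nat_lit 506) j)) (Bool.rec (motive := fun _ => Bool) (mRel MG [T_d, T_ci] [T_di, T_fi, T_c, T_di, T_di, T_fi] M (Nat.sub (MG u) (Nat.mod (MG u) M)) (nat_lit 40) z1 u (Nat.mod (MG u) M)) (Bool.rec (motive := fun _ => Bool) (mRel MG [T_ci, T_d, T_ci] [T_d, T_bi, T_c, T_di, T_b] M (Nat.sub (MG u) (Nat.mod (MG u) M)) (nat_lit 40) z1 u (Nat.mod (MG u) M)) (mRel MG [T_b, T_d, T_bi, T_d, T_d, T_bi] [T_di, T_di] M (Nat.sub (MG u) (Nat.mod (MG u) M)) (nat_lit 40) z1 u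 (Nat.mod (MG u) M)) (Nat.ble (nat_lit 509) j)) (Nat.ble (nat_lit 508) j)) (Nat.ble (nat_lit 507) j)) (Bool.rec (motive := fun _ => Bool) (Bool.rec (motive := fun _ => Bool) (mRel MG [T_di, T_fi, T_b, T_c, T_b] [T_f, T_b, T_c] M (Nat.sub (MG u) (Nat.mod (MG u) M)) (nat_lit 40) z1 u (Nat.mod (MG u) M)) (Bool.rec (motive := fun _ => Bool) (mRel MG [T_bi, T_c, T_fi, T_di] [T_fi, T_d, T_bi, T_c] M (Nat.sub (MG u) (Nat.mod (MG u) M)) (nat_lit 40) z1 u (Nat.mod (MG u) M)) (mRel MG [T_di, T_fi, T_bi, T_f, T_e] [T_ei, T_bi, T_c, T_fi] M (Nat.sub (MG u) (Nat.mod (MG u) M)) (nat_lit 40) z1 u (Nat.mod (MG u) M)) (Nat.ble (nat_lit 512) j)) (Nat.ble (nat_lit 511) j)) (Bool.rec (motive := fun _ => Bool) (mRel MG [T_c, T_di, T_bi, T_c, T_c] [T_ci, T_b, T_d] M (Nat.sub (MG u) (Nat.mod (MG u) M)) (nat_lit 40) z1 u (Nat.mod (MG u) M)) (Bool.rec (motive :=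 fun _ => Bool) (mRel MG [T_c, T_di] [T_ei, T_fi, T_e, T_f, T_ei, T_fi, T_fi] M (Nat.sub (MG u) (Nat.mod (MG u) M)) (nat_lit 40) z1 u (Nat.mod (MG u) M)) (mRel MG [T_bi, T_di, T_fi, T_b, T_c, T_bi] [T_c, T_d] M (Nat.sub (MG u) (Nat.mod (MG u) M)) (nat_lit 40) z1 u (Nat.mod (MG u) M)) (Nat.ble (nat_lit 515) j)) (Nat.ble (nat_lit 514) j)) (Nat.ble (nat_lit 513) j)) (Nat.ble (nat_lit 510) j)
noncomputable def dM_107 (j z1 z2 u : ℕ) : Bool :=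
  Bool.rec (motive := fun _ => Bool) (dM_105 j z1 z2 u) (dM_106 j z1 z2 u) (Nat.ble (nat_lit 505) j)
noncomputable def dM_108 (j z1 z2 u : ℕ) : Bool :=
  Bool.rec (motive := fun _ => Bool) (dM_104 j z1 z2 u) (dM_107 j z1 z2 u) (Nat.ble (nat_lit 495) j)
noncomputable def dM_109 (j z1 z2 u : ℕ) : Bool :=
  Bool.rec (motive := fun _ => Bool) (Bool.rec (motive := fun _ => Bool) (Bool.rec (motive := fun _ => Bool) (mRel MG [T_bi, T_e, T_c] [T_ei, T_ci, T_ei, T_b, T_ei] M (Nat.sub (MG u) (Nat.mod (MG u) M)) (nat_lit 40) z1 u (Nat.mod (MG u) M)) (mRel MG [T_b, T_fi, T_c, T_c] [T_fi, T_ci, T_b, T_f] M (Nat.sub (MG u) (Nat.mod (MG u) M)) (nat_lit 40) z1 u (Nat.mod (MG u) M)) (Nat.ble (nat_lit 517) j)) (Bool.rec (motive := fun _ => Bool) (mRel MG [T_bi, T_c, T_f] [T_f, T_ci, T_ci, T_f, T_bi] M (Nat.sub (MG u) (Nat.mod (MG u) M)) (nat_lit 40) z1 u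 (Nat.mod (MG u) M)) (Bool.rec (motive := fun _ => Bool) (mRel MG [T_b, T_di, T_f, T_c] [T_fi, T_di, T_ci, T_bi] M (Nat.sub (MG u) (Nat.mod (MG u) M)) (nat_lit 40) z1 u (Nat.mod (MG u) M)) (mRel MG [T_ci, T_ci, T_b, T_d, T_ci, T_ci] [T_di, T_bi] M (Nat.sub (MG u) (Nat.mod (MG u) M)) (nat_lit 40) z1 u (Nat.mod (MG u) M)) (Nat.ble (nat_lit 520) j)) (Nat.ble (nat_lit 519) j)) (Nat.ble (nat_lit 518) j)) (Bool.rec (motive := fun _ => Bool) (Bool.rec (motive := fun _ => Bool) (mRel MG [T_d, T_f, T_ci, T_b] [T_ci, T_b, T_di, T_f] M (Nat.sub (MG u) (Nat.mod (MG u) M)) (nat_lit 40) z1 u (Nat.mod (MG u) M)) (mRel MG [T_bi, T_d, T_ci, T_fi, T_bi, T_d] [T_f, T_c] M (Nat.sub (MG u) (Nat.mod (MG u) M)) (nat_lit 40) z1 u (Nat.mod (MG u) M)) (Nat.ble (nat_lit 522) j)) (Bool.rec (motive := fun _ => Bool) (mRel MG [T_d, T_d, T_ci, T_f, T_d] [T_fi, T_c, T_di]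 M (Nat.sub (MG u) (Nat.mod (MG u) M)) (nat_lit 40) z1 u (Nat.mod (MG u) M)) (Bool.rec (motive := fun _ => Bool) (mRel MG [T_bi, T_c, T_b] [T_d, T_f, T_f, T_c, T_di] M (Nat.sub (MG u) (Nat.mod (MG u) M)) (nat_lit 40) z1 u (Nat.mod (MG u) M)) (mRel MG [T_di, T_di, T_ci, T_f, T_b, T_ci] [T_bi, T_f] M (Nat.sub (MG u) (Nat.mod (MG u) M)) (nat_lit 40) z1 u (Nat.mod (MG u) M)) (Nat.ble (nat_lit 525) j)) (Nat.ble (nat_lit 524) j)) (Nat.ble (nat_lit 523) j)) (Nat.ble (nat_lit 521) j)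
noncomputable def dM_110 (j z1 z2 u : ℕ) : Bool :=
  Bool.rec (motive := fun _ => Bool) (Bool.rec (motive := fun _ => Bool) (Bool.rec (motive := fun _ => Bool) (mRel MG [T_d, T_f] [T_b, T_c, T_d, T_ci, T_bi, T_d] M (Nat.sub (MG u) (Nat.mod (MG u) M)) (nat_lit 40) z1 u (Nat.mod (MG u) M)) (mRel MG [T_bi, T_di, T_di, T_b, T_di] [T_d, T_bi, T_d] M (Nat.sub (MG u) (Nat.mod (MG u) M)) (nat_lit 40) z1 u (Nat.mod (MG u) M)) (Nat.ble (nat_lit 527) j)) (Bool.rec (motive := fun _ => Bool) (mRel MG [T_b, T_b, T_ci, T_fi, T_fi, T_bi] [T_ci, T_di] M (Nat.sub (MG u) (Nat.mod (MG u) M)) (nat_lit 40) z1 u (Nat.mod (MG u) M)) (Bool.rec (motive := fun _ => Bool) (mRel MG [T_di, T_b, T_c, T_di, T_c, T_d, T_bi, T_c] [] M (Nat.sub (MG u) (Nat.mod (MG u) M)) (nat_lit 40) z1 u (Nat.mod (MG u) M)) (mRel MG [T_f, T_d, T_fi] [T_di, T_di, T_f, T_di, T_f] M (Nat.sub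 (MG u) (Nat.mod (MG u) M)) (nat_lit 40) z1 u (Nat.mod (MG u) M)) (Nat.ble (nat_lit 530) j)) (Nat.ble (nat_lit 529) j)) (Nat.ble (nat_lit 528) j)) (Bool.rec (motive := fun _ => Bool) (Bool.rec (motive := fun _ => Bool) (mRel MG [T_d, T_fi, T_d, T_bi] [T_ci, T_ci, T_bi, T_ci] M (Nat.sub (MG u) (Nat.mod (MG u) M)) (nat_lit 40) z1 u (Nat.mod (MG u) M)) (Bool.rec (motive := fun _ => Bool) (mRel MG [T_c, T_fi, T_bi, T_bi, T_f, T_b] [T_d, T_fi] M (Nat.sub (MG u) (Nat.mod (MG u) M)) (nat_lit 40) z1 u (Nat.mod (MG u) M)) (mRel MG [T_b, T_c, T_bi, T_ci, T_bi, T_f] [T_fi, T_di] M (Nat.sub (MG u) (Nat.mod (MG u) M)) (nat_lit 40) z1 u (Nat.mod (MG u) M)) (Nat.ble (nat_lit 533) j)) (Nat.ble (nat_lit 532) j)) (Bool.rec (motive := fun _ => Bool) (mRel MG [T_b, T_di] [T_c, T_b, T_c, T_c, T_d, T_fi] M (Nat.sub (MG u) (Nat.mod (MG u) M)) (nat_lit 40) z1 u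 (Nat.mod (MG u) M)) (Bool.rec (motive := fun _ => Bool) (mRel MG [T_e, T_f, T_ei, T_fi, T_e] [T_f, T_c, T_di, T_f] M (Nat.sub (MG u) (Nat.mod (MG u) M)) (nat_lit 40) z1 u (Nat.mod (MG u) M)) (mRel MG [T_d] [T_bi, T_c, T_c, T_di, T_bi, T_c, T_c] M (Nat.sub (MG u) (Nat.mod (MG u) M)) (nat_lit 40) z1 u (Nat.mod (MG u) M)) (Nat.ble (nat_lit 536) j)) (Nat.ble (nat_lit 535) j)) (Nat.ble (nat_lit 534) j)) (Nat.ble (nat_lit 531) j)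
noncomputable def dM_111 (j z1 z2 u : ℕ) : Bool :=
  Bool.rec (motive := fun _ => Bool) (dM_109 j z1 z2 u) (dM_110 j z1 z2 u) (Nat.ble (nat_lit 526) j)
noncomputable def dM_112 (j z1 z2 u : ℕ) : Bool :=
  Bool.rec (motive := fun _ => Bool) (Bool.rec (motive := fun _ => Bool) (Bool.rec (motive := fun _ => Bool) (mRel MG [T_c, T_bi, T_ci] [T_bi, T_di, T_di, T_f, T_b] M (Nat.sub (MG u) (Nat.mod (MG u) M)) (nat_lit 40) z1 u (Nat.mod (MG u) M)) (mRel MG [T_d, T_c, T_bi, T_ci, T_d, T_c, T_bi] [T_c] M (Nat.sub (MG u) (Nat.mod (MG u) M)) (nat_lit 40) z1 u (Nat.mod (MG u) M)) (Nat.ble (nat_lit 538) j)) (Bool.rec (motive := fun _ => Bool) (mRel MG [T_b, T_c, T_c] [T_ci, T_b, T_di, T_f, T_di] M (Nat.sub (MG u) (Nat.mod (MG u) M)) (nat_lit 40) z1 u (Nat.mod (MG u) M)) (Bool.rec (motive := fun _ => Bool) (mRel MG [T_bi, T_bi, T_di, T_ci] [T_ci, T_bi,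 T_fi, T_b] M (Nat.sub (MG u) (Nat.mod (MG u) M)) (nat_lit 40) z1 u (Nat.mod (MG u) M)) (mRel MG [T_ei, T_f, T_e, T_fi] [T_fi, T_d, T_ci, T_fi, T_e] M (Nat.sub (MG u) (Nat.mod (MG u) M)) (nat_lit 40) z1 u (Nat.mod (MG u) M)) (Nat.ble (nat_lit 541) j)) (Nat.ble (nat_lit 540) j)) (Nat.ble (nat_lit 539) j)) (Bool.rec (motive := fun _ => Bool) (Bool.rec (motive := fun _ => Bool) (mRel MG [T_bi, T_ci] [T_c, T_c, T_d, T_fi, T_d, T_bi] M (Nat.sub (MG u) (Nat.mod (MG u) M)) (nat_lit 40) z1 u (Nat.mod (MG u) M)) (Bool.rec (motive := fun _ => Bool) (mRel MG [T_bi, T_f] [T_di, T_di, T_ci, T_f, T_b, T_ci] M (Nat.sub (MG u) (Nat.mod (MG u) M)) (nat_lit 40) z1 u (Nat.mod (MG u) M)) (mRel MG [T_di, T_b, T_f, T_c, T_di] [T_ci, T_fi, T_bi] M (Nat.sub (MG u) (Nat.mod (MG u) M)) (nat_lit 40) z1 u (Nat.mod (MG u) M)) (Nat.ble (nat_lit 544) j)) (Nat.ble (nat_lit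 543) j)) (Bool.rec (motive := fun _ => Bool) (mRel MG [T_c, T_bi, T_bi, T_ci, T_di, T_b, T_f] [T_fi] M (Nat.sub (MG u) (Nat.mod (MG u) M)) (nat_lit 40) z1 u (Nat.mod (MG u) M)) (Bool.rec (motive := fun _ => Bool) (mRel MG [T_b, T_e] [T_c, T_fi, T_ei, T_fi, T_b, T_f, T_d] M (Nat.sub (MG u) (Nat.mod (MG u) M)) (nat_lit 40) z1 u (Nat.mod (MG u) M)) (mRel MG [T_c, T_di, T_f, T_f, T_e, T_fi, T_ei] [T_ei, T_fi] M (Nat.sub (MG u) (Nat.mod (MG u) M)) (nat_lit 40) z1 u (Nat.mod (MG u) M)) (Nat.ble (nat_lit 547) j)) (Nat.ble (nat_lit 546) j)) (Nat.ble (nat_lit 545) j)) (Nat.ble (nat_lit 542) j)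
noncomputable def dM_113 (j z1 z2 u : ℕ) : Bool :=
  Bool.rec (motive := fun _ => Bool) (Bool.rec (motive := fun _ => Bool) (Bool.rec (motive := fun _ => Bool) (mRel MG [T_bi, T_f, T_e, T_f, T_ci, T_b, T_e, T_di] [T_f] M (Nat.sub (MG u) (Nat.mod (MG u) M)) (nat_lit 40) z1 u (Nat.mod (MG u) M)) (mRel MG [T_fi, T_e] [T_e, T_c, T_di, T_f, T_f, T_e, T_fi] M (Nat.sub (MG u) (Nat.mod (MG u) M)) (nat_lit 40) z1 u (Nat.mod (MG u) M)) (Nat.ble (nat_lit 549) j)) (Bool.rec (motive := fun _ => Bool) (mRel MG [T_bi, T_d, T_ci, T_fi, T_bi, T_d, T_ci, T_fi] [] M (Nat.sub (MG u) (Nat.mod (MG u) M)) (nat_lit 40) z1 u (Nat.mod (MG u) M)) (Bool.rec (motive := fun _ => Bool) (mRel MG [T_d, T_f, T_b, T_c] [T_fi, T_b, T_c, T_b] M (Nat.sub (MG u) (Nat.mod (MG u) M)) (nat_lit 40) z1 u (Nat.mod (MG u) M)) (mRel MG [T_b, T_ci] [T_fi, T_c, T_d, T_d, T_bi, T_f] M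 (Nat.sub (MG u) (Nat.mod (MG u) M)) (nat_lit 40) z1 u (Nat.mod (MG u) M)) (Nat.ble (nat_lit 552) j)) (Nat.ble (nat_lit 551) j)) (Nat.ble (nat_lit 550) j)) (Bool.rec (motive := fun _ => Bool) (Bool.rec (motive := fun _ => Bool) (mRel MG [T_d, T_ei, T_bi, T_c, T_fi, T_ei, T_fi] [T_fi, T_bi] M (Nat.sub (MG u) (Nat.mod (MG u) M)) (nat_lit 40) z1 u (Nat.mod (MG u) M)) (Bool.rec (motive := fun _ => Bool) (mRel MG [T_bi, T_ci, T_di, T_b, T_f] [T_b, T_ci, T_fi] M (Nat.sub (MG u) (Nat.mod (MG u) M)) (nat_lit 40) z1 u (Nat.mod (MG u) M)) (mRel MG [T_fi, T_di, T_ci, T_bi] [T_b, T_di, T_f, T_c] M (Nat.sub (MG u) (Nat.mod (MG u) M)) (nat_lit 40) z1 u (Nat.mod (MG u) M)) (Nat.ble (nat_lit 555) j)) (Nat.ble (nat_lit 554) j)) (Bool.rec (motive := fun _ => Bool) (mRel MG [T_b, T_f, T_ci, T_ci] [T_c, T_f, T_b, T_fi] M (Nat.sub (MG u) (Nat.mod (MG u) M))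 (nat_lit 40) z1 u (Nat.mod (MG u) M)) (Bool.rec (motive := fun _ => Bool) (mRel MG [T_b, T_di, T_ci] [T_c, T_di, T_b, T_c, T_di] M (Nat.sub (MG u) (Nat.mod (MG u) M)) (nat_lit 40) z1 u (Nat.mod (MG u) M)) (mRel MG [T_d, T_d] [T_ci, T_f, T_b, T_ci, T_fi, T_b] M (Nat.sub (MG u) (Nat.mod (MG u) M)) (nat_lit 40) z1 u (Nat.mod (MG u) M)) (Nat.ble (nat_lit 558) j)) (Nat.ble (nat_lit 557) j)) (Nat.ble (nat_lit 556) j)) (Nat.ble (nat_lit 553) j)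
noncomputable def dM_114 (j z1 z2 u : ℕ) : Bool :=
  Bool.rec (motive := fun _ => Bool) (dM_112 j z1 z2 u) (dM_113 j z1 z2 u) (Nat.ble (nat_lit 548) j)
noncomputable def dM_115 (j z1 z2 u : ℕ) : Bool :=
  Bool.rec (motive := fun _ => Bool) (dM_111 j z1 z2 u) (dM_114 j z1 z2 u) (Nat.ble (nat_lit 537) j)
noncomputable def dM_116 (j z1 z2 u : ℕ) : Bool :=
  Bool.rec (motive := fun _ => Bool) (dM_108 j z1 z2 u) (dM_115 j z1 z2 u) (Nat.ble (nat_lit 516) j)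
noncomputable def dM_117 (j z1 z2 u : ℕ) : Bool :=
  Bool.rec (motive := fun _ => Bool) (Bool.rec (motive := fun _ => Bool) (Bool.rec (motive := fun _ => Bool) (mRel MG [T_bi, T_c, T_di, T_b] [T_di, T_ci, T_d, T_ci] M (Nat.sub (MG u) (Nat.mod (MG u) M)) (nat_lit 40) z1 u (Nat.mod (MG u) M)) (mRel MG [T_ci, T_b, T_di] [T_d, T_f, T_ci, T_b, T_fi] M (Nat.sub (MG u) (Nat.mod (MG u) M)) (nat_lit 40) z1 u (Nat.mod (MG u) M)) (Nat.ble (nat_lit 560) j)) (Bool.rec (motive := fun _ => Bool) (mRel MG [T_fi, T_bi, T_f, T_e] [T_d, T_ei, T_bi, T_c, T_fi] M (Nat.sub (MG u) (Nat.mod (MG u) M)) (nat_lit 40) z1 u (Nat.mod (MG u) M)) (Bool.rec (motive := fun _ => Bool) (mRel MG [T_c] [T_fi, T_b, T_di, T_di, T_ci, T_f, T_b] M (Nat.sub (MG u) (Nat.mod (MG u) M)) (nat_lit 40) z1 u (Nat.mod (MG u) M)) (mRel MG [T_c, T_fi, T_di, T_ci, T_b] [T_b, T_fi, T_d] M (Nat.sub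 (MG u) (Nat.mod (MG u) M)) (nat_lit 40) z1 u (Nat.mod (MG u) M)) (Nat.ble (nat_lit 563) j)) (Nat.ble (nat_lit 562) j)) (Nat.ble (nat_lit 561) j)) (Bool.rec (motive := fun _ => Bool) (Bool.rec (motive := fun _ => Bool) (mRel MG [T_ci, T_b, T_d, T_f, T_f, T_c] [T_b, T_d] M (Nat.sub (MG u) (Nat.mod (MG u) M)) (nat_lit 40) z1 u (Nat.mod (MG u) M)) (mRel MG [T_di, T_c, T_fi] [T_fi, T_bi, T_fi, T_b, T_b] M (Nat.sub (MG u) (Nat.mod (MG u) M)) (nat_lit 40) z1 u (Nat.mod (MG u) M)) (Nat.ble (nat_lit 565) j)) (Bool.rec (motive := fun _ => Bool) (mRel MG [T_b, T_c, T_b, T_ci] [T_fi, T_d, T_d, T_b] M (Nat.sub (MG u) (Nat.mod (MG u) M)) (nat_lit 40) z1 u (Nat.mod (MG u) M)) (Bool.rec (motive := fun _ => Bool) (mRel MG [T_di, T_ci, T_bi, T_ci, T_fi, T_d, T_bi] [T_f] M (Nat.sub (MG u) (Nat.mod (MG u) M)) (nat_lit 40) z1 u (Nat.mod (MG u) M)) (mRel MG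 [T_di, T_b, T_c, T_di, T_ci, T_bi] [T_fi, T_di] M (Nat.sub (MG u) (Nat.mod (MG u) M)) (nat_lit 40) z1 u (Nat.mod (MG u) M)) (Nat.ble (nat_lit 568) j)) (Nat.ble (nat_lit 567) j)) (Nat.ble (nat_lit 566) j)) (Nat.ble (nat_lit 564) j)
noncomputable def dM_118 (j z1 z2 u : ℕ) : Bool :=
  Bool.rec (motive := fun _ => Bool) (Bool.rec (motive := fun _ => Bool) (Bool.rec (motive := fun _ => Bool) (mRel MG [T_f, T_b, T_c, T_bi, T_ci, T_bi] [T_di, T_fi] M (Nat.sub (MG u) (Nat.mod (MG u) M)) (nat_lit 40) z1 u (Nat.mod (MG u) M)) (mRel MG [T_d, T_ci, T_ei, T_fi, T_e] [T_f, T_f, T_e, T_fi] M (Nat.sub (MG u) (Nat.mod (MG u) M)) (nat_lit 40) z1 u (Nat.mod (MG u) M)) (Nat.ble (nat_lit 570) j)) (Bool.rec (motive := fun _ => Bool) (mRel MG [T_f, T_ci] [T_b, T_c, T_d, T_c, T_bi, T_di] M (Nat.sub (MG u) (Nat.mod (MG u) M)) (nat_lit 40) z1 u (Nat.mod (MG u)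 M)) (Bool.rec (motive := fun _ => Bool) (mRel MG [T_f, T_ci, T_b, T_e, T_di, T_fi, T_bi, T_f] [T_ei] M (Nat.sub (MG u) (Nat.mod (MG u) M)) (nat_lit 40) z1 u (Nat.mod (MG u) M)) (mRel MG [T_c, T_di, T_b] [T_b, T_di, T_ci, T_d, T_ci] M (Nat.sub (MG u) (Nat.mod (MG u) M)) (nat_lit 40) z1 u (Nat.mod (MG u) M)) (Nat.ble (nat_lit 573) j)) (Nat.ble (nat_lit 572) j)) (Nat.ble (nat_lit 571) j)) (Bool.rec (motive := fun _ => Bool) (Bool.rec (motive := fun _ => Bool) (mRel MG [T_c, T_di, T_di] [T_f, T_d, T_d, T_ci, T_f] M (Nat.sub (MG u) (Nat.mod (MG u) M)) (nat_lit 40) z1 u (Nat.mod (MG u) M)) (Bool.rec (motive := fun _ => Bool) (mRel MG [T_d, T_d, T_bi, T_f, T_c, T_bi, T_fi, T_c] [] M (Nat.sub (MG u) (Nat.mod (MG u) M)) (nat_lit 40) z1 u (Nat.mod (MG u) M)) (mRel MG [T_c, T_di, T_f, T_ei, T_f, T_e, T_fi, T_ei] [T_fi] M (Nat.sub (MG u) (Nat.mod (MG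 u) M)) (nat_lit 40) z1 u (Nat.mod (MG u) M)) (Nat.ble (nat_lit 576) j)) (Nat.ble (nat_lit 575) j)) (Bool.rec (motive := fun _ => Bool) (mRel MG [T_di, T_bi] [T_ci, T_fi, T_fi, T_di, T_bi, T_c] M (Nat.sub (MG u) (Nat.mod (MG u) M)) (nat_lit 40) z1 u (Nat.mod (MG u) M)) (Bool.rec (motive := fun _ => Bool) (mRel MG [T_bi, T_d, T_ci, T_b, T_di, T_ci] [T_c, T_di] M (Nat.sub (MG u) (Nat.mod (MG u) M)) (nat_lit 40) z1 u (Nat.mod (MG u) M)) (mRel MG [T_di, T_ci, T_ci, T_bi] [T_fi, T_d, T_bi, T_c] M (Nat.sub (MG u) (Nat.mod (MG u) M)) (nat_lit 40) z1 u (Nat.mod (MG u) M)) (Nat.ble (nat_lit 579) j)) (Nat.ble (nat_lit 578) j)) (Nat.ble (nat_lit 577) j)) (Nat.ble (nat_lit 574) j)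
noncomputable def dM_119 (j z1 z2 u : ℕ) : Bool :=
  Bool.rec (motive := fun _ => Bool) (dM_117 j z1 z2 u) (dM_118 j z1 z2 u) (Nat.ble (nat_lit 569) j)
noncomputable def dM_120 (j z1 z2 u : ℕ) : Bool :=
  Bool.rec (motive := fun _ => Bool) (Bool.rec (motive := fun _ => Bool) (Bool.rec (motive := fun _ => Bool) (mRel MG [T_b, T_di, T_di, T_ci, T_f] [T_f, T_c, T_bi] M (Nat.sub (MG u) (Nat.mod (MG u) M)) (nat_lit 40) z1 u (Nat.mod (MG u) M)) (mRel MG [T_bi, T_c, T_bi, T_c] [T_ci, T_b, T_ci, T_b] M (Nat.sub (MG u) (Nat.mod (MG u) M)) (nat_lit 40) z1 u (Nat.mod (MG u) M)) (Nat.ble (nat_lit 581) j)) (Bool.rec (motive := fun _ => Bool) (mRel MG [T_bi, T_fi, T_c, T_d, T_d, T_bi] [T_ci, T_fi] M (Nat.sub (MG u) (Nat.mod (MG u) M)) (nat_lit 40) z1 u (Nat.mod (MG u) M)) (Bool.rec (motive := fun _ => Bool) (mRel MG [T_bi, T_ci, T_b, T_d, T_f, T_f, T_c,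 T_di] [] M (Nat.sub (MG u) (Nat.mod (MG u) M)) (nat_lit 40) z1 u (Nat.mod (MG u) M)) (mRel MG [T_di, T_b, T_di, T_bi, T_di, T_di, T_b] [T_d] M (Nat.sub (MG u) (Nat.mod (MG u) M)) (nat_lit 40) z1 u (Nat.mod (MG u) M)) (Nat.ble (nat_lit 584) j)) (Nat.ble (nat_lit 583) j)) (Nat.ble (nat_lit 582) j)) (Bool.rec (motive := fun _ => Bool) (Bool.rec (motive := fun _ => Bool) (mRel MG [T_f, T_c, T_bi, T_bi, T_ci] [T_fi, T_bi, T_d] M (Nat.sub (MG u) (Nat.mod (MG u) M)) (nat_lit 40) z1 u (Nat.mod (MG u) M)) (Bool.rec (motive := fun _ => Bool) (mRel MG [T_fi, T_d, T_d, T_b, T_c, T_bi, T_ci] [T_b] M (Nat.sub (MG u) (Nat.mod (MG u) M)) (nat_lit 40) z1 u (Nat.mod (MG u) M)) (mRel MG [T_b, T_c] [T_ci, T_b, T_di, T_f, T_di, T_ci] M (Nat.sub (MG u) (Nat.mod (MG u) M)) (nat_lit 40) z1 u (Nat.mod (MG u) M)) (Nat.ble (nat_lit 587) j)) (Nat.ble (nat_lit 586)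 j)) (Bool.rec (motive := fun _ => Bool) (mRel MG [T_b, T_ci, T_bi, T_fi, T_b, T_c, T_d, T_b] [] M (Nat.sub (MG u) (Nat.mod (MG u) M)) (nat_lit 40) z1 u (Nat.mod (MG u) M)) (Bool.rec (motive := fun _ => Bool) (mRel MG [T_fi, T_fi, T_d, T_ci] [T_e, T_fi, T_ei, T_f, T_e] M (Nat.sub (MG u) (Nat.mod (MG u) M)) (nat_lit 40) z1 u (Nat.mod (MG u) M)) (mRel MG [T_bi, T_d, T_d] [T_di, T_bi, T_di, T_di, T_b] M (Nat.sub (MG u) (Nat.mod (MG u) M)) (nat_lit 40) z1 u (Nat.mod (MG u) M)) (Nat.ble (nat_lit 590) j)) (Nat.ble (nat_lit 589) j)) (Nat.ble (nat_lit 588) j)) (Nat.ble (nat_lit 585) j)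
noncomputable def dM_121 (j z1 z2 u : ℕ) : Bool :=
  Bool.rec (motive := fun _ => Bool) (Bool.rec (motive := fun _ => Bool) (Bool.rec (motive := fun _ => Bool) (mRel MG [T_b, T_ci] [T_ci, T_d, T_c, T_bi, T_ci, T_d] M (Nat.sub (MG u) (Nat.mod (MG u) M)) (nat_lit 40) z1 u (Nat.mod (MG u) M)) (mRel MG [T_bi, T_c, T_di, T_b, T_c, T_di, T_c] [T_di] M (Nat.sub (MG u) (Nat.mod (MG u) M)) (nat_lit 40) z1 u (Nat.mod (MG u) M)) (Nat.ble (nat_lit 592) j)) (Bool.rec (motive := fun _ => Bool) (mRel MG [T_f, T_b, T_f] [T_b, T_b, T_f, T_ci, T_d] M (Nat.sub (MG u) (Nat.mod (MG u) M)) (nat_lit 40) z1 u (Nat.mod (MG u) M)) (Bool.rec (motive := fun _ => Bool) (mRel MG [T_fi, T_e] [T_c, T_di, T_f, T_ei, T_f, T_e, T_fi] M (Nat.sub (MG u) (Nat.mod (MG u) M)) (nat_lit 40) z1 u (Nat.mod (MG u) M)) (mRel MG [T_di, T_f, T_b] [T_d, T_b, T_c, T_bi, T_ci] M (Nat.sub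 (MG u) (Nat.mod (MG u) M)) (nat_lit 40) z1 u (Nat.mod (MG u) M)) (Nat.ble (nat_lit 595) j)) (Nat.ble (nat_lit 594) j)) (Nat.ble (nat_lit 593) j)) (Bool.rec (motive := fun _ => Bool) (Bool.rec (motive := fun _ => Bool) (mRel MG [T_ci, T_f, T_bi, T_fi, T_ci, T_b] [T_c, T_fi] M (Nat.sub (MG u) (Nat.mod (MG u) M)) (nat_lit 40) z1 u (Nat.mod (MG u) M)) (Bool.rec (motive := fun _ => Bool) (mRel MG [T_di, T_ci, T_bi, T_f, T_ci, T_d] [T_c, T_bi] M (Nat.sub (MG u) (Nat.mod (MG u) M)) (nat_lit 40) z1 u (Nat.mod (MG u) M)) (mRel MG [T_f, T_di, T_ci, T_ei] [T_di, T_e, T_fi, T_ei, T_f] M (Nat.sub (MG u) (Nat.mod (MG u) M)) (nat_lit 40) z1 u (Nat.mod (MG u) M)) (Nat.ble (nat_lit 598) j)) (Nat.ble (nat_lit 597) j)) (Bool.rec (motive := fun _ => Bool) (mRel MG [T_c, T_bi, T_ci, T_d] [T_di, T_c, T_b, T_ci] M (Nat.sub (MG u) (Nat.mod (MG u) M)) (nat_lit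 40) z1 u (Nat.mod (MG u) M)) (Bool.rec (motive := fun _ => Bool) (mRel MG [T_bi, T_c, T_d, T_f, T_ci] [T_di, T_f, T_bi] M (Nat.sub (MG u) (Nat.mod (MG u) M)) (nat_lit 40) z1 u (Nat.mod (MG u) M)) (mRel MG [T_d, T_d] [T_fi, T_bi, T_ci, T_di, T_f, T_bi] M (Nat.sub (MG u) (Nat.mod (MG u) M)) (nat_lit 40) z1 u (Nat.mod (MG u) M)) (Nat.ble (nat_lit 601) j)) (Nat.ble (nat_lit 600) j)) (Nat.ble (nat_lit 599) j)) (Nat.ble (nat_lit 596) j)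
noncomputable def dM_122 (j z1 z2 u : ℕ) : Bool :=
  Bool.rec (motive := fun _ => Bool) (dM_120 j z1 z2 u) (dM_121 j z1 z2 u) (Nat.ble (nat_lit 591) j)
noncomputable def dM_123 (j z1 z2 u : ℕ) : Bool :=
  Bool.rec (motive := fun _ => Bool) (dM_119 j z1 z2 u) (dM_122 j z1 z2 u) (Nat.ble (nat_lit 580) j)
noncomputable def dM_124 (j z1 z2 u : ℕ) : Bool :=
  Bool.rec (motive := fun _ => Bool) (Bool.rec (motive := fun _ => Bool) (Bool.rec (motive := fun _ => Bool) (mRel MG [T_f, T_b, T_c] [T_b, T_c, T_d, T_b, T_b] M (Nat.sub (MG u) (Nat.mod (MG u) M)) (nat_lit 40) z1 u (Nat.mod (MG u) M)) (mRel MG [T_c, T_b, T_ci, T_bi] [T_bi, T_fi, T_d, T_d] M (Nat.sub (MG u) (Nat.mod (MG u) M)) (nat_lit 40) z1 u (Nat.mod (MG u) M)) (Nat.ble (nat_lit 603) j)) (Bool.rec (motive := fun _ => Bool) (mRel MG [T_b, T_ci, T_bi, T_fi, T_di] [T_ci, T_bi, T_f] M (Nat.sub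 (MG u) (Nat.mod (MG u) M)) (nat_lit 40) z1 u (Nat.mod (MG u) M)) (Bool.rec (motive := fun _ => Bool) (mRel MG [T_b, T_ci, T_di] [T_di, T_c, T_fi, T_b, T_c] M (Nat.sub (MG u) (Nat.mod (MG u) M)) (nat_lit 40) z1 u (Nat.mod (MG u) M)) (mRel MG [T_ci, T_bi, T_di] [T_bi, T_ci, T_bi, T_fi, T_d] M (Nat.sub (MG u) (Nat.mod (MG u) M)) (nat_lit 40) z1 u (Nat.mod (MG u) M)) (Nat.ble (nat_lit 606) j)) (Nat.ble (nat_lit 605) j)) (Nat.ble (nat_lit 604) j)) (Bool.rec (motive := fun _ => Bool) (Bool.rec (motive := fun _ => Bool) (mRel MG [T_di, T_fi, T_bi, T_f, T_e, T_f, T_ci] [T_ei, T_bi] M (Nat.sub (MG u) (Nat.mod (MG u) M)) (nat_lit 40) z1 u (Nat.mod (MG u) M)) (mRel MG [T_di, T_b, T_di, T_di, T_b] [T_d, T_b, T_d] M (Nat.sub (MG u) (Nat.mod (MG u) M)) (nat_lit 40) z1 u (Nat.mod (MG u) M)) (Nat.ble (nat_lit 608) j)) (Bool.rec (motive := fun _ => Bool)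 (mRel MG [T_bi, T_c, T_bi, T_c, T_bi, T_c] [T_ci, T_b] M (Nat.sub (MG u) (Nat.mod (MG u) M)) (nat_lit 40) z1 u (Nat.mod (MG u) M)) (Bool.rec (motive := fun _ => Bool) (mRel MG [T_di, T_di] [T_b, T_d, T_bi, T_d, T_d, T_bi] M (Nat.sub (MG u) (Nat.mod (MG u) M)) (nat_lit 40) z1 u (Nat.mod (MG u) M)) (mRel MG [T_b, T_ci, T_di, T_c, T_b, T_ci] [T_ci, T_d] M (Nat.sub (MG u) (Nat.mod (MG u) M)) (nat_lit 40) z1 u (Nat.mod (MG u) M)) (Nat.ble (nat_lit 611) j)) (Nat.ble (nat_lit 610) j)) (Nat.ble (nat_lit 609) j)) (Nat.ble (nat_lit 607) j)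
noncomputable def dM_125 (j z1 z2 u : ℕ) : Bool :=
  Bool.rec (motive := fun _ => Bool) (Bool.rec (motive := fun _ => Bool) (Bool.rec (motive := fun _ => Bool) (mRel MG [T_b, T_c, T_d, T_f, T_b, T_di] [T_ci, T_fi] M (Nat.sub (MG u) (Nat.mod (MG u) M)) (nat_lit 40) z1 u (Nat.mod (MG u) M)) (mRel MG [T_c, T_di] [T_bi, T_d, T_fi, T_di, T_b, T_c] M (Nat.sub (MG u) (Nat.mod (MG u) M)) (nat_lit 40) z1 u (Nat.mod (MG u) M)) (Nat.ble (nat_lit 613) j)) (Bool.rec (motive := fun _ => Bool) (mRel MG [T_b, T_c, T_c, T_d] [T_ci, T_b, T_di, T_f] M (Nat.sub (MG u) (Nat.mod (MG u) M)) (nat_lit 40) z1 u (Nat.mod (MG u) M)) (Bool.rec (motive := fun _ => Bool) (mRel MG [T_fi, T_bi, T_c, T_f] [T_ci, T_ci, T_f, T_bi] M (Nat.sub (MG u) (Nat.mod (MG u) M)) (nat_lit 40) z1 u (Nat.mod (MG u) M)) (mRel MG [T_c, T_bi, T_ci, T_bi, T_f, T_d] [T_bi, T_fi] M (Nat.sub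 (MG u) (Nat.mod (MG u) M)) (nat_lit 40) z1 u (Nat.mod (MG u) M)) (Nat.ble (nat_lit 616) j)) (Nat.ble (nat_lit 615) j)) (Nat.ble (nat_lit 614) j)) (Bool.rec (motive := fun _ => Bool) (Bool.rec (motive := fun _ => Bool) (mRel MG [T_b, T_ci, T_fi] [T_fi, T_c, T_d, T_d, T_bi] M (Nat.sub (MG u) (Nat.mod (MG u) M)) (nat_lit 40) z1 u (Nat.mod (MG u) M)) (Bool.rec (motive := fun _ => Bool) (mRel MG [T_c] [T_b, T_f, T_ci, T_ci, T_f, T_bi, T_fi] M (Nat.sub (MG u) (Nat.mod (MG u) M)) (nat_lit 40) z1 u (Nat.mod (MG u) M)) (mRel MG [T_ci, T_b] [T_di, T_b, T_c, T_di, T_c, T_d] M (Nat.sub (MG u) (Nat.mod (MG u) M)) (nat_lit 40) z1 u (Nat.mod (MG u) M)) (Nat.ble (nat_lit 619) j)) (Nat.ble (nat_lit 618) j)) (Bool.rec (motive := fun _ => Bool) (mRel MG [T_ci, T_di] [T_bi, T_di, T_c, T_fi, T_b, T_c] M (Nat.sub (MG u) (Nat.mod (MG u) M)) (nat_lit 40) z1 u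 (Nat.mod (MG u) M)) (Bool.rec (motive := fun _ => Bool) (mRel MG [T_fi, T_ei] [T_ei, T_fi, T_e, T_fi, T_d, T_ci, T_fi] M (Nat.sub (MG u) (Nat.mod (MG u) M)) (nat_lit 40) z1 u (Nat.mod (MG u) M)) (mRel MG [T_fi, T_b, T_c, T_d, T_c] [T_ci, T_d, T_b] M (Nat.sub (MG u) (Nat.mod (MG u) M)) (nat_lit 40) z1 u (Nat.mod (MG u) M)) (Nat.ble (nat_lit 622) j)) (Nat.ble (nat_lit 621) j)) (Nat.ble (nat_lit 620) j)) (Nat.ble (nat_lit 617) j)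
noncomputable def dM_126 (j z1 z2 u : ℕ) : Bool :=
  Bool.rec (motive := fun _ => Bool) (dM_124 j z1 z2 u) (dM_125 j z1 z2 u) (Nat.ble (nat_lit 612) j)
noncomputable def dM_127 (j z1 z2 u : ℕ) : Bool :=
  Bool.rec (motive := fun _ => Bool) (Bool.rec (motive := fun _ => Bool) (Bool.rec (motive := fun _ => Bool) (mRel MG [T_c, T_di, T_di, T_fi, T_c, T_di, T_di] [T_f] M (Nat.sub (MG u) (Nat.mod (MG u) M)) (nat_lit 40) z1 u (Nat.mod (MG u) M)) (mRel MG [T_di, T_ci] [T_bi, T_c, T_di, T_b, T_c, T_di] M (Nat.sub (MG u) (Nat.mod (MG u) M)) (nat_lit 40) z1 u (Nat.mod (MG u) M)) (Nat.ble (nat_lit 624) j)) (Bool.rec (motive := fun _ => Bool) (mRel MG [T_ci, T_b, T_ci, T_b, T_ci, T_b, T_ci, T_b] [] M (Nat.sub (MG u) (Nat.mod (MG u) M)) (nat_lit 40) z1 u (Nat.mod (MG u) M)) (Bool.rec (motive := fun _ => Bool) (mRel MG [T_bi, T_ci, T_b] [T_d, T_ci, T_fi,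 T_fi, T_di] M (Nat.sub (MG u) (Nat.mod (MG u) M)) (nat_lit 40) z1 u (Nat.mod (MG u) M)) (mRel MG [T_ci, T_di, T_b, T_f, T_f] [T_b, T_b, T_ci] M (Nat.sub (MG u) (Nat.mod (MG u) M)) (nat_lit 40) z1 u (Nat.mod (MG u) M)) (Nat.ble (nat_lit 627) j)) (Nat.ble (nat_lit 626) j)) (Nat.ble (nat_lit 625) j)) (Bool.rec (motive := fun _ => Bool) (Bool.rec (motive := fun _ => Bool) (mRel MG [T_bi, T_d, T_fi, T_di, T_b, T_c] [T_c, T_di] M (Nat.sub (MG u) (Nat.mod (MG u) M)) (nat_lit 40) z1 u (Nat.mod (MG u) M)) (Bool.rec (motive := fun _ => Bool) (mRel MG [T_f, T_ci, T_d, T_b, T_ci, T_di, T_ci] [T_b] M (Nat.sub (MG u) (Nat.mod (MG u) M)) (nat_lit 40) z1 u (Nat.mod (MG u) M)) (mRel MG [T_f, T_di, T_b] [T_di, T_b, T_c, T_d, T_ci] M (Nat.sub (MG u) (Nat.mod (MG u) M)) (nat_lit 40) z1 u (Nat.mod (MG u) M)) (Nat.ble (nat_lit 630) j)) (Nat.ble (nat_lit 629)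 j)) (Bool.rec (motive := fun _ => Bool) (mRel MG [T_c, T_c, T_fi] [T_f, T_bi, T_fi, T_ci, T_b] M (Nat.sub (MG u) (Nat.mod (MG u) M)) (nat_lit 40) z1 u (Nat.mod (MG u) M)) (Bool.rec (motive := fun _ => Bool) (mRel MG [T_c, T_c, T_bi, T_ci, T_b] [T_di, T_c, T_c] M (Nat.sub (MG u) (Nat.mod (MG u) M)) (nat_lit 40) z1 u (Nat.mod (MG u) M)) (mRel MG [T_d, T_b, T_fi, T_d, T_c, T_b] [T_di, T_fi] M (Nat.sub (MG u) (Nat.mod (MG u) M)) (nat_lit 40) z1 u (Nat.mod (MG u) M)) (Nat.ble (nat_lit 633) j)) (Nat.ble (nat_lit 632) j)) (Nat.ble (nat_lit 631) j)) (Nat.ble (nat_lit 628) j)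
noncomputable def dM_128 (j z1 z2 u : ℕ) : Bool :=
  Bool.rec (motive := fun _ => Bool) (Bool.rec (motive := fun _ => Bool) (Bool.rec (motive := fun _ => Bool) (mRel MG [T_b, T_fi, T_d] [T_c, T_fi, T_di, T_ci, T_b] M (Nat.sub (MG u) (Nat.mod (MG u) M)) (nat_lit 40) z1 u (Nat.mod (MG u) M)) (mRel MG [T_bi, T_c] [T_di, T_ci, T_d, T_ci, T_bi, T_d] M (Nat.sub (MG u) (Nat.mod (MG u) M)) (nat_lit 40) z1 u (Nat.mod (MG u) M)) (Nat.ble (nat_lit 635) j)) (Bool.rec (motive := fun _ => Bool) (mRel MG [T_c, T_fi, T_bi, T_c, T_f, T_b, T_fi] [T_ci] M (Nat.sub (MG u) (Nat.mod (MG u) M)) (nat_lit 40) z1 u (Nat.mod (MG u) M)) (Bool.rec (motive := fun _ => Bool) (mRel MG [T_c, T_b, T_ci, T_di] [T_d, T_c, T_bi, T_ci] M (Nat.sub (MG u) (Nat.mod (MG u) M)) (nat_lit 40) z1 u (Nat.mod (MG u) M)) (mRel MG [T_bi, T_di, T_c, T_bi, T_d, T_fi, T_c] [T_f] M (Nat.sub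 (MG u) (Nat.mod (MG u) M)) (nat_lit 40) z1 u (Nat.mod (MG u) M)) (Nat.ble (nat_lit 638) j)) (Nat.ble (nat_lit 637) j)) (Nat.ble (nat_lit 636) j)) (Bool.rec (motive := fun _ => Bool) (Bool.rec (motive := fun _ => Bool) (mRel MG [T_e, T_f, T_ei, T_fi, T_e, T_fi] [T_f, T_c, T_di] M (Nat.sub (MG u) (Nat.mod (MG u) M)) (nat_lit 40) z1 u (Nat.mod (MG u) M)) (Bool.rec (motive := fun _ => Bool) (mRel MG [T_d, T_bi] [T_ci, T_d, T_ci, T_bi, T_d, T_ci] M (Nat.sub (MG u) (Nat.mod (MG u) M)) (nat_lit 40) z1 u (Nat.mod (MG u) M)) (mRel MG [T_ei, T_fi, T_e] [T_fi, T_ei, T_f, T_c, T_di, T_f] M (Nat.sub (MG u) (Nat.mod (MG u) M)) (nat_lit 40) z1 u (Nat.mod (MG u) M)) (Nat.ble (nat_lit 641) j)) (Nat.ble (nat_lit 640) j)) (Bool.rec (motive := fun _ => Bool) (mRel MG [T_d, T_f, T_ci] [T_ci, T_b, T_di, T_f, T_bi] M (Nat.sub (MG u) (Nat.mod (MG u) M)) (nat_lit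 40) z1 u (Nat.mod (MG u) M)) (Bool.rec (motive := fun _ => Bool) (mRel MG [T_fi, T_b, T_f] [T_e, T_f, T_ci, T_b, T_e, T_di] M (Nat.sub (MG u) (Nat.mod (MG u) M)) (nat_lit 40) z1 u (Nat.mod (MG u) M)) (mRel MG [T_ci, T_bi, T_fi, T_d] [T_b, T_ci, T_bi, T_di] M (Nat.sub (MG u) (Nat.mod (MG u) M)) (nat_lit 40) z1 u (Nat.mod (MG u) M)) (Nat.ble (nat_lit 644) j)) (Nat.ble (nat_lit 643) j)) (Nat.ble (nat_lit 642) j)) (Nat.ble (nat_lit 639) j)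
noncomputable def dM_129 (j z1 z2 u : ℕ) : Bool :=
  Bool.rec (motive := fun _ => Bool) (dM_127 j z1 z2 u) (dM_128 j z1 z2 u) (Nat.ble (nat_lit 634) j)
noncomputable def dM_130 (j z1 z2 u : ℕ) : Bool :=
  Bool.rec (motive := fun _ => Bool) (dM_126 j z1 z2 u) (dM_129 j z1 z2 u) (Nat.ble (nat_lit 623) j)
noncomputable def dM_131 (j z1 z2 u : ℕ) : Bool :=
  Bool.rec (motive := fun _ => Bool) (dM_123 j z1 z2 u) (dM_130 j z1 z2 u) (Nat.ble (nat_lit 602) j)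
noncomputable def dM_132 (j z1 z2 u : ℕ) : Bool :=
  Bool.rec (motive := fun _ => Bool) (dM_116 j z1 z2 u) (dM_131 j z1 z2 u) (Nat.ble (nat_lit 559) j)
noncomputable def dM_133 (j z1 z2 u : ℕ) : Bool :=
  Bool.rec (motive := fun _ => Bool) (Bool.rec (motive := fun _ => Bool) (Bool.rec (motive := fun _ => Bool) (mRel MG [T_c, T_d, T_ci, T_bi, T_d, T_fi, T_di] [T_bi] M (Nat.sub (MG u) (Nat.mod (MG u) M)) (nat_lit 40) z1 u (Nat.mod (MG u) M)) (mRel MG [T_d, T_f] [T_ci, T_b, T_di, T_f, T_bi, T_c] M (Nat.sub (MG u) (Nat.mod (MG u) M)) (nat_lit 40) z1 u (Nat.mod (MG u) M)) (Nat.ble (nat_lit 646) j)) (Bool.rec (motive := fun _ => Bool) (mRel MG [T_fi, T_c, T_c, T_fi, T_bi] [T_bi, T_fi, T_ci] M (Nat.sub (MG u) (Nat.mod (MG u) M)) (nat_lit 40) z1 u (Nat.mod (MG u) M)) (Bool.rec (motive := fun _ => Bool) (mRel MG [T_c, T_fi, T_bi, T_di, T_c, T_bi]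 [T_f, T_di] M (Nat.sub (MG u) (Nat.mod (MG u) M)) (nat_lit 40) z1 u (Nat.mod (MG u) M)) (mRel MG [T_ci, T_bi, T_d, T_ci] [T_di, T_c, T_d, T_bi] M (Nat.sub (MG u) (Nat.mod (MG u) M)) (nat_lit 40) z1 u (Nat.mod (MG u) M)) (Nat.ble (nat_lit 649) j)) (Nat.ble (nat_lit 648) j)) (Nat.ble (nat_lit 647) j)) (Bool.rec (motive := fun _ => Bool) (Bool.rec (motive := fun _ => Bool) (mRel MG [T_di, T_f, T_bi, T_di] [T_c, T_b, T_f, T_d] M (Nat.sub (MG u) (Nat.mod (MG u) M)) (nat_lit 40) z1 u (Nat.mod (MG u) M)) (Bool.rec (motive := fun _ => Bool) (mRel MG [T_di, T_fi, T_bi, T_ci] [T_d, T_b, T_fi, T_d] M (Nat.sub (MG u) (Nat.mod (MG u) M)) (nat_lit 40) z1 u (Nat.mod (MG u) M)) (mRel MG [T_e, T_c, T_di] [T_fi, T_e, T_f, T_ei, T_fi, T_fi] M (Nat.sub (MG u) (Nat.mod (MG u) M)) (nat_lit 40) z1 u (Nat.mod (MG u) M)) (Nat.ble (nat_lit 652) j)) (Nat.ble (nat_lit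 651) j)) (Bool.rec (motive := fun _ => Bool) (mRel MG [T_di, T_fi, T_di, T_di, T_f, T_di, T_f] [T_fi] M (Nat.sub (MG u) (Nat.mod (MG u) M)) (nat_lit 40) z1 u (Nat.mod (MG u) M)) (Bool.rec (motive := fun _ => Bool) (mRel MG [T_f, T_c] [T_fi, T_bi, T_d, T_c, T_b, T_b] M (Nat.sub (MG u) (Nat.mod (MG u) M)) (nat_lit 40) z1 u (Nat.mod (MG u) M)) (mRel MG [T_ci, T_fi, T_bi, T_d, T_ci, T_fi, T_bi, T_d] [] M (Nat.sub (MG u) (Nat.mod (MG u) M)) (nat_lit 40) z1 u (Nat.mod (MG u) M)) (Nat.ble (nat_lit 655) j)) (Nat.ble (nat_lit 654) j)) (Nat.ble (nat_lit 653) j)) (Nat.ble (nat_lit 650) j)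
noncomputable def dM_134 (j z1 z2 u : ℕ) : Bool :=
  Bool.rec (motive := fun _ => Bool) (Bool.rec (motive := fun _ => Bool) (Bool.rec (motive := fun _ => Bool) (mRel MG [T_f, T_f, T_c, T_di, T_bi, T_ci, T_b] [T_di] M (Nat.sub (MG u) (Nat.mod (MG u) M)) (nat_lit 40) z1 u (Nat.mod (MG u) M)) (mRel MG [T_bi, T_ci, T_d, T_c, T_bi] [T_ci, T_di, T_c] M (Nat.sub (MG u) (Nat.mod (MG u) M)) (nat_lit 40) z1 u (Nat.mod (MG u) M)) (Nat.ble (nat_lit 657) j)) (Bool.rec (motive := fun _ => Bool) (mRel MG [T_di, T_f] [T_d, T_b, T_c, T_bi, T_ci, T_bi] M (Nat.sub (MG u) (Nat.mod (MG u) M)) (nat_lit 40) z1 u (Nat.mod (MG u) M)) (Bool.rec (motive := fun _ => Bool) (mRel MG [T_c, T_b] [T_di, T_b, T_f, T_f, T_c, T_bi] M (Nat.sub (MG u) (Nat.mod (MG u) M)) (nat_lit 40) z1 u (Nat.mod (MG u) M)) (mRel MG [T_c, T_b, T_ci, T_ci, T_di, T_c] [T_b, T_ci] M (Nat.sub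 (MG u) (Nat.mod (MG u) M)) (nat_lit 40) z1 u (Nat.mod (MG u) M)) (Nat.ble (nat_lit 660) j)) (Nat.ble (nat_lit 659) j)) (Nat.ble (nat_lit 658) j)) (Bool.rec (motive := fun _ => Bool) (Bool.rec (motive := fun _ => Bool) (mRel MG [T_d, T_bi, T_fi] [T_f, T_c, T_b, T_c, T_d] M (Nat.sub (MG u) (Nat.mod (MG u) M)) (nat_lit 40) z1 u (Nat.mod (MG u) M)) (mRel MG [T_bi, T_f, T_d, T_b, T_c, T_d, T_b] [T_c] M (Nat.sub (MG u) (Nat.mod (MG u) M)) (nat_lit 40) z1 u (Nat.mod (MG u) M)) (Nat.ble (nat_lit 662) j)) (Bool.rec (motive := fun _ => Bool) (mRel MG [T_d, T_fi, T_bi, T_fi, T_b, T_b] [T_c, T_fi] M (Nat.sub (MG u) (Nat.mod (MG u) M)) (nat_lit 40) z1 u (Nat.mod (MG u) M)) (Bool.rec (motive := fun _ => Bool) (mRel MG [T_di, T_ci, T_bi, T_di, T_fi, T_b, T_c, T_bi] [] M (Nat.sub (MG u) (Nat.mod (MG u) M)) (nat_lit 40) z1 u (Nat.mod (MG u) M)) (mRel MG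 [T_di, T_f, T_di, T_ci, T_ci, T_bi] [T_bi, T_c] M (Nat.sub (MG u) (Nat.mod (MG u) M)) (nat_lit 40) z1 u (Nat.mod (MG u) M)) (Nat.ble (nat_lit 665) j)) (Nat.ble (nat_lit 664) j)) (Nat.ble (nat_lit 663) j)) (Nat.ble (nat_lit 661) j)
noncomputable def dM_135 (j z1 z2 u : ℕ) : Bool :=
  Bool.rec (motive := fun _ => Bool) (Bool.rec (motive := fun _ => Bool) (Bool.rec (motive := fun _ => Bool) (mRel MG [T_fi, T_b, T_c, T_b, T_ci, T_bi] [T_d, T_f] M (Nat.sub (MG u) (Nat.mod (MG u) M)) (nat_lit 40) z1 u (Nat.mod (MG u) M)) (mRel MG [T_fi, T_d] [T_f, T_di, T_fi, T_di, T_di, T_f] M (Nat.sub (MG u) (Nat.mod (MG u) M)) (nat_lit 40) z1 u (Nat.mod (MG u) M)) (Nat.ble (nat_lit 667) j)) (Bool.rec (motive := fun _ => Bool) (mRel MG [T_fi, T_di, T_ci, T_b, T_di] [T_ci, T_b, T_fi] M (Nat.sub (MG u) (Nat.mod (MG u) M)) (nat_lit 40) z1 u (Nat.mod (MG u) M))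 (Bool.rec (motive := fun _ => Bool) (mRel MG [T_bi, T_di, T_ci, T_bi, T_di, T_fi] [T_ci, T_bi] M (Nat.sub (MG u) (Nat.mod (MG u) M)) (nat_lit 40) z1 u (Nat.mod (MG u) M)) (mRel MG [T_bi] [T_ci, T_bi, T_f, T_d, T_b, T_c, T_d] M (Nat.sub (MG u) (Nat.mod (MG u) M)) (nat_lit 40) z1 u (Nat.mod (MG u) M)) (Nat.ble (nat_lit 670) j)) (Nat.ble (nat_lit 669) j)) (Nat.ble (nat_lit 668) j)) (Bool.rec (motive := fun _ => Bool) (Bool.rec (motive := fun _ => Bool) (mRel MG [T_b, T_b] [T_f, T_b, T_f, T_di, T_c, T_fi] M (Nat.sub (MG u) (Nat.mod (MG u) M)) (nat_lit 40) z1 u (Nat.mod (MG u) M)) (Bool.rec (motive := fun _ => Bool) (mRel MG [T_bi, T_d] [T_c, T_d, T_ci, T_bi, T_d, T_fi] M (Nat.sub (MG u) (Nat.mod (MG u) M)) (nat_lit 40) z1 u (Nat.mod (MG u) M)) (mRel MG [T_d, T_bi, T_d, T_d, T_b, T_d] [T_di, T_b] M (Nat.sub (MG u) (Nat.mod (MG u) M)) (nat_lit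 40) z1 u (Nat.mod (MG u) M)) (Nat.ble (nat_lit 673) j)) (Nat.ble (nat_lit 672) j)) (Bool.rec (motive := fun _ => Bool) (mRel MG [T_c, T_bi, T_c] [T_b, T_ci, T_b, T_ci, T_b] M (Nat.sub (MG u) (Nat.mod (MG u) M)) (nat_lit 40) z1 u (Nat.mod (MG u) M)) (Bool.rec (motive := fun _ => Bool) (mRel MG [T_f, T_di, T_ci] [T_d, T_bi, T_c, T_b, T_c] M (Nat.sub (MG u) (Nat.mod (MG u) M)) (nat_lit 40) z1 u (Nat.mod (MG u) M)) (mRel MG [T_d, T_c, T_bi, T_di, T_c, T_fi] [T_ci, T_bi] M (Nat.sub (MG u) (Nat.mod (MG u) M)) (nat_lit 40) z1 u (Nat.mod (MG u) M)) (Nat.ble (nat_lit 676) j)) (Nat.ble (nat_lit 675) j)) (Nat.ble (nat_lit 674) j)) (Nat.ble (nat_lit 671) j)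
noncomputable def dM_136 (j z1 z2 u : ℕ) : Bool :=
  Bool.rec (motive := fun _ => Bool) (dM_134 j z1 z2 u) (dM_135 j z1 z2 u) (Nat.ble (nat_lit 666) j)
noncomputable def dM_137 (j z1 z2 u : ℕ) : Bool :=
  Bool.rec (motive := fun _ => Bool) (dM_133 j z1 z2 u) (dM_136 j z1 z2 u) (Nat.ble (nat_lit 656) j)
noncomputable def dM_138 (j z1 z2 u : ℕ) : Bool :=
  Bool.rec (motive := fun _ => Bool) (Bool.rec (motive := fun _ => Bool) (Bool.rec (motive := fun _ => Bool) (mRel MG [T_c, T_b] [T_b, T_d, T_f, T_f, T_c, T_di] M (Nat.sub (MG u) (Nat.mod (MG u) M)) (nat_lit 40) z1 u (Nat.mod (MG u) M)) (mRel MG [T_d, T_c, T_c, T_bi] [T_c, T_c, T_bi, T_c] M (Nat.sub (MG u) (Nat.mod (MG u) M)) (nat_lit 40) z1 u (Nat.mod (MG u) M)) (Nat.ble (nat_lit 678) j)) (Bool.rec (motive := fun _ => Bool) (mRel MG [T_f, T_c, T_di, T_bi] [T_fi, T_di, T_bi, T_c] M (Nat.sub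 (MG u) (Nat.mod (MG u) M)) (nat_lit 40) z1 u (Nat.mod (MG u) M)) (Bool.rec (motive := fun _ => Bool) (mRel MG [T_fi, T_d, T_c, T_b, T_f] [T_bi, T_di, T_di] M (Nat.sub (MG u) (Nat.mod (MG u) M)) (nat_lit 40) z1 u (Nat.mod (MG u) M)) (mRel MG [T_b, T_d, T_ci, T_fi] [T_ci, T_b, T_d, T_f] M (Nat.sub (MG u) (Nat.mod (MG u) M)) (nat_lit 40) z1 u (Nat.mod (MG u) M)) (Nat.ble (nat_lit 681) j)) (Nat.ble (nat_lit 680) j)) (Nat.ble (nat_lit 679) j)) (Bool.rec (motive := fun _ => Bool) (Bool.rec (motive := fun _ => Bool) (mRel MG [T_b, T_b, T_f, T_ci, T_d, T_fi, T_bi] [T_f] M (Nat.sub (MG u) (Nat.mod (MG u) M)) (nat_lit 40) z1 u (Nat.mod (MG u) M)) (mRel MG [T_bi, T_ci] [T_f, T_d, T_d, T_b, T_fi, T_d] M (Nat.sub (MG u) (Nat.mod (MG u) M)) (nat_lit 40) z1 u (Nat.mod (MG u) M)) (Nat.ble (nat_lit 683) j)) (Bool.rec (motive := fun _ => Bool) (mRel MG [T_fi,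 T_b, T_c, T_d] [T_ci, T_d, T_b, T_ci] M (Nat.sub (MG u) (Nat.mod (MG u) M)) (nat_lit 40) z1 u (Nat.mod (MG u) M)) (Bool.rec (motive := fun _ => Bool) (mRel MG [T_b, T_b, T_ci, T_fi] [T_ci, T_di, T_b, T_f] M (Nat.sub (MG u) (Nat.mod (MG u) M)) (nat_lit 40) z1 u (Nat.mod (MG u) M)) (mRel MG [T_d, T_fi, T_d, T_bi, T_c, T_b] [T_ci, T_ci] M (Nat.sub (MG u) (Nat.mod (MG u) M)) (nat_lit 40) z1 u (Nat.mod (MG u) M)) (Nat.ble (nat_lit 686) j)) (Nat.ble (nat_lit 685) j)) (Nat.ble (nat_lit 684) j)) (Nat.ble (nat_lit 682) j)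
noncomputable def dM_139 (j z1 z2 u : ℕ) : Bool :=
  Bool.rec (motive := fun _ => Bool) (Bool.rec (motive := fun _ => Bool) (Bool.rec (motive := fun _ => Bool) (mRel MG [T_bi, T_di, T_c, T_fi, T_b, T_c, T_d] [T_ci] M (Nat.sub (MG u) (Nat.mod (MG u) M)) (nat_lit 40) z1 u (Nat.mod (MG u) M)) (mRel MG [T_d, T_d, T_bi, T_d, T_d] [T_b, T_di, T_bi] M (Nat.sub (MG u) (Nat.mod (MG u) M)) (nat_lit 40) z1 u (Nat.mod (MG u) M)) (Nat.ble (nat_lit 688) j)) (Bool.rec (motive := fun _ => Bool) (mRel MG [T_fi, T_e, T_f, T_ei, T_fi, T_fi] [T_e, T_c, T_di] M (Nat.sub (MG u) (Nat.mod (MG u) M)) (nat_lit 40) z1 u (Nat.mod (MG u) M)) (Bool.rec (motive := fun _ => Bool) (mRel MG [T_ci, T_fi, T_fi, T_di, T_bi, T_c, T_b] [T_di] M (Nat.sub (MG u) (Nat.mod (MG u) M)) (nat_lit 40) z1 u (Nat.mod (MG u) M)) (mRel MG [T_di, T_ci, T_bi, T_f, T_b] [T_b, T_b, T_ci] M (Nat.sub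 (MG u) (Nat.mod (MG u) M)) (nat_lit 40) z1 u (Nat.mod (MG u) M)) (Nat.ble (nat_lit 691) j)) (Nat.ble (nat_lit 690) j)) (Nat.ble (nat_lit 689) j)) (Bool.rec (motive := fun _ => Bool) (Bool.rec (motive := fun _ => Bool) (mRel MG [T_c, T_bi, T_d] [T_d, T_b, T_f, T_ci, T_f] M (Nat.sub (MG u) (Nat.mod (MG u) M)) (nat_lit 40) z1 u (Nat.mod (MG u) M)) (Bool.rec (motive := fun _ => Bool) (mRel MG [T_f, T_e] [T_b, T_f, T_d, T_ei, T_bi, T_c, T_fi] M (Nat.sub (MG u) (Nat.mod (MG u) M)) (nat_lit 40) z1 u (Nat.mod (MG u) M)) (mRel MG [T_fi, T_d, T_bi, T_c, T_b] [T_di, T_ci, T_ci] M (Nat.sub (MG u) (Nat.mod (MG u) M)) (nat_lit 40) z1 u (Nat.mod (MG u) M)) (Nat.ble (nat_lit 694) j)) (Nat.ble (nat_lit 693) j)) (Bool.rec (motive := fun _ => Bool) (mRel MG [T_bi, T_f, T_ci, T_d, T_b] [T_c, T_d, T_c] M (Nat.sub (MG u) (Nat.mod (MG u) M)) (nat_lit 40) z1 u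 (Nat.mod (MG u) M)) (Bool.rec (motive := fun _ => Bool) (mRel MG [T_fi, T_di, T_e, T_fi, T_ei, T_f, T_e, T_c, T_d] [] M (Nat.sub (MG u) (Nat.mod (MG u) M)) (nat_lit 40) z1 u (Nat.mod (MG u) M)) (mRel MG [T_di, T_b, T_c, T_di, T_c] [T_ci, T_b, T_di] M (Nat.sub (MG u) (Nat.mod (MG u) M)) (nat_lit 40) z1 u (Nat.mod (MG u) M)) (Nat.ble (nat_lit 697) j)) (Nat.ble (nat_lit 696) j)) (Nat.ble (nat_lit 695) j)) (Nat.ble (nat_lit 692) j)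
noncomputable def dM_140 (j z1 z2 u : ℕ) : Bool :=
  Bool.rec (motive := fun _ => Bool) (dM_138 j z1 z2 u) (dM_139 j z1 z2 u) (Nat.ble (nat_lit 687) j)
noncomputable def dM_141 (j z1 z2 u : ℕ) : Bool :=
  Bool.rec (motive := fun _ => Bool) (Bool.rec (motive := fun _ => Bool) (Bool.rec (motive := fun _ => Bool) (mRel MG [T_c, T_c] [T_di, T_c, T_c, T_bi, T_c, T_b] M (Nat.sub (MG u) (Nat.mod (MG u) M)) (nat_lit 40) z1 u (Nat.mod (MG u) M)) (mRel MG [T_d, T_b, T_c, T_bi, T_ci, T_bi] [T_di, T_f] M (Nat.sub (MG u) (Nat.mod (MG u) M)) (nat_lit 40) z1 u (Nat.mod (MG u) M)) (Nat.ble (nat_lit 699) j)) (Bool.rec (motive := fun _ => Bool) (mRel MG [T_fi, T_bi, T_di, T_c, T_bi, T_d, T_fi, T_c] [] M (Nat.sub (MG u) (Nat.mod (MG u) M)) (nat_lit 40) z1 u (Nat.mod (MG u) M)) (Bool.rec (motive := fun _ => Bool) (mRel MG [T_b] [T_bi, T_di, T_ci, T_bi, T_f,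 T_b, T_c] M (Nat.sub (MG u) (Nat.mod (MG u) M)) (nat_lit 40) z1 u (Nat.mod (MG u) M)) (mRel MG [T_f, T_ei, T_fi, T_fi, T_d, T_ci, T_ei] [T_ei, T_f] M (Nat.sub (MG u) (Nat.mod (MG u) M)) (nat_lit 40) z1 u (Nat.mod (MG u) M)) (Nat.ble (nat_lit 702) j)) (Nat.ble (nat_lit 701) j)) (Nat.ble (nat_lit 700) j)) (Bool.rec (motive := fun _ => Bool) (Bool.rec (motive := fun _ => Bool) (mRel MG [T_d, T_d, T_b, T_d] [T_b, T_di, T_di, T_b] M (Nat.sub (MG u) (Nat.mod (MG u) M)) (nat_lit 40) z1 u (Nat.mod (MG u) M)) (Bool.rec (motive := fun _ => Bool) (mRel MG [T_fi, T_di, T_ci] [T_ci, T_b, T_fi, T_d, T_bi] M (Nat.sub (MG u) (Nat.mod (MG u) M)) (nat_lit 40) z1 u (Nat.mod (MG u) M)) (mRel MG [T_bi, T_di, T_di, T_fi, T_bi, T_ci, T_di, T_f] [] M (Nat.sub (MG u) (Nat.mod (MG u) M)) (nat_lit 40) z1 u (Nat.mod (MG u) M)) (Nat.ble (nat_lit 705) j)) (Nat.ble (nat_lit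 704) j)) (Bool.rec (motive := fun _ => Bool) (mRel MG [T_c, T_bi, T_c] [T_ci, T_d, T_c, T_c, T_bi] M (Nat.sub (MG u) (Nat.mod (MG u) M)) (nat_lit 40) z1 u (Nat.mod (MG u) M)) (Bool.rec (motive := fun _ => Bool) (mRel MG [T_e, T_f, T_ei, T_fi] [T_f, T_e, T_c, T_di, T_f] M (Nat.sub (MG u) (Nat.mod (MG u) M)) (nat_lit 40) z1 u (Nat.mod (MG u) M)) (mRel MG [T_d, T_bi, T_fi, T_di, T_ci, T_bi, T_ci] [T_f] M (Nat.sub (MG u) (Nat.mod (MG u) M)) (nat_lit 40) z1 u (Nat.mod (MG u) M)) (Nat.ble (nat_lit 708) j)) (Nat.ble (nat_lit 707) j)) (Nat.ble (nat_lit 706) j)) (Nat.ble (nat_lit 703) j)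
noncomputable def dM_142 (j z1 z2 u : ℕ) : Bool :=
  Bool.rec (motive := fun _ => Bool) (Bool.rec (motive := fun _ => Bool) (Bool.rec (motive := fun _ => Bool) (mRel MG [T_e, T_c, T_di, T_f, T_f, T_e, T_fi] [T_fi, T_e] M (Nat.sub (MG u) (Nat.mod (MG u) M)) (nat_lit 40) z1 u (Nat.mod (MG u) M)) (mRel MG [T_fi] [T_c, T_bi, T_ci, T_ci, T_bi, T_f, T_c, T_di] M (Nat.sub (MG u) (Nat.mod (MG u) M)) (nat_lit 40) z1 u (Nat.mod (MG u) M)) (Nat.ble (nat_lit 710) j)) (Bool.rec (motive := fun _ => Bool) (mRel MG [T_c, T_bi, T_ci, T_bi] [T_bi, T_di, T_di, T_f] M (Nat.sub (MG u) (Nat.mod (MG u) M)) (nat_lit 40) z1 u (Nat.mod (MG u) M)) (Bool.rec (motive := fun _ => Bool) (mRel MG [T_c, T_c, T_bi, T_c, T_b] [T_d, T_c, T_c] M (Nat.sub (MG u) (Nat.mod (MG u) M)) (nat_lit 40) z1 u (Nat.mod (MG u) M)) (mRel MG [T_fi, T_d, T_fi, T_d, T_d, T_f] [T_f, T_di] M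 (Nat.sub (MG u) (Nat.mod (MG u) M)) (nat_lit 40) z1 u (Nat.mod (MG u) M)) (Nat.ble (nat_lit 713) j)) (Nat.ble (nat_lit 712) j)) (Nat.ble (nat_lit 711) j)) (Bool.rec (motive := fun _ => Bool) (Bool.rec (motive := fun _ => Bool) (mRel MG [T_d, T_ci, T_ci, T_b] [T_bi, T_c, T_c, T_di] M (Nat.sub (MG u) (Nat.mod (MG u) M)) (nat_lit 40) z1 u (Nat.mod (MG u) M)) (Bool.rec (motive := fun _ => Bool) (mRel MG [T_f, T_di, T_b, T_ci, T_d, T_b] [T_c, T_fi] M (Nat.sub (MG u) (Nat.mod (MG u) M)) (nat_lit 40) z1 u (Nat.mod (MG u) M)) (mRel MG [T_bi, T_ci, T_b, T_ci, T_ci, T_d] [T_ci, T_ci] M (Nat.sub (MG u) (Nat.mod (MG u) M)) (nat_lit 40) z1 u (Nat.mod (MG u) M)) (Nat.ble (nat_lit 716) j)) (Nat.ble (nat_lit 715) j)) (Bool.rec (motive := fun _ => Bool) (mRel MG [T_c, T_c, T_d, T_fi] [T_bi, T_ci, T_b, T_di] M (Nat.sub (MG u) (Nat.mod (MG u) M)) (nat_lit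 40) z1 u (Nat.mod (MG u) M)) (Bool.rec (motive := fun _ => Bool) (mRel MG [T_bi, T_fi, T_di] [T_c, T_bi, T_ci, T_bi, T_f] M (Nat.sub (MG u) (Nat.mod (MG u) M)) (nat_lit 40) z1 u (Nat.mod (MG u) M)) (mRel MG [T_di] [T_ci, T_bi, T_d, T_ci, T_b, T_di, T_ci] M (Nat.sub (MG u) (Nat.mod (MG u) M)) (nat_lit 40) z1 u (Nat.mod (MG u) M)) (Nat.ble (nat_lit 719) j)) (Nat.ble (nat_lit 718) j)) (Nat.ble (nat_lit 717) j)) (Nat.ble (nat_lit 714) j)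
noncomputable def dM_143 (j z1 z2 u : ℕ) : Bool :=
  Bool.rec (motive := fun _ => Bool) (dM_141 j z1 z2 u) (dM_142 j z1 z2 u) (Nat.ble (nat_lit 709) j)
noncomputable def dM_144 (j z1 z2 u : ℕ) : Bool :=
  Bool.rec (motive := fun _ => Bool) (dM_140 j z1 z2 u) (dM_143 j z1 z2 u) (Nat.ble (nat_lit 698) j)
noncomputable def dM_145 (j z1 z2 u : ℕ) : Bool :=
  Bool.rec (motive := fun _ => Bool) (dM_137 j z1 z2 u) (dM_144 j z1 z2 u) (Nat.ble (nat_lit 677) j)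
noncomputable def dM_146 (j z1 z2 u : ℕ) : Bool :=
  Bool.rec (motive := fun _ => Bool) (Bool.rec (motive := fun _ => Bool) (Bool.rec (motive := fun _ => Bool) (mRel MG [T_c, T_di, T_ci, T_bi, T_d] [T_bi, T_d, T_fi] M (Nat.sub (MG u) (Nat.mod (MG u) M)) (nat_lit 40) z1 u (Nat.mod (MG u) M)) (mRel MG [T_d, T_d, T_b, T_fi, T_d, T_c, T_b] [T_fi] M (Nat.sub (MG u) (Nat.mod (MG u) M)) (nat_lit 40) z1 u (Nat.mod (MG u) M)) (Nat.ble (nat_lit 721) j)) (Bool.rec (motive := fun _ => Bool) (mRel MG [T_b, T_c, T_d, T_c, T_bi, T_di] [T_f, T_ci] M (Nat.sub (MG u) (Nat.mod (MG u) M)) (nat_lit 40) z1 u (Nat.mod (MG u) M)) (Bool.rec (motive := fun _ => Bool) (mRel MG [T_di] [T_b, T_c, T_d, T_b, T_ci, T_bi, T_f] M (Nat.sub (MG u) (Nat.mod (MG u) M)) (nat_lit 40) z1 u (Nat.mod (MG u) M)) (mRel MG [T_ci, T_ci, T_di, T_c, T_c] [T_bi, T_ci, T_b] M (Nat.sub (MG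 u) (Nat.mod (MG u) M)) (nat_lit 40) z1 u (Nat.mod (MG u) M)) (Nat.ble (nat_lit 724) j)) (Nat.ble (nat_lit 723) j)) (Nat.ble (nat_lit 722) j)) (Bool.rec (motive := fun _ => Bool) (Bool.rec (motive := fun _ => Bool) (mRel MG [T_bi, T_ci, T_b] [T_ci, T_ci, T_di, T_c, T_c] M (Nat.sub (MG u) (Nat.mod (MG u) M)) (nat_lit 40) z1 u (Nat.mod (MG u) M)) (mRel MG [T_bi, T_d] [T_di, T_bi, T_di, T_di, T_b, T_di] M (Nat.sub (MG u) (Nat.mod (MG u) M)) (nat_lit 40) z1 u (Nat.mod (MG u) M)) (Nat.ble (nat_lit 726) j)) (Bool.rec (motive := fun _ => Bool) (mRel MG [T_di, T_di, T_fi, T_c, T_di, T_di] [T_ci, T_f] M (Nat.sub (MG u) (Nat.mod (MG u) M)) (nat_lit 40) z1 u (Nat.mod (MG u) M)) (Bool.rec (motive := fun _ => Bool) (mRel MG [T_fi, T_fi, T_di, T_bi] [T_c, T_di, T_bi, T_ci] M (Nat.sub (MG u) (Nat.mod (MG u) M)) (nat_lit 40) z1 u (Nat.mod (MG u) M)) (mRel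 MG [T_c, T_b, T_ci, T_di, T_c] [T_d, T_c, T_bi] M (Nat.sub (MG u) (Nat.mod (MG u) M)) (nat_lit 40) z1 u (Nat.mod (MG u) M)) (Nat.ble (nat_lit 729) j)) (Nat.ble (nat_lit 728) j)) (Nat.ble (nat_lit 727) j)) (Nat.ble (nat_lit 725) j)
noncomputable def dM_147 (j z1 z2 u : ℕ) : Bool :=
  Bool.rec (motive := fun _ => Bool) (Bool.rec (motive := fun _ => Bool) (Bool.rec (motive := fun _ => Bool) (mRel MG [T_ci, T_bi, T_di, T_di, T_f, T_b] [T_bi, T_ci] M (Nat.sub (MG u) (Nat.mod (MG u) M)) (nat_lit 40) z1 u (Nat.mod (MG u) M)) (mRel MG [T_b, T_c, T_d, T_b] [T_f, T_b, T_c, T_bi] M (Nat.sub (MG u) (Nat.mod (MG u) M)) (nat_lit 40) z1 u (Nat.mod (MG u) M)) (Nat.ble (nat_lit 731) j)) (Bool.rec (motive := fun _ => Bool) (mRel MG [T_fi, T_di, T_di, T_f] [T_d, T_fi, T_fi, T_d] M (Nat.sub (MG u) (Nat.mod (MG u) M)) (nat_lit 40) z1 u (Nat.mod (MG u) M)) (Bool.rec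 (motive := fun _ => Bool) (mRel MG [T_fi, T_ei, T_f, T_e, T_c, T_di, T_f, T_f, T_e] [] M (Nat.sub (MG u) (Nat.mod (MG u) M)) (nat_lit 40) z1 u (Nat.mod (MG u) M)) (mRel MG [T_fi, T_e, T_f, T_ei, T_fi, T_fi, T_d, T_ci] [T_e] M (Nat.sub (MG u) (Nat.mod (MG u) M)) (nat_lit 40) z1 u (Nat.mod (MG u) M)) (Nat.ble (nat_lit 734) j)) (Nat.ble (nat_lit 733) j)) (Nat.ble (nat_lit 732) j)) (Bool.rec (motive := fun _ => Bool) (Bool.rec (motive := fun _ => Bool) (mRel MG [T_b, T_d, T_f, T_f, T_c, T_di, T_bi] [T_c] M (Nat.sub (MG u) (Nat.mod (MG u) M)) (nat_lit 40) z1 u (Nat.mod (MG u) M)) (Bool.rec (motive := fun _ => Bool) (mRel MG [T_c, T_bi, T_bi, T_di, T_ci, T_bi] [T_bi, T_fi] M (Nat.sub (MG u) (Nat.mod (MG u) M)) (nat_lit 40) z1 u (Nat.mod (MG u) M)) (mRel MG [T_f, T_c, T_bi, T_bi, T_ci, T_di, T_b, T_f] [] M (Nat.sub (MG u) (Nat.mod (MG u) M)) (nat_lit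 40) z1 u (Nat.mod (MG u) M)) (Nat.ble (nat_lit 737) j)) (Nat.ble (nat_lit 736) j)) (Bool.rec (motive := fun _ => Bool) (mRel MG [T_bi, T_ci, T_b, T_d] [T_d, T_ci, T_fi, T_fi] M (Nat.sub (MG u) (Nat.mod (MG u) M)) (nat_lit 40) z1 u (Nat.mod (MG u) M)) (Bool.rec (motive := fun _ => Bool) (mRel MG [T_b, T_di, T_f] [T_c, T_d, T_f, T_ci, T_b] M (Nat.sub (MG u) (Nat.mod (MG u) M)) (nat_lit 40) z1 u (Nat.mod (MG u) M)) (mRel MG [T_bi, T_ci] [T_c, T_d, T_f, T_b, T_di, T_f] M (Nat.sub (MG u) (Nat.mod (MG u) M)) (nat_lit 40) z1 u (Nat.mod (MG u) M)) (Nat.ble (nat_lit 740) j)) (Nat.ble (nat_lit 739) j)) (Nat.ble (nat_lit 738) j)) (Nat.ble (nat_lit 735) j)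
noncomputable def dM_148 (j z1 z2 u : ℕ) : Bool :=
  Bool.rec (motive := fun _ => Bool) (dM_146 j z1 z2 u) (dM_147 j z1 z2 u) (Nat.ble (nat_lit 730) j)
noncomputable def dM_149 (j z1 z2 u : ℕ) : Bool :=
  Bool.rec (motive := fun _ => Bool) (Bool.rec (motive := fun _ => Bool) (Bool.rec (motive := fun _ => Bool) (mRel MG [T_ei, T_fi, T_b, T_f, T_d, T_ei, T_bi] [T_f, T_ci] M (Nat.sub (MG u) (Nat.mod (MG u) M)) (nat_lit 40) z1 u (Nat.mod (MG u) M)) (mRel MG [T_di] [T_c, T_bi, T_ci, T_ci, T_f, T_c, T_c, T_f] M (Nat.sub (MG u) (Nat.mod (MG u) M)) (nat_lit 40) z1 u (Nat.mod (MG u) M)) (Nat.ble (nat_lit 742) j)) (Bool.rec (motive := fun _ => Bool) (mRel MG [T_ci, T_b, T_fi, T_d, T_bi] [T_fi, T_di, T_ci] M (Nat.sub (MG u) (Nat.mod (MG u) M)) (nat_lit 40) z1 u (Nat.mod (MG u) M)) (Bool.rec (motive := fun _ => Bool) (mRel MG [T_d, T_ci, T_fi, T_e,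 T_f, T_ei, T_fi, T_e] [T_f] M (Nat.sub (MG u) (Nat.mod (MG u) M)) (nat_lit 40) z1 u (Nat.mod (MG u) M)) (mRel MG [T_b, T_d, T_c, T_bi, T_ci, T_b] [T_fi, T_d, T_bi] M (Nat.sub (MG u) (Nat.mod (MG u) M)) (nat_lit 40) z1 u (Nat.mod (MG u) M)) (Nat.ble (nat_lit 745) j)) (Nat.ble (nat_lit 744) j)) (Nat.ble (nat_lit 743) j)) (Bool.rec (motive := fun _ => Bool) (Bool.rec (motive := fun _ => Bool) (mRel MG [T_f, T_di, T_f] [T_d, T_d, T_f, T_d, T_fi] M (Nat.sub (MG u) (Nat.mod (MG u) M)) (nat_lit 40) z1 u (Nat.mod (MG u) M)) (Bool.rec (motive := fun _ => Bool) (mRel MG [T_d, T_fi, T_di] [T_b, T_c, T_di, T_ci, T_bi] M (Nat.sub (MG u) (Nat.mod (MG u) M)) (nat_lit 40) z1 u (Nat.mod (MG u) M)) (mRel MG [T_di, T_ci, T_b] [T_f, T_ci, T_b, T_fi, T_d] M (Nat.sub (MG u) (Nat.mod (MG u) M)) (nat_lit 40) z1 u (Nat.mod (MG u) M)) (Nat.ble (nat_lit 748) j))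 (Nat.ble (nat_lit 747) j)) (Bool.rec (motive := fun _ => Bool) (mRel MG [T_c, T_c, T_di, T_bi, T_c, T_c] [T_b, T_d] M (Nat.sub (MG u) (Nat.mod (MG u) M)) (nat_lit 40) z1 u (Nat.mod (MG u) M)) (Bool.rec (motive := fun _ => Bool) (mRel MG [T_ci, T_fi, T_bi] [T_bi, T_f, T_f, T_di, T_c, T_f] M (Nat.sub (MG u) (Nat.mod (MG u) M)) (nat_lit 40) z1 u (Nat.mod (MG u) M)) (mRel MG [T_bi, T_di, T_c] [T_ci, T_di, T_ci, T_bi, T_f] M (Nat.sub (MG u) (Nat.mod (MG u) M)) (nat_lit 40) z1 u (Nat.mod (MG u) M)) (Nat.ble (nat_lit 751) j)) (Nat.ble (nat_lit 750) j)) (Nat.ble (nat_lit 749) j)) (Nat.ble (nat_lit 746) j)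
noncomputable def dM_150 (j z1 z2 u : ℕ) : Bool :=
  Bool.rec (motive := fun _ => Bool) (Bool.rec (motive := fun _ => Bool) (Bool.rec (motive := fun _ => Bool) (mRel MG [T_di, T_ci, T_bi] [T_f, T_b, T_di, T_f, T_c] M (Nat.sub (MG u) (Nat.mod (MG u) M)) (nat_lit 40) z1 u (Nat.mod (MG u) M)) (mRel MG [T_b, T_c, T_d, T_b] [T_di, T_fi, T_b, T_c] M (Nat.sub (MG u) (Nat.mod (MG u) M)) (nat_lit 40) z1 u (Nat.mod (MG u) M)) (Nat.ble (nat_lit 753) j)) (Bool.rec (motive := fun _ => Bool) (mRel MG [T_di, T_ci, T_bi, T_di] [T_b, T_ci, T_bi, T_f] M (Nat.sub (MG u) (Nat.mod (MG u) M)) (nat_lit 40) z1 u (Nat.mod (MG u) M)) (Bool.rec (motive := fun _ => Bool) (mRel MG [T_d, T_ci, T_bi, T_d] [T_c, T_d, T_bi, T_c] M (Nat.sub (MG u) (Nat.mod (MG u) M)) (nat_lit 40) z1 u (Nat.mod (MG u) M)) (mRel MG [T_c, T_b, T_b, T_ci, T_fi, T_fi] [T_di, T_b] M (Nat.sub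 (MG u) (Nat.mod (MG u) M)) (nat_lit 40) z1 u (Nat.mod (MG u) M)) (Nat.ble (nat_lit 756) j)) (Nat.ble (nat_lit 755) j)) (Nat.ble (nat_lit 754) j)) (Bool.rec (motive := fun _ => Bool) (Bool.rec (motive := fun _ => Bool) (mRel MG [T_bi, T_d, T_c] [T_f, T_f, T_c, T_bi, T_bi] M (Nat.sub (MG u) (Nat.mod (MG u) M)) (nat_lit 40) z1 u (Nat.mod (MG u) M)) (Bool.rec (motive := fun _ => Bool) (mRel MG [T_d, T_ci, T_b, T_di, T_ci, T_d] [T_b, T_c] M (Nat.sub (MG u) (Nat.mod (MG u) M)) (nat_lit 40) z1 u (Nat.mod (MG u) M)) (mRel MG [T_bi, T_c, T_fi, T_ei] [T_e, T_di, T_fi, T_bi, T_f] M (Nat.sub (MG u) (Nat.mod (MG u) M)) (nat_lit 40) z1 u (Nat.mod (MG u) M)) (Nat.ble (nat_lit 759) j)) (Nat.ble (nat_lit 758) j)) (Bool.rec (motive := fun _ => Bool) (mRel MG [T_ci, T_f, T_b, T_ci, T_fi, T_b] [T_d, T_d] M (Nat.sub (MG u) (Nat.mod (MG u) M)) (nat_lit 40) z1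 u (Nat.mod (MG u) M)) (Bool.rec (motive := fun _ => Bool) (mRel MG [T_bi, T_d, T_fi, T_c, T_fi, T_bi] [T_ci, T_d] M (Nat.sub (MG u) (Nat.mod (MG u) M)) (nat_lit 40) z1 u (Nat.mod (MG u) M)) (mRel MG [T_f, T_di] [T_di, T_b, T_c, T_d, T_ci, T_bi] M (Nat.sub (MG u) (Nat.mod (MG u) M)) (nat_lit 40) z1 u (Nat.mod (MG u) M)) (Nat.ble (nat_lit 762) j)) (Nat.ble (nat_lit 761) j)) (Nat.ble (nat_lit 760) j)) (Nat.ble (nat_lit 757) j)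
noncomputable def dM_151 (j z1 z2 u : ℕ) : Bool :=
  Bool.rec (motive := fun _ => Bool) (dM_149 j z1 z2 u) (dM_150 j z1 z2 u) (Nat.ble (nat_lit 752) j)
noncomputable def dM_152 (j z1 z2 u : ℕ) : Bool :=
  Bool.rec (motive := fun _ => Bool) (dM_148 j z1 z2 u) (dM_151 j z1 z2 u) (Nat.ble (nat_lit 741) j)
noncomputable def dM_153 (j z1 z2 u : ℕ) : Bool :=
  Bool.rec (motive := fun _ => Bool) (Bool.rec (motive := fun _ => Bool) (Bool.rec (motive := fun _ => Bool) (mRel MG [T_di, T_c, T_bi, T_d, T_fi, T_c] [T_b, T_f] M (Nat.sub (MG u) (Nat.mod (MG u) M)) (nat_lit 40) z1 u (Nat.mod (MG u) M)) (mRel MG [T_f, T_ci, T_b, T_fi, T_d, T_bi] [T_di, T_ci] M (Nat.sub (MG u) (Nat.mod (MG u) M)) (nat_lit 40) z1 u (Nat.mod (MG u) M)) (Nat.ble (nat_lit 764) j)) (Bool.rec (motive := fun _ => Bool) (mRel MG [T_d, T_f, T_f] [T_bi, T_c, T_b, T_d, T_ci] M (Nat.sub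 (MG u) (Nat.mod (MG u) M)) (nat_lit 40) z1 u (Nat.mod (MG u) M)) (Bool.rec (motive := fun _ => Bool) (mRel MG [T_bi, T_ci, T_b, T_di] [T_c, T_c, T_d, T_fi] M (Nat.sub (MG u) (Nat.mod (MG u) M)) (nat_lit 40) z1 u (Nat.mod (MG u) M)) (mRel MG [T_fi, T_di, T_ci, T_b, T_di, T_f] [T_ci, T_b] M (Nat.sub (MG u) (Nat.mod (MG u) M)) (nat_lit 40) z1 u (Nat.mod (MG u) M)) (Nat.ble (nat_lit 767) j)) (Nat.ble (nat_lit 766) j)) (Nat.ble (nat_lit 765) j)) (Bool.rec (motive := fun _ => Bool) (Bool.rec (motive := fun _ => Bool) (mRel MG [T_e, T_fi, T_ei, T_f, T_c, T_di, T_f] [T_fi, T_e] M (Nat.sub (MG u) (Nat.mod (MG u) M)) (nat_lit 40) z1 u (Nat.mod (MG u) M)) (mRel MG [T_fi, T_d, T_bi] [T_di, T_ci, T_ci, T_bi, T_ci] M (Nat.sub (MG u) (Nat.mod (MG u) M)) (nat_lit 40) z1 u (Nat.mod (MG u) M)) (Nat.ble (nat_lit 769) j)) (Bool.rec (motive := fun _ => Bool)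 (mRel MG [T_fi, T_b, T_c, T_d, T_b, T_b] [T_b, T_c] M (Nat.sub (MG u) (Nat.mod (MG u) M)) (nat_lit 40) z1 u (Nat.mod (MG u) M)) (Bool.rec (motive := fun _ => Bool) (mRel MG [T_b, T_c, T_b, T_ci] [T_f, T_d, T_f, T_b] M (Nat.sub (MG u) (Nat.mod (MG u) M)) (nat_lit 40) z1 u (Nat.mod (MG u) M)) (mRel MG [T_c, T_d, T_d, T_bi, T_f, T_c, T_bi, T_fi] [] M (Nat.sub (MG u) (Nat.mod (MG u) M)) (nat_lit 40) z1 u (Nat.mod (MG u) M)) (Nat.ble (nat_lit 772) j)) (Nat.ble (nat_lit 771) j)) (Nat.ble (nat_lit 770) j)) (Nat.ble (nat_lit 768) j)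
noncomputable def dM_154 (j z1 z2 u : ℕ) : Bool :=
  Bool.rec (motive := fun _ => Bool) (Bool.rec (motive := fun _ => Bool) (Bool.rec (motive := fun _ => Bool) (mRel MG [T_d, T_bi, T_bi, T_f, T_c, T_b] [T_f, T_f, T_ci] M (Nat.sub (MG u) (Nat.mod (MG u) M)) (nat_lit 40) z1 u (Nat.mod (MG u) M)) (mRel MG [T_bi, T_d, T_ci, T_fi, T_bi, T_d, T_ci] [T_f] M (Nat.sub (MG u) (Nat.mod (MG u) M)) (nat_lit 40) z1 u (Nat.mod (MG u) M)) (Nat.ble (nat_lit 774) j)) (Bool.rec (motive := fun _ => Bool) (mRel MG [T_fi] [T_c, T_bi, T_fi, T_c, T_d, T_d, T_bi] M (Nat.sub (MG u) (Nat.mod (MG u) M)) (nat_lit 40) z1 u (Nat.mod (MG u) M)) (Bool.rec (motive := fun _ => Bool) (mRel MG [T_fi, T_e, T_f] [T_c, T_di, T_f, T_ei, T_f, T_e] M (Nat.sub (MG u) (Nat.mod (MG u) M)) (nat_lit 40) z1 u (Nat.mod (MG u) M)) (mRel MG [T_fi, T_fi, T_bi] [T_c, T_bi, T_bi, T_ci, T_di]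 M (Nat.sub (MG u) (Nat.mod (MG u) M)) (nat_lit 40) z1 u (Nat.mod (MG u) M)) (Nat.ble (nat_lit 777) j)) (Nat.ble (nat_lit 776) j)) (Nat.ble (nat_lit 775) j)) (Bool.rec (motive := fun _ => Bool) (Bool.rec (motive := fun _ => Bool) (mRel MG [T_di, T_di, T_ci, T_f, T_b, T_ci, T_fi] [T_bi] M (Nat.sub (MG u) (Nat.mod (MG u) M)) (nat_lit 40) z1 u (Nat.mod (MG u) M)) (Bool.rec (motive := fun _ => Bool) (mRel MG [T_ci] [T_b, T_ci, T_bi, T_fi, T_di, T_fi, T_b] M (Nat.sub (MG u) (Nat.mod (MG u) M)) (nat_lit 40) z1 u (Nat.mod (MG u) M)) (mRel MG [T_c, T_d, T_f, T_b, T_di, T_f, T_c] [T_bi] M (Nat.sub (MG u) (Nat.mod (MG u) M)) (nat_lit 40) z1 u (Nat.mod (MG u) M)) (Nat.ble (nat_lit 780) j)) (Nat.ble (nat_lit 779) j)) (Bool.rec (motive := fun _ => Bool) (mRel MG [T_bi, T_di, T_c, T_bi] [T_f, T_ci, T_f, T_di] M (Nat.sub (MG u) (Nat.mod (MG u) M)) (nat_lit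 40) z1 u (Nat.mod (MG u) M)) (Bool.rec (motive := fun _ => Bool) (mRel MG [T_d, T_b, T_fi, T_d, T_c, T_b, T_f] [T_di] M (Nat.sub (MG u) (Nat.mod (MG u) M)) (nat_lit 40) z1 u (Nat.mod (MG u) M)) (mRel MG [T_bi, T_ci, T_di] [T_b, T_ci, T_fi, T_fi, T_bi] M (Nat.sub (MG u) (Nat.mod (MG u) M)) (nat_lit 40) z1 u (Nat.mod (MG u) M)) (Nat.ble (nat_lit 783) j)) (Nat.ble (nat_lit 782) j)) (Nat.ble (nat_lit 781) j)) (Nat.ble (nat_lit 778) j)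
noncomputable def dM_155 (j z1 z2 u : ℕ) : Bool :=
  Bool.rec (motive := fun _ => Bool) (dM_153 j z1 z2 u) (dM_154 j z1 z2 u) (Nat.ble (nat_lit 773) j)
noncomputable def dM_156 (j z1 z2 u : ℕ) : Bool :=
  Bool.rec (motive := fun _ => Bool) (Bool.rec (motive := fun _ => Bool) (Bool.rec (motive := fun _ => Bool) (mRel MG [T_b] [T_fi, T_ci, T_d, T_b, T_b, T_c, T_bi, T_bi] M (Nat.sub (MG u) (Nat.mod (MG u) M)) (nat_lit 40) z1 u (Nat.mod (MG u) M)) (mRel MG [T_ci, T_bi, T_ci, T_fi] [T_d, T_f, T_b, T_di] M (Nat.sub (MG u) (Nat.mod (MG u) M)) (nat_lit 40) z1 u (Nat.mod (MG u) M)) (Nat.ble (nat_lit 785) j)) (Bool.rec (motive := fun _ => Bool) (mRel MG [T_bi, T_f, T_d] [T_c, T_bi, T_di, T_ci, T_bi] M (Nat.sub (MG u) (Nat.mod (MG u) M)) (nat_lit 40) z1 u (Nat.mod (MG u) M)) (Bool.rec (motive := fun _ => Bool) (mRel MG [T_d, T_fi, T_d, T_d, T_f] [T_f,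 T_f, T_di] M (Nat.sub (MG u) (Nat.mod (MG u) M)) (nat_lit 40) z1 u (Nat.mod (MG u) M)) (mRel MG [T_di, T_bi, T_c, T_b, T_d, T_ci] [T_f, T_f] M (Nat.sub (MG u) (Nat.mod (MG u) M)) (nat_lit 40) z1 u (Nat.mod (MG u) M)) (Nat.ble (nat_lit 788) j)) (Nat.ble (nat_lit 787) j)) (Nat.ble (nat_lit 786) j)) (Bool.rec (motive := fun _ => Bool) (Bool.rec (motive := fun _ => Bool) (mRel MG [T_ci, T_d, T_c, T_c, T_bi, T_ci, T_b, T_ci] [] M (Nat.sub (MG u) (Nat.mod (MG u) M)) (nat_lit 40) z1 u (Nat.mod (MG u) M)) (Bool.rec (motive := fun _ => Bool) (mRel MG [T_d, T_bi, T_c, T_b] [T_f, T_di, T_ci, T_ci] M (Nat.sub (MG u) (Nat.mod (MG u) M)) (nat_lit 40) z1 u (Nat.mod (MG u) M)) (mRel MG [T_b, T_ci, T_di, T_c, T_b, T_ci, T_di, T_c] [] M (Nat.sub (MG u) (Nat.mod (MG u) M)) (nat_lit 40) z1 u (Nat.mod (MG u) M)) (Nat.ble (nat_lit 791) j)) (Nat.ble (nat_lit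 790) j)) (Bool.rec (motive := fun _ => Bool) (mRel MG [T_di, T_di, T_f] [T_b, T_c, T_bi, T_ci, T_bi] M (Nat.sub (MG u) (Nat.mod (MG u) M)) (nat_lit 40) z1 u (Nat.mod (MG u) M)) (Bool.rec (motive := fun _ => Bool) (mRel MG [T_di, T_f, T_f, T_di] [T_fi, T_d, T_d, T_f] M (Nat.sub (MG u) (Nat.mod (MG u) M)) (nat_lit 40) z1 u (Nat.mod (MG u) M)) (mRel MG [T_bi, T_di, T_di, T_f] [T_c, T_bi, T_ci, T_bi] M (Nat.sub (MG u) (Nat.mod (MG u) M)) (nat_lit 40) z1 u (Nat.mod (MG u) M)) (Nat.ble (nat_lit 794) j)) (Nat.ble (nat_lit 793) j)) (Nat.ble (nat_lit 792) j)) (Nat.ble (nat_lit 789) j)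
noncomputable def dM_157 (j z1 z2 u : ℕ) : Bool :=
  Bool.rec (motive := fun _ => Bool) (Bool.rec (motive := fun _ => Bool) (Bool.rec (motive := fun _ => Bool) (mRel MG [T_di, T_fi, T_b] [T_b, T_c, T_d, T_b, T_ci] M (Nat.sub (MG u) (Nat.mod (MG u) M)) (nat_lit 40) z1 u (Nat.mod (MG u) M)) (mRel MG [T_b, T_ci, T_d, T_b, T_f] [T_d, T_fi, T_c] M (Nat.sub (MG u) (Nat.mod (MG u) M)) (nat_lit 40) z1 u (Nat.mod (MG u) M)) (Nat.ble (nat_lit 796) j)) (Bool.rec (motive := fun _ => Bool) (mRel MG [T_di, T_di, T_b, T_di] [T_bi, T_d, T_d, T_b] M (Nat.sub (MG u) (Nat.mod (MG u) M)) (nat_lit 40) z1 u (Nat.mod (MG u) M)) (Bool.rec (motive := fun _ => Bool) (mRel MG [T_d, T_b, T_b, T_ci, T_bi, T_fi, T_b, T_c] [] M (Nat.sub (MG u) (Nat.mod (MG u) M)) (nat_lit 40) z1 u (Nat.mod (MG u) M)) (mRel MG [T_b, T_c, T_c, T_d, T_fi, T_d] [T_ci, T_b] M (Nat.sub (MG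 u) (Nat.mod (MG u) M)) (nat_lit 40) z1 u (Nat.mod (MG u) M)) (Nat.ble (nat_lit 799) j)) (Nat.ble (nat_lit 798) j)) (Nat.ble (nat_lit 797) j)) (Bool.rec (motive := fun _ => Bool) (Bool.rec (motive := fun _ => Bool) (mRel MG [T_ci, T_di, T_c] [T_bi, T_ci, T_d, T_c, T_bi] M (Nat.sub (MG u) (Nat.mod (MG u) M)) (nat_lit 40) z1 u (Nat.mod (MG u) M)) (Bool.rec (motive := fun _ => Bool) (mRel MG [T_di, T_ci, T_ei, T_fi] [T_fi, T_di, T_e, T_fi, T_ei] M (Nat.sub (MG u) (Nat.mod (MG u) M)) (nat_lit 40) z1 u (Nat.mod (MG u) M)) (mRel MG [T_bi, T_fi, T_b, T_c, T_d, T_b] [T_c, T_bi] M (Nat.sub (MG u) (Nat.mod (MG u) M)) (nat_lit 40) z1 u (Nat.mod (MG u) M)) (Nat.ble (nat_lit 802) j)) (Nat.ble (nat_lit 801) j)) (Bool.rec (motive := fun _ => Bool) (mRel MG [T_b, T_f] [T_bi, T_f, T_b, T_f, T_di, T_c] M (Nat.sub (MG u) (Nat.mod (MG u) M)) (nat_lit 40) z1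 u (Nat.mod (MG u) M)) (Bool.rec (motive := fun _ => Bool) (mRel MG [T_ci, T_b] [T_b, T_c, T_c, T_d, T_fi, T_d] M (Nat.sub (MG u) (Nat.mod (MG u) M)) (nat_lit 40) z1 u (Nat.mod (MG u) M)) (mRel MG [T_c, T_b, T_ci, T_ci] [T_b, T_ci, T_ci, T_d] M (Nat.sub (MG u) (Nat.mod (MG u) M)) (nat_lit 40) z1 u (Nat.mod (MG u) M)) (Nat.ble (nat_lit 805) j)) (Nat.ble (nat_lit 804) j)) (Nat.ble (nat_lit 803) j)) (Nat.ble (nat_lit 800) j)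
noncomputable def dM_158 (j z1 z2 u : ℕ) : Bool :=
  Bool.rec (motive := fun _ => Bool) (dM_156 j z1 z2 u) (dM_157 j z1 z2 u) (Nat.ble (nat_lit 795) j)
noncomputable def dM_159 (j z1 z2 u : ℕ) : Bool :=
  Bool.rec (motive := fun _ => Bool) (dM_155 j z1 z2 u) (dM_158 j z1 z2 u) (Nat.ble (nat_lit 784) j)
noncomputable def dM_160 (j z1 z2 u : ℕ) : Bool :=
  Bool.rec (motive := fun _ => Bool) (dM_152 j z1 z2 u) (dM_159 j z1 z2 u) (Nat.ble (nat_lit 763) j)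
noncomputable def dM_161 (j z1 z2 u : ℕ) : Bool :=
  Bool.rec (motive := fun _ => Bool) (dM_145 j z1 z2 u) (dM_160 j z1 z2 u) (Nat.ble (nat_lit 720) j)
noncomputable def dM_162 (j z1 z2 u : ℕ) : Bool :=
  Bool.rec (motive := fun _ => Bool) (Bool.rec (motive := fun _ => Bool) (Bool.rec (motive := fun _ => Bool) (mRel MG [T_b, T_di, T_f, T_c, T_b] [T_fi, T_di, T_ci] M (Nat.sub (MG u) (Nat.mod (MG u) M)) (nat_lit 40) z1 u (Nat.mod (MG u) M)) (mRel MG [T_d, T_f] [T_bi, T_c, T_b, T_d, T_ci, T_fi] M (Nat.sub (MG u) (Nat.mod (MG u) M)) (nat_lit 40) z1 u (Nat.mod (MG u) M)) (Nat.ble (nat_lit 807) j)) (Bool.rec (motive := fun _ => Bool) (mRel MG [T_bi, T_d, T_c, T_b, T_b] [T_f, T_f, T_c] M (Nat.sub (MG u) (Nat.mod (MG u) M)) (nat_lit 40) z1 u (Nat.mod (MG u) M)) (Bool.rec (motive := fun _ => Bool) (mRel MG [T_d, T_ci, T_ci, T_b, T_d] [T_bi, T_c,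 T_c] M (Nat.sub (MG u) (Nat.mod (MG u) M)) (nat_lit 40) z1 u (Nat.mod (MG u) M)) (mRel MG [T_di, T_f, T_di, T_ci] [T_bi, T_c, T_b, T_c] M (Nat.sub (MG u) (Nat.mod (MG u) M)) (nat_lit 40) z1 u (Nat.mod (MG u) M)) (Nat.ble (nat_lit 810) j)) (Nat.ble (nat_lit 809) j)) (Nat.ble (nat_lit 808) j)) (Bool.rec (motive := fun _ => Bool) (Bool.rec (motive := fun _ => Bool) (mRel MG [T_b, T_c, T_d, T_b, T_ci, T_bi] [T_di, T_fi] M (Nat.sub (MG u) (Nat.mod (MG u) M)) (nat_lit 40) z1 u (Nat.mod (MG u) M)) (mRel MG [T_di, T_f] [T_ci, T_ei, T_fi, T_e, T_f, T_ei, T_fi] M (Nat.sub (MG u) (Nat.mod (MG u) M)) (nat_lit 40) z1 u (Nat.mod (MG u) M)) (Nat.ble (nat_lit 812) j)) (Bool.rec (motive := fun _ => Bool) (mRel MG [T_ei, T_fi, T_e, T_fi, T_d, T_ci, T_fi, T_e, T_f] [] M (Nat.sub (MG u) (Nat.mod (MG u) M)) (nat_lit 40) z1 u (Nat.mod (MG u) M)) (Bool.rec (motive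 := fun _ => Bool) (mRel MG [T_bi, T_e, T_c, T_e, T_bi, T_e, T_c] [T_ei] M (Nat.sub (MG u) (Nat.mod (MG u) M)) (nat_lit 40) z1 u (Nat.mod (MG u) M)) (mRel MG [T_c, T_d, T_b] [T_bi, T_di, T_fi, T_b, T_c] M (Nat.sub (MG u) (Nat.mod (MG u) M)) (nat_lit 40) z1 u (Nat.mod (MG u) M)) (Nat.ble (nat_lit 815) j)) (Nat.ble (nat_lit 814) j)) (Nat.ble (nat_lit 813) j)) (Nat.ble (nat_lit 811) j)
noncomputable def dM_163 (j z1 z2 u : ℕ) : Bool :=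
  Bool.rec (motive := fun _ => Bool) (Bool.rec (motive := fun _ => Bool) (Bool.rec (motive := fun _ => Bool) (mRel MG [T_ci, T_bi, T_d, T_ci, T_b] [T_di, T_c, T_d] M (Nat.sub (MG u) (Nat.mod (MG u) M)) (nat_lit 40) z1 u (Nat.mod (MG u) M)) (mRel MG [T_bi, T_di, T_fi, T_b] [T_c, T_d, T_b, T_ci] M (Nat.sub (MG u) (Nat.mod (MG u) M)) (nat_lit 40) z1 u (Nat.mod (MG u) M)) (Nat.ble (nat_lit 817) j)) (Bool.rec (motive := fun _ => Bool) (mRel MG [T_f, T_b, T_fi, T_c, T_c, T_fi] [T_ci, T_b] M (Nat.sub (MG u) (Nat.mod (MG u) M)) (nat_lit 40) z1 u (Nat.mod (MG u) M)) (Bool.rec (motive := fun _ => Bool) (mRel MG [T_d, T_fi, T_c, T_fi, T_bi, T_di] [T_b, T_ci] M (Nat.sub (MG u) (Nat.mod (MG u) M)) (nat_lit 40) z1 u (Nat.mod (MG u) M)) (mRel MG [T_b, T_c, T_d, T_b, T_ci] [T_di, T_fi, T_b] M (Nat.sub (MG u) (Nat.mod (MG u) M)) (nat_lit 40) z1 u (Nat.mod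 (MG u) M)) (Nat.ble (nat_lit 820) j)) (Nat.ble (nat_lit 819) j)) (Nat.ble (nat_lit 818) j)) (Bool.rec (motive := fun _ => Bool) (Bool.rec (motive := fun _ => Bool) (mRel MG [T_d, T_fi, T_bi, T_fi, T_b] [T_c, T_fi, T_bi] M (Nat.sub (MG u) (Nat.mod (MG u) M)) (nat_lit 40) z1 u (Nat.mod (MG u) M)) (Bool.rec (motive := fun _ => Bool) (mRel MG [T_b, T_ci, T_bi] [T_di, T_ci, T_bi, T_di, T_fi] M (Nat.sub (MG u) (Nat.mod (MG u) M)) (nat_lit 40) z1 u (Nat.mod (MG u) M)) (mRel MG [T_d, T_ci, T_f, T_d, T_d, T_ci, T_f] [T_di] M (Nat.sub (MG u) (Nat.mod (MG u) M)) (nat_lit 40) z1 u (Nat.mod (MG u) M)) (Nat.ble (nat_lit 823) j)) (Nat.ble (nat_lit 822) j)) (Bool.rec (motive := fun _ => Bool) (mRel MG [T_bi, T_di, T_c, T_fi] [T_ci, T_di, T_ci, T_bi] M (Nat.sub (MG u) (Nat.mod (MG u) M)) (nat_lit 40) z1 u (Nat.mod (MG u) M)) (Bool.rec (motive := fun _ =>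 Bool) (mRel MG [T_bi, T_c, T_d, T_f, T_ci, T_b] [T_di, T_f] M (Nat.sub (MG u) (Nat.mod (MG u) M)) (nat_lit 40) z1 u (Nat.mod (MG u) M)) (mRel MG [T_fi, T_b, T_c] [T_ci, T_d, T_b, T_ci, T_di] M (Nat.sub (MG u) (Nat.mod (MG u) M)) (nat_lit 40) z1 u (Nat.mod (MG u) M)) (Nat.ble (nat_lit 826) j)) (Nat.ble (nat_lit 825) j)) (Nat.ble (nat_lit 824) j)) (Nat.ble (nat_lit 821) j)
noncomputable def dM_164 (j z1 z2 u : ℕ) : Bool :=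
  Bool.rec (motive := fun _ => Bool) (dM_162 j z1 z2 u) (dM_163 j z1 z2 u) (Nat.ble (nat_lit 816) j)
noncomputable def dM_165 (j z1 z2 u : ℕ) : Bool :=
  Bool.rec (motive := fun _ => Bool) (Bool.rec (motive := fun _ => Bool) (Bool.rec (motive := fun _ => Bool) (mRel MG [T_fi, T_b, T_c, T_d] [T_b, T_c, T_bi, T_bi] M (Nat.sub (MG u) (Nat.mod (MG u) M)) (nat_lit 40) z1 u (Nat.mod (MG u) M)) (mRel MG [T_fi, T_di, T_fi, T_b, T_c] [T_b, T_c, T_bi] M (Nat.sub (MG u) (Nat.mod (MG u) M)) (nat_lit 40) z1 u (Nat.mod (MG u) M)) (Nat.ble (nat_lit 828) j)) (Bool.rec (motive := fun _ => Bool) (mRel MG [T_c, T_di] [T_fi, T_b, T_c, T_c, T_b, T_ci, T_fi] M (Nat.sub (MG u) (Nat.mod (MG u) M)) (nat_lit 40) z1 u (Nat.mod (MG u) M)) (Bool.rec (motive := fun _ => Bool) (mRel MG [T_bi, T_c] [T_e, T_di, T_fi, T_bi, T_f, T_e, T_f] M (Nat.sub (MG u) (Nat.mod (MG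 u) M)) (nat_lit 40) z1 u (Nat.mod (MG u) M)) (mRel MG [T_e, T_fi, T_ei] [T_fi, T_fi, T_d, T_ci, T_ei, T_fi] M (Nat.sub (MG u) (Nat.mod (MG u) M)) (nat_lit 40) z1 u (Nat.mod (MG u) M)) (Nat.ble (nat_lit 831) j)) (Nat.ble (nat_lit 830) j)) (Nat.ble (nat_lit 829) j)) (Bool.rec (motive := fun _ => Bool) (Bool.rec (motive := fun _ => Bool) (mRel MG [T_ci, T_b] [T_bi, T_c, T_bi, T_c, T_bi, T_c] M (Nat.sub (MG u) (Nat.mod (MG u) M)) (nat_lit 40) z1 u (Nat.mod (MG u) M)) (Bool.rec (motive := fun _ => Bool) (mRel MG [T_di, T_b, T_di, T_bi, T_di] [T_d, T_bi, T_d] M (Nat.sub (MG u) (Nat.mod (MG u) M)) (nat_lit 40) z1 u (Nat.mod (MG u) M)) (mRel MG [T_c, T_b, T_c, T_fi] [T_fi, T_b, T_b, T_di, T_f] M (Nat.sub (MG u) (Nat.mod (MG u) M)) (nat_lit 40) z1 u (Nat.mod (MG u) M)) (Nat.ble (nat_lit 834) j)) (Nat.ble (nat_lit 833) j)) (Bool.rec (motive := fun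 _ => Bool) (mRel MG [T_bi, T_di] [T_f, T_ci, T_f, T_di, T_b, T_ci] M (Nat.sub (MG u) (Nat.mod (MG u) M)) (nat_lit 40) z1 u (Nat.mod (MG u) M)) (Bool.rec (motive := fun _ => Bool) (mRel MG [T_c, T_di, T_b, T_c, T_di, T_c, T_d, T_bi] [] M (Nat.sub (MG u) (Nat.mod (MG u) M)) (nat_lit 40) z1 u (Nat.mod (MG u) M)) (mRel MG [T_bi, T_d, T_fi, T_di, T_b, T_c, T_d, T_ci] [] M (Nat.sub (MG u) (Nat.mod (MG u) M)) (nat_lit 40) z1 u (Nat.mod (MG u) M)) (Nat.ble (nat_lit 837) j)) (Nat.ble (nat_lit 836) j)) (Nat.ble (nat_lit 835) j)) (Nat.ble (nat_lit 832) j)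
noncomputable def dM_166 (j z1 z2 u : ℕ) : Bool :=
  Bool.rec (motive := fun _ => Bool) (Bool.rec (motive := fun _ => Bool) (Bool.rec (motive := fun _ => Bool) (mRel MG [T_bi, T_fi, T_c] [T_ci, T_fi, T_b, T_di, T_di] M (Nat.sub (MG u) (Nat.mod (MG u) M)) (nat_lit 40) z1 u (Nat.mod (MG u) M)) (mRel MG [T_d, T_d, T_bi, T_f] [T_ci, T_f, T_b, T_ci] M (Nat.sub (MG u) (Nat.mod (MG u) M)) (nat_lit 40) z1 u (Nat.mod (MG u) M)) (Nat.ble (nat_lit 839) j)) (Bool.rec (motive := fun _ => Bool) (mRel MG [T_ci, T_ci, T_b] [T_di, T_bi, T_c, T_c, T_di] M (Nat.sub (MG u) (Nat.mod (MG u) M)) (nat_lit 40) z1 u (Nat.mod (MG u) M)) (Bool.rec (motive := fun _ => Bool) (mRel MG [T_d, T_b, T_b, T_ci, T_bi] [T_ci, T_bi, T_f] M (Nat.sub (MG u) (Nat.mod (MG u) M)) (nat_lit 40) z1 u (Nat.mod (MG u) M)) (mRel MG [T_di, T_b, T_fi, T_di, T_di, T_ci, T_b, T_ci, T_f] []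 M (Nat.sub (MG u) (Nat.mod (MG u) M)) (nat_lit 40) z1 u (Nat.mod (MG u) M)) (Nat.ble (nat_lit 842) j)) (Nat.ble (nat_lit 841) j)) (Nat.ble (nat_lit 840) j)) (Bool.rec (motive := fun _ => Bool) (Bool.rec (motive := fun _ => Bool) (mRel MG [T_b, T_di, T_di, T_ci, T_f, T_b] [T_f, T_c] M (Nat.sub (MG u) (Nat.mod (MG u) M)) (nat_lit 40) z1 u (Nat.mod (MG u) M)) (Bool.rec (motive := fun _ => Bool) (mRel MG [T_b, T_ci, T_bi, T_f] [T_di, T_ci, T_bi, T_di] M (Nat.sub (MG u) (Nat.mod (MG u) M)) (nat_lit 40) z1 u (Nat.mod (MG u) M)) (mRel MG [T_di, T_ci, T_bi, T_d, T_f, T_di] [T_ci, T_bi] M (Nat.sub (MG u) (Nat.mod (MG u) M)) (nat_lit 40) z1 u (Nat.mod (MG u) M)) (Nat.ble (nat_lit 845) j)) (Nat.ble (nat_lit 844) j)) (Bool.rec (motive := fun _ => Bool) (mRel MG [T_b, T_ci, T_bi, T_di, T_di, T_f, T_b] [T_ci] M (Nat.sub (MG u) (Nat.mod (MG u) M)) (nat_lit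 40) z1 u (Nat.mod (MG u) M)) (Bool.rec (motive := fun _ => Bool) (mRel MG [T_fi, T_b, T_c, T_d, T_c, T_bi, T_di] [T_ci] M (Nat.sub (MG u) (Nat.mod (MG u) M)) (nat_lit 40) z1 u (Nat.mod (MG u) M)) (mRel MG [T_c, T_d, T_ci, T_bi, T_d, T_fi] [T_bi, T_d] M (Nat.sub (MG u) (Nat.mod (MG u) M)) (nat_lit 40) z1 u (Nat.mod (MG u) M)) (Nat.ble (nat_lit 848) j)) (Nat.ble (nat_lit 847) j)) (Nat.ble (nat_lit 846) j)) (Nat.ble (nat_lit 843) j)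
noncomputable def dM_167 (j z1 z2 u : ℕ) : Bool :=
  Bool.rec (motive := fun _ => Bool) (dM_165 j z1 z2 u) (dM_166 j z1 z2 u) (Nat.ble (nat_lit 838) j)
noncomputable def dM_168 (j z1 z2 u : ℕ) : Bool :=
  Bool.rec (motive := fun _ => Bool) (dM_164 j z1 z2 u) (dM_167 j z1 z2 u) (Nat.ble (nat_lit 827) j)
noncomputable def dM_169 (j z1 z2 u : ℕ) : Bool :=
  Bool.rec (motive := fun _ => Bool) (Bool.rec (motive := fun _ => Bool) (Bool.rec (motive := fun _ => Bool) (mRel MG [T_c, T_bi, T_di] [T_bi, T_f, T_d, T_b, T_c] M (Nat.sub (MG u) (Nat.mod (MG u) M)) (nat_lit 40) z1 u (Nat.mod (MG u) M)) (mRel MG [T_fi, T_c, T_c, T_fi, T_bi, T_c] [T_bi, T_fi] M (Nat.sub (MG u) (Nat.mod (MG u) M)) (nat_lit 40) z1 u (Nat.mod (MG u) M)) (Nat.ble (nat_lit 850) j)) (Bool.rec (motive := fun _ => Bool) (mRel MG [T_f, T_bi, T_fi, T_ci, T_b, T_f, T_ci] [T_c] M (Nat.sub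 (MG u) (Nat.mod (MG u) M)) (nat_lit 40) z1 u (Nat.mod (MG u) M)) (Bool.rec (motive := fun _ => Bool) (mRel MG [T_c, T_c, T_bi] [T_di, T_c, T_c, T_bi, T_c] M (Nat.sub (MG u) (Nat.mod (MG u) M)) (nat_lit 40) z1 u (Nat.mod (MG u) M)) (mRel MG [T_e, T_fi, T_ei, T_f, T_e, T_c, T_di] [T_fi, T_fi] M (Nat.sub (MG u) (Nat.mod (MG u) M)) (nat_lit 40) z1 u (Nat.mod (MG u) M)) (Nat.ble (nat_lit 853) j)) (Nat.ble (nat_lit 852) j)) (Nat.ble (nat_lit 851) j)) (Bool.rec (motive := fun _ => Bool) (Bool.rec (motive := fun _ => Bool) (mRel MG [T_c, T_bi, T_di, T_ci, T_bi] [T_bi, T_f, T_d] M (Nat.sub (MG u) (Nat.mod (MG u) M)) (nat_lit 40) z1 u (Nat.mod (MG u) M)) (mRel MG [T_bi, T_d, T_d, T_bi, T_d] [T_di, T_bi, T_di] M (Nat.sub (MG u) (Nat.mod (MG u) M)) (nat_lit 40) z1 u (Nat.mod (MG u) M)) (Nat.ble (nat_lit 855) j)) (Bool.rec (motive := fun _ => Bool)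 (mRel MG [T_di, T_b, T_c, T_d, T_ci, T_bi] [T_f, T_di] M (Nat.sub (MG u) (Nat.mod (MG u) M)) (nat_lit 40) z1 u (Nat.mod (MG u) M)) (Bool.rec (motive := fun _ => Bool) (mRel MG [T_fi, T_e, T_f, T_ei, T_fi] [T_e, T_c, T_di, T_f] M (Nat.sub (MG u) (Nat.mod (MG u) M)) (nat_lit 40) z1 u (Nat.mod (MG u) M)) (mRel MG [T_d, T_b] [T_ci, T_bi, T_di, T_fi, T_b, T_c] M (Nat.sub (MG u) (Nat.mod (MG u) M)) (nat_lit 40) z1 u (Nat.mod (MG u) M)) (Nat.ble (nat_lit 858) j)) (Nat.ble (nat_lit 857) j)) (Nat.ble (nat_lit 856) j)) (Nat.ble (nat_lit 854) j)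
noncomputable def dM_170 (j z1 z2 u : ℕ) : Bool :=
  Bool.rec (motive := fun _ => Bool) (Bool.rec (motive := fun _ => Bool) (Bool.rec (motive := fun _ => Bool) (mRel MG [T_fi, T_bi, T_f, T_e, T_f, T_ci, T_b, T_e, T_di] [] M (Nat.sub (MG u) (Nat.mod (MG u) M)) (nat_lit 40) z1 u (Nat.mod (MG u) M)) (mRel MG [T_bi, T_d, T_fi, T_c, T_fi, T_bi, T_di] [T_ci] M (Nat.sub (MG u) (Nat.mod (MG u) M)) (nat_lit 40) z1 u (Nat.mod (MG u) M)) (Nat.ble (nat_lit 860) j)) (Bool.rec (motive := fun _ => Bool) (mRel MG [T_bi, T_c, T_bi, T_c, T_bi, T_c, T_bi, T_c] [] M (Nat.sub (MG u) (Nat.mod (MG u) M)) (nat_lit 40) z1 u (Nat.mod (MG u) M)) (Bool.rec (motive := fun _ => Bool) (mRel MG [T_b, T_f, T_di, T_c] [T_fi, T_b, T_b, T_f] M (Nat.sub (MG u) (Nat.mod (MG u) M)) (nat_lit 40) z1 u (Nat.mod (MG u) M)) (mRel MG [T_c, T_bi, T_di, T_c, T_fi, T_b] [T_di, T_ci]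 M (Nat.sub (MG u) (Nat.mod (MG u) M)) (nat_lit 40) z1 u (Nat.mod (MG u) M)) (Nat.ble (nat_lit 863) j)) (Nat.ble (nat_lit 862) j)) (Nat.ble (nat_lit 861) j)) (Bool.rec (motive := fun _ => Bool) (Bool.rec (motive := fun _ => Bool) (mRel MG [T_d, T_f, T_d] [T_di, T_f, T_di, T_f, T_f] M (Nat.sub (MG u) (Nat.mod (MG u) M)) (nat_lit 40) z1 u (Nat.mod (MG u) M)) (Bool.rec (motive := fun _ => Bool) (mRel MG [T_fi, T_d, T_bi, T_fi, T_di, T_ci, T_bi, T_ci] [] M (Nat.sub (MG u) (Nat.mod (MG u) M)) (nat_lit 40) z1 u (Nat.mod (MG u) M)) (mRel MG [T_fi, T_ei, T_f, T_c, T_di, T_f] [T_ei, T_fi, T_e] M (Nat.sub (MG u) (Nat.mod (MG u) M)) (nat_lit 40) z1 u (Nat.mod (MG u) M)) (Nat.ble (nat_lit 866) j)) (Nat.ble (nat_lit 865) j)) (Bool.rec (motive := fun _ => Bool) (mRel MG [T_c, T_c, T_fi, T_bi, T_c, T_f] [T_f, T_bi] M (Nat.sub (MG u) (Nat.mod (MG u) M))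 (nat_lit 40) z1 u (Nat.mod (MG u) M)) (Bool.rec (motive := fun _ => Bool) (mRel MG [T_f, T_c, T_bi, T_fi] [T_b, T_di, T_di, T_ci] M (Nat.sub (MG u) (Nat.mod (MG u) M)) (nat_lit 40) z1 u (Nat.mod (MG u) M)) (mRel MG [T_d, T_b, T_ci, T_di, T_ci, T_bi] [T_c, T_fi] M (Nat.sub (MG u) (Nat.mod (MG u) M)) (nat_lit 40) z1 u (Nat.mod (MG u) M)) (Nat.ble (nat_lit 869) j)) (Nat.ble (nat_lit 868) j)) (Nat.ble (nat_lit 867) j)) (Nat.ble (nat_lit 864) j)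
noncomputable def dM_171 (j z1 z2 u : ℕ) : Bool :=
  Bool.rec (motive := fun _ => Bool) (dM_169 j z1 z2 u) (dM_170 j z1 z2 u) (Nat.ble (nat_lit 859) j)
noncomputable def dM_172 (j z1 z2 u : ℕ) : Bool :=
  Bool.rec (motive := fun _ => Bool) (Bool.rec (motive := fun _ => Bool) (Bool.rec (motive := fun _ => Bool) (mRel MG [T_f, T_d, T_f, T_b] [T_b, T_c, T_b, T_ci] M (Nat.sub (MG u) (Nat.mod (MG u) M)) (nat_lit 40) z1 u (Nat.mod (MG u) M)) (mRel MG [T_d, T_d, T_b] [T_f, T_b, T_c, T_b, T_ci] M (Nat.sub (MG u) (Nat.mod (MG u) M)) (nat_lit 40) z1 u (Nat.mod (MG u) M)) (Nat.ble (nat_lit 871) j)) (Bool.rec (motive := fun _ => Bool) (mRel MG [T_f, T_ci, T_ci] [T_bi, T_c, T_f, T_b, T_fi] M (Nat.sub (MG u) (Nat.mod (MG u) M)) (nat_lit 40) z1 u (Nat.mod (MG u) M)) (Bool.rec (motive := fun _ => Bool) (mRel MG [T_bi, T_ci, T_di, T_f, T_bi, T_di, T_di,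 T_fi] [] M (Nat.sub (MG u) (Nat.mod (MG u) M)) (nat_lit 40) z1 u (Nat.mod (MG u) M)) (mRel MG [T_ci, T_fi, T_fi, T_bi, T_d] [T_bi, T_bi, T_ci] M (Nat.sub (MG u) (Nat.mod (MG u) M)) (nat_lit 40) z1 u (Nat.mod (MG u) M)) (Nat.ble (nat_lit 874) j)) (Nat.ble (nat_lit 873) j)) (Nat.ble (nat_lit 872) j)) (Bool.rec (motive := fun _ => Bool) (Bool.rec (motive := fun _ => Bool) (mRel MG [T_b, T_d, T_f, T_f, T_c, T_di] [T_c, T_b] M (Nat.sub (MG u) (Nat.mod (MG u) M)) (nat_lit 40) z1 u (Nat.mod (MG u) M)) (Bool.rec (motive := fun _ => Bool) (mRel MG [T_bi, T_ci, T_b, T_di, T_f] [T_c, T_c, T_d] M (Nat.sub (MG u) (Nat.mod (MG u) M)) (nat_lit 40) z1 u (Nat.mod (MG u) M)) (mRel MG [T_fi, T_bi, T_f, T_e, T_f, T_ci, T_b, T_e] [T_d] M (Nat.sub (MG u) (Nat.mod (MG u) M)) (nat_lit 40) z1 u (Nat.mod (MG u) M)) (Nat.ble (nat_lit 877) j)) (Nat.ble (nat_lit 876)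 j)) (Bool.rec (motive := fun _ => Bool) (mRel MG [T_b, T_ci, T_bi] [T_bi, T_di, T_ci, T_bi, T_f] M (Nat.sub (MG u) (Nat.mod (MG u) M)) (nat_lit 40) z1 u (Nat.mod (MG u) M)) (Bool.rec (motive := fun _ => Bool) (mRel MG [T_f, T_ci, T_f, T_di] [T_bi, T_di, T_c, T_bi] M (Nat.sub (MG u) (Nat.mod (MG u) M)) (nat_lit 40) z1 u (Nat.mod (MG u) M)) (mRel MG [T_f, T_bi, T_di, T_di] [T_d, T_c, T_b, T_f] M (Nat.sub (MG u) (Nat.mod (MG u) M)) (nat_lit 40) z1 u (Nat.mod (MG u) M)) (Nat.ble (nat_lit 880) j)) (Nat.ble (nat_lit 879) j)) (Nat.ble (nat_lit 878) j)) (Nat.ble (nat_lit 875) j)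
noncomputable def dM_173 (j z1 z2 u : ℕ) : Bool :=
  Bool.rec (motive := fun _ => Bool) (Bool.rec (motive := fun _ => Bool) (Bool.rec (motive := fun _ => Bool) (mRel MG [T_bi, T_c, T_fi, T_ei, T_fi, T_b, T_f, T_d] [T_e] M (Nat.sub (MG u) (Nat.mod (MG u) M)) (nat_lit 40) z1 u (Nat.mod (MG u) M)) (mRel MG [T_f, T_ei, T_fi, T_fi, T_d, T_ci, T_ei, T_fi, T_e] [] M (Nat.sub (MG u) (Nat.mod (MG u) M)) (nat_lit 40) z1 u (Nat.mod (MG u) M)) (Nat.ble (nat_lit 882) j)) (Bool.rec (motive := fun _ => Bool) (mRel MG [T_f, T_ci, T_d, T_b, T_ci, T_di, T_ci, T_bi] [] M (Nat.sub (MG u) (Nat.mod (MG u) M)) (nat_lit 40) z1 u (Nat.mod (MG u) M)) (Bool.rec (motive := fun _ => Bool) (mRel MG [T_b, T_ci, T_di, T_ci, T_bi] [T_di, T_c, T_fi] M (Nat.sub (MG u) (Nat.mod (MG u) M)) (nat_lit 40) z1 u (Nat.mod (MG u) M)) (mRel MG [T_b, T_c, T_b, T_ci, T_bi, T_fi, T_di]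 [T_f] M (Nat.sub (MG u) (Nat.mod (MG u) M)) (nat_lit 40) z1 u (Nat.mod (MG u) M)) (Nat.ble (nat_lit 885) j)) (Nat.ble (nat_lit 884) j)) (Nat.ble (nat_lit 883) j)) (Bool.rec (motive := fun _ => Bool) (Bool.rec (motive := fun _ => Bool) (mRel MG [T_bi, T_di, T_di] [T_fi, T_d, T_c, T_b, T_f] M (Nat.sub (MG u) (Nat.mod (MG u) M)) (nat_lit 40) z1 u (Nat.mod (MG u) M)) (Bool.rec (motive := fun _ => Bool) (mRel MG [T_c, T_bi, T_d, T_fi] [T_d, T_b, T_f, T_ci] M (Nat.sub (MG u) (Nat.mod (MG u) M)) (nat_lit 40) z1 u (Nat.mod (MG u) M)) (mRel MG [T_d, T_f, T_di, T_b, T_c] [T_b, T_c, T_d] M (Nat.sub (MG u) (Nat.mod (MG u) M)) (nat_lit 40) z1 u (Nat.mod (MG u) M)) (Nat.ble (nat_lit 888) j)) (Nat.ble (nat_lit 887) j)) (Bool.rec (motive := fun _ => Bool) (mRel MG [T_b, T_f, T_ci] [T_di, T_c, T_bi, T_d, T_fi] M (Nat.sub (MG u) (Nat.mod (MG u) M)) (nat_lit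 40) z1 u (Nat.mod (MG u) M)) (Bool.rec (motive := fun _ => Bool) (mRel MG [T_bi, T_bi, T_ci] [T_ci, T_fi, T_fi, T_bi, T_d] M (Nat.sub (MG u) (Nat.mod (MG u) M)) (nat_lit 40) z1 u (Nat.mod (MG u) M)) (mRel MG [T_di, T_c, T_fi, T_b, T_c, T_d] [T_b, T_ci] M (Nat.sub (MG u) (Nat.mod (MG u) M)) (nat_lit 40) z1 u (Nat.mod (MG u) M)) (Nat.ble (nat_lit 891) j)) (Nat.ble (nat_lit 890) j)) (Nat.ble (nat_lit 889) j)) (Nat.ble (nat_lit 886) j)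
noncomputable def dM_174 (j z1 z2 u : ℕ) : Bool :=
  Bool.rec (motive := fun _ => Bool) (dM_172 j z1 z2 u) (dM_173 j z1 z2 u) (Nat.ble (nat_lit 881) j)
noncomputable def dM_175 (j z1 z2 u : ℕ) : Bool :=
  Bool.rec (motive := fun _ => Bool) (dM_171 j z1 z2 u) (dM_174 j z1 z2 u) (Nat.ble (nat_lit 870) j)
noncomputable def dM_176 (j z1 z2 u : ℕ) : Bool :=
  Bool.rec (motive := fun _ => Bool) (dM_168 j z1 z2 u) (dM_175 j z1 z2 u) (Nat.ble (nat_lit 849) j)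
noncomputable def dM_177 (j z1 z2 u : ℕ) : Bool :=
  Bool.rec (motive := fun _ => Bool) (Bool.rec (motive := fun _ => Bool) (Bool.rec (motive := fun _ => Bool) (mRel MG [T_d, T_ci, T_fi, T_fi, T_di, T_bi, T_c, T_b] [] M (Nat.sub (MG u) (Nat.mod (MG u) M)) (nat_lit 40) z1 u (Nat.mod (MG u) M)) (mRel MG [T_c, T_b, T_c, T_d, T_f] [T_fi, T_d, T_bi] M (Nat.sub (MG u) (Nat.mod (MG u) M)) (nat_lit 40) z1 u (Nat.mod (MG u) M)) (Nat.ble (nat_lit 893) j)) (Bool.rec (motive := fun _ => Bool) (mRel MG [T_di] [T_b, T_ci, T_di, T_ci, T_bi, T_f, T_ci] M (Nat.sub (MG u) (Nat.mod (MG u) M)) (nat_lit 40) z1 u (Nat.mod (MG u) M)) (Bool.rec (motive := fun _ => Bool) (mRel MG [T_f, T_c, T_di] [T_bi, T_d, T_ci, T_fi, T_bi] M (Nat.sub (MG u) (Nat.mod (MG u) M)) (nat_lit 40) z1 u (Nat.mod (MG u) M)) (mRel MG [T_e] [T_fi, T_e, T_f, T_ei, T_d, T_f, T_di, T_ci] M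 (Nat.sub (MG u) (Nat.mod (MG u) M)) (nat_lit 40) z1 u (Nat.mod (MG u) M)) (Nat.ble (nat_lit 896) j)) (Nat.ble (nat_lit 895) j)) (Nat.ble (nat_lit 894) j)) (Bool.rec (motive := fun _ => Bool) (Bool.rec (motive := fun _ => Bool) (mRel MG [T_bi, T_di, T_di, T_b] [T_d, T_bi, T_d, T_d] M (Nat.sub (MG u) (Nat.mod (MG u) M)) (nat_lit 40) z1 u (Nat.mod (MG u) M)) (mRel MG [T_f, T_b, T_f, T_di, T_c, T_fi] [T_b, T_b] M (Nat.sub (MG u) (Nat.mod (MG u) M)) (nat_lit 40) z1 u (Nat.mod (MG u) M)) (Nat.ble (nat_lit 898) j)) (Bool.rec (motive := fun _ => Bool) (mRel MG [T_ci, T_b, T_di, T_ci, T_d, T_ci] [T_di, T_b] M (Nat.sub (MG u) (Nat.mod (MG u) M)) (nat_lit 40) z1 u (Nat.mod (MG u) M)) (Bool.rec (motive := fun _ => Bool) (mRel MG [T_di, T_di, T_f, T_b, T_c, T_b, T_ci, T_bi] [] M (Nat.sub (MG u) (Nat.mod (MG u) M)) (nat_lit 40) z1 u (Nat.mod (MG u) M))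 (mRel MG [T_b, T_e, T_di, T_fi, T_bi, T_f] [T_c, T_fi, T_ei] M (Nat.sub (MG u) (Nat.mod (MG u) M)) (nat_lit 40) z1 u (Nat.mod (MG u) M)) (Nat.ble (nat_lit 901) j)) (Nat.ble (nat_lit 900) j)) (Nat.ble (nat_lit 899) j)) (Nat.ble (nat_lit 897) j)
noncomputable def dM_178 (j z1 z2 u : ℕ) : Bool :=
  Bool.rec (motive := fun _ => Bool) (Bool.rec (motive := fun _ => Bool) (Bool.rec (motive := fun _ => Bool) (mRel MG [T_bi, T_c, T_bi, T_c, T_bi, T_c, T_bi] [T_ci] M (Nat.sub (MG u) (Nat.mod (MG u) M)) (nat_lit 40) z1 u (Nat.mod (MG u) M)) (mRel MG [T_b, T_d, T_ci] [T_c, T_c, T_di, T_bi, T_c] M (Nat.sub (MG u) (Nat.mod (MG u) M)) (nat_lit 40) z1 u (Nat.mod (MG u) M)) (Nat.ble (nat_lit 903) j)) (Bool.rec (motive := fun _ => Bool) (mRel MG [T_ci, T_b, T_ci] [T_b, T_ci, T_ci, T_di, T_c] M (Nat.sub (MG u) (Nat.mod (MG u) M)) (nat_lit 40) z1 u (Nat.mod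 (MG u) M)) (Bool.rec (motive := fun _ => Bool) (mRel MG [T_d, T_c, T_c, T_bi, T_ci] [T_c, T_c, T_bi] M (Nat.sub (MG u) (Nat.mod (MG u) M)) (nat_lit 40) z1 u (Nat.mod (MG u) M)) (mRel MG [T_bi, T_ci, T_di, T_f] [T_f, T_d, T_d, T_b] M (Nat.sub (MG u) (Nat.mod (MG u) M)) (nat_lit 40) z1 u (Nat.mod (MG u) M)) (Nat.ble (nat_lit 906) j)) (Nat.ble (nat_lit 905) j)) (Nat.ble (nat_lit 904) j)) (Bool.rec (motive := fun _ => Bool) (Bool.rec (motive := fun _ => Bool) (mRel MG [T_bi, T_c, T_di, T_b, T_c, T_di, T_c, T_d] [] M (Nat.sub (MG u) (Nat.mod (MG u) M)) (nat_lit 40) z1 u (Nat.mod (MG u) M)) (Bool.rec (motive := fun _ => Bool) (mRel MG [T_bi, T_f, T_b, T_f, T_di, T_c] [T_b, T_f] M (Nat.sub (MG u) (Nat.mod (MG u) M)) (nat_lit 40) z1 u (Nat.mod (MG u) M)) (mRel MG [T_di, T_c, T_fi, T_b, T_c] [T_b, T_ci, T_di] M (Nat.sub (MG u) (Nat.mod (MG u) M))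 (nat_lit 40) z1 u (Nat.mod (MG u) M)) (Nat.ble (nat_lit 909) j)) (Nat.ble (nat_lit 908) j)) (Bool.rec (motive := fun _ => Bool) (mRel MG [T_d, T_ci, T_ei, T_fi, T_e, T_f, T_ei, T_fi] [T_f] M (Nat.sub (MG u) (Nat.mod (MG u) M)) (nat_lit 40) z1 u (Nat.mod (MG u) M)) (Bool.rec (motive := fun _ => Bool) (mRel MG [T_fi, T_fi, T_bi, T_d] [T_c, T_bi, T_bi, T_ci] M (Nat.sub (MG u) (Nat.mod (MG u) M)) (nat_lit 40) z1 u (Nat.mod (MG u) M)) (mRel MG [T_f] [T_e, T_f, T_ei, T_d, T_f, T_di, T_ci, T_ei] M (Nat.sub (MG u) (Nat.mod (MG u) M)) (nat_lit 40) z1 u (Nat.mod (MG u) M)) (Nat.ble (nat_lit 912) j)) (Nat.ble (nat_lit 911) j)) (Nat.ble (nat_lit 910) j)) (Nat.ble (nat_lit 907) j)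
noncomputable def dM_179 (j z1 z2 u : ℕ) : Bool :=
  Bool.rec (motive := fun _ => Bool) (dM_177 j z1 z2 u) (dM_178 j z1 z2 u) (Nat.ble (nat_lit 902) j)
noncomputable def dM_180 (j z1 z2 u : ℕ) : Bool :=
  Bool.rec (motive := fun _ => Bool) (Bool.rec (motive := fun _ => Bool) (Bool.rec (motive := fun _ => Bool) (mRel MG [T_c, T_di, T_f, T_ei] [T_fi, T_e, T_f, T_ei, T_fi] M (Nat.sub (MG u) (Nat.mod (MG u) M)) (nat_lit 40) z1 u (Nat.mod (MG u) M)) (mRel MG [T_bi, T_di, T_ci, T_bi, T_f] [T_b, T_ci, T_bi] M (Nat.sub (MG u) (Nat.mod (MG u) M)) (nat_lit 40) z1 u (Nat.mod (MG u) M)) (Nat.ble (nat_lit 914) j)) (Bool.rec (motive := fun _ => Bool) (mRel MG [T_fi, T_d, T_bi, T_fi] [T_c, T_b, T_c, T_d] M (Nat.sub (MG u) (Nat.mod (MG u) M)) (nat_lit 40) z1 u (Nat.mod (MG u) M)) (Bool.rec (motive := fun _ => Bool) (mRel MG [T_fi, T_fi, T_d, T_ci, T_ei,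 T_fi, T_e, T_f, T_ei] [] M (Nat.sub (MG u) (Nat.mod (MG u) M)) (nat_lit 40) z1 u (Nat.mod (MG u) M)) (mRel MG [T_f, T_bi, T_c, T_fi] [T_d, T_bi, T_c, T_d] M (Nat.sub (MG u) (Nat.mod (MG u) M)) (nat_lit 40) z1 u (Nat.mod (MG u) M)) (Nat.ble (nat_lit 917) j)) (Nat.ble (nat_lit 916) j)) (Nat.ble (nat_lit 915) j)) (Bool.rec (motive := fun _ => Bool) (Bool.rec (motive := fun _ => Bool) (mRel MG [T_d, T_ci, T_ci] [T_bi, T_c, T_c, T_di, T_bi] M (Nat.sub (MG u) (Nat.mod (MG u) M)) (nat_lit 40) z1 u (Nat.mod (MG u) M)) (Bool.rec (motive := fun _ => Bool) (mRel MG [T_di, T_ci, T_bi, T_di, T_fi, T_b] [T_b, T_ci] M (Nat.sub (MG u) (Nat.mod (MG u) M)) (nat_lit 40) z1 u (Nat.mod (MG u) M)) (mRel MG [T_b, T_ci, T_bi, T_f, T_d, T_b, T_c] [T_di] M (Nat.sub (MG u) (Nat.mod (MG u) M)) (nat_lit 40) z1 u (Nat.mod (MG u) M)) (Nat.ble (nat_lit 920) j)) (Nat.ble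 (nat_lit 919) j)) (Bool.rec (motive := fun _ => Bool) (mRel MG [T_di, T_c, T_fi, T_b, T_c, T_d, T_c, T_bi] [] M (Nat.sub (MG u) (Nat.mod (MG u) M)) (nat_lit 40) z1 u (Nat.mod (MG u) M)) (Bool.rec (motive := fun _ => Bool) (mRel MG [T_bi, T_di, T_c, T_fi, T_b, T_c] [T_ci, T_di] M (Nat.sub (MG u) (Nat.mod (MG u) M)) (nat_lit 40) z1 u (Nat.mod (MG u) M)) (mRel MG [T_e, T_fi, T_ei, T_f, T_c, T_di, T_f, T_ei, T_f] [] M (Nat.sub (MG u) (Nat.mod (MG u) M)) (nat_lit 40) z1 u (Nat.mod (MG u) M)) (Nat.ble (nat_lit 923) j)) (Nat.ble (nat_lit 922) j)) (Nat.ble (nat_lit 921) j)) (Nat.ble (nat_lit 918) j)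
noncomputable def dM_181 (j z1 z2 u : ℕ) : Bool :=
  Bool.rec (motive := fun _ => Bool) (Bool.rec (motive := fun _ => Bool) (Bool.rec (motive := fun _ => Bool) (mRel MG [T_f, T_e, T_fi, T_ei, T_f, T_c] [T_e, T_fi, T_d] M (Nat.sub (MG u) (Nat.mod (MG u) M)) (nat_lit 40) z1 u (Nat.mod (MG u) M)) (mRel MG [T_e, T_f, T_ei, T_fi, T_fi, T_d, T_ci, T_ei, T_fi] [] M (Nat.sub (MG u) (Nat.mod (MG u) M)) (nat_lit 40) z1 u (Nat.mod (MG u) M)) (Nat.ble (nat_lit 925) j)) (Bool.rec (motive := fun _ => Bool) (mRel MG [T_c, T_fi, T_bi, T_bi] [T_d, T_fi, T_bi, T_fi] M (Nat.sub (MG u) (Nat.mod (MG u) M)) (nat_lit 40) z1 u (Nat.mod (MG u) M)) (Bool.rec (motive := fun _ => Bool) (mRel MG [T_b, T_f, T_ci, T_d, T_fi] [T_bi, T_f, T_b] M (Nat.sub (MG u) (Nat.mod (MG u) M)) (nat_lit 40) z1 u (Nat.mod (MG u) M)) (mRel MG [T_di, T_ci, T_d, T_ci, T_bi] [T_bi, T_c,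 T_di] M (Nat.sub (MG u) (Nat.mod (MG u) M)) (nat_lit 40) z1 u (Nat.mod (MG u) M)) (Nat.ble (nat_lit 928) j)) (Nat.ble (nat_lit 927) j)) (Nat.ble (nat_lit 926) j)) (Bool.rec (motive := fun _ => Bool) (Bool.rec (motive := fun _ => Bool) (mRel MG [T_f, T_e, T_fi, T_ei, T_f, T_e, T_c] [T_fi, T_d] M (Nat.sub (MG u) (Nat.mod (MG u) M)) (nat_lit 40) z1 u (Nat.mod (MG u) M)) (Bool.rec (motive := fun _ => Bool) (mRel MG [T_fi, T_e, T_fi, T_d, T_ci, T_fi] [T_e, T_fi, T_ei] M (Nat.sub (MG u) (Nat.mod (MG u) M)) (nat_lit 40) z1 u (Nat.mod (MG u) M)) (mRel MG [T_d, T_b, T_c] [T_fi, T_b, T_c, T_bi, T_di] M (Nat.sub (MG u) (Nat.mod (MG u) M)) (nat_lit 40) z1 u (Nat.mod (MG u) M)) (Nat.ble (nat_lit 931) j)) (Nat.ble (nat_lit 930) j)) (Bool.rec (motive := fun _ => Bool) (mRel MG [T_fi] [T_e, T_f, T_ci, T_b, T_e, T_di, T_fi, T_bi] M (Nat.sub (MG u) (Nat.mod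 (MG u) M)) (nat_lit 40) z1 u (Nat.mod (MG u) M)) (Bool.rec (motive := fun _ => Bool) (mRel MG [T_ci, T_bi, T_d, T_fi, T_di, T_b, T_c, T_d] [] M (Nat.sub (MG u) (Nat.mod (MG u) M)) (nat_lit 40) z1 u (Nat.mod (MG u) M)) (mRel MG [T_e, T_f, T_ei, T_fi] [T_f, T_c, T_di, T_f, T_ei] M (Nat.sub (MG u) (Nat.mod (MG u) M)) (nat_lit 40) z1 u (Nat.mod (MG u) M)) (Nat.ble (nat_lit 934) j)) (Nat.ble (nat_lit 933) j)) (Nat.ble (nat_lit 932) j)) (Nat.ble (nat_lit 929) j)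
noncomputable def dM_182 (j z1 z2 u : ℕ) : Bool :=
  Bool.rec (motive := fun _ => Bool) (dM_180 j z1 z2 u) (dM_181 j z1 z2 u) (Nat.ble (nat_lit 924) j)
noncomputable def dM_183 (j z1 z2 u : ℕ) : Bool :=
  Bool.rec (motive := fun _ => Bool) (dM_179 j z1 z2 u) (dM_182 j z1 z2 u) (Nat.ble (nat_lit 913) j)
noncomputable def dM_184 (j z1 z2 u : ℕ) : Bool :=
  Bool.rec (motive := fun _ => Bool) (Bool.rec (motive := fun _ => Bool) (Bool.rec (motive := fun _ => Bool) (mRel MG [T_bi, T_di] [T_c, T_bi, T_ci, T_bi, T_fi, T_d] M (Nat.sub (MG u) (Nat.mod (MG u) M)) (nat_lit 40) z1 u (Nat.mod (MG u) M)) (mRel MG [T_b, T_ci, T_bi, T_di, T_di, T_f] [T_ci, T_bi] M (Nat.sub (MG u) (Nat.mod (MG u) M)) (nat_lit 40) z1 u (Nat.mod (MG u) M)) (Nat.ble (nat_lit 936) j)) (Bool.rec (motive := fun _ => Bool) (mRel MG [T_fi, T_b, T_b] [T_b, T_f, T_di, T_c, T_fi] M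 (Nat.sub (MG u) (Nat.mod (MG u) M)) (nat_lit 40) z1 u (Nat.mod (MG u) M)) (Bool.rec (motive := fun _ => Bool) (mRel MG [T_di, T_b] [T_f, T_di, T_b, T_c, T_di, T_ci] M (Nat.sub (MG u) (Nat.mod (MG u) M)) (nat_lit 40) z1 u (Nat.mod (MG u) M)) (mRel MG [T_b, T_ci, T_b, T_ci, T_b, T_ci, T_b] [T_c] M (Nat.sub (MG u) (Nat.mod (MG u) M)) (nat_lit 40) z1 u (Nat.mod (MG u) M)) (Nat.ble (nat_lit 939) j)) (Nat.ble (nat_lit 938) j)) (Nat.ble (nat_lit 937) j)) (Bool.rec (motive := fun _ => Bool) (Bool.rec (motive := fun _ => Bool) (mRel MG [T_di, T_di, T_ci, T_f, T_b, T_ci, T_fi, T_b] [] M (Nat.sub (MG u) (Nat.mod (MG u) M)) (nat_lit 40) z1 u (Nat.mod (MG u) M)) (mRel MG [T_ci, T_ei, T_fi] [T_di, T_f, T_f, T_e, T_fi, T_ei] M (Nat.sub (MG u) (Nat.mod (MG u) M)) (nat_lit 40) z1 u (Nat.mod (MG u) M)) (Nat.ble (nat_lit 941) j)) (Bool.rec (motive := fun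 _ => Bool) (mRel MG [T_c, T_fi, T_bi] [T_f, T_di, T_b, T_ci, T_d] M (Nat.sub (MG u) (Nat.mod (MG u) M)) (nat_lit 40) z1 u (Nat.mod (MG u) M)) (Bool.rec (motive := fun _ => Bool) (mRel MG [T_c, T_di, T_ci, T_bi, T_d, T_f, T_di] [T_bi] M (Nat.sub (MG u) (Nat.mod (MG u) M)) (nat_lit 40) z1 u (Nat.mod (MG u) M)) (mRel MG [T_c, T_di, T_c, T_d, T_bi] [T_bi, T_d, T_ci] M (Nat.sub (MG u) (Nat.mod (MG u) M)) (nat_lit 40) z1 u (Nat.mod (MG u) M)) (Nat.ble (nat_lit 944) j)) (Nat.ble (nat_lit 943) j)) (Nat.ble (nat_lit 942) j)) (Nat.ble (nat_lit 940) j)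
noncomputable def dM_185 (j z1 z2 u : ℕ) : Bool :=
  Bool.rec (motive := fun _ => Bool) (Bool.rec (motive := fun _ => Bool) (Bool.rec (motive := fun _ => Bool) (mRel MG [T_di, T_b, T_di, T_bi, T_di, T_di] [T_d, T_bi] M (Nat.sub (MG u) (Nat.mod (MG u) M)) (nat_lit 40) z1 u (Nat.mod (MG u) M)) (mRel MG [T_ci, T_f, T_di, T_b, T_ci, T_d] [T_fi, T_bi] M (Nat.sub (MG u) (Nat.mod (MG u) M)) (nat_lit 40) z1 u (Nat.mod (MG u) M)) (Nat.ble (nat_lit 946) j)) (Bool.rec (motive := fun _ => Bool) (mRel MG [T_c, T_b, T_f] [T_di, T_f, T_bi, T_di, T_di] M (Nat.sub (MG u) (Nat.mod (MG u) M)) (nat_lit 40) z1 u (Nat.mod (MG u) M)) (Bool.rec (motive := fun _ => Bool) (mRel MG [T_f, T_ci, T_ci, T_f] [T_bi, T_c, T_f, T_b] M (Nat.sub (MG u) (Nat.mod (MG u) M)) (nat_lit 40) z1 u (Nat.mod (MG u) M)) (mRel MG [T_b, T_ci, T_d] [T_d, T_fi, T_c, T_fi, T_bi] M (Nat.sub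 (MG u) (Nat.mod (MG u) M)) (nat_lit 40) z1 u (Nat.mod (MG u) M)) (Nat.ble (nat_lit 949) j)) (Nat.ble (nat_lit 948) j)) (Nat.ble (nat_lit 947) j)) (Bool.rec (motive := fun _ => Bool) (Bool.rec (motive := fun _ => Bool) (mRel MG [T_c, T_c, T_b, T_ci, T_di] [T_f, T_c, T_c, T_f] M (Nat.sub (MG u) (Nat.mod (MG u) M)) (nat_lit 40) z1 u (Nat.mod (MG u) M)) (Bool.rec (motive := fun _ => Bool) (mRel MG [T_c, T_b, T_ci] [T_bi, T_f, T_d, T_f, T_b] M (Nat.sub (MG u) (Nat.mod (MG u) M)) (nat_lit 40) z1 u (Nat.mod (MG u) M)) (mRel MG [T_b] [T_ci, T_b, T_d, T_f, T_f, T_c, T_di] M (Nat.sub (MG u) (Nat.mod (MG u) M)) (nat_lit 40) z1 u (Nat.mod (MG u) M)) (Nat.ble (nat_lit 952) j)) (Nat.ble (nat_lit 951) j)) (Bool.rec (motive := fun _ => Bool) (mRel MG [T_bi, T_ci, T_d] [T_ci, T_di, T_c, T_b, T_ci] M (Nat.sub (MG u) (Nat.mod (MG u) M)) (nat_lit 40) z1 u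 (Nat.mod (MG u) M)) (Bool.rec (motive := fun _ => Bool) (mRel MG [T_di, T_di, T_b, T_di, T_di, T_b, T_di] [T_b] M (Nat.sub (MG u) (Nat.mod (MG u) M)) (nat_lit 40) z1 u (Nat.mod (MG u) M)) (mRel MG [T_d, T_f, T_f, T_c] [T_bi, T_c, T_b, T_d] M (Nat.sub (MG u) (Nat.mod (MG u) M)) (nat_lit 40) z1 u (Nat.mod (MG u) M)) (Nat.ble (nat_lit 955) j)) (Nat.ble (nat_lit 954) j)) (Nat.ble (nat_lit 953) j)) (Nat.ble (nat_lit 950) j)
noncomputable def dM_186 (j z1 z2 u : ℕ) : Bool :=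
  Bool.rec (motive := fun _ => Bool) (dM_184 j z1 z2 u) (dM_185 j z1 z2 u) (Nat.ble (nat_lit 945) j)
noncomputable def dM_187 (j z1 z2 u : ℕ) : Bool :=
  Bool.rec (motive := fun _ => Bool) (Bool.rec (motive := fun _ => Bool) (Bool.rec (motive := fun _ => Bool) (mRel MG [T_ei, T_fi, T_fi, T_d, T_ci, T_ei, T_fi, T_e] [T_fi] M (Nat.sub (MG u) (Nat.mod (MG u) M)) (nat_lit 40) z1 u (Nat.mod (MG u) M)) (mRel MG [T_fi, T_ei, T_f, T_e] [T_ei, T_fi, T_fi, T_d, T_ci] M (Nat.sub (MG u) (Nat.mod (MG u) M)) (nat_lit 40) z1 u (Nat.mod (MG u) M)) (Nat.ble (nat_lit 957) j)) (Bool.rec (motive := fun _ => Bool) (mRel MG [T_f, T_e, T_f, T_ci, T_b] [T_b, T_f, T_d, T_ei] M (Nat.sub (MG u) (Nat.mod (MG u) M)) (nat_lit 40) z1 u (Nat.mod (MG u) M)) (Bool.rec (motive := fun _ => Bool) (mRel MG [T_d, T_ci, T_fi] [T_f, T_ei, T_f, T_e, T_fi, T_ei] M (Nat.sub (MG u)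 (Nat.mod (MG u) M)) (nat_lit 40) z1 u (Nat.mod (MG u) M)) (mRel MG [T_fi, T_di] [T_di, T_b, T_c, T_di, T_ci, T_bi] M (Nat.sub (MG u) (Nat.mod (MG u) M)) (nat_lit 40) z1 u (Nat.mod (MG u) M)) (Nat.ble (nat_lit 960) j)) (Nat.ble (nat_lit 959) j)) (Nat.ble (nat_lit 958) j)) (Bool.rec (motive := fun _ => Bool) (Bool.rec (motive := fun _ => Bool) (mRel MG [T_ci, T_ei] [T_di, T_f, T_f, T_e, T_fi, T_ei, T_f] M (Nat.sub (MG u) (Nat.mod (MG u) M)) (nat_lit 40) z1 u (Nat.mod (MG u) M)) (Bool.rec (motive := fun _ => Bool) (mRel MG [T_fi, T_fi] [T_c, T_di, T_bi, T_ci, T_b, T_d] M (Nat.sub (MG u) (Nat.mod (MG u) M)) (nat_lit 40) z1 u (Nat.mod (MG u) M)) (mRel MG [T_fi] [T_e, T_c, T_di, T_f, T_f, T_e, T_fi, T_ei] M (Nat.sub (MG u) (Nat.mod (MG u) M)) (nat_lit 40) z1 u (Nat.mod (MG u) M)) (Nat.ble (nat_lit 963) j)) (Nat.ble (nat_lit 962) j)) (Bool.rec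 (motive := fun _ => Bool) (mRel MG [T_d, T_fi, T_di, T_e] [T_ci, T_ei, T_fi, T_e, T_f] M (Nat.sub (MG u) (Nat.mod (MG u) M)) (nat_lit 40) z1 u (Nat.mod (MG u) M)) (Bool.rec (motive := fun _ => Bool) (mRel MG [T_ei, T_f] [T_f, T_ei, T_d, T_f, T_di, T_ci, T_ei] M (Nat.sub (MG u) (Nat.mod (MG u) M)) (nat_lit 40) z1 u (Nat.mod (MG u) M)) (mRel MG [T_ci, T_di] [T_c, T_bi, T_ci, T_b, T_ci, T_ci] M (Nat.sub (MG u) (Nat.mod (MG u) M)) (nat_lit 40) z1 u (Nat.mod (MG u) M)) (Nat.ble (nat_lit 966) j)) (Nat.ble (nat_lit 965) j)) (Nat.ble (nat_lit 964) j)) (Nat.ble (nat_lit 961) j)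
noncomputable def dM_188 (j z1 z2 u : ℕ) : Bool :=
  Bool.rec (motive := fun _ => Bool) (Bool.rec (motive := fun _ => Bool) (Bool.rec (motive := fun _ => Bool) (mRel MG [T_ci, T_fi] [T_di, T_bi, T_ci, T_b, T_d, T_f] M (Nat.sub (MG u) (Nat.mod (MG u) M)) (nat_lit 40) z1 u (Nat.mod (MG u) M)) (mRel MG [T_c, T_fi, T_ei] [T_b, T_e, T_di, T_fi, T_bi, T_f] M (Nat.sub (MG u) (Nat.mod (MG u) M)) (nat_lit 40) z1 u (Nat.mod (MG u) M)) (Nat.ble (nat_lit 968) j)) (Bool.rec (motive := fun _ => Bool) (mRel MG [T_d] [T_fi, T_b, T_c, T_bi, T_di, T_ci, T_bi] M (Nat.sub (MG u) (Nat.mod (MG u) M)) (nat_lit 40) z1 u (Nat.mod (MG u) M)) (Bool.rec (motive := fun _ => Bool) (mRel MG [T_f, T_ei] [T_ei, T_f, T_e, T_c, T_di, T_f, T_f] M (Nat.sub (MG u) (Nat.mod (MG u) M)) (nat_lit 40) z1 u (Nat.mod (MG u) M)) (mRel MG [T_f, T_c, T_bi, T_bi, T_ci, T_di] [T_fi, T_bi]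 M (Nat.sub (MG u) (Nat.mod (MG u) M)) (nat_lit 40) z1 u (Nat.mod (MG u) M)) (Nat.ble (nat_lit 971) j)) (Nat.ble (nat_lit 970) j)) (Nat.ble (nat_lit 969) j)) (Bool.rec (motive := fun _ => Bool) (Bool.rec (motive := fun _ => Bool) (mRel MG [T_di, T_c, T_d, T_bi, T_c, T_di] [T_ci, T_bi] M (Nat.sub (MG u) (Nat.mod (MG u) M)) (nat_lit 40) z1 u (Nat.mod (MG u) M)) (Bool.rec (motive := fun _ => Bool) (mRel MG [T_fi, T_bi, T_fi, T_b, T_b, T_f, T_ci] [T_di] M (Nat.sub (MG u) (Nat.mod (MG u) M)) (nat_lit 40) z1 u (Nat.mod (MG u) M)) (mRel MG [T_d, T_bi, T_c, T_d, T_f] [T_f, T_bi, T_c] M (Nat.sub (MG u) (Nat.mod (MG u) M)) (nat_lit 40) z1 u (Nat.mod (MG u) M)) (Nat.ble (nat_lit 974) j)) (Nat.ble (nat_lit 973) j)) (Bool.rec (motive := fun _ => Bool) (mRel MG [T_c, T_d, T_f] [T_b, T_di, T_f, T_bi, T_c] M (Nat.sub (MG u) (Nat.mod (MG u) M)) (nat_lit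 40) z1 u (Nat.mod (MG u) M)) (Bool.rec (motive := fun _ => Bool) (mRel MG [T_bi, T_f, T_d] [T_c, T_b, T_ci, T_bi, T_fi] M (Nat.sub (MG u) (Nat.mod (MG u) M)) (nat_lit 40) z1 u (Nat.mod (MG u) M)) (mRel MG [T_c, T_bi] [T_ci, T_d, T_c, T_c, T_bi, T_ci] M (Nat.sub (MG u) (Nat.mod (MG u) M)) (nat_lit 40) z1 u (Nat.mod (MG u) M)) (Nat.ble (nat_lit 977) j)) (Nat.ble (nat_lit 976) j)) (Nat.ble (nat_lit 975) j)) (Nat.ble (nat_lit 972) j)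
noncomputable def dM_189 (j z1 z2 u : ℕ) : Bool :=
  Bool.rec (motive := fun _ => Bool) (dM_187 j z1 z2 u) (dM_188 j z1 z2 u) (Nat.ble (nat_lit 967) j)
noncomputable def dM_190 (j z1 z2 u : ℕ) : Bool :=
  Bool.rec (motive := fun _ => Bool) (dM_186 j z1 z2 u) (dM_189 j z1 z2 u) (Nat.ble (nat_lit 956) j)
noncomputable def dM_191 (j z1 z2 u : ℕ) : Bool :=
  Bool.rec (motive := fun _ => Bool) (dM_183 j z1 z2 u) (dM_190 j z1 z2 u) (Nat.ble (nat_lit 935) j)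
noncomputable def dM_192 (j z1 z2 u : ℕ) : Bool :=
  Bool.rec (motive := fun _ => Bool) (dM_176 j z1 z2 u) (dM_191 j z1 z2 u) (Nat.ble (nat_lit 892) j)
noncomputable def dM_193 (j z1 z2 u : ℕ) : Bool :=
  Bool.rec (motive := fun _ => Bool) (dM_161 j z1 z2 u) (dM_192 j z1 z2 u) (Nat.ble (nat_lit 806) j)
noncomputable def dM_194 (j z1 z2 u : ℕ) : Bool :=
  Bool.rec (motive := fun _ => Bool) (dM_132 j z1 z2 u) (dM_193 j z1 z2 u) (Nat.ble (nat_lit 645) j)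
noncomputable def dM_195 (j z1 z2 u : ℕ) : Bool :=
  Bool.rec (motive := fun _ => Bool) (Bool.rec (motive := fun _ => Bool) (Bool.rec (motive := fun _ => Bool) (mRel MG [T_c] [T_fi, T_fi, T_di, T_bi, T_c, T_b, T_d] M (Nat.sub (MG u) (Nat.mod (MG u) M)) (nat_lit 40) z1 u (Nat.mod (MG u) M)) (mRel MG [T_e, T_f, T_ei, T_d] [T_f, T_e, T_c, T_d, T_fi] M (Nat.sub (MG u) (Nat.mod (MG u) M)) (nat_lit 40) z1 u (Nat.mod (MG u) M)) (Nat.ble (nat_lit 979) j)) (Bool.rec (motive := fun _ => Bool) (mRel MG [T_c] [T_fi, T_d, T_bi, T_fi, T_di, T_ci, T_bi] M (Nat.sub (MG u) (Nat.mod (MG u) M)) (nat_lit 40) z1 u (Nat.mod (MG u) M)) (Bool.rec (motive := fun _ => Bool) (mRel MG [T_fi, T_ei, T_f] [T_ei, T_fi, T_fi, T_d, T_ci, T_ei] M (Nat.sub (MG u) (Nat.mod (MG u) M)) (nat_lit 40) z1 u (Nat.mod (MG u) M)) (mRel MG [T_f, T_b] [T_ci, T_b, T_f, T_ci, T_ci, T_f]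 M (Nat.sub (MG u) (Nat.mod (MG u) M)) (nat_lit 40) z1 u (Nat.mod (MG u) M)) (Nat.ble (nat_lit 982) j)) (Nat.ble (nat_lit 981) j)) (Nat.ble (nat_lit 980) j)) (Bool.rec (motive := fun _ => Bool) (Bool.rec (motive := fun _ => Bool) (mRel MG [T_bi, T_fi, T_di] [T_di, T_f, T_c, T_b, T_c] M (Nat.sub (MG u) (Nat.mod (MG u) M)) (nat_lit 40) z1 u (Nat.mod (MG u) M)) (mRel MG [T_b, T_ci, T_bi, T_fi, T_b] [T_bi, T_di, T_ci] M (Nat.sub (MG u) (Nat.mod (MG u) M)) (nat_lit 40) z1 u (Nat.mod (MG u) M)) (Nat.ble (nat_lit 984) j)) (Bool.rec (motive := fun _ => Bool) (mRel MG [T_fi, T_di, T_e, T_fi, T_ei, T_f, T_e] [T_di, T_ci] M (Nat.sub (MG u) (Nat.mod (MG u) M)) (nat_lit 40) z1 u (Nat.mod (MG u) M)) (Bool.rec (motive := fun _ => Bool) (mRel MG [T_b, T_di, T_di, T_b, T_di, T_bi] [T_d, T_d] M (Nat.sub (MG u) (Nat.mod (MG u) M)) (nat_lit 40) z1 u (Nat.mod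 (MG u) M)) (mRel MG [T_c, T_fi, T_bi, T_c] [T_ci, T_f, T_bi, T_fi] M (Nat.sub (MG u) (Nat.mod (MG u) M)) (nat_lit 40) z1 u (Nat.mod (MG u) M)) (Nat.ble (nat_lit 987) j)) (Nat.ble (nat_lit 986) j)) (Nat.ble (nat_lit 985) j)) (Nat.ble (nat_lit 983) j)
noncomputable def dM_196 (j z1 z2 u : ℕ) : Bool :=
  Bool.rec (motive := fun _ => Bool) (Bool.rec (motive := fun _ => Bool) (Bool.rec (motive := fun _ => Bool) (mRel MG [T_ci, T_ci, T_di, T_c, T_c, T_bi] [T_bi, T_ci] M (Nat.sub (MG u) (Nat.mod (MG u) M)) (nat_lit 40) z1 u (Nat.mod (MG u) M)) (mRel MG [T_f, T_bi, T_di, T_di, T_fi, T_bi] [T_d, T_c] M (Nat.sub (MG u) (Nat.mod (MG u) M)) (nat_lit 40) z1 u (Nat.mod (MG u) M)) (Nat.ble (nat_lit 989) j)) (Bool.rec (motive := fun _ => Bool) (mRel MG [T_di, T_b, T_c, T_d] [T_f, T_di, T_b, T_c] M (Nat.sub (MG u) (Nat.mod (MG u) M)) (nat_lit 40) z1 u (Nat.mod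 (MG u) M)) (Bool.rec (motive := fun _ => Bool) (mRel MG [T_c, T_f, T_b] [T_b, T_f, T_ci, T_ci, T_f] M (Nat.sub (MG u) (Nat.mod (MG u) M)) (nat_lit 40) z1 u (Nat.mod (MG u) M)) (mRel MG [T_c, T_di, T_bi] [T_fi, T_fi, T_di, T_bi, T_c] M (Nat.sub (MG u) (Nat.mod (MG u) M)) (nat_lit 40) z1 u (Nat.mod (MG u) M)) (Nat.ble (nat_lit 992) j)) (Nat.ble (nat_lit 991) j)) (Nat.ble (nat_lit 990) j)) (Bool.rec (motive := fun _ => Bool) (Bool.rec (motive := fun _ => Bool) (mRel MG [T_bi, T_e, T_c, T_e, T_bi, T_e] [T_ei, T_ci] M (Nat.sub (MG u) (Nat.mod (MG u) M)) (nat_lit 40) z1 u (Nat.mod (MG u) M)) (Bool.rec (motive := fun _ => Bool) (mRel MG [T_c, T_b, T_b, T_ci, T_fi, T_fi, T_bi, T_d] [] M (Nat.sub (MG u) (Nat.mod (MG u) M)) (nat_lit 40) z1 u (Nat.mod (MG u) M)) (mRel MG [T_fi, T_c, T_d, T_d, T_bi] [T_b, T_ci, T_fi] M (Nat.sub (MG u) (Nat.mod (MG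 u) M)) (nat_lit 40) z1 u (Nat.mod (MG u) M)) (Nat.ble (nat_lit 995) j)) (Nat.ble (nat_lit 994) j)) (Bool.rec (motive := fun _ => Bool) (mRel MG [T_ci, T_b, T_fi] [T_fi, T_di, T_ci, T_b, T_di] M (Nat.sub (MG u) (Nat.mod (MG u) M)) (nat_lit 40) z1 u (Nat.mod (MG u) M)) (Bool.rec (motive := fun _ => Bool) (mRel MG [T_bi, T_c, T_d, T_f, T_ci, T_b, T_fi] [T_di] M (Nat.sub (MG u) (Nat.mod (MG u) M)) (nat_lit 40) z1 u (Nat.mod (MG u) M)) (mRel MG [T_bi, T_c, T_c, T_di, T_bi, T_c] [T_d, T_ci] M (Nat.sub (MG u) (Nat.mod (MG u) M)) (nat_lit 40) z1 u (Nat.mod (MG u) M)) (Nat.ble (nat_lit 998) j)) (Nat.ble (nat_lit 997) j)) (Nat.ble (nat_lit 996) j)) (Nat.ble (nat_lit 993) j)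
noncomputable def dM_197 (j z1 z2 u : ℕ) : Bool :=
  Bool.rec (motive := fun _ => Bool) (dM_195 j z1 z2 u) (dM_196 j z1 z2 u) (Nat.ble (nat_lit 988) j)
noncomputable def dM_198 (j z1 z2 u : ℕ) : Bool :=
  Bool.rec (motive := fun _ => Bool) (Bool.rec (motive := fun _ => Bool) (Bool.rec (motive := fun _ => Bool) (mRel MG [T_ci, T_bi] [T_bi, T_ci, T_bi, T_f, T_d, T_f] M (Nat.sub (MG u) (Nat.mod (MG u) M)) (nat_lit 40) z1 u (Nat.mod (MG u) M)) (mRel MG [T_c, T_c, T_f, T_d, T_c] [T_fi, T_c, T_c, T_b] M (Nat.sub (MG u) (Nat.mod (MG u) M)) (nat_lit 40) z1 u (Nat.mod (MG u) M)) (Nat.ble (nat_lit 1000) j)) (Bool.rec (motive := fun _ => Bool) (mRel MG [T_b, T_f] [T_f, T_e, T_f, T_ci, T_b, T_e, T_di] M (Nat.sub (MG u) (Nat.mod (MG u) M)) (nat_lit 40) z1 u (Nat.mod (MG u) M)) (Bool.rec (motive := fun _ => Bool) (mRel MG [T_f, T_bi] [T_bi, T_di, T_di,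 T_fi, T_b, T_ci, T_f] M (Nat.sub (MG u) (Nat.mod (MG u) M)) (nat_lit 40) z1 u (Nat.mod (MG u) M)) (mRel MG [T_ci, T_b, T_di, T_f, T_di, T_ci] [T_b, T_c] M (Nat.sub (MG u) (Nat.mod (MG u) M)) (nat_lit 40) z1 u (Nat.mod (MG u) M)) (Nat.ble (nat_lit 1003) j)) (Nat.ble (nat_lit 1002) j)) (Nat.ble (nat_lit 1001) j)) (Bool.rec (motive := fun _ => Bool) (Bool.rec (motive := fun _ => Bool) (mRel MG [T_d, T_ci, T_fi, T_d, T_c] [T_di, T_fi, T_ci, T_d] M (Nat.sub (MG u) (Nat.mod (MG u) M)) (nat_lit 40) z1 u (Nat.mod (MG u) M)) (mRel MG [T_ci, T_di, T_f, T_bi] [T_b, T_f, T_d, T_d] M (Nat.sub (MG u) (Nat.mod (MG u) M)) (nat_lit 40) z1 u (Nat.mod (MG u) M)) (Nat.ble (nat_lit 1005) j)) (Bool.rec (motive := fun _ => Bool) (mRel MG [T_di, T_bi, T_ci] [T_ci, T_fi, T_fi, T_di, T_bi] M (Nat.sub (MG u) (Nat.mod (MG u) M)) (nat_lit 40) z1 u (Nat.mod (MG u) M))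 (Bool.rec (motive := fun _ => Bool) (mRel MG [T_f, T_c, T_di, T_f, T_ei, T_f, T_e, T_fi] [T_e] M (Nat.sub (MG u) (Nat.mod (MG u) M)) (nat_lit 40) z1 u (Nat.mod (MG u) M)) (mRel MG [T_d, T_ci] [T_c, T_d, T_bi, T_c, T_di, T_b] M (Nat.sub (MG u) (Nat.mod (MG u) M)) (nat_lit 40) z1 u (Nat.mod (MG u) M)) (Nat.ble (nat_lit 1008) j)) (Nat.ble (nat_lit 1007) j)) (Nat.ble (nat_lit 1006) j)) (Nat.ble (nat_lit 1004) j)
noncomputable def dM_199 (j z1 z2 u : ℕ) : Bool :=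
  Bool.rec (motive := fun _ => Bool) (Bool.rec (motive := fun _ => Bool) (Bool.rec (motive := fun _ => Bool) (mRel MG [T_ci, T_f, T_di] [T_fi, T_bi, T_di, T_c, T_bi] M (Nat.sub (MG u) (Nat.mod (MG u) M)) (nat_lit 40) z1 u (Nat.mod (MG u) M)) (mRel MG [T_f, T_f, T_di, T_fi, T_di, T_di] [T_d, T_fi] M (Nat.sub (MG u) (Nat.mod (MG u) M)) (nat_lit 40) z1 u (Nat.mod (MG u) M)) (Nat.ble (nat_lit 1010) j)) (Bool.rec (motive := fun _ => Bool) (mRel MG [T_b] [T_c, T_b, T_ci, T_ci, T_di, T_c, T_c] M (Nat.sub (MG u) (Nat.mod (MG u) M)) (nat_lit 40) z1 u (Nat.mod (MG u) M)) (Bool.rec (motive := fun _ => Bool) (mRel MG [T_ci, T_di, T_f, T_c, T_di, T_di, T_fi] [T_di, T_c] M (Nat.sub (MG u) (Nat.mod (MG u) M)) (nat_lit 40) z1 u (Nat.mod (MG u) M)) (mRel MG [T_di, T_fi, T_c] [T_c, T_c, T_fi, T_di, T_fi, T_di] M (Nat.sub (MG u) (Nat.mod (MG u) M)) (nat_lit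 40) z1 u (Nat.mod (MG u) M)) (Nat.ble (nat_lit 1013) j)) (Nat.ble (nat_lit 1012) j)) (Nat.ble (nat_lit 1011) j)) (Bool.rec (motive := fun _ => Bool) (Bool.rec (motive := fun _ => Bool) (mRel MG [T_d, T_f, T_di, T_ci, T_ei, T_fi, T_e, T_f, T_ei] [] M (Nat.sub (MG u) (Nat.mod (MG u) M)) (nat_lit 40) z1 u (Nat.mod (MG u) M)) (Bool.rec (motive := fun _ => Bool) (mRel MG [T_fi, T_fi, T_d, T_ci, T_ei] [T_e, T_fi, T_ei, T_f] M (Nat.sub (MG u) (Nat.mod (MG u) M)) (nat_lit 40) z1 u (Nat.mod (MG u) M)) (mRel MG [T_c, T_bi] [T_fi, T_fi, T_bi, T_d, T_c, T_b] M (Nat.sub (MG u) (Nat.mod (MG u) M)) (nat_lit 40) z1 u (Nat.mod (MG u) M)) (Nat.ble (nat_lit 1016) j)) (Nat.ble (nat_lit 1015) j)) (Bool.rec (motive := fun _ => Bool) (mRel MG [T_f, T_d, T_d, T_ci, T_f, T_d, T_d] [T_c] M (Nat.sub (MG u) (Nat.mod (MG u) M)) (nat_lit 40) z1 u (Nat.mod (MG u) M))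 (Bool.rec (motive := fun _ => Bool) (mRel MG [T_c, T_bi, T_di] [T_di, T_ci, T_bi, T_f, T_ci] M (Nat.sub (MG u) (Nat.mod (MG u) M)) (nat_lit 40) z1 u (Nat.mod (MG u) M)) (mRel MG [T_c, T_b, T_ci, T_bi, T_di, T_di, T_f] [T_bi] M (Nat.sub (MG u) (Nat.mod (MG u) M)) (nat_lit 40) z1 u (Nat.mod (MG u) M)) (Nat.ble (nat_lit 1019) j)) (Nat.ble (nat_lit 1018) j)) (Nat.ble (nat_lit 1017) j)) (Nat.ble (nat_lit 1014) j)
noncomputable def dM_200 (j z1 z2 u : ℕ) : Bool :=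
  Bool.rec (motive := fun _ => Bool) (dM_198 j z1 z2 u) (dM_199 j z1 z2 u) (Nat.ble (nat_lit 1009) j)
noncomputable def dM_201 (j z1 z2 u : ℕ) : Bool :=
  Bool.rec (motive := fun _ => Bool) (dM_197 j z1 z2 u) (dM_200 j z1 z2 u) (Nat.ble (nat_lit 999) j)
noncomputable def dM_202 (j z1 z2 u : ℕ) : Bool :=
  Bool.rec (motive := fun _ => Bool) (Bool.rec (motive := fun _ => Bool) (Bool.rec (motive := fun _ => Bool) (mRel MG [T_f, T_b, T_c, T_b, T_ci] [T_d, T_d, T_b] M (Nat.sub (MG u) (Nat.mod (MG u) M)) (nat_lit 40) z1 u (Nat.mod (MG u) M)) (mRel MG [T_f, T_ci] [T_bi, T_di, T_c, T_bi, T_d, T_fi] M (Nat.sub (MG u) (Nat.mod (MG u) M)) (nat_lit 40) z1 u (Nat.mod (MG u) M)) (Nat.ble (nat_lit 1021) j)) (Bool.rec (motive := fun _ => Bool) (mRel MG [T_fi, T_d, T_ci, T_fi, T_e, T_f, T_ei, T_fi, T_e] [] M (Nat.sub (MG u) (Nat.mod (MG u) M)) (nat_lit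 40) z1 u (Nat.mod (MG u) M)) (Bool.rec (motive := fun _ => Bool) (mRel MG [T_d] [T_di, T_b, T_di, T_di, T_b, T_di, T_bi] M (Nat.sub (MG u) (Nat.mod (MG u) M)) (nat_lit 40) z1 u (Nat.mod (MG u) M)) (mRel MG [T_b, T_ci] [T_c, T_bi, T_c, T_bi, T_c, T_bi] M (Nat.sub (MG u) (Nat.mod (MG u) M)) (nat_lit 40) z1 u (Nat.mod (MG u) M)) (Nat.ble (nat_lit 1024) j)) (Nat.ble (nat_lit 1023) j)) (Nat.ble (nat_lit 1022) j)) (Bool.rec (motive := fun _ => Bool) (Bool.rec (motive := fun _ => Bool) (mRel MG [T_fi, T_ei] [T_ei, T_fi, T_fi, T_d, T_ci, T_ei, T_fi] M (Nat.sub (MG u) (Nat.mod (MG u) M)) (nat_lit 40) z1 u (Nat.mod (MG u) M)) (mRel MG [T_c, T_di, T_b, T_c, T_di, T_c, T_d] [T_b] M (Nat.sub (MG u) (Nat.mod (MG u) M)) (nat_lit 40) z1 u (Nat.mod (MG u) M)) (Nat.ble (nat_lit 1026) j)) (Bool.rec (motive := fun _ => Bool) (mRel MG [T_c] [T_bi, T_f, T_ci,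 T_d, T_b, T_ci, T_di] M (Nat.sub (MG u) (Nat.mod (MG u) M)) (nat_lit 40) z1 u (Nat.mod (MG u) M)) (Bool.rec (motive := fun _ => Bool) (mRel MG [T_fi, T_c] [T_b, T_ci, T_fi, T_b, T_di, T_di] M (Nat.sub (MG u) (Nat.mod (MG u) M)) (nat_lit 40) z1 u (Nat.mod (MG u) M)) (mRel MG [T_c, T_d, T_d, T_f, T_bi] [T_b, T_ci, T_f, T_di] M (Nat.sub (MG u) (Nat.mod (MG u) M)) (nat_lit 40) z1 u (Nat.mod (MG u) M)) (Nat.ble (nat_lit 1029) j)) (Nat.ble (nat_lit 1028) j)) (Nat.ble (nat_lit 1027) j)) (Nat.ble (nat_lit 1025) j)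
noncomputable def dM_203 (j z1 z2 u : ℕ) : Bool :=
  Bool.rec (motive := fun _ => Bool) (Bool.rec (motive := fun _ => Bool) (Bool.rec (motive := fun _ => Bool) (mRel MG [T_ci, T_di, T_c] [T_c, T_bi, T_ci, T_b, T_ci] M (Nat.sub (MG u) (Nat.mod (MG u) M)) (nat_lit 40) z1 u (Nat.mod (MG u) M)) (mRel MG [T_fi, T_di, T_ci, T_bi, T_ci, T_fi, T_d] [T_b] M (Nat.sub (MG u) (Nat.mod (MG u) M)) (nat_lit 40) z1 u (Nat.mod (MG u) M)) (Nat.ble (nat_lit 1031) j)) (Bool.rec (motive := fun _ => Bool) (mRel MG [T_b, T_f, T_f, T_c, T_bi, T_bi] [T_d, T_c] M (Nat.sub (MG u) (Nat.mod (MG u) M)) (nat_lit 40) z1 u (Nat.mod (MG u) M)) (Bool.rec (motive := fun _ => Bool) (mRel MG [T_f] [T_di, T_ci, T_bi, T_ci, T_fi, T_d, T_bi] M (Nat.sub (MG u) (Nat.mod (MG u) M)) (nat_lit 40) z1 u (Nat.mod (MG u) M)) (mRel MG [T_c, T_c, T_fi, T_bi] [T_f, T_bi, T_fi, T_ci] M (Nat.sub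 (MG u) (Nat.mod (MG u) M)) (nat_lit 40) z1 u (Nat.mod (MG u) M)) (Nat.ble (nat_lit 1034) j)) (Nat.ble (nat_lit 1033) j)) (Nat.ble (nat_lit 1032) j)) (Bool.rec (motive := fun _ => Bool) (Bool.rec (motive := fun _ => Bool) (mRel MG [T_di, T_ci, T_f, T_b, T_ci, T_fi, T_b, T_di] [] M (Nat.sub (MG u) (Nat.mod (MG u) M)) (nat_lit 40) z1 u (Nat.mod (MG u) M)) (Bool.rec (motive := fun _ => Bool) (mRel MG [T_ci, T_fi, T_b, T_di, T_di, T_ci] [T_bi, T_fi] M (Nat.sub (MG u) (Nat.mod (MG u) M)) (nat_lit 40) z1 u (Nat.mod (MG u) M)) (mRel MG [T_di, T_di, T_fi] [T_ci, T_f, T_d, T_d, T_ci] M (Nat.sub (MG u) (Nat.mod (MG u) M)) (nat_lit 40) z1 u (Nat.mod (MG u) M)) (Nat.ble (nat_lit 1037) j)) (Nat.ble (nat_lit 1036) j)) (Bool.rec (motive := fun _ => Bool) (mRel MG [T_c, T_di, T_f, T_f, T_e, T_fi, T_ei, T_f, T_e] [] M (Nat.sub (MG u) (Nat.mod (MG u) M))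 (nat_lit 40) z1 u (Nat.mod (MG u) M)) (Bool.rec (motive := fun _ => Bool) (mRel MG [T_ci, T_di] [T_bi, T_ci, T_d, T_c, T_bi, T_ci] M (Nat.sub (MG u) (Nat.mod (MG u) M)) (nat_lit 40) z1 u (Nat.mod (MG u) M)) (mRel MG [T_bi, T_bi, T_ci, T_di, T_b] [T_ci, T_fi, T_fi] M (Nat.sub (MG u) (Nat.mod (MG u) M)) (nat_lit 40) z1 u (Nat.mod (MG u) M)) (Nat.ble (nat_lit 1040) j)) (Nat.ble (nat_lit 1039) j)) (Nat.ble (nat_lit 1038) j)) (Nat.ble (nat_lit 1035) j)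
noncomputable def dM_204 (j z1 z2 u : ℕ) : Bool :=
  Bool.rec (motive := fun _ => Bool) (dM_202 j z1 z2 u) (dM_203 j z1 z2 u) (Nat.ble (nat_lit 1030) j)
noncomputable def dM_205 (j z1 z2 u : ℕ) : Bool :=
  Bool.rec (motive := fun _ => Bool) (Bool.rec (motive := fun _ => Bool) (Bool.rec (motive := fun _ => Bool) (mRel MG [T_fi, T_bi, T_di, T_c, T_bi, T_d] [T_ci, T_f] M (Nat.sub (MG u) (Nat.mod (MG u) M)) (nat_lit 40) z1 u (Nat.mod (MG u) M)) (mRel MG [T_b, T_c, T_bi, T_ci, T_bi, T_fi, T_d, T_d] [] M (Nat.sub (MG u) (Nat.mod (MG u) M)) (nat_lit 40) z1 u (Nat.mod (MG u) M)) (Nat.ble (nat_lit 1042) j)) (Bool.rec (motive := fun _ => Bool) (mRel MG [T_f, T_c] [T_bi, T_d, T_ci, T_fi, T_bi, T_d] M (Nat.sub (MG u) (Nat.mod (MG u) M)) (nat_lit 40) z1 u (Nat.mod (MG u) M)) (Bool.rec (motive := fun _ => Bool) (mRel MG [T_d, T_fi, T_d] [T_ci, T_ci,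 T_bi, T_ci, T_b] M (Nat.sub (MG u) (Nat.mod (MG u) M)) (nat_lit 40) z1 u (Nat.mod (MG u) M)) (mRel MG [T_b, T_ci, T_bi, T_fi] [T_ci, T_bi, T_f, T_d] M (Nat.sub (MG u) (Nat.mod (MG u) M)) (nat_lit 40) z1 u (Nat.mod (MG u) M)) (Nat.ble (nat_lit 1045) j)) (Nat.ble (nat_lit 1044) j)) (Nat.ble (nat_lit 1043) j)) (Bool.rec (motive := fun _ => Bool) (Bool.rec (motive := fun _ => Bool) (mRel MG [T_di, T_fi, T_di] [T_fi, T_fi, T_d, T_fi, T_d] M (Nat.sub (MG u) (Nat.mod (MG u) M)) (nat_lit 40) z1 u (Nat.mod (MG u) M)) (Bool.rec (motive := fun _ => Bool) (mRel MG [T_b, T_c, T_b] [T_fi, T_d, T_d, T_b, T_c] M (Nat.sub (MG u) (Nat.mod (MG u) M)) (nat_lit 40) z1 u (Nat.mod (MG u) M)) (mRel MG [T_c, T_di, T_b, T_f, T_c] [T_fi, T_bi, T_d] M (Nat.sub (MG u) (Nat.mod (MG u) M)) (nat_lit 40) z1 u (Nat.mod (MG u) M)) (Nat.ble (nat_lit 1048) j)) (Nat.ble (nat_lit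 1047) j)) (Bool.rec (motive := fun _ => Bool) (mRel MG [T_f, T_b, T_c, T_b, T_ci, T_bi] [T_d, T_d] M (Nat.sub (MG u) (Nat.mod (MG u) M)) (nat_lit 40) z1 u (Nat.mod (MG u) M)) (Bool.rec (motive := fun _ => Bool) (mRel MG [T_f, T_e, T_f, T_ci, T_b, T_e, T_di, T_fi] [T_b] M (Nat.sub (MG u) (Nat.mod (MG u) M)) (nat_lit 40) z1 u (Nat.mod (MG u) M)) (mRel MG [T_f, T_b] [T_b, T_b, T_f, T_ci, T_d, T_fi] M (Nat.sub (MG u) (Nat.mod (MG u) M)) (nat_lit 40) z1 u (Nat.mod (MG u) M)) (Nat.ble (nat_lit 1051) j)) (Nat.ble (nat_lit 1050) j)) (Nat.ble (nat_lit 1049) j)) (Nat.ble (nat_lit 1046) j)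
noncomputable def dM_206 (j z1 z2 u : ℕ) : Bool :=
  Bool.rec (motive := fun _ => Bool) (Bool.rec (motive := fun _ => Bool) (Bool.rec (motive := fun _ => Bool) (mRel MG [T_d, T_ci, T_fi] [T_bi, T_ci, T_b, T_d, T_f] M (Nat.sub (MG u) (Nat.mod (MG u) M)) (nat_lit 40) z1 u (Nat.mod (MG u) M)) (mRel MG [T_f, T_c, T_bi, T_bi] [T_fi, T_bi, T_d, T_c] M (Nat.sub (MG u) (Nat.mod (MG u) M)) (nat_lit 40) z1 u (Nat.mod (MG u) M)) (Nat.ble (nat_lit 1053) j)) (Bool.rec (motive := fun _ => Bool) (mRel MG [T_ci, T_b, T_e, T_di, T_fi, T_bi, T_f] [T_fi, T_ei] M (Nat.sub (MG u) (Nat.mod (MG u) M)) (nat_lit 40) z1 u (Nat.mod (MG u) M)) (Bool.rec (motive := fun _ => Bool) (mRel MG [T_di, T_f] [T_ci, T_fi, T_e, T_f, T_ei, T_fi, T_e] M (Nat.sub (MG u) (Nat.mod (MG u) M)) (nat_lit 40) z1 u (Nat.mod (MG u) M)) (mRel MG [T_d, T_bi, T_d, T_d, T_bi, T_d] [T_bi, T_di]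 M (Nat.sub (MG u) (Nat.mod (MG u) M)) (nat_lit 40) z1 u (Nat.mod (MG u) M)) (Nat.ble (nat_lit 1056) j)) (Nat.ble (nat_lit 1055) j)) (Nat.ble (nat_lit 1054) j)) (Bool.rec (motive := fun _ => Bool) (Bool.rec (motive := fun _ => Bool) (mRel MG [T_b, T_f, T_d] [T_f, T_e, T_f, T_ci, T_b, T_e] M (Nat.sub (MG u) (Nat.mod (MG u) M)) (nat_lit 40) z1 u (Nat.mod (MG u) M)) (Bool.rec (motive := fun _ => Bool) (mRel MG [T_b, T_f, T_ci, T_d] [T_bi, T_f, T_b, T_f] M (Nat.sub (MG u) (Nat.mod (MG u) M)) (nat_lit 40) z1 u (Nat.mod (MG u) M)) (mRel MG [T_f, T_d, T_d, T_b, T_fi] [T_bi, T_ci, T_di] M (Nat.sub (MG u) (Nat.mod (MG u) M)) (nat_lit 40) z1 u (Nat.mod (MG u) M)) (Nat.ble (nat_lit 1059) j)) (Nat.ble (nat_lit 1058) j)) (Bool.rec (motive := fun _ => Bool) (mRel MG [T_di, T_f, T_bi, T_c] [T_bi, T_c, T_d, T_f] M (Nat.sub (MG u) (Nat.mod (MG u) M)) (nat_lit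 40) z1 u (Nat.mod (MG u) M)) (Bool.rec (motive := fun _ => Bool) (mRel MG [T_fi, T_bi, T_fi] [T_di, T_c, T_fi, T_bi, T_bi] M (Nat.sub (MG u) (Nat.mod (MG u) M)) (nat_lit 40) z1 u (Nat.mod (MG u) M)) (mRel MG [T_b, T_f, T_d, T_d, T_b] [T_ci, T_di, T_f] M (Nat.sub (MG u) (Nat.mod (MG u) M)) (nat_lit 40) z1 u (Nat.mod (MG u) M)) (Nat.ble (nat_lit 1062) j)) (Nat.ble (nat_lit 1061) j)) (Nat.ble (nat_lit 1060) j)) (Nat.ble (nat_lit 1057) j)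
noncomputable def dM_207 (j z1 z2 u : ℕ) : Bool :=
  Bool.rec (motive := fun _ => Bool) (dM_205 j z1 z2 u) (dM_206 j z1 z2 u) (Nat.ble (nat_lit 1052) j)
noncomputable def dM_208 (j z1 z2 u : ℕ) : Bool :=
  Bool.rec (motive := fun _ => Bool) (dM_204 j z1 z2 u) (dM_207 j z1 z2 u) (Nat.ble (nat_lit 1041) j)
noncomputable def dM_209 (j z1 z2 u : ℕ) : Bool :=
  Bool.rec (motive := fun _ => Bool) (dM_201 j z1 z2 u) (dM_208 j z1 z2 u) (Nat.ble (nat_lit 1020) j)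
noncomputable def dM_210 (j z1 z2 u : ℕ) : Bool :=
  Bool.rec (motive := fun _ => Bool) (Bool.rec (motive := fun _ => Bool) (Bool.rec (motive := fun _ => Bool) (mRel MG [T_fi, T_di, T_fi] [T_b, T_c, T_bi, T_ci, T_bi] M (Nat.sub (MG u) (Nat.mod (MG u) M)) (nat_lit 40) z1 u (Nat.mod (MG u) M)) (mRel MG [T_fi, T_d, T_bi, T_c, T_d, T_f] [T_bi, T_c] M (Nat.sub (MG u) (Nat.mod (MG u) M)) (nat_lit 40) z1 u (Nat.mod (MG u) M)) (Nat.ble (nat_lit 1064) j)) (Bool.rec (motive := fun _ => Bool) (mRel MG [T_bi, T_f, T_b, T_f, T_di, T_c, T_fi] [T_b] M (Nat.sub (MG u) (Nat.mod (MG u) M)) (nat_lit 40) z1 u (Nat.mod (MG u) M)) (Bool.rec (motive := fun _ => Bool) (mRel MG [T_ci, T_fi] [T_bi, T_fi, T_c, T_d, T_d, T_bi] M (Nat.sub (MG u) (Nat.mod (MG u) M)) (nat_lit 40) z1 u (Nat.mod (MG u) M)) (mRel MG [T_bi, T_c, T_f, T_b, T_fi] [T_f, T_ci, T_ci] M (Nat.sub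 (MG u) (Nat.mod (MG u) M)) (nat_lit 40) z1 u (Nat.mod (MG u) M)) (Nat.ble (nat_lit 1067) j)) (Nat.ble (nat_lit 1066) j)) (Nat.ble (nat_lit 1065) j)) (Bool.rec (motive := fun _ => Bool) (Bool.rec (motive := fun _ => Bool) (mRel MG [T_di, T_ci, T_b, T_di] [T_f, T_ci, T_b, T_fi] M (Nat.sub (MG u) (Nat.mod (MG u) M)) (nat_lit 40) z1 u (Nat.mod (MG u) M)) (mRel MG [T_b, T_c, T_d, T_f, T_b, T_di, T_f] [T_ci] M (Nat.sub (MG u) (Nat.mod (MG u) M)) (nat_lit 40) z1 u (Nat.mod (MG u) M)) (Nat.ble (nat_lit 1069) j)) (Bool.rec (motive := fun _ => Bool) (mRel MG [T_di, T_ci, T_bi, T_d, T_f, T_di, T_b, T_c] [] M (Nat.sub (MG u) (Nat.mod (MG u) M)) (nat_lit 40) z1 u (Nat.mod (MG u) M)) (Bool.rec (motive := fun _ => Bool) (mRel MG [T_fi, T_e, T_f] [T_e, T_c, T_d, T_fi, T_di, T_e] M (Nat.sub (MG u) (Nat.mod (MG u) M)) (nat_lit 40) z1 u (Nat.mod (MG u) M))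 (mRel MG [T_bi, T_ci, T_bi] [T_ci, T_bi, T_fi, T_di, T_fi] M (Nat.sub (MG u) (Nat.mod (MG u) M)) (nat_lit 40) z1 u (Nat.mod (MG u) M)) (Nat.ble (nat_lit 1072) j)) (Nat.ble (nat_lit 1071) j)) (Nat.ble (nat_lit 1070) j)) (Nat.ble (nat_lit 1068) j)
noncomputable def dM_211 (j z1 z2 u : ℕ) : Bool :=
  Bool.rec (motive := fun _ => Bool) (Bool.rec (motive := fun _ => Bool) (Bool.rec (motive := fun _ => Bool) (mRel MG [T_di, T_di, T_fi, T_bi, T_ci] [T_b, T_fi, T_d] M (Nat.sub (MG u) (Nat.mod (MG u) M)) (nat_lit 40) z1 u (Nat.mod (MG u) M)) (mRel MG [T_bi, T_fi, T_d, T_d, T_b, T_c] [T_c, T_b] M (Nat.sub (MG u) (Nat.mod (MG u) M)) (nat_lit 40) z1 u (Nat.mod (MG u) M)) (Nat.ble (nat_lit 1074) j)) (Bool.rec (motive := fun _ => Bool) (mRel MG [T_bi, T_f, T_d, T_b, T_c, T_d] [T_c, T_bi] M (Nat.sub (MG u) (Nat.mod (MG u) M)) (nat_lit 40) z1 u (Nat.mod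 (MG u) M)) (Bool.rec (motive := fun _ => Bool) (mRel MG [T_c, T_b, T_ci, T_ci, T_di] [T_b, T_ci, T_ci] M (Nat.sub (MG u) (Nat.mod (MG u) M)) (nat_lit 40) z1 u (Nat.mod (MG u) M)) (mRel MG [T_d, T_fi] [T_fi, T_di, T_di, T_f, T_di, T_f] M (Nat.sub (MG u) (Nat.mod (MG u) M)) (nat_lit 40) z1 u (Nat.mod (MG u) M)) (Nat.ble (nat_lit 1077) j)) (Nat.ble (nat_lit 1076) j)) (Nat.ble (nat_lit 1075) j)) (Bool.rec (motive := fun _ => Bool) (Bool.rec (motive := fun _ => Bool) (mRel MG [T_d, T_b] [T_c, T_bi, T_d, T_fi, T_c, T_fi] M (Nat.sub (MG u) (Nat.mod (MG u) M)) (nat_lit 40) z1 u (Nat.mod (MG u) M)) (Bool.rec (motive := fun _ => Bool) (mRel MG [T_di] [T_f, T_di, T_ci, T_ei, T_fi, T_e, T_f, T_ei] M (Nat.sub (MG u) (Nat.mod (MG u) M)) (nat_lit 40) z1 u (Nat.mod (MG u) M)) (mRel MG [T_c, T_bi, T_fi, T_c, T_d] [T_fi, T_b, T_di] M (Nat.sub (MG u) (Nat.mod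 (MG u) M)) (nat_lit 40) z1 u (Nat.mod (MG u) M)) (Nat.ble (nat_lit 1080) j)) (Nat.ble (nat_lit 1079) j)) (Bool.rec (motive := fun _ => Bool) (mRel MG [T_e, T_fi] [T_f, T_e, T_fi, T_ei, T_f, T_c, T_di] M (Nat.sub (MG u) (Nat.mod (MG u) M)) (nat_lit 40) z1 u (Nat.mod (MG u) M)) (Bool.rec (motive := fun _ => Bool) (mRel MG [T_ei, T_f, T_e] [T_fi, T_d, T_ci, T_fi, T_e, T_f] M (Nat.sub (MG u) (Nat.mod (MG u) M)) (nat_lit 40) z1 u (Nat.mod (MG u) M)) (mRel MG [T_di, T_di, T_f, T_b, T_c, T_b, T_ci] [T_b] M (Nat.sub (MG u) (Nat.mod (MG u) M)) (nat_lit 40) z1 u (Nat.mod (MG u) M)) (Nat.ble (nat_lit 1083) j)) (Nat.ble (nat_lit 1082) j)) (Nat.ble (nat_lit 1081) j)) (Nat.ble (nat_lit 1078) j)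
noncomputable def dM_212 (j z1 z2 u : ℕ) : Bool :=
  Bool.rec (motive := fun _ => Bool) (dM_210 j z1 z2 u) (dM_211 j z1 z2 u) (Nat.ble (nat_lit 1073) j)
noncomputable def dM_213 (j z1 z2 u : ℕ) : Bool :=
  Bool.rec (motive := fun _ => Bool) (Bool.rec (motive := fun _ => Bool) (Bool.rec (motive := fun _ => Bool) (mRel MG [T_c, T_d, T_d, T_bi, T_f, T_c, T_bi] [T_f] M (Nat.sub (MG u) (Nat.mod (MG u) M)) (nat_lit 40) z1 u (Nat.mod (MG u) M)) (mRel MG [T_fi, T_di, T_ci, T_b, T_di, T_f, T_bi] [T_ci] M (Nat.sub (MG u) (Nat.mod (MG u) M)) (nat_lit 40) z1 u (Nat.mod (MG u) M)) (Nat.ble (nat_lit 1085) j)) (Bool.rec (motive := fun _ => Bool) (mRel MG [T_fi, T_c, T_fi, T_bi, T_di] [T_di, T_b, T_ci] M (Nat.sub (MG u) (Nat.mod (MG u) M)) (nat_lit 40) z1 u (Nat.mod (MG u) M)) (Bool.rec (motive := fun _ => Bool) (mRel MG [T_c, T_bi, T_d, T_fi, T_c, T_fi]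 [T_d, T_b] M (Nat.sub (MG u) (Nat.mod (MG u) M)) (nat_lit 40) z1 u (Nat.mod (MG u) M)) (mRel MG [T_ci, T_b, T_di, T_f, T_bi] [T_d, T_f, T_ci] M (Nat.sub (MG u) (Nat.mod (MG u) M)) (nat_lit 40) z1 u (Nat.mod (MG u) M)) (Nat.ble (nat_lit 1088) j)) (Nat.ble (nat_lit 1087) j)) (Nat.ble (nat_lit 1086) j)) (Bool.rec (motive := fun _ => Bool) (Bool.rec (motive := fun _ => Bool) (mRel MG [T_b, T_fi, T_d] [T_di, T_di, T_fi, T_bi, T_ci] M (Nat.sub (MG u) (Nat.mod (MG u) M)) (nat_lit 40) z1 u (Nat.mod (MG u) M)) (Bool.rec (motive := fun _ => Bool) (mRel MG [T_d, T_fi, T_fi, T_d] [T_fi, T_di, T_di, T_f] M (Nat.sub (MG u) (Nat.mod (MG u) M)) (nat_lit 40) z1 u (Nat.mod (MG u) M)) (mRel MG [T_b, T_f, T_d, T_d] [T_ci, T_di, T_f, T_bi] M (Nat.sub (MG u) (Nat.mod (MG u) M)) (nat_lit 40) z1 u (Nat.mod (MG u) M)) (Nat.ble (nat_lit 1091) j)) (Nat.ble (nat_lit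 1090) j)) (Bool.rec (motive := fun _ => Bool) (mRel MG [T_f] [T_ei, T_f, T_e, T_c, T_di, T_f, T_f, T_e] M (Nat.sub (MG u) (Nat.mod (MG u) M)) (nat_lit 40) z1 u (Nat.mod (MG u) M)) (Bool.rec (motive := fun _ => Bool) (mRel MG [T_ci, T_d, T_c, T_c] [T_c, T_bi, T_c, T_b] M (Nat.sub (MG u) (Nat.mod (MG u) M)) (nat_lit 40) z1 u (Nat.mod (MG u) M)) (mRel MG [T_bi, T_di] [T_d, T_bi, T_d, T_d, T_bi, T_d] M (Nat.sub (MG u) (Nat.mod (MG u) M)) (nat_lit 40) z1 u (Nat.mod (MG u) M)) (Nat.ble (nat_lit 1094) j)) (Nat.ble (nat_lit 1093) j)) (Nat.ble (nat_lit 1092) j)) (Nat.ble (nat_lit 1089) j)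
noncomputable def dM_214 (j z1 z2 u : ℕ) : Bool :=
  Bool.rec (motive := fun _ => Bool) (Bool.rec (motive := fun _ => Bool) (Bool.rec (motive := fun _ => Bool) (mRel MG [T_d, T_fi, T_fi] [T_fi, T_di, T_di, T_f, T_di] M (Nat.sub (MG u) (Nat.mod (MG u) M)) (nat_lit 40) z1 u (Nat.mod (MG u) M)) (mRel MG [T_ci, T_fi, T_bi, T_fi, T_ci] [T_bi, T_f, T_f, T_di] M (Nat.sub (MG u) (Nat.mod (MG u) M)) (nat_lit 40) z1 u (Nat.mod (MG u) M)) (Nat.ble (nat_lit 1096) j)) (Bool.rec (motive := fun _ => Bool) (mRel MG [T_c, T_bi] [T_fi, T_d, T_ci, T_fi, T_b, T_c, T_c] M (Nat.sub (MG u) (Nat.mod (MG u) M)) (nat_lit 40) z1 u (Nat.mod (MG u) M)) (Bool.rec (motive := fun _ => Bool) (mRel MG [T_c, T_f, T_b, T_fi, T_c] [T_b, T_f, T_ci] M (Nat.sub (MG u) (Nat.mod (MG u) M)) (nat_lit 40) z1 u (Nat.mod (MG u) M)) (mRel MG [T_ci, T_bi] [T_bi, T_di, T_ci, T_bi, T_di,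 T_fi] M (Nat.sub (MG u) (Nat.mod (MG u) M)) (nat_lit 40) z1 u (Nat.mod (MG u) M)) (Nat.ble (nat_lit 1099) j)) (Nat.ble (nat_lit 1098) j)) (Nat.ble (nat_lit 1097) j)) (Bool.rec (motive := fun _ => Bool) (Bool.rec (motive := fun _ => Bool) (mRel MG [T_c, T_c, T_bi, T_ci, T_b, T_ci] [T_di, T_c] M (Nat.sub (MG u) (Nat.mod (MG u) M)) (nat_lit 40) z1 u (Nat.mod (MG u) M)) (Bool.rec (motive := fun _ => Bool) (mRel MG [T_di, T_b, T_ci, T_d, T_b, T_f] [T_fi, T_c] M (Nat.sub (MG u) (Nat.mod (MG u) M)) (nat_lit 40) z1 u (Nat.mod (MG u) M)) (mRel MG [T_fi, T_b, T_c] [T_d, T_f, T_b, T_c, T_bi] M (Nat.sub (MG u) (Nat.mod (MG u) M)) (nat_lit 40) z1 u (Nat.mod (MG u) M)) (Nat.ble (nat_lit 1102) j)) (Nat.ble (nat_lit 1101) j)) (Bool.rec (motive := fun _ => Bool) (mRel MG [T_di, T_ci, T_bi, T_f] [T_c, T_bi, T_di, T_c] M (Nat.sub (MG u) (Nat.mod (MG u) M))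 (nat_lit 40) z1 u (Nat.mod (MG u) M)) (Bool.rec (motive := fun _ => Bool) (mRel MG [T_di, T_f, T_b, T_c] [T_d, T_b, T_c, T_bi] M (Nat.sub (MG u) (Nat.mod (MG u) M)) (nat_lit 40) z1 u (Nat.mod (MG u) M)) (mRel MG [T_ci, T_d, T_ci, T_bi, T_d] [T_d, T_bi, T_c] M (Nat.sub (MG u) (Nat.mod (MG u) M)) (nat_lit 40) z1 u (Nat.mod (MG u) M)) (Nat.ble (nat_lit 1105) j)) (Nat.ble (nat_lit 1104) j)) (Nat.ble (nat_lit 1103) j)) (Nat.ble (nat_lit 1100) j)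
noncomputable def dM_215 (j z1 z2 u : ℕ) : Bool :=
  Bool.rec (motive := fun _ => Bool) (dM_213 j z1 z2 u) (dM_214 j z1 z2 u) (Nat.ble (nat_lit 1095) j)
noncomputable def dM_216 (j z1 z2 u : ℕ) : Bool :=
  Bool.rec (motive := fun _ => Bool) (dM_212 j z1 z2 u) (dM_215 j z1 z2 u) (Nat.ble (nat_lit 1084) j)
noncomputable def dM_217 (j z1 z2 u : ℕ) : Bool :=
  Bool.rec (motive := fun _ => Bool) (Bool.rec (motive := fun _ => Bool) (Bool.rec (motive := fun _ => Bool) (mRel MG [T_d, T_b, T_ci, T_di, T_ci, T_bi, T_f, T_ci] [] M (Nat.sub (MG u) (Nat.mod (MG u) M)) (nat_lit 40) z1 u (Nat.mod (MG u) M)) (mRel MG [T_ci, T_bi] [T_d, T_ci, T_bi, T_d, T_fi, T_di] M (Nat.sub (MG u) (Nat.mod (MG u) M)) (nat_lit 40) z1 u (Nat.mod (MG u) M)) (Nat.ble (nat_lit 1107) j)) (Bool.rec (motive := fun _ => Bool) (mRel MG [T_c, T_fi, T_b, T_c, T_d] [T_d, T_b, T_ci]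 M (Nat.sub (MG u) (Nat.mod (MG u) M)) (nat_lit 40) z1 u (Nat.mod (MG u) M)) (Bool.rec (motive := fun _ => Bool) (mRel MG [T_fi, T_d, T_bi, T_fi, T_di, T_ci] [T_c, T_b] M (Nat.sub (MG u) (Nat.mod (MG u) M)) (nat_lit 40) z1 u (Nat.mod (MG u) M)) (mRel MG [T_c, T_di, T_bi, T_ci, T_b, T_d, T_f] [T_fi] M (Nat.sub (MG u) (Nat.mod (MG u) M)) (nat_lit 40) z1 u (Nat.mod (MG u) M)) (Nat.ble (nat_lit 1110) j)) (Nat.ble (nat_lit 1109) j)) (Nat.ble (nat_lit 1108) j)) (Bool.rec (motive := fun _ => Bool) (Bool.rec (motive := fun _ => Bool) (mRel MG [T_b, T_f, T_d, T_ei, T_bi, T_c, T_fi, T_ei] [T_f] M (Nat.sub (MG u) (Nat.mod (MG u) M)) (nat_lit 40) z1 u (Nat.mod (MG u) M)) (mRel MG [T_di, T_c] [T_ci, T_bi, T_d, T_ci, T_b, T_di] M (Nat.sub (MG u) (Nat.mod (MG u) M)) (nat_lit 40) z1 u (Nat.mod (MG u) M)) (Nat.ble (nat_lit 1112) j)) (Bool.rec (motive :=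 fun _ => Bool) (mRel MG [T_c, T_bi, T_d, T_ci, T_di, T_b, T_ci, T_di] [T_fi] M (Nat.sub (MG u) (Nat.mod (MG u) M)) (nat_lit 40) z1 u (Nat.mod (MG u) M)) (Bool.rec (motive := fun _ => Bool) (mRel MG [T_fi, T_bi] [T_c, T_di, T_b, T_f, T_c, T_di] M (Nat.sub (MG u) (Nat.mod (MG u) M)) (nat_lit 40) z1 u (Nat.mod (MG u) M)) (mRel MG [T_di, T_b, T_f] [T_c, T_b, T_b, T_ci, T_fi] M (Nat.sub (MG u) (Nat.mod (MG u) M)) (nat_lit 40) z1 u (Nat.mod (MG u) M)) (Nat.ble (nat_lit 1115) j)) (Nat.ble (nat_lit 1114) j)) (Nat.ble (nat_lit 1113) j)) (Nat.ble (nat_lit 1111) j)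
noncomputable def dM_218 (j z1 z2 u : ℕ) : Bool :=
  Bool.rec (motive := fun _ => Bool) (Bool.rec (motive := fun _ => Bool) (Bool.rec (motive := fun _ => Bool) (mRel MG [T_bi, T_d, T_c, T_b, T_b, T_ci, T_fi] [T_f] M (Nat.sub (MG u) (Nat.mod (MG u) M)) (nat_lit 40) z1 u (Nat.mod (MG u) M)) (mRel MG [T_c, T_bi, T_di, T_ci, T_bi, T_di, T_fi, T_b] [] M (Nat.sub (MG u) (Nat.mod (MG u) M)) (nat_lit 40) z1 u (Nat.mod (MG u) M)) (Nat.ble (nat_lit 1117) j)) (Bool.rec (motive := fun _ => Bool) (mRel MG [T_di, T_ci, T_f, T_b] [T_d, T_bi, T_f, T_c] M (Nat.sub (MG u) (Nat.mod (MG u) M)) (nat_lit 40) z1 u (Nat.mod (MG u) M)) (Bool.rec (motive := fun _ => Bool) (mRel MG [T_f, T_d] [T_b, T_c, T_bi, T_di, T_ci, T_bi] M (Nat.sub (MG u) (Nat.mod (MG u) M)) (nat_lit 40) z1 u (Nat.mod (MG u) M)) (mRel MG [T_b, T_ci] [T_di, T_ci, T_bi, T_di, T_fi, T_b] M (Nat.sub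 (MG u) (Nat.mod (MG u) M)) (nat_lit 40) z1 u (Nat.mod (MG u) M)) (Nat.ble (nat_lit 1120) j)) (Nat.ble (nat_lit 1119) j)) (Nat.ble (nat_lit 1118) j)) (Bool.rec (motive := fun _ => Bool) (Bool.rec (motive := fun _ => Bool) (mRel MG [T_f, T_d, T_fi, T_fi, T_d, T_fi, T_d, T_d] [] M (Nat.sub (MG u) (Nat.mod (MG u) M)) (nat_lit 40) z1 u (Nat.mod (MG u) M)) (Bool.rec (motive := fun _ => Bool) (mRel MG [T_b, T_ci, T_b] [T_c, T_bi, T_c, T_bi, T_c] M (Nat.sub (MG u) (Nat.mod (MG u) M)) (nat_lit 40) z1 u (Nat.mod (MG u) M)) (mRel MG [T_b, T_di, T_f, T_di, T_ci] [T_c, T_b, T_c] M (Nat.sub (MG u) (Nat.mod (MG u) M)) (nat_lit 40) z1 u (Nat.mod (MG u) M)) (Nat.ble (nat_lit 1123) j)) (Nat.ble (nat_lit 1122) j)) (Bool.rec (motive := fun _ => Bool) (mRel MG [T_fi, T_fi, T_d, T_fi] [T_di, T_fi, T_di, T_di] M (Nat.sub (MG u) (Nat.mod (MG u) M)) (nat_lit 40)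 z1 u (Nat.mod (MG u) M)) (Bool.rec (motive := fun _ => Bool) (mRel MG [T_b, T_c, T_d, T_c, T_bi] [T_f, T_ci, T_d] M (Nat.sub (MG u) (Nat.mod (MG u) M)) (nat_lit 40) z1 u (Nat.mod (MG u) M)) (mRel MG [T_fi, T_d, T_bi] [T_bi, T_c, T_fi, T_di, T_ci] M (Nat.sub (MG u) (Nat.mod (MG u) M)) (nat_lit 40) z1 u (Nat.mod (MG u) M)) (Nat.ble (nat_lit 1126) j)) (Nat.ble (nat_lit 1125) j)) (Nat.ble (nat_lit 1124) j)) (Nat.ble (nat_lit 1121) j)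
noncomputable def dM_219 (j z1 z2 u : ℕ) : Bool :=
  Bool.rec (motive := fun _ => Bool) (dM_217 j z1 z2 u) (dM_218 j z1 z2 u) (Nat.ble (nat_lit 1116) j)
noncomputable def dM_220 (j z1 z2 u : ℕ) : Bool :=
  Bool.rec (motive := fun _ => Bool) (Bool.rec (motive := fun _ => Bool) (Bool.rec (motive := fun _ => Bool) (mRel MG [T_d, T_f, T_di, T_b, T_c, T_di] [T_b, T_c] M (Nat.sub (MG u) (Nat.mod (MG u) M)) (nat_lit 40) z1 u (Nat.mod (MG u) M)) (mRel MG [T_ci, T_d, T_c, T_c, T_bi, T_ci] [T_c, T_bi] M (Nat.sub (MG u) (Nat.mod (MG u) M)) (nat_lit 40) z1 u (Nat.mod (MG u) M)) (Nat.ble (nat_lit 1128) j)) (Bool.rec (motive := fun _ => Bool) (mRel MG [T_f, T_di, T_ci, T_ci] [T_d, T_bi, T_c, T_b] M (Nat.sub (MG u) (Nat.mod (MG u) M)) (nat_lit 40) z1 u (Nat.mod (MG u) M)) (Bool.rec (motive := fun _ => Bool) (mRel MG [T_bi, T_c] [T_d, T_ci, T_ci, T_b,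 T_d, T_ci] M (Nat.sub (MG u) (Nat.mod (MG u) M)) (nat_lit 40) z1 u (Nat.mod (MG u) M)) (mRel MG [T_b, T_d] [T_c, T_b, T_d, T_ci, T_fi, T_fi] M (Nat.sub (MG u) (Nat.mod (MG u) M)) (nat_lit 40) z1 u (Nat.mod (MG u) M)) (Nat.ble (nat_lit 1131) j)) (Nat.ble (nat_lit 1130) j)) (Nat.ble (nat_lit 1129) j)) (Bool.rec (motive := fun _ => Bool) (Bool.rec (motive := fun _ => Bool) (mRel MG [T_b, T_f] [T_di, T_c, T_bi, T_d, T_fi, T_c] M (Nat.sub (MG u) (Nat.mod (MG u) M)) (nat_lit 40) z1 u (Nat.mod (MG u) M)) (Bool.rec (motive := fun _ => Bool) (mRel MG [T_fi, T_b, T_di, T_di, T_ci, T_f] [T_c, T_bi] M (Nat.sub (MG u) (Nat.mod (MG u) M)) (nat_lit 40) z1 u (Nat.mod (MG u) M)) (mRel MG [T_f, T_b, T_c, T_bi] [T_b, T_c, T_d, T_b] M (Nat.sub (MG u) (Nat.mod (MG u) M)) (nat_lit 40) z1 u (Nat.mod (MG u) M)) (Nat.ble (nat_lit 1134) j)) (Nat.ble (nat_lit 1133)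 j)) (Bool.rec (motive := fun _ => Bool) (mRel MG [T_f, T_c, T_bi, T_fi, T_c, T_d, T_d] [T_b] M (Nat.sub (MG u) (Nat.mod (MG u) M)) (nat_lit 40) z1 u (Nat.mod (MG u) M)) (Bool.rec (motive := fun _ => Bool) (mRel MG [T_f, T_ci, T_d] [T_b, T_c, T_d, T_c, T_bi] M (Nat.sub (MG u) (Nat.mod (MG u) M)) (nat_lit 40) z1 u (Nat.mod (MG u) M)) (mRel MG [T_di, T_fi, T_c, T_di] [T_d, T_ci, T_f, T_d] M (Nat.sub (MG u) (Nat.mod (MG u) M)) (nat_lit 40) z1 u (Nat.mod (MG u) M)) (Nat.ble (nat_lit 1137) j)) (Nat.ble (nat_lit 1136) j)) (Nat.ble (nat_lit 1135) j)) (Nat.ble (nat_lit 1132) j)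
noncomputable def dM_221 (j z1 z2 u : ℕ) : Bool :=
  Bool.rec (motive := fun _ => Bool) (Bool.rec (motive := fun _ => Bool) (Bool.rec (motive := fun _ => Bool) (mRel MG [T_d, T_b, T_fi, T_d, T_c, T_b, T_f, T_d] [] M (Nat.sub (MG u) (Nat.mod (MG u) M)) (nat_lit 40) z1 u (Nat.mod (MG u) M)) (mRel MG [T_d, T_b, T_c, T_d, T_b] [T_fi, T_b, T_c] M (Nat.sub (MG u) (Nat.mod (MG u) M)) (nat_lit 40) z1 u (Nat.mod (MG u) M)) (Nat.ble (nat_lit 1139) j)) (Bool.rec (motive := fun _ => Bool) (mRel MG [T_f, T_ci, T_f, T_di, T_b, T_ci, T_d] [T_bi] M (Nat.sub (MG u) (Nat.mod (MG u) M)) (nat_lit 40) z1 u (Nat.mod (MG u) M)) (Bool.rec (motive := fun _ => Bool) (mRel MG [T_fi, T_fi, T_bi, T_d, T_c, T_b, T_b, T_ci] [] M (Nat.sub (MG u) (Nat.mod (MG u) M)) (nat_lit 40) z1 u (Nat.mod (MG u) M)) (mRel MG [T_di, T_f, T_b, T_d, T_c, T_bi, T_ci, T_b, T_b] [] M (Nat.sub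 (MG u) (Nat.mod (MG u) M)) (nat_lit 40) z1 u (Nat.mod (MG u) M)) (Nat.ble (nat_lit 1142) j)) (Nat.ble (nat_lit 1141) j)) (Nat.ble (nat_lit 1140) j)) (Bool.rec (motive := fun _ => Bool) (Bool.rec (motive := fun _ => Bool) (mRel MG [T_c] [T_f, T_b, T_ci, T_fi, T_b, T_di, T_di] M (Nat.sub (MG u) (Nat.mod (MG u) M)) (nat_lit 40) z1 u (Nat.mod (MG u) M)) (Bool.rec (motive := fun _ => Bool) (mRel MG [T_c, T_bi, T_fi] [T_fi, T_b, T_di, T_di, T_ci] M (Nat.sub (MG u) (Nat.mod (MG u) M)) (nat_lit 40) z1 u (Nat.mod (MG u) M)) (mRel MG [T_di, T_bi, T_fi, T_d, T_bi, T_bi] [T_c, T_bi, T_ci] M (Nat.sub (MG u) (Nat.mod (MG u) M)) (nat_lit 40) z1 u (Nat.mod (MG u) M)) (Nat.ble (nat_lit 1145) j)) (Nat.ble (nat_lit 1144) j)) (Bool.rec (motive := fun _ => Bool) (mRel MG [T_c, T_b, T_c, T_d, T_f, T_b, T_di] [T_fi] M (Nat.sub (MG u) (Nat.mod (MG u) M)) (nat_lit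 40) z1 u (Nat.mod (MG u) M)) (Bool.rec (motive := fun _ => Bool) (mRel MG [T_c, T_c, T_bi, T_c] [T_d, T_c, T_c, T_bi] M (Nat.sub (MG u) (Nat.mod (MG u) M)) (nat_lit 40) z1 u (Nat.mod (MG u) M)) (mRel MG [T_d, T_d, T_b, T_fi] [T_fi, T_bi, T_ci, T_di] M (Nat.sub (MG u) (Nat.mod (MG u) M)) (nat_lit 40) z1 u (Nat.mod (MG u) M)) (Nat.ble (nat_lit 1148) j)) (Nat.ble (nat_lit 1147) j)) (Nat.ble (nat_lit 1146) j)) (Nat.ble (nat_lit 1143) j)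
noncomputable def dM_222 (j z1 z2 u : ℕ) : Bool :=
  Bool.rec (motive := fun _ => Bool) (dM_220 j z1 z2 u) (dM_221 j z1 z2 u) (Nat.ble (nat_lit 1138) j)
noncomputable def dM_223 (j z1 z2 u : ℕ) : Bool :=
  Bool.rec (motive := fun _ => Bool) (dM_219 j z1 z2 u) (dM_222 j z1 z2 u) (Nat.ble (nat_lit 1127) j)
noncomputable def dM_224 (j z1 z2 u : ℕ) : Bool :=
  Bool.rec (motive := fun _ => Bool) (dM_216 j z1 z2 u) (dM_223 j z1 z2 u) (Nat.ble (nat_lit 1106) j)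
noncomputable def dM_225 (j z1 z2 u : ℕ) : Bool :=
  Bool.rec (motive := fun _ => Bool) (dM_209 j z1 z2 u) (dM_224 j z1 z2 u) (Nat.ble (nat_lit 1063) j)
noncomputable def dM_226 (j z1 z2 u : ℕ) : Bool :=
  Bool.rec (motive := fun _ => Bool) (Bool.rec (motive := fun _ => Bool) (Bool.rec (motive := fun _ => Bool) (mRel MG [T_ei, T_f, T_c, T_di, T_f, T_ei] [T_f, T_ei, T_fi] M (Nat.sub (MG u) (Nat.mod (MG u) M)) (nat_lit 40) z1 u (Nat.mod (MG u) M)) (mRel MG [T_bi] [T_d, T_c, T_bi, T_ci, T_b, T_b, T_di, T_f] M (Nat.sub (MG u) (Nat.mod (MG u) M)) (nat_lit 40) z1 u (Nat.mod (MG u) M)) (Nat.ble (nat_lit 1150) j)) (Bool.rec (motive := fun _ => Bool) (mRel MG [T_b, T_b, T_c, T_bi] [T_di, T_c, T_f, T_b, T_b] M (Nat.sub (MG u) (Nat.mod (MG u) M)) (nat_lit 40) z1 u (Nat.mod (MG u) M)) (Bool.rec (motive := fun _ => Bool) (mRel MG [T_ci, T_ci, T_f, T_bi]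 [T_fi, T_bi, T_c, T_f] M (Nat.sub (MG u) (Nat.mod (MG u) M)) (nat_lit 40) z1 u (Nat.mod (MG u) M)) (mRel MG [T_fi, T_bi, T_ci] [T_d, T_d, T_b, T_fi, T_d] M (Nat.sub (MG u) (Nat.mod (MG u) M)) (nat_lit 40) z1 u (Nat.mod (MG u) M)) (Nat.ble (nat_lit 1153) j)) (Nat.ble (nat_lit 1152) j)) (Nat.ble (nat_lit 1151) j)) (Bool.rec (motive := fun _ => Bool) (Bool.rec (motive := fun _ => Bool) (mRel MG [T_b, T_f] [T_c, T_f, T_b, T_fi, T_c, T_c] M (Nat.sub (MG u) (Nat.mod (MG u) M)) (nat_lit 40) z1 u (Nat.mod (MG u) M)) (mRel MG [T_c, T_d, T_bi, T_c] [T_d, T_ci, T_bi, T_d] M (Nat.sub (MG u) (Nat.mod (MG u) M)) (nat_lit 40) z1 u (Nat.mod (MG u) M)) (Nat.ble (nat_lit 1155) j)) (Bool.rec (motive := fun _ => Bool) (mRel MG [T_d, T_f, T_d, T_fi, T_fi, T_d, T_fi] [T_di] M (Nat.sub (MG u) (Nat.mod (MG u) M)) (nat_lit 40) z1 u (Nat.mod (MG u) M)) (Bool.rec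 (motive := fun _ => Bool) (mRel MG [T_bi, T_fi, T_c, T_d] [T_ci, T_fi, T_b, T_di] M (Nat.sub (MG u) (Nat.mod (MG u) M)) (nat_lit 40) z1 u (Nat.mod (MG u) M)) (mRel MG [T_c, T_b, T_d] [T_b, T_d, T_f, T_f, T_c] M (Nat.sub (MG u) (Nat.mod (MG u) M)) (nat_lit 40) z1 u (Nat.mod (MG u) M)) (Nat.ble (nat_lit 1158) j)) (Nat.ble (nat_lit 1157) j)) (Nat.ble (nat_lit 1156) j)) (Nat.ble (nat_lit 1154) j)
noncomputable def dM_227 (j z1 z2 u : ℕ) : Bool :=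
  Bool.rec (motive := fun _ => Bool) (Bool.rec (motive := fun _ => Bool) (Bool.rec (motive := fun _ => Bool) (mRel MG [T_di, T_di, T_fi, T_c, T_di] [T_ci, T_f, T_d] M (Nat.sub (MG u) (Nat.mod (MG u) M)) (nat_lit 40) z1 u (Nat.mod (MG u) M)) (mRel MG [T_bi, T_c] [T_ci, T_ci, T_d, T_c, T_c, T_bi] M (Nat.sub (MG u) (Nat.mod (MG u) M)) (nat_lit 40) z1 u (Nat.mod (MG u) M)) (Nat.ble (nat_lit 1160) j)) (Bool.rec (motive := fun _ => Bool) (mRel MG [T_d, T_c, T_b, T_f, T_d, T_d, T_b] [T_f] M (Nat.sub (MG u) (Nat.mod (MG u) M)) (nat_lit 40) z1 u (Nat.mod (MG u) M)) (Bool.rec (motive := fun _ => Bool) (mRel MG [T_di, T_f, T_c, T_b, T_c, T_d, T_f] [T_bi] M (Nat.sub (MG u) (Nat.mod (MG u) M)) (nat_lit 40) z1 u (Nat.mod (MG u) M)) (mRel MG [T_ci, T_d] [T_b, T_ci, T_di, T_c, T_b, T_ci] M (Nat.sub (MG u) (Nat.mod (MG u) M)) (nat_lit 40) z1 u (Nat.mod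 (MG u) M)) (Nat.ble (nat_lit 1163) j)) (Nat.ble (nat_lit 1162) j)) (Nat.ble (nat_lit 1161) j)) (Bool.rec (motive := fun _ => Bool) (Bool.rec (motive := fun _ => Bool) (mRel MG [T_b, T_f] [T_fi, T_b, T_b, T_f, T_ci, T_d] M (Nat.sub (MG u) (Nat.mod (MG u) M)) (nat_lit 40) z1 u (Nat.mod (MG u) M)) (Bool.rec (motive := fun _ => Bool) (mRel MG [T_c, T_di] [T_b, T_di, T_ci, T_d, T_ci, T_bi] M (Nat.sub (MG u) (Nat.mod (MG u) M)) (nat_lit 40) z1 u (Nat.mod (MG u) M)) (mRel MG [T_f, T_d, T_c, T_bi, T_ci] [T_ci, T_ci, T_fi, T_c] M (Nat.sub (MG u) (Nat.mod (MG u) M)) (nat_lit 40) z1 u (Nat.mod (MG u) M)) (Nat.ble (nat_lit 1166) j)) (Nat.ble (nat_lit 1165) j)) (Bool.rec (motive := fun _ => Bool) (mRel MG [T_d, T_ci, T_b] [T_b, T_c, T_di, T_c, T_d] M (Nat.sub (MG u) (Nat.mod (MG u) M)) (nat_lit 40) z1 u (Nat.mod (MG u) M)) (Bool.rec (motive := fun _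 => Bool) (mRel MG [T_d] [T_f, T_b, T_c, T_b, T_ci, T_bi, T_di] M (Nat.sub (MG u) (Nat.mod (MG u) M)) (nat_lit 40) z1 u (Nat.mod (MG u) M)) (mRel MG [T_ci, T_fi, T_bi, T_d, T_ci, T_fi, T_bi] [T_di] M (Nat.sub (MG u) (Nat.mod (MG u) M)) (nat_lit 40) z1 u (Nat.mod (MG u) M)) (Nat.ble (nat_lit 1169) j)) (Nat.ble (nat_lit 1168) j)) (Nat.ble (nat_lit 1167) j)) (Nat.ble (nat_lit 1164) j)
noncomputable def dM_228 (j z1 z2 u : ℕ) : Bool :=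
  Bool.rec (motive := fun _ => Bool) (dM_226 j z1 z2 u) (dM_227 j z1 z2 u) (Nat.ble (nat_lit 1159) j)
noncomputable def dM_229 (j z1 z2 u : ℕ) : Bool :=
  Bool.rec (motive := fun _ => Bool) (Bool.rec (motive := fun _ => Bool) (Bool.rec (motive := fun _ => Bool) (mRel MG [T_ci, T_fi, T_fi, T_ci, T_ci, T_di] [T_di, T_c, T_f] M (Nat.sub (MG u) (Nat.mod (MG u) M)) (nat_lit 40) z1 u (Nat.mod (MG u) M)) (mRel MG [T_b, T_ci, T_fi, T_b, T_di, T_di, T_ci] [T_fi] M (Nat.sub (MG u) (Nat.mod (MG u) M)) (nat_lit 40) z1 u (Nat.mod (MG u) M)) (Nat.ble (nat_lit 1171) j)) (Bool.rec (motive := fun _ => Bool) (mRel MG [T_c] [T_b, T_fi, T_d, T_bi, T_c, T_d, T_f] M (Nat.sub (MG u) (Nat.mod (MG u) M)) (nat_lit 40) z1 u (Nat.mod (MG u) M)) (Bool.rec (motive := fun _ => Bool) (mRel MG [T_fi, T_c, T_d, T_d] [T_b, T_ci, T_fi, T_b] M (Nat.sub (MG u) (Nat.mod (MG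 u) M)) (nat_lit 40) z1 u (Nat.mod (MG u) M)) (mRel MG [T_c, T_bi, T_ci, T_d, T_c] [T_di, T_c, T_b] M (Nat.sub (MG u) (Nat.mod (MG u) M)) (nat_lit 40) z1 u (Nat.mod (MG u) M)) (Nat.ble (nat_lit 1174) j)) (Nat.ble (nat_lit 1173) j)) (Nat.ble (nat_lit 1172) j)) (Bool.rec (motive := fun _ => Bool) (Bool.rec (motive := fun _ => Bool) (mRel MG [T_bi, T_fi] [T_f, T_di, T_c, T_fi, T_bi, T_bi] M (Nat.sub (MG u) (Nat.mod (MG u) M)) (nat_lit 40) z1 u (Nat.mod (MG u) M)) (Bool.rec (motive := fun _ => Bool) (mRel MG [T_fi, T_di, T_e, T_fi] [T_di, T_ci, T_ei, T_fi, T_e] M (Nat.sub (MG u) (Nat.mod (MG u) M)) (nat_lit 40) z1 u (Nat.mod (MG u) M)) (mRel MG [T_b, T_f, T_ci, T_ci, T_f, T_bi, T_fi] [T_c] M (Nat.sub (MG u) (Nat.mod (MG u) M)) (nat_lit 40) z1 u (Nat.mod (MG u) M)) (Nat.ble (nat_lit 1177) j)) (Nat.ble (nat_lit 1176) j)) (Bool.rec (motive := fun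 _ => Bool) (mRel MG [T_f, T_bi, T_di, T_di, T_fi] [T_d, T_c, T_b] M (Nat.sub (MG u) (Nat.mod (MG u) M)) (nat_lit 40) z1 u (Nat.mod (MG u) M)) (Bool.rec (motive := fun _ => Bool) (mRel MG [T_bi, T_ci, T_di, T_f, T_bi, T_di] [T_f, T_d] M (Nat.sub (MG u) (Nat.mod (MG u) M)) (nat_lit 40) z1 u (Nat.mod (MG u) M)) (mRel MG [T_c, T_d, T_d, T_f] [T_b, T_ci, T_f, T_di, T_b] M (Nat.sub (MG u) (Nat.mod (MG u) M)) (nat_lit 40) z1 u (Nat.mod (MG u) M)) (Nat.ble (nat_lit 1180) j)) (Nat.ble (nat_lit 1179) j)) (Nat.ble (nat_lit 1178) j)) (Nat.ble (nat_lit 1175) j)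
noncomputable def dM_230 (j z1 z2 u : ℕ) : Bool :=
  Bool.rec (motive := fun _ => Bool) (Bool.rec (motive := fun _ => Bool) (Bool.rec (motive := fun _ => Bool) (mRel MG [T_ci] [T_b, T_ci, T_di, T_c, T_b, T_ci, T_di] M (Nat.sub (MG u) (Nat.mod (MG u) M)) (nat_lit 40) z1 u (Nat.mod (MG u) M)) (mRel MG [T_bi, T_c] [T_di, T_f, T_di, T_ci, T_ci, T_bi] M (Nat.sub (MG u) (Nat.mod (MG u) M)) (nat_lit 40) z1 u (Nat.mod (MG u) M)) (Nat.ble (nat_lit 1182) j)) (Bool.rec (motive := fun _ => Bool) (mRel MG [T_di, T_f, T_di] [T_d, T_f, T_d, T_fi, T_fi] M (Nat.sub (MG u) (Nat.mod (MG u) M)) (nat_lit 40) z1 u (Nat.mod (MG u) M)) (Bool.rec (motive := fun _ => Bool) (mRel MG [T_d, T_d, T_f, T_d] [T_f, T_di, T_f, T_f] M (Nat.sub (MG u) (Nat.mod (MG u) M)) (nat_lit 40) z1 u (Nat.mod (MG u) M)) (mRel MG [T_b, T_d, T_ci, T_fi, T_fi, T_di, T_bi] [T_ci] M (Nat.sub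 (MG u) (Nat.mod (MG u) M)) (nat_lit 40) z1 u (Nat.mod (MG u) M)) (Nat.ble (nat_lit 1185) j)) (Nat.ble (nat_lit 1184) j)) (Nat.ble (nat_lit 1183) j)) (Bool.rec (motive := fun _ => Bool) (Bool.rec (motive := fun _ => Bool) (mRel MG [T_di, T_di, T_b, T_di, T_bi, T_di, T_di, T_b] [] M (Nat.sub (MG u) (Nat.mod (MG u) M)) (nat_lit 40) z1 u (Nat.mod (MG u) M)) (Bool.rec (motive := fun _ => Bool) (mRel MG [T_ci, T_b, T_d, T_ci] [T_c, T_di, T_bi, T_c] M (Nat.sub (MG u) (Nat.mod (MG u) M)) (nat_lit 40) z1 u (Nat.mod (MG u) M)) (mRel MG [T_d, T_bi, T_fi, T_di] [T_f, T_c, T_b, T_c] M (Nat.sub (MG u) (Nat.mod (MG u) M)) (nat_lit 40) z1 u (Nat.mod (MG u) M)) (Nat.ble (nat_lit 1188) j)) (Nat.ble (nat_lit 1187) j)) (Bool.rec (motive := fun _ => Bool) (mRel MG [T_c, T_d] [T_f, T_d, T_c, T_c, T_fi, T_di, T_fi] M (Nat.sub (MG u) (Nat.mod (MG u) M)) (nat_lit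 40) z1 u (Nat.mod (MG u) M)) (Bool.rec (motive := fun _ => Bool) (mRel MG [T_d, T_c, T_b, T_b] [T_b, T_f, T_f, T_c] M (Nat.sub (MG u) (Nat.mod (MG u) M)) (nat_lit 40) z1 u (Nat.mod (MG u) M)) (mRel MG [T_c, T_d, T_b, T_b, T_ci, T_bi] [T_bi, T_f] M (Nat.sub (MG u) (Nat.mod (MG u) M)) (nat_lit 40) z1 u (Nat.mod (MG u) M)) (Nat.ble (nat_lit 1191) j)) (Nat.ble (nat_lit 1190) j)) (Nat.ble (nat_lit 1189) j)) (Nat.ble (nat_lit 1186) j)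
noncomputable def dM_231 (j z1 z2 u : ℕ) : Bool :=
  Bool.rec (motive := fun _ => Bool) (dM_229 j z1 z2 u) (dM_230 j z1 z2 u) (Nat.ble (nat_lit 1181) j)
noncomputable def dM_232 (j z1 z2 u : ℕ) : Bool :=
  Bool.rec (motive := fun _ => Bool) (dM_228 j z1 z2 u) (dM_231 j z1 z2 u) (Nat.ble (nat_lit 1170) j)
noncomputable def dM_233 (j z1 z2 u : ℕ) : Bool :=
  Bool.rec (motive := fun _ => Bool) (Bool.rec (motive := fun _ => Bool) (Bool.rec (motive := fun _ => Bool) (mRel MG [T_di] [T_b, T_d, T_bi, T_d, T_d, T_bi, T_d] M (Nat.sub (MG u) (Nat.mod (MG u) M)) (nat_lit 40) z1 u (Nat.mod (MG u) M)) (mRel MG [T_f, T_b, T_di, T_f, T_c, T_b] [T_di, T_ci] M (Nat.sub (MG u) (Nat.mod (MG u) M)) (nat_lit 40) z1 u (Nat.mod (MG u) M)) (Nat.ble (nat_lit 1193) j)) (Bool.rec (motive := fun _ => Bool) (mRel MG [T_f, T_b, T_ci] [T_c, T_d, T_d, T_bi, T_f] M (Nat.sub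 (MG u) (Nat.mod (MG u) M)) (nat_lit 40) z1 u (Nat.mod (MG u) M)) (Bool.rec (motive := fun _ => Bool) (mRel MG [T_d, T_fi, T_di, T_e, T_fi, T_ei] [T_ci, T_ei, T_fi] M (Nat.sub (MG u) (Nat.mod (MG u) M)) (nat_lit 40) z1 u (Nat.mod (MG u) M)) (mRel MG [T_f, T_b] [T_d, T_d, T_b, T_c, T_bi, T_ci] M (Nat.sub (MG u) (Nat.mod (MG u) M)) (nat_lit 40) z1 u (Nat.mod (MG u) M)) (Nat.ble (nat_lit 1196) j)) (Nat.ble (nat_lit 1195) j)) (Nat.ble (nat_lit 1194) j)) (Bool.rec (motive := fun _ => Bool) (Bool.rec (motive := fun _ => Bool) (mRel MG [T_f, T_d] [T_b, T_c, T_b, T_ci, T_bi, T_fi] M (Nat.sub (MG u) (Nat.mod (MG u) M)) (nat_lit 40) z1 u (Nat.mod (MG u) M)) (mRel MG [T_f, T_di] [T_d, T_bi, T_c, T_b, T_c, T_c] M (Nat.sub (MG u) (Nat.mod (MG u) M)) (nat_lit 40) z1 u (Nat.mod (MG u) M)) (Nat.ble (nat_lit 1198) j)) (Bool.rec (motive := fun _ => Bool)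 (mRel MG [T_bi, T_f, T_c, T_bi] [T_di, T_di, T_ci, T_f] M (Nat.sub (MG u) (Nat.mod (MG u) M)) (nat_lit 40) z1 u (Nat.mod (MG u) M)) (Bool.rec (motive := fun _ => Bool) (mRel MG [T_d, T_d] [T_b, T_di, T_bi, T_di, T_di, T_b] M (Nat.sub (MG u) (Nat.mod (MG u) M)) (nat_lit 40) z1 u (Nat.mod (MG u) M)) (mRel MG [T_f, T_di, T_b, T_c, T_di] [T_di, T_b, T_c] M (Nat.sub (MG u) (Nat.mod (MG u) M)) (nat_lit 40) z1 u (Nat.mod (MG u) M)) (Nat.ble (nat_lit 1201) j)) (Nat.ble (nat_lit 1200) j)) (Nat.ble (nat_lit 1199) j)) (Nat.ble (nat_lit 1197) j)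
noncomputable def dM_234 (j z1 z2 u : ℕ) : Bool :=
  Bool.rec (motive := fun _ => Bool) (Bool.rec (motive := fun _ => Bool) (Bool.rec (motive := fun _ => Bool) (mRel MG [T_d, T_bi, T_d, T_d, T_bi, T_d, T_d] [T_bi] M (Nat.sub (MG u) (Nat.mod (MG u) M)) (nat_lit 40) z1 u (Nat.mod (MG u) M)) (mRel MG [T_ci, T_bi, T_fi, T_di] [T_bi, T_ci, T_bi, T_f] M (Nat.sub (MG u) (Nat.mod (MG u) M)) (nat_lit 40) z1 u (Nat.mod (MG u) M)) (Nat.ble (nat_lit 1203) j)) (Bool.rec (motive := fun _ => Bool) (mRel MG [T_c, T_bi, T_ci, T_b, T_ci, T_ci] [T_ci, T_di] M (Nat.sub (MG u) (Nat.mod (MG u) M)) (nat_lit 40) z1 u (Nat.mod (MG u) M)) (Bool.rec (motive := fun _ => Bool) (mRel MG [T_ci, T_di, T_ci, T_bi, T_f] [T_bi, T_di, T_c] M (Nat.sub (MG u) (Nat.mod (MG u) M)) (nat_lit 40) z1 u (Nat.mod (MG u) M)) (mRel MG [T_ci, T_bi, T_f, T_d, T_f] [T_b, T_ci, T_bi] M (Nat.sub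 (MG u) (Nat.mod (MG u) M)) (nat_lit 40) z1 u (Nat.mod (MG u) M)) (Nat.ble (nat_lit 1206) j)) (Nat.ble (nat_lit 1205) j)) (Nat.ble (nat_lit 1204) j)) (Bool.rec (motive := fun _ => Bool) (Bool.rec (motive := fun _ => Bool) (mRel MG [T_b, T_c, T_d, T_c, T_bi, T_di, T_c] [T_f] M (Nat.sub (MG u) (Nat.mod (MG u) M)) (nat_lit 40) z1 u (Nat.mod (MG u) M)) (Bool.rec (motive := fun _ => Bool) (mRel MG [T_d, T_f, T_di] [T_b, T_c, T_d, T_ci, T_bi] M (Nat.sub (MG u) (Nat.mod (MG u) M)) (nat_lit 40) z1 u (Nat.mod (MG u) M)) (mRel MG [T_b, T_c] [T_di, T_di, T_f, T_b, T_c, T_b] M (Nat.sub (MG u) (Nat.mod (MG u) M)) (nat_lit 40) z1 u (Nat.mod (MG u) M)) (Nat.ble (nat_lit 1209) j)) (Nat.ble (nat_lit 1208) j)) (Bool.rec (motive := fun _ => Bool) (mRel MG [T_d, T_b] [T_di, T_f, T_b, T_c, T_b, T_ci] M (Nat.sub (MG u) (Nat.mod (MG u) M)) (nat_lit 40) z1 u (Nat.mod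 (MG u) M)) (Bool.rec (motive := fun _ => Bool) (mRel MG [T_d, T_ci] [T_ci, T_bi, T_d, T_f, T_di, T_b] M (Nat.sub (MG u) (Nat.mod (MG u) M)) (nat_lit 40) z1 u (Nat.mod (MG u) M)) (mRel MG [T_d, T_fi] [T_b, T_c, T_di, T_ci, T_bi, T_d] M (Nat.sub (MG u) (Nat.mod (MG u) M)) (nat_lit 40) z1 u (Nat.mod (MG u) M)) (Nat.ble (nat_lit 1212) j)) (Nat.ble (nat_lit 1211) j)) (Nat.ble (nat_lit 1210) j)) (Nat.ble (nat_lit 1207) j)
noncomputable def dM_235 (j z1 z2 u : ℕ) : Bool :=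
  Bool.rec (motive := fun _ => Bool) (dM_233 j z1 z2 u) (dM_234 j z1 z2 u) (Nat.ble (nat_lit 1202) j)
noncomputable def dM_236 (j z1 z2 u : ℕ) : Bool :=
  Bool.rec (motive := fun _ => Bool) (Bool.rec (motive := fun _ => Bool) (Bool.rec (motive := fun _ => Bool) (mRel MG [T_f, T_b, T_fi] [T_ci, T_b, T_f, T_ci, T_ci] M (Nat.sub (MG u) (Nat.mod (MG u) M)) (nat_lit 40) z1 u (Nat.mod (MG u) M)) (mRel MG [T_d, T_d, T_ci] [T_fi, T_c, T_di, T_di, T_fi] M (Nat.sub (MG u) (Nat.mod (MG u) M)) (nat_lit 40) z1 u (Nat.mod (MG u) M)) (Nat.ble (nat_lit 1214) j)) (Bool.rec (motive := fun _ => Bool) (mRel MG [T_c, T_bi, T_c, T_bi, T_c, T_bi, T_c, T_bi] [] M (Nat.sub (MG u) (Nat.mod (MG u) M)) (nat_lit 40) z1 u (Nat.mod (MG u) M)) (Bool.rec (motive := fun _ => Bool) (mRel MG [T_bi, T_c, T_d] [T_di, T_f, T_bi, T_c, T_fi] M (Nat.sub (MG u) (Nat.mod (MG u) M))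 (nat_lit 40) z1 u (Nat.mod (MG u) M)) (mRel MG [T_c, T_d, T_b, T_ci] [T_bi, T_di, T_fi, T_b] M (Nat.sub (MG u) (Nat.mod (MG u) M)) (nat_lit 40) z1 u (Nat.mod (MG u) M)) (Nat.ble (nat_lit 1217) j)) (Nat.ble (nat_lit 1216) j)) (Nat.ble (nat_lit 1215) j)) (Bool.rec (motive := fun _ => Bool) (Bool.rec (motive := fun _ => Bool) (mRel MG [T_ci, T_b, T_di, T_ci, T_d] [T_di, T_b, T_c] M (Nat.sub (MG u) (Nat.mod (MG u) M)) (nat_lit 40) z1 u (Nat.mod (MG u) M)) (Bool.rec (motive := fun _ => Bool) (mRel MG [T_d, T_f, T_di, T_ci, T_ei, T_fi, T_e, T_f] [T_e] M (Nat.sub (MG u) (Nat.mod (MG u) M)) (nat_lit 40) z1 u (Nat.mod (MG u) M)) (mRel MG [T_c, T_di, T_bi, T_ci, T_b] [T_fi, T_fi, T_di] M (Nat.sub (MG u) (Nat.mod (MG u) M)) (nat_lit 40) z1 u (Nat.mod (MG u) M)) (Nat.ble (nat_lit 1220) j)) (Nat.ble (nat_lit 1219) j)) (Bool.rec (motive := fun _ => Bool)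 (mRel MG [T_bi, T_d, T_ci, T_fi, T_bi] [T_f, T_c, T_di] M (Nat.sub (MG u) (Nat.mod (MG u) M)) (nat_lit 40) z1 u (Nat.mod (MG u) M)) (Bool.rec (motive := fun _ => Bool) (mRel MG [T_bi, T_d] [T_c, T_di, T_ci, T_bi, T_d, T_f] M (Nat.sub (MG u) (Nat.mod (MG u) M)) (nat_lit 40) z1 u (Nat.mod (MG u) M)) (mRel MG [T_c, T_d, T_f, T_b, T_di, T_f] [T_bi, T_ci] M (Nat.sub (MG u) (Nat.mod (MG u) M)) (nat_lit 40) z1 u (Nat.mod (MG u) M)) (Nat.ble (nat_lit 1223) j)) (Nat.ble (nat_lit 1222) j)) (Nat.ble (nat_lit 1221) j)) (Nat.ble (nat_lit 1218) j)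
noncomputable def dM_237 (j z1 z2 u : ℕ) : Bool :=
  Bool.rec (motive := fun _ => Bool) (Bool.rec (motive := fun _ => Bool) (Bool.rec (motive := fun _ => Bool) (mRel MG [T_fi, T_c, T_d, T_d, T_bi, T_f] [T_b, T_ci] M (Nat.sub (MG u) (Nat.mod (MG u) M)) (nat_lit 40) z1 u (Nat.mod (MG u) M)) (mRel MG [T_b, T_c, T_d] [T_ci, T_fi, T_d, T_bi, T_fi] M (Nat.sub (MG u) (Nat.mod (MG u) M)) (nat_lit 40) z1 u (Nat.mod (MG u) M)) (Nat.ble (nat_lit 1225) j)) (Bool.rec (motive := fun _ => Bool) (mRel MG [T_c, T_bi, T_ci, T_bi, T_fi, T_d] [T_bi, T_di] M (Nat.sub (MG u) (Nat.mod (MG u) M)) (nat_lit 40) z1 u (Nat.mod (MG u) M)) (Bool.rec (motive := fun _ => Bool) (mRel MG [T_c, T_bi, T_di, T_ci] [T_bi, T_f, T_d, T_b] M (Nat.sub (MG u) (Nat.mod (MG u) M)) (nat_lit 40) z1 u (Nat.mod (MG u) M)) (mRel MG [T_f, T_b, T_c, T_b, T_ci, T_bi, T_di, T_di] [] M (Nat.sub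 (MG u) (Nat.mod (MG u) M)) (nat_lit 40) z1 u (Nat.mod (MG u) M)) (Nat.ble (nat_lit 1228) j)) (Nat.ble (nat_lit 1227) j)) (Nat.ble (nat_lit 1226) j)) (Bool.rec (motive := fun _ => Bool) (Bool.rec (motive := fun _ => Bool) (mRel MG [T_d, T_c, T_b, T_b, T_ci, T_fi] [T_b, T_f] M (Nat.sub (MG u) (Nat.mod (MG u) M)) (nat_lit 40) z1 u (Nat.mod (MG u) M)) (Bool.rec (motive := fun _ => Bool) (mRel MG [T_fi, T_di, T_b, T_c, T_d, T_ci] [T_di, T_b] M (Nat.sub (MG u) (Nat.mod (MG u) M)) (nat_lit 40) z1 u (Nat.mod (MG u) M)) (mRel MG [T_fi, T_ci, T_b, T_f] [T_b, T_fi, T_c, T_c] M (Nat.sub (MG u) (Nat.mod (MG u) M)) (nat_lit 40) z1 u (Nat.mod (MG u) M)) (Nat.ble (nat_lit 1231) j)) (Nat.ble (nat_lit 1230) j)) (Bool.rec (motive := fun _ => Bool) (mRel MG [T_di, T_b, T_c, T_d, T_ci, T_bi, T_d] [T_f] M (Nat.sub (MG u) (Nat.mod (MG u) M)) (nat_lit 40) z1 u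 (Nat.mod (MG u) M)) (Bool.rec (motive := fun _ => Bool) (mRel MG [T_ci, T_f, T_b] [T_d, T_d, T_bi, T_f, T_c] M (Nat.sub (MG u) (Nat.mod (MG u) M)) (nat_lit 40) z1 u (Nat.mod (MG u) M)) (mRel MG [T_ci, T_f, T_di, T_b, T_ci, T_d, T_b] [T_fi] M (Nat.sub (MG u) (Nat.mod (MG u) M)) (nat_lit 40) z1 u (Nat.mod (MG u) M)) (Nat.ble (nat_lit 1234) j)) (Nat.ble (nat_lit 1233) j)) (Nat.ble (nat_lit 1232) j)) (Nat.ble (nat_lit 1229) j)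
noncomputable def dM_238 (j z1 z2 u : ℕ) : Bool :=
  Bool.rec (motive := fun _ => Bool) (dM_236 j z1 z2 u) (dM_237 j z1 z2 u) (Nat.ble (nat_lit 1224) j)
noncomputable def dM_239 (j z1 z2 u : ℕ) : Bool :=
  Bool.rec (motive := fun _ => Bool) (dM_235 j z1 z2 u) (dM_238 j z1 z2 u) (Nat.ble (nat_lit 1213) j)
noncomputable def dM_240 (j z1 z2 u : ℕ) : Bool :=
  Bool.rec (motive := fun _ => Bool) (dM_232 j z1 z2 u) (dM_239 j z1 z2 u) (Nat.ble (nat_lit 1192) j)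
noncomputable def dM_241 (j z1 z2 u : ℕ) : Bool :=
  Bool.rec (motive := fun _ => Bool) (Bool.rec (motive := fun _ => Bool) (Bool.rec (motive := fun _ => Bool) (mRel MG [T_di, T_f, T_c] [T_bi, T_fi, T_di, T_ci, T_bi] M (Nat.sub (MG u) (Nat.mod (MG u) M)) (nat_lit 40) z1 u (Nat.mod (MG u) M)) (mRel MG [T_c, T_b, T_d, T_ci, T_fi, T_fi] [T_b, T_d] M (Nat.sub (MG u) (Nat.mod (MG u) M)) (nat_lit 40) z1 u (Nat.mod (MG u) M)) (Nat.ble (nat_lit 1236) j)) (Bool.rec (motive := fun _ => Bool) (mRel MG [T_c, T_bi, T_c, T_b, T_ci, T_ci, T_di, T_c] [] M (Nat.sub (MG u) (Nat.mod (MG u) M)) (nat_lit 40) z1 u (Nat.mod (MG u) M)) (Bool.rec (motive := fun _ => Bool) (mRel MG [T_d, T_f, T_ci, T_b, T_fi, T_d, T_bi, T_c] [] M (Nat.sub (MG u) (Nat.mod (MG u) M)) (nat_lit 40) z1 u (Nat.mod (MG u) M)) (mRel MG [T_d, T_c, T_bi, T_di] [T_ci, T_bi, T_f, T_ci] M (Nat.sub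 (MG u) (Nat.mod (MG u) M)) (nat_lit 40) z1 u (Nat.mod (MG u) M)) (Nat.ble (nat_lit 1239) j)) (Nat.ble (nat_lit 1238) j)) (Nat.ble (nat_lit 1237) j)) (Bool.rec (motive := fun _ => Bool) (Bool.rec (motive := fun _ => Bool) (mRel MG [T_c, T_b, T_ci, T_bi, T_fi, T_di] [T_bi, T_f] M (Nat.sub (MG u) (Nat.mod (MG u) M)) (nat_lit 40) z1 u (Nat.mod (MG u) M)) (mRel MG [T_b, T_c, T_b, T_ci, T_bi] [T_f, T_d, T_f] M (Nat.sub (MG u) (Nat.mod (MG u) M)) (nat_lit 40) z1 u (Nat.mod (MG u) M)) (Nat.ble (nat_lit 1241) j)) (Bool.rec (motive := fun _ => Bool) (mRel MG [T_ci, T_b, T_ci, T_ci, T_d, T_c, T_c] [T_b] M (Nat.sub (MG u) (Nat.mod (MG u) M)) (nat_lit 40) z1 u (Nat.mod (MG u) M)) (Bool.rec (motive := fun _ => Bool) (mRel MG [T_d, T_fi, T_di, T_b, T_c, T_d, T_ci, T_bi] [] M (Nat.sub (MG u) (Nat.mod (MG u) M)) (nat_lit 40) z1 u (Nat.mod (MG u) M)) (mRel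 MG [T_c, T_d] [T_bi, T_d, T_f, T_di, T_b, T_c] M (Nat.sub (MG u) (Nat.mod (MG u) M)) (nat_lit 40) z1 u (Nat.mod (MG u) M)) (Nat.ble (nat_lit 1244) j)) (Nat.ble (nat_lit 1243) j)) (Nat.ble (nat_lit 1242) j)) (Nat.ble (nat_lit 1240) j)
noncomputable def dM_242 (j z1 z2 u : ℕ) : Bool :=
  Bool.rec (motive := fun _ => Bool) (Bool.rec (motive := fun _ => Bool) (Bool.rec (motive := fun _ => Bool) (mRel MG [T_c, T_d] [T_bi, T_f, T_b, T_c, T_bi, T_bi] M (Nat.sub (MG u) (Nat.mod (MG u) M)) (nat_lit 40) z1 u (Nat.mod (MG u) M)) (mRel MG [T_b, T_d, T_bi, T_d, T_d, T_bi, T_d, T_d] [] M (Nat.sub (MG u) (Nat.mod (MG u) M)) (nat_lit 40) z1 u (Nat.mod (MG u) M)) (Nat.ble (nat_lit 1246) j)) (Bool.rec (motive := fun _ => Bool) (mRel MG [T_c, T_di, T_f, T_f, T_e, T_fi] [T_ei, T_fi, T_e] M (Nat.sub (MG u) (Nat.mod (MG u) M)) (nat_lit 40) z1 u (Nat.mod (MG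 u) M)) (Bool.rec (motive := fun _ => Bool) (mRel MG [T_d, T_bi] [T_bi, T_di, T_di, T_b, T_di, T_di] M (Nat.sub (MG u) (Nat.mod (MG u) M)) (nat_lit 40) z1 u (Nat.mod (MG u) M)) (mRel MG [T_di, T_b, T_c, T_di, T_ci, T_bi, T_d, T_f] [] M (Nat.sub (MG u) (Nat.mod (MG u) M)) (nat_lit 40) z1 u (Nat.mod (MG u) M)) (Nat.ble (nat_lit 1249) j)) (Nat.ble (nat_lit 1248) j)) (Nat.ble (nat_lit 1247) j)) (Bool.rec (motive := fun _ => Bool) (Bool.rec (motive := fun _ => Bool) (mRel MG [T_bi, T_ci, T_fi] [T_c, T_d, T_f, T_b, T_di] M (Nat.sub (MG u) (Nat.mod (MG u) M)) (nat_lit 40) z1 u (Nat.mod (MG u) M)) (Bool.rec (motive := fun _ => Bool) (mRel MG [T_b, T_b, T_di, T_f, T_b] [T_c, T_b, T_ci, T_di] M (Nat.sub (MG u) (Nat.mod (MG u) M)) (nat_lit 40) z1 u (Nat.mod (MG u) M)) (mRel MG [T_di, T_fi, T_bi, T_ci, T_di, T_f, T_bi] [T_d] M (Nat.sub (MG u) (Nat.mod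 (MG u) M)) (nat_lit 40) z1 u (Nat.mod (MG u) M)) (Nat.ble (nat_lit 1252) j)) (Nat.ble (nat_lit 1251) j)) (Bool.rec (motive := fun _ => Bool) (mRel MG [T_c, T_bi, T_fi, T_c, T_d, T_d] [T_fi, T_b] M (Nat.sub (MG u) (Nat.mod (MG u) M)) (nat_lit 40) z1 u (Nat.mod (MG u) M)) (Bool.rec (motive := fun _ => Bool) (mRel MG [T_d, T_fi, T_d, T_bi, T_c, T_b, T_c] [T_ci] M (Nat.sub (MG u) (Nat.mod (MG u) M)) (nat_lit 40) z1 u (Nat.mod (MG u) M)) (mRel MG [T_ci, T_ci, T_bi, T_ci, T_b] [T_d, T_fi, T_d] M (Nat.sub (MG u) (Nat.mod (MG u) M)) (nat_lit 40) z1 u (Nat.mod (MG u) M)) (Nat.ble (nat_lit 1255) j)) (Nat.ble (nat_lit 1254) j)) (Nat.ble (nat_lit 1253) j)) (Nat.ble (nat_lit 1250) j)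
noncomputable def dM_243 (j z1 z2 u : ℕ) : Bool :=
  Bool.rec (motive := fun _ => Bool) (dM_241 j z1 z2 u) (dM_242 j z1 z2 u) (Nat.ble (nat_lit 1245) j)
noncomputable def dM_244 (j z1 z2 u : ℕ) : Bool :=
  Bool.rec (motive := fun _ => Bool) (Bool.rec (motive := fun _ => Bool) (Bool.rec (motive := fun _ => Bool) (mRel MG [T_fi, T_e, T_f, T_ei] [T_c, T_di, T_f, T_ei, T_f] M (Nat.sub (MG u) (Nat.mod (MG u) M)) (nat_lit 40) z1 u (Nat.mod (MG u) M)) (mRel MG [T_c, T_di, T_c, T_f, T_d] [T_fi, T_fi, T_ci, T_ci] M (Nat.sub (MG u) (Nat.mod (MG u) M)) (nat_lit 40) z1 u (Nat.mod (MG u) M)) (Nat.ble (nat_lit 1257) j)) (Bool.rec (motive := fun _ => Bool) (mRel MG [T_f, T_d, T_b] [T_b, T_c, T_bi, T_di, T_ci] M (Nat.sub (MG u) (Nat.mod (MG u) M)) (nat_lit 40) z1 u (Nat.mod (MG u) M)) (Bool.rec (motive := fun _ => Bool) (mRel MG [T_d] [T_di, T_ci, T_f,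 T_b, T_ci, T_fi, T_b] M (Nat.sub (MG u) (Nat.mod (MG u) M)) (nat_lit 40) z1 u (Nat.mod (MG u) M)) (mRel MG [T_c, T_di, T_b, T_c] [T_b, T_di, T_ci, T_d] M (Nat.sub (MG u) (Nat.mod (MG u) M)) (nat_lit 40) z1 u (Nat.mod (MG u) M)) (Nat.ble (nat_lit 1260) j)) (Nat.ble (nat_lit 1259) j)) (Nat.ble (nat_lit 1258) j)) (Bool.rec (motive := fun _ => Bool) (Bool.rec (motive := fun _ => Bool) (mRel MG [T_c, T_di, T_b, T_f] [T_fi, T_bi, T_d, T_ci] M (Nat.sub (MG u) (Nat.mod (MG u) M)) (nat_lit 40) z1 u (Nat.mod (MG u) M)) (Bool.rec (motive := fun _ => Bool) (mRel MG [T_ci, T_bi] [T_d, T_c, T_bi, T_di, T_c, T_fi] M (Nat.sub (MG u) (Nat.mod (MG u) M)) (nat_lit 40) z1 u (Nat.mod (MG u) M)) (mRel MG [T_ci, T_d, T_ci, T_bi, T_d, T_ci, T_b] [T_d] M (Nat.sub (MG u) (Nat.mod (MG u) M)) (nat_lit 40) z1 u (Nat.mod (MG u) M)) (Nat.ble (nat_lit 1263) j)) (Nat.ble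 (nat_lit 1262) j)) (Bool.rec (motive := fun _ => Bool) (mRel MG [T_f, T_b, T_c, T_bi, T_bi] [T_b, T_c, T_d] M (Nat.sub (MG u) (Nat.mod (MG u) M)) (nat_lit 40) z1 u (Nat.mod (MG u) M)) (Bool.rec (motive := fun _ => Bool) (mRel MG [T_ci, T_di, T_f, T_bi, T_di] [T_b, T_f, T_d] M (Nat.sub (MG u) (Nat.mod (MG u) M)) (nat_lit 40) z1 u (Nat.mod (MG u) M)) (mRel MG [T_b, T_f, T_ci, T_ci, T_f] [T_c, T_f, T_b] M (Nat.sub (MG u) (Nat.mod (MG u) M)) (nat_lit 40) z1 u (Nat.mod (MG u) M)) (Nat.ble (nat_lit 1266) j)) (Nat.ble (nat_lit 1265) j)) (Nat.ble (nat_lit 1264) j)) (Nat.ble (nat_lit 1261) j)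
noncomputable def dM_245 (j z1 z2 u : ℕ) : Bool :=
  Bool.rec (motive := fun _ => Bool) (Bool.rec (motive := fun _ => Bool) (Bool.rec (motive := fun _ => Bool) (mRel MG [T_b] [T_d, T_ci, T_fi, T_bi, T_d, T_ci, T_fi] M (Nat.sub (MG u) (Nat.mod (MG u) M)) (nat_lit 40) z1 u (Nat.mod (MG u) M)) (mRel MG [T_ci, T_d, T_b, T_ci, T_di, T_ci, T_bi] [T_fi] M (Nat.sub (MG u) (Nat.mod (MG u) M)) (nat_lit 40) z1 u (Nat.mod (MG u) M)) (Nat.ble (nat_lit 1268) j)) (Bool.rec (motive := fun _ => Bool) (mRel MG [T_fi, T_ei, T_f, T_c] [T_ei, T_fi, T_e, T_fi, T_d] M (Nat.sub (MG u) (Nat.mod (MG u) M)) (nat_lit 40) z1 u (Nat.mod (MG u) M)) (Bool.rec (motive := fun _ => Bool) (mRel MG [T_b, T_f, T_di, T_c, T_fi] [T_fi, T_b, T_b] M (Nat.sub (MG u) (Nat.mod (MG u) M)) (nat_lit 40) z1 u (Nat.mod (MG u) M)) (mRel MG [T_e, T_f, T_ci, T_b, T_e, T_di] [T_fi, T_b, T_f]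 M (Nat.sub (MG u) (Nat.mod (MG u) M)) (nat_lit 40) z1 u (Nat.mod (MG u) M)) (Nat.ble (nat_lit 1271) j)) (Nat.ble (nat_lit 1270) j)) (Nat.ble (nat_lit 1269) j)) (Bool.rec (motive := fun _ => Bool) (Bool.rec (motive := fun _ => Bool) (mRel MG [T_ci, T_bi, T_fi] [T_bi, T_bi, T_di, T_ci, T_bi] M (Nat.sub (MG u) (Nat.mod (MG u) M)) (nat_lit 40) z1 u (Nat.mod (MG u) M)) (Bool.rec (motive := fun _ => Bool) (mRel MG [T_c, T_bi, T_ci] [T_ci, T_di, T_c, T_c, T_bi] M (Nat.sub (MG u) (Nat.mod (MG u) M)) (nat_lit 40) z1 u (Nat.mod (MG u) M)) (mRel MG [T_ci, T_di, T_ci, T_bi] [T_bi, T_di, T_c, T_fi] M (Nat.sub (MG u) (Nat.mod (MG u) M)) (nat_lit 40) z1 u (Nat.mod (MG u) M)) (Nat.ble (nat_lit 1274) j)) (Nat.ble (nat_lit 1273) j)) (Bool.rec (motive := fun _ => Bool) (mRel MG [T_e, T_fi, T_ei, T_f, T_e, T_c, T_d] [T_d, T_f] M (Nat.sub (MG u) (Nat.mod (MG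 u) M)) (nat_lit 40) z1 u (Nat.mod (MG u) M)) (Bool.rec (motive := fun _ => Bool) (mRel MG [T_f, T_di, T_b, T_ci, T_d, T_b, T_f] [T_c] M (Nat.sub (MG u) (Nat.mod (MG u) M)) (nat_lit 40) z1 u (Nat.mod (MG u) M)) (mRel MG [T_di, T_ci, T_bi] [T_c, T_bi, T_di, T_c, T_fi] M (Nat.sub (MG u) (Nat.mod (MG u) M)) (nat_lit 40) z1 u (Nat.mod (MG u) M)) (Nat.ble (nat_lit 1277) j)) (Nat.ble (nat_lit 1276) j)) (Nat.ble (nat_lit 1275) j)) (Nat.ble (nat_lit 1272) j)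
noncomputable def dM_246 (j z1 z2 u : ℕ) : Bool :=
  Bool.rec (motive := fun _ => Bool) (dM_244 j z1 z2 u) (dM_245 j z1 z2 u) (Nat.ble (nat_lit 1267) j)
noncomputable def dM_247 (j z1 z2 u : ℕ) : Bool :=
  Bool.rec (motive := fun _ => Bool) (dM_243 j z1 z2 u) (dM_246 j z1 z2 u) (Nat.ble (nat_lit 1256) j)
noncomputable def dM_248 (j z1 z2 u : ℕ) : Bool :=
  Bool.rec (motive := fun _ => Bool) (Bool.rec (motive := fun _ => Bool) (Bool.rec (motive := fun _ => Bool) (mRel MG [T_fi, T_e, T_f, T_ei, T_d] [T_e, T_c, T_d, T_fi] M (Nat.sub (MG u) (Nat.mod (MG u) M)) (nat_lit 40) z1 u (Nat.mod (MG u) M)) (mRel MG [T_f, T_ci, T_d, T_fi, T_bi, T_fi, T_b] [T_bi] M (Nat.sub (MG u) (Nat.mod (MG u) M)) (nat_lit 40) z1 u (Nat.mod (MG u) M)) (Nat.ble (nat_lit 1279) j)) (Bool.rec (motive := fun _ => Bool) (mRel MG [T_f, T_d, T_fi, T_fi, T_d, T_fi, T_d] [T_di]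 M (Nat.sub (MG u) (Nat.mod (MG u) M)) (nat_lit 40) z1 u (Nat.mod (MG u) M)) (Bool.rec (motive := fun _ => Bool) (mRel MG [T_ci, T_ci] [T_bi, T_ci, T_b, T_ci, T_ci, T_d] M (Nat.sub (MG u) (Nat.mod (MG u) M)) (nat_lit 40) z1 u (Nat.mod (MG u) M)) (mRel MG [T_f, T_c, T_di, T_bi, T_ci] [T_fi, T_di, T_bi] M (Nat.sub (MG u) (Nat.mod (MG u) M)) (nat_lit 40) z1 u (Nat.mod (MG u) M)) (Nat.ble (nat_lit 1282) j)) (Nat.ble (nat_lit 1281) j)) (Nat.ble (nat_lit 1280) j)) (Bool.rec (motive := fun _ => Bool) (Bool.rec (motive := fun _ => Bool) (mRel MG [T_ci, T_di] [T_bi, T_d, T_fi, T_bi, T_d, T_f, T_c] M (Nat.sub (MG u) (Nat.mod (MG u) M)) (nat_lit 40) z1 u (Nat.mod (MG u) M)) (mRel MG [T_di, T_fi, T_c] [T_d, T_ci, T_f, T_d, T_d] M (Nat.sub (MG u) (Nat.mod (MG u) M)) (nat_lit 40) z1 u (Nat.mod (MG u) M)) (Nat.ble (nat_lit 1284) j)) (Bool.rec (motive :=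 fun _ => Bool) (mRel MG [T_c, T_b, T_c, T_c, T_d, T_fi] [T_b, T_di] M (Nat.sub (MG u) (Nat.mod (MG u) M)) (nat_lit 40) z1 u (Nat.mod (MG u) M)) (Bool.rec (motive := fun _ => Bool) (mRel MG [T_d] [T_b, T_c, T_di, T_c, T_d, T_bi, T_c] M (Nat.sub (MG u) (Nat.mod (MG u) M)) (nat_lit 40) z1 u (Nat.mod (MG u) M)) (mRel MG [T_bi] [T_c, T_b, T_ci, T_bi, T_di, T_di, T_f] M (Nat.sub (MG u) (Nat.mod (MG u) M)) (nat_lit 40) z1 u (Nat.mod (MG u) M)) (Nat.ble (nat_lit 1287) j)) (Nat.ble (nat_lit 1286) j)) (Nat.ble (nat_lit 1285) j)) (Nat.ble (nat_lit 1283) j)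
noncomputable def dM_249 (j z1 z2 u : ℕ) : Bool :=
  Bool.rec (motive := fun _ => Bool) (Bool.rec (motive := fun _ => Bool) (Bool.rec (motive := fun _ => Bool) (mRel MG [T_c, T_b, T_ci, T_di, T_c, T_b] [T_d, T_c] M (Nat.sub (MG u) (Nat.mod (MG u) M)) (nat_lit 40) z1 u (Nat.mod (MG u) M)) (mRel MG [T_c, T_c] [T_bi, T_ci, T_b, T_di, T_f, T_di] M (Nat.sub (MG u) (Nat.mod (MG u) M)) (nat_lit 40) z1 u (Nat.mod (MG u) M)) (Nat.ble (nat_lit 1289) j)) (Bool.rec (motive := fun _ => Bool) (mRel MG [T_d] [T_fi, T_c, T_di, T_di, T_fi, T_c, T_di] M (Nat.sub (MG u) (Nat.mod (MG u) M)) (nat_lit 40) z1 u (Nat.mod (MG u) M)) (Bool.rec (motive := fun _ => Bool) (mRel MG [T_di, T_b, T_c, T_di, T_ci, T_bi, T_d] [T_fi] M (Nat.sub (MG u) (Nat.mod (MG u) M)) (nat_lit 40) z1 u (Nat.mod (MG u) M)) (mRel MG [T_fi, T_di, T_ci, T_b] [T_ci, T_b, T_fi, T_d] M (Nat.sub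 (MG u) (Nat.mod (MG u) M)) (nat_lit 40) z1 u (Nat.mod (MG u) M)) (Nat.ble (nat_lit 1292) j)) (Nat.ble (nat_lit 1291) j)) (Nat.ble (nat_lit 1290) j)) (Bool.rec (motive := fun _ => Bool) (Bool.rec (motive := fun _ => Bool) (mRel MG [T_c, T_fi] [T_d, T_b, T_ci, T_di, T_ci, T_bi] M (Nat.sub (MG u) (Nat.mod (MG u) M)) (nat_lit 40) z1 u (Nat.mod (MG u) M)) (Bool.rec (motive := fun _ => Bool) (mRel MG [T_bi, T_fi, T_b, T_b] [T_f, T_di, T_c, T_fi] M (Nat.sub (MG u) (Nat.mod (MG u) M)) (nat_lit 40) z1 u (Nat.mod (MG u) M)) (mRel MG [T_f, T_ei, T_fi, T_e, T_fi, T_d] [T_ei, T_f, T_c] M (Nat.sub (MG u) (Nat.mod (MG u) M)) (nat_lit 40) z1 u (Nat.mod (MG u) M)) (Nat.ble (nat_lit 1295) j)) (Nat.ble (nat_lit 1294) j)) (Bool.rec (motive := fun _ => Bool) (mRel MG [T_b, T_c, T_bi] [T_di, T_di, T_f, T_b, T_c] M (Nat.sub (MG u) (Nat.mod (MG u) M)) (nat_lit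 40) z1 u (Nat.mod (MG u) M)) (Bool.rec (motive := fun _ => Bool) (mRel MG [T_di, T_fi] [T_f, T_b, T_c, T_bi, T_ci, T_bi] M (Nat.sub (MG u) (Nat.mod (MG u) M)) (nat_lit 40) z1 u (Nat.mod (MG u) M)) (mRel MG [T_c, T_b, T_c] [T_b, T_di, T_f, T_di, T_ci] M (Nat.sub (MG u) (Nat.mod (MG u) M)) (nat_lit 40) z1 u (Nat.mod (MG u) M)) (Nat.ble (nat_lit 1298) j)) (Nat.ble (nat_lit 1297) j)) (Nat.ble (nat_lit 1296) j)) (Nat.ble (nat_lit 1293) j)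
noncomputable def dM_250 (j z1 z2 u : ℕ) : Bool :=
  Bool.rec (motive := fun _ => Bool) (dM_248 j z1 z2 u) (dM_249 j z1 z2 u) (Nat.ble (nat_lit 1288) j)
noncomputable def dM_251 (j z1 z2 u : ℕ) : Bool :=
  Bool.rec (motive := fun _ => Bool) (Bool.rec (motive := fun _ => Bool) (Bool.rec (motive := fun _ => Bool) (mRel MG [T_d, T_f, T_di, T_b, T_c, T_di, T_ci] [T_b] M (Nat.sub (MG u) (Nat.mod (MG u) M)) (nat_lit 40) z1 u (Nat.mod (MG u) M)) (mRel MG [T_di, T_di, T_fi, T_bi] [T_b, T_fi, T_d, T_c] M (Nat.sub (MG u) (Nat.mod (MG u) M)) (nat_lit 40) z1 u (Nat.mod (MG u) M)) (Nat.ble (nat_lit 1300) j)) (Bool.rec (motive := fun _ => Bool) (mRel MG [T_ci, T_d, T_fi, T_bi, T_fi, T_b, T_b, T_f] [] M (Nat.sub (MG u) (Nat.mod (MG u) M)) (nat_lit 40) z1 u (Nat.mod (MG u) M)) (Bool.rec (motive := fun _ => Bool) (mRel MG [T_b, T_c, T_d, T_b, T_ci, T_bi,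 T_f] [T_di] M (Nat.sub (MG u) (Nat.mod (MG u) M)) (nat_lit 40) z1 u (Nat.mod (MG u) M)) (mRel MG [T_d, T_c] [T_ci, T_bi, T_f, T_ci, T_d, T_b] M (Nat.sub (MG u) (Nat.mod (MG u) M)) (nat_lit 40) z1 u (Nat.mod (MG u) M)) (Nat.ble (nat_lit 1303) j)) (Nat.ble (nat_lit 1302) j)) (Nat.ble (nat_lit 1301) j)) (Bool.rec (motive := fun _ => Bool) (Bool.rec (motive := fun _ => Bool) (mRel MG [T_c, T_b, T_c] [T_fi, T_d, T_bi, T_fi, T_di] M (Nat.sub (MG u) (Nat.mod (MG u) M)) (nat_lit 40) z1 u (Nat.mod (MG u) M)) (Bool.rec (motive := fun _ => Bool) (mRel MG [T_c, T_c, T_bi, T_c, T_b, T_ci, T_ci] [T_d] M (Nat.sub (MG u) (Nat.mod (MG u) M)) (nat_lit 40) z1 u (Nat.mod (MG u) M)) (mRel MG [T_c, T_bi, T_bi] [T_fi, T_fi, T_bi, T_d, T_c] M (Nat.sub (MG u) (Nat.mod (MG u) M)) (nat_lit 40) z1 u (Nat.mod (MG u) M)) (Nat.ble (nat_lit 1306) j)) (Nat.ble (nat_lit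 1305) j)) (Bool.rec (motive := fun _ => Bool) (mRel MG [T_d, T_bi, T_d, T_d, T_b, T_d, T_bi] [T_di] M (Nat.sub (MG u) (Nat.mod (MG u) M)) (nat_lit 40) z1 u (Nat.mod (MG u) M)) (Bool.rec (motive := fun _ => Bool) (mRel MG [T_f, T_e, T_fi, T_ei, T_f] [T_e, T_fi, T_d, T_ci] M (Nat.sub (MG u) (Nat.mod (MG u) M)) (nat_lit 40) z1 u (Nat.mod (MG u) M)) (mRel MG [T_bi, T_di, T_di] [T_d, T_bi, T_d, T_d, T_bi] M (Nat.sub (MG u) (Nat.mod (MG u) M)) (nat_lit 40) z1 u (Nat.mod (MG u) M)) (Nat.ble (nat_lit 1309) j)) (Nat.ble (nat_lit 1308) j)) (Nat.ble (nat_lit 1307) j)) (Nat.ble (nat_lit 1304) j)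
noncomputable def dM_252 (j z1 z2 u : ℕ) : Bool :=
  Bool.rec (motive := fun _ => Bool) (Bool.rec (motive := fun _ => Bool) (Bool.rec (motive := fun _ => Bool) (mRel MG [T_c, T_di] [T_fi, T_bi, T_d, T_ci, T_fi, T_bi] M (Nat.sub (MG u) (Nat.mod (MG u) M)) (nat_lit 40) z1 u (Nat.mod (MG u) M)) (mRel MG [T_b, T_c, T_bi, T_bi] [T_fi, T_b, T_c, T_d] M (Nat.sub (MG u) (Nat.mod (MG u) M)) (nat_lit 40) z1 u (Nat.mod (MG u) M)) (Nat.ble (nat_lit 1311) j)) (Bool.rec (motive := fun _ => Bool) (mRel MG [T_d, T_bi, T_d, T_d] [T_bi, T_di, T_di, T_b] M (Nat.sub (MG u) (Nat.mod (MG u) M)) (nat_lit 40) z1 u (Nat.mod (MG u) M)) (Bool.rec (motive := fun _ => Bool) (mRel MG [T_b, T_c, T_bi, T_di] [T_f, T_d, T_b, T_c] M (Nat.sub (MG u) (Nat.mod (MG u) M)) (nat_lit 40) z1 u (Nat.mod (MG u) M)) (mRel MG [T_b, T_c, T_bi, T_ci] [T_fi, T_di, T_fi, T_b] M (Nat.sub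 (MG u) (Nat.mod (MG u) M)) (nat_lit 40) z1 u (Nat.mod (MG u) M)) (Nat.ble (nat_lit 1314) j)) (Nat.ble (nat_lit 1313) j)) (Nat.ble (nat_lit 1312) j)) (Bool.rec (motive := fun _ => Bool) (Bool.rec (motive := fun _ => Bool) (mRel MG [T_d, T_f, T_di, T_b] [T_b, T_c, T_d, T_ci] M (Nat.sub (MG u) (Nat.mod (MG u) M)) (nat_lit 40) z1 u (Nat.mod (MG u) M)) (Bool.rec (motive := fun _ => Bool) (mRel MG [T_c, T_di] [T_fi, T_fi, T_di, T_bi, T_c, T_b] M (Nat.sub (MG u) (Nat.mod (MG u) M)) (nat_lit 40) z1 u (Nat.mod (MG u) M)) (mRel MG [T_b, T_d, T_bi, T_d, T_d, T_bi, T_d] [T_di] M (Nat.sub (MG u) (Nat.mod (MG u) M)) (nat_lit 40) z1 u (Nat.mod (MG u) M)) (Nat.ble (nat_lit 1317) j)) (Nat.ble (nat_lit 1316) j)) (Bool.rec (motive := fun _ => Bool) (mRel MG [T_c, T_bi, T_c, T_bi] [T_b, T_ci, T_b, T_ci] M (Nat.sub (MG u) (Nat.mod (MG u) M)) (nat_lit 40) z1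 u (Nat.mod (MG u) M)) (Bool.rec (motive := fun _ => Bool) (mRel MG [T_d, T_b, T_c, T_d, T_b, T_ci, T_bi, T_f] [] M (Nat.sub (MG u) (Nat.mod (MG u) M)) (nat_lit 40) z1 u (Nat.mod (MG u) M)) (mRel MG [T_ei, T_f, T_e, T_fi, T_ei, T_f] [T_fi, T_d, T_ci] M (Nat.sub (MG u) (Nat.mod (MG u) M)) (nat_lit 40) z1 u (Nat.mod (MG u) M)) (Nat.ble (nat_lit 1320) j)) (Nat.ble (nat_lit 1319) j)) (Nat.ble (nat_lit 1318) j)) (Nat.ble (nat_lit 1315) j)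
noncomputable def dM_253 (j z1 z2 u : ℕ) : Bool :=
  Bool.rec (motive := fun _ => Bool) (dM_251 j z1 z2 u) (dM_252 j z1 z2 u) (Nat.ble (nat_lit 1310) j)
noncomputable def dM_254 (j z1 z2 u : ℕ) : Bool :=
  Bool.rec (motive := fun _ => Bool) (dM_250 j z1 z2 u) (dM_253 j z1 z2 u) (Nat.ble (nat_lit 1299) j)
noncomputable def dM_255 (j z1 z2 u : ℕ) : Bool :=
  Bool.rec (motive := fun _ => Bool) (dM_247 j z1 z2 u) (dM_254 j z1 z2 u) (Nat.ble (nat_lit 1278) j)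
noncomputable def dM_256 (j z1 z2 u : ℕ) : Bool :=
  Bool.rec (motive := fun _ => Bool) (dM_240 j z1 z2 u) (dM_255 j z1 z2 u) (Nat.ble (nat_lit 1235) j)
noncomputable def dM_257 (j z1 z2 u : ℕ) : Bool :=
  Bool.rec (motive := fun _ => Bool) (dM_225 j z1 z2 u) (dM_256 j z1 z2 u) (Nat.ble (nat_lit 1149) j)
noncomputable def dM_258 (j z1 z2 u : ℕ) : Bool :=
  Bool.rec (motive := fun _ => Bool) (Bool.rec (motive := fun _ => Bool) (Bool.rec (motive := fun _ => Bool) (mRel MG [T_b, T_c] [T_d, T_fi, T_di, T_b, T_c, T_d] M (Nat.sub (MG u) (Nat.mod (MG u) M)) (nat_lit 40) z1 u (Nat.mod (MG u) M)) (mRel MG [T_d, T_ci, T_f, T_d, T_d, T_ci] [T_di, T_fi] M (Nat.sub (MG u) (Nat.mod (MG u) M)) (nat_lit 40) z1 u (Nat.mod (MG u) M)) (Nat.ble (nat_lit 1322) j)) (Bool.rec (motive := fun _ => Bool) (mRel MG [T_f] [T_e, T_f, T_ei, T_fi, T_fi, T_d, T_ci, T_ei]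 M (Nat.sub (MG u) (Nat.mod (MG u) M)) (nat_lit 40) z1 u (Nat.mod (MG u) M)) (Bool.rec (motive := fun _ => Bool) (mRel MG [T_d, T_bi, T_c] [T_f, T_di, T_ci, T_ci, T_bi] M (Nat.sub (MG u) (Nat.mod (MG u) M)) (nat_lit 40) z1 u (Nat.mod (MG u) M)) (mRel MG [T_c, T_d, T_b, T_ci, T_bi, T_f] [T_bi, T_di] M (Nat.sub (MG u) (Nat.mod (MG u) M)) (nat_lit 40) z1 u (Nat.mod (MG u) M)) (Nat.ble (nat_lit 1325) j)) (Nat.ble (nat_lit 1324) j)) (Nat.ble (nat_lit 1323) j)) (Bool.rec (motive := fun _ => Bool) (Bool.rec (motive := fun _ => Bool) (mRel MG [T_ci, T_bi] [T_c, T_d, T_fi, T_d, T_bi, T_c] M (Nat.sub (MG u) (Nat.mod (MG u) M)) (nat_lit 40) z1 u (Nat.mod (MG u) M)) (mRel MG [T_di, T_f, T_f] [T_fi, T_d, T_d, T_f, T_d] M (Nat.sub (MG u) (Nat.mod (MG u) M)) (nat_lit 40) z1 u (Nat.mod (MG u) M)) (Nat.ble (nat_lit 1327) j)) (Bool.rec (motive := fun _ =>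 Bool) (mRel MG [T_c, T_d, T_ci, T_bi, T_d, T_fi, T_di, T_b] [] M (Nat.sub (MG u) (Nat.mod (MG u) M)) (nat_lit 40) z1 u (Nat.mod (MG u) M)) (Bool.rec (motive := fun _ => Bool) (mRel MG [T_b, T_c, T_b, T_ci, T_bi] [T_fi, T_d, T_d] M (Nat.sub (MG u) (Nat.mod (MG u) M)) (nat_lit 40) z1 u (Nat.mod (MG u) M)) (mRel MG [T_f, T_b] [T_c, T_d, T_d, T_bi, T_f, T_c] M (Nat.sub (MG u) (Nat.mod (MG u) M)) (nat_lit 40) z1 u (Nat.mod (MG u) M)) (Nat.ble (nat_lit 1330) j)) (Nat.ble (nat_lit 1329) j)) (Nat.ble (nat_lit 1328) j)) (Nat.ble (nat_lit 1326) j)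
noncomputable def dM_259 (j z1 z2 u : ℕ) : Bool :=
  Bool.rec (motive := fun _ => Bool) (Bool.rec (motive := fun _ => Bool) (Bool.rec (motive := fun _ => Bool) (mRel MG [T_fi, T_bi, T_d, T_c] [T_f, T_c, T_bi, T_bi] M (Nat.sub (MG u) (Nat.mod (MG u) M)) (nat_lit 40) z1 u (Nat.mod (MG u) M)) (mRel MG [T_di, T_b, T_c, T_di, T_c, T_d] [T_ci, T_b] M (Nat.sub (MG u) (Nat.mod (MG u) M)) (nat_lit 40) z1 u (Nat.mod (MG u) M)) (Nat.ble (nat_lit 1332) j)) (Bool.rec (motive := fun _ => Bool) (mRel MG [T_b, T_c, T_d, T_b, T_b] [T_f, T_b, T_c] M (Nat.sub (MG u) (Nat.mod (MG u) M)) (nat_lit 40) z1 u (Nat.mod (MG u) M)) (Bool.rec (motive := fun _ => Bool) (mRel MG [T_c, T_bi, T_fi, T_c] [T_fi, T_b, T_di, T_di] M (Nat.sub (MG u) (Nat.mod (MG u) M)) (nat_lit 40) z1 u (Nat.mod (MG u) M)) (mRel MG [T_bi, T_c, T_b, T_c, T_c, T_d, T_fi] [T_di] M (Nat.sub (MG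 u) (Nat.mod (MG u) M)) (nat_lit 40) z1 u (Nat.mod (MG u) M)) (Nat.ble (nat_lit 1335) j)) (Nat.ble (nat_lit 1334) j)) (Nat.ble (nat_lit 1333) j)) (Bool.rec (motive := fun _ => Bool) (Bool.rec (motive := fun _ => Bool) (mRel MG [T_di, T_b, T_f, T_f] [T_c, T_b, T_b, T_ci] M (Nat.sub (MG u) (Nat.mod (MG u) M)) (nat_lit 40) z1 u (Nat.mod (MG u) M)) (Bool.rec (motive := fun _ => Bool) (mRel MG [T_di, T_fi, T_bi, T_f] [T_ei, T_bi, T_c, T_fi, T_ei] M (Nat.sub (MG u) (Nat.mod (MG u) M)) (nat_lit 40) z1 u (Nat.mod (MG u) M)) (mRel MG [T_fi, T_bi, T_bi] [T_ci, T_d, T_fi, T_bi, T_fi] M (Nat.sub (MG u) (Nat.mod (MG u) M)) (nat_lit 40) z1 u (Nat.mod (MG u) M)) (Nat.ble (nat_lit 1338) j)) (Nat.ble (nat_lit 1337) j)) (Bool.rec (motive := fun _ => Bool) (mRel MG [T_ci, T_bi] [T_d, T_b, T_ci, T_bi, T_f, T_d] M (Nat.sub (MG u) (Nat.mod (MG u) M)) (nat_lit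 40) z1 u (Nat.mod (MG u) M)) (Bool.rec (motive := fun _ => Bool) (mRel MG [T_bi, T_f, T_d, T_f] [T_c, T_b, T_ci, T_bi] M (Nat.sub (MG u) (Nat.mod (MG u) M)) (nat_lit 40) z1 u (Nat.mod (MG u) M)) (mRel MG [T_di, T_e, T_fi, T_ei, T_f, T_e] [T_f, T_di, T_ci] M (Nat.sub (MG u) (Nat.mod (MG u) M)) (nat_lit 40) z1 u (Nat.mod (MG u) M)) (Nat.ble (nat_lit 1341) j)) (Nat.ble (nat_lit 1340) j)) (Nat.ble (nat_lit 1339) j)) (Nat.ble (nat_lit 1336) j)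
noncomputable def dM_260 (j z1 z2 u : ℕ) : Bool :=
  Bool.rec (motive := fun _ => Bool) (dM_258 j z1 z2 u) (dM_259 j z1 z2 u) (Nat.ble (nat_lit 1331) j)
noncomputable def dM_261 (j z1 z2 u : ℕ) : Bool :=
  Bool.rec (motive := fun _ => Bool) (Bool.rec (motive := fun _ => Bool) (Bool.rec (motive := fun _ => Bool) (mRel MG [T_fi, T_bi, T_d, T_ci, T_fi, T_bi, T_d, T_ci] [] M (Nat.sub (MG u) (Nat.mod (MG u) M)) (nat_lit 40) z1 u (Nat.mod (MG u) M)) (mRel MG [T_ci, T_ci, T_bi] [T_d, T_fi, T_d, T_bi, T_c] M (Nat.sub (MG u) (Nat.mod (MG u) M)) (nat_lit 40) z1 u (Nat.mod (MG u) M)) (Nat.ble (nat_lit 1343) j)) (Bool.rec (motive := fun _ => Bool) (mRel MG [T_ci, T_di, T_b] [T_b, T_b, T_ci, T_fi, T_fi] M (Nat.sub (MG u) (Nat.mod (MG u) M)) (nat_lit 40) z1 u (Nat.mod (MG u) M)) (Bool.rec (motive := fun _ => Bool) (mRel MG [T_ci, T_b] [T_f, T_b, T_fi,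 T_c, T_c, T_fi] M (Nat.sub (MG u) (Nat.mod (MG u) M)) (nat_lit 40) z1 u (Nat.mod (MG u) M)) (mRel MG [T_b, T_ci, T_fi, T_d, T_ci, T_fi, T_b, T_c] [T_ci] M (Nat.sub (MG u) (Nat.mod (MG u) M)) (nat_lit 40) z1 u (Nat.mod (MG u) M)) (Nat.ble (nat_lit 1346) j)) (Nat.ble (nat_lit 1345) j)) (Nat.ble (nat_lit 1344) j)) (Bool.rec (motive := fun _ => Bool) (Bool.rec (motive := fun _ => Bool) (mRel MG [T_c, T_b, T_d, T_ci, T_fi] [T_b, T_d, T_f] M (Nat.sub (MG u) (Nat.mod (MG u) M)) (nat_lit 40) z1 u (Nat.mod (MG u) M)) (mRel MG [T_c, T_bi, T_di, T_ci, T_bi, T_di] [T_bi, T_f] M (Nat.sub (MG u) (Nat.mod (MG u) M)) (nat_lit 40) z1 u (Nat.mod (MG u) M)) (Nat.ble (nat_lit 1348) j)) (Bool.rec (motive := fun _ => Bool) (mRel MG [T_d, T_ci] [T_bi, T_c, T_c, T_di, T_bi, T_c] M (Nat.sub (MG u) (Nat.mod (MG u) M)) (nat_lit 40) z1 u (Nat.mod (MG u) M)) (Bool.rec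 (motive := fun _ => Bool) (mRel MG [T_c, T_di, T_c, T_d] [T_bi, T_d, T_ci, T_b] M (Nat.sub (MG u) (Nat.mod (MG u) M)) (nat_lit 40) z1 u (Nat.mod (MG u) M)) (mRel MG [T_ci, T_b, T_fi, T_d, T_bi, T_c] [T_fi, T_di] M (Nat.sub (MG u) (Nat.mod (MG u) M)) (nat_lit 40) z1 u (Nat.mod (MG u) M)) (Nat.ble (nat_lit 1351) j)) (Nat.ble (nat_lit 1350) j)) (Nat.ble (nat_lit 1349) j)) (Nat.ble (nat_lit 1347) j)
noncomputable def dM_262 (j z1 z2 u : ℕ) : Bool :=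
  Bool.rec (motive := fun _ => Bool) (Bool.rec (motive := fun _ => Bool) (Bool.rec (motive := fun _ => Bool) (mRel MG [T_e, T_di, T_fi, T_bi, T_f, T_e, T_f] [T_bi, T_c] M (Nat.sub (MG u) (Nat.mod (MG u) M)) (nat_lit 40) z1 u (Nat.mod (MG u) M)) (mRel MG [T_c, T_d, T_d] [T_f, T_b, T_ci, T_fi, T_b] M (Nat.sub (MG u) (Nat.mod (MG u) M)) (nat_lit 40) z1 u (Nat.mod (MG u) M)) (Nat.ble (nat_lit 1353) j)) (Bool.rec (motive := fun _ => Bool) (mRel MG [T_c, T_fi] [T_ci, T_f, T_bi, T_fi, T_ci, T_b] M (Nat.sub (MG u) (Nat.mod (MG u) M)) (nat_lit 40) z1 u (Nat.mod (MG u) M)) (Bool.rec (motive := fun _ => Bool) (mRel MG [T_ci, T_f, T_b, T_ci] [T_d, T_d, T_bi, T_f] M (Nat.sub (MG u) (Nat.mod (MG u) M)) (nat_lit 40) z1 u (Nat.mod (MG u) M)) (mRel MG [T_c, T_b, T_c, T_fi, T_fi, T_d, T_bi] [T_fi, T_b] M (Nat.sub (MG u) (Nat.mod (MG u) M)) (nat_lit 40) z1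 u (Nat.mod (MG u) M)) (Nat.ble (nat_lit 1356) j)) (Nat.ble (nat_lit 1355) j)) (Nat.ble (nat_lit 1354) j)) (Bool.rec (motive := fun _ => Bool) (Bool.rec (motive := fun _ => Bool) (mRel MG [T_di, T_c, T_d] [T_ci, T_bi, T_d, T_ci, T_b] M (Nat.sub (MG u) (Nat.mod (MG u) M)) (nat_lit 40) z1 u (Nat.mod (MG u) M)) (Bool.rec (motive := fun _ => Bool) (mRel MG [T_bi, T_c, T_fi, T_ei, T_fi, T_b, T_f] [T_e, T_di] M (Nat.sub (MG u) (Nat.mod (MG u) M)) (nat_lit 40) z1 u (Nat.mod (MG u) M)) (mRel MG [T_ci, T_d, T_c, T_di, T_fi] [T_f, T_bi, T_bi, T_bi] M (Nat.sub (MG u) (Nat.mod (MG u) M)) (nat_lit 40) z1 u (Nat.mod (MG u) M)) (Nat.ble (nat_lit 1359) j)) (Nat.ble (nat_lit 1358) j)) (Bool.rec (motive := fun _ => Bool) (mRel MG [T_c, T_c, T_d] [T_bi, T_ci, T_b, T_di, T_f] M (Nat.sub (MG u) (Nat.mod (MG u) M)) (nat_lit 40) z1 u (Nat.mod (MG u) M)) (Bool.rec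 (motive := fun _ => Bool) (mRel MG [T_bi, T_d, T_ci] [T_f, T_c, T_di, T_b, T_f] M (Nat.sub (MG u) (Nat.mod (MG u) M)) (nat_lit 40) z1 u (Nat.mod (MG u) M)) (mRel MG [T_ei, T_bi, T_c, T_fi, T_ei] [T_di, T_fi, T_bi, T_f] M (Nat.sub (MG u) (Nat.mod (MG u) M)) (nat_lit 40) z1 u (Nat.mod (MG u) M)) (Nat.ble (nat_lit 1362) j)) (Nat.ble (nat_lit 1361) j)) (Nat.ble (nat_lit 1360) j)) (Nat.ble (nat_lit 1357) j)
noncomputable def dM_263 (j z1 z2 u : ℕ) : Bool :=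
  Bool.rec (motive := fun _ => Bool) (dM_261 j z1 z2 u) (dM_262 j z1 z2 u) (Nat.ble (nat_lit 1352) j)
noncomputable def dM_264 (j z1 z2 u : ℕ) : Bool :=
  Bool.rec (motive := fun _ => Bool) (dM_260 j z1 z2 u) (dM_263 j z1 z2 u) (Nat.ble (nat_lit 1342) j)
noncomputable def dM_265 (j z1 z2 u : ℕ) : Bool :=
  Bool.rec (motive := fun _ => Bool) (Bool.rec (motive := fun _ => Bool) (Bool.rec (motive := fun _ => Bool) (mRel MG [T_d, T_ci, T_bi, T_d, T_fi] [T_ci, T_bi, T_d] M (Nat.sub (MG u) (Nat.mod (MG u) M)) (nat_lit 40) z1 u (Nat.mod (MG u) M)) (mRel MG [T_c, T_di, T_f] [T_ei, T_fi, T_e, T_f, T_ei, T_fi] M (Nat.sub (MG u) (Nat.mod (MG u) M)) (nat_lit 40) z1 u (Nat.mod (MG u) M)) (Nat.ble (nat_lit 1364) j)) (Bool.rec (motive := fun _ => Bool) (mRel MG [T_fi, T_c] [T_di, T_b, T_ci, T_d, T_b, T_f] M (Nat.sub (MG u) (Nat.mod (MG u) M)) (nat_lit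 40) z1 u (Nat.mod (MG u) M)) (Bool.rec (motive := fun _ => Bool) (mRel MG [T_bi, T_d, T_fi, T_di, T_b] [T_c, T_di, T_ci] M (Nat.sub (MG u) (Nat.mod (MG u) M)) (nat_lit 40) z1 u (Nat.mod (MG u) M)) (mRel MG [T_d] [T_di, T_fi, T_c, T_di, T_di, T_fi, T_c] M (Nat.sub (MG u) (Nat.mod (MG u) M)) (nat_lit 40) z1 u (Nat.mod (MG u) M)) (Nat.ble (nat_lit 1367) j)) (Nat.ble (nat_lit 1366) j)) (Nat.ble (nat_lit 1365) j)) (Bool.rec (motive := fun _ => Bool) (Bool.rec (motive := fun _ => Bool) (mRel MG [T_bi, T_d] [T_c, T_di, T_c, T_d, T_bi, T_c] M (Nat.sub (MG u) (Nat.mod (MG u) M)) (nat_lit 40) z1 u (Nat.mod (MG u) M)) (mRel MG [T_ci, T_bi, T_di] [T_d, T_b, T_ci, T_bi, T_f] M (Nat.sub (MG u) (Nat.mod (MG u) M)) (nat_lit 40) z1 u (Nat.mod (MG u) M)) (Nat.ble (nat_lit 1369) j)) (Bool.rec (motive := fun _ => Bool) (mRel MG [T_f, T_e, T_f, T_ci] [T_b,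 T_f, T_d, T_ei, T_bi] M (Nat.sub (MG u) (Nat.mod (MG u) M)) (nat_lit 40) z1 u (Nat.mod (MG u) M)) (Bool.rec (motive := fun _ => Bool) (mRel MG [T_b, T_fi, T_c, T_c, T_fi, T_bi] [T_fi, T_ci] M (Nat.sub (MG u) (Nat.mod (MG u) M)) (nat_lit 40) z1 u (Nat.mod (MG u) M)) (mRel MG [T_d, T_ci, T_f] [T_di, T_fi, T_c, T_di, T_di] M (Nat.sub (MG u) (Nat.mod (MG u) M)) (nat_lit 40) z1 u (Nat.mod (MG u) M)) (Nat.ble (nat_lit 1372) j)) (Nat.ble (nat_lit 1371) j)) (Nat.ble (nat_lit 1370) j)) (Nat.ble (nat_lit 1368) j)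
noncomputable def dM_266 (j z1 z2 u : ℕ) : Bool :=
  Bool.rec (motive := fun _ => Bool) (Bool.rec (motive := fun _ => Bool) (Bool.rec (motive := fun _ => Bool) (mRel MG [T_bi, T_di, T_fi, T_b, T_c] [T_c, T_d, T_b] M (Nat.sub (MG u) (Nat.mod (MG u) M)) (nat_lit 40) z1 u (Nat.mod (MG u) M)) (mRel MG [T_fi, T_bi] [T_d, T_ei, T_bi, T_c, T_fi, T_ei, T_fi] M (Nat.sub (MG u) (Nat.mod (MG u) M)) (nat_lit 40) z1 u (Nat.mod (MG u) M)) (Nat.ble (nat_lit 1374) j)) (Bool.rec (motive := fun _ => Bool) (mRel MG [T_c, T_b, T_f, T_d, T_d, T_b] [T_di, T_f] M (Nat.sub (MG u) (Nat.mod (MG u) M)) (nat_lit 40) z1 u (Nat.mod (MG u) M)) (Bool.rec (motive := fun _ => Bool) (mRel MG [T_di, T_fi, T_bi, T_f, T_e, T_f, T_ci, T_b, T_e] [] M (Nat.sub (MG u) (Nat.mod (MG u) M)) (nat_lit 40) z1 u (Nat.mod (MG u) M)) (mRel MG [T_b, T_ci, T_d, T_b] [T_d, T_fi, T_c, T_fi]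 M (Nat.sub (MG u) (Nat.mod (MG u) M)) (nat_lit 40) z1 u (Nat.mod (MG u) M)) (Nat.ble (nat_lit 1377) j)) (Nat.ble (nat_lit 1376) j)) (Nat.ble (nat_lit 1375) j)) (Bool.rec (motive := fun _ => Bool) (Bool.rec (motive := fun _ => Bool) (mRel MG [T_d] [T_di, T_f, T_b, T_c, T_b, T_ci, T_bi] M (Nat.sub (MG u) (Nat.mod (MG u) M)) (nat_lit 40) z1 u (Nat.mod (MG u) M)) (Bool.rec (motive := fun _ => Bool) (mRel MG [T_fi, T_ci, T_b, T_f, T_ci, T_ci, T_f] [T_b] M (Nat.sub (MG u) (Nat.mod (MG u) M)) (nat_lit 40) z1 u (Nat.mod (MG u) M)) (mRel MG [T_b, T_ci] [T_bi, T_di, T_ci, T_bi, T_f, T_b] M (Nat.sub (MG u) (Nat.mod (MG u) M)) (nat_lit 40) z1 u (Nat.mod (MG u) M)) (Nat.ble (nat_lit 1380) j)) (Nat.ble (nat_lit 1379) j)) (Bool.rec (motive := fun _ => Bool) (mRel MG [T_di, T_fi, T_b] [T_d, T_b, T_f, T_bi, T_fi, T_c] M (Nat.sub (MG u) (Nat.mod (MG u) M))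 (nat_lit 40) z1 u (Nat.mod (MG u) M)) (Bool.rec (motive := fun _ => Bool) (mRel MG [T_f, T_ci, T_f] [T_bi, T_di, T_c, T_bi, T_d] M (Nat.sub (MG u) (Nat.mod (MG u) M)) (nat_lit 40) z1 u (Nat.mod (MG u) M)) (mRel MG [T_f, T_c, T_di, T_f, T_ei, T_f, T_e, T_fi, T_ei] [] M (Nat.sub (MG u) (Nat.mod (MG u) M)) (nat_lit 40) z1 u (Nat.mod (MG u) M)) (Nat.ble (nat_lit 1383) j)) (Nat.ble (nat_lit 1382) j)) (Nat.ble (nat_lit 1381) j)) (Nat.ble (nat_lit 1378) j)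
noncomputable def dM_267 (j z1 z2 u : ℕ) : Bool :=
  Bool.rec (motive := fun _ => Bool) (dM_265 j z1 z2 u) (dM_266 j z1 z2 u) (Nat.ble (nat_lit 1373) j)
noncomputable def dM_268 (j z1 z2 u : ℕ) : Bool :=
  Bool.rec (motive := fun _ => Bool) (Bool.rec (motive := fun _ => Bool) (Bool.rec (motive := fun _ => Bool) (mRel MG [T_di, T_ci, T_ci, T_bi, T_ci] [T_fi, T_d, T_bi] M (Nat.sub (MG u) (Nat.mod (MG u) M)) (nat_lit 40) z1 u (Nat.mod (MG u) M)) (mRel MG [T_c, T_di, T_di, T_fi, T_c, T_di] [T_f, T_d] M (Nat.sub (MG u) (Nat.mod (MG u) M)) (nat_lit 40) z1 u (Nat.mod (MG u) M)) (Nat.ble (nat_lit 1385) j)) (Bool.rec (motive := fun _ => Bool) (mRel MG [T_bi, T_d] [T_ci, T_d, T_b, T_f, T_ci, T_f] M (Nat.sub (MG u) (Nat.mod (MG u) M)) (nat_lit 40) z1 u (Nat.mod (MG u) M)) (Bool.rec (motive := fun _ => Bool) (mRel MG [T_fi, T_b, T_di, T_di, T_ci] [T_c,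 T_bi, T_fi] M (Nat.sub (MG u) (Nat.mod (MG u) M)) (nat_lit 40) z1 u (Nat.mod (MG u) M)) (mRel MG [T_f, T_f, T_e, T_fi] [T_d, T_ci, T_ei, T_fi, T_e] M (Nat.sub (MG u) (Nat.mod (MG u) M)) (nat_lit 40) z1 u (Nat.mod (MG u) M)) (Nat.ble (nat_lit 1388) j)) (Nat.ble (nat_lit 1387) j)) (Nat.ble (nat_lit 1386) j)) (Bool.rec (motive := fun _ => Bool) (Bool.rec (motive := fun _ => Bool) (mRel MG [T_ci, T_d, T_b, T_f, T_ci, T_f, T_di] [T_bi] M (Nat.sub (MG u) (Nat.mod (MG u) M)) (nat_lit 40) z1 u (Nat.mod (MG u) M)) (Bool.rec (motive := fun _ => Bool) (mRel MG [T_di, T_f, T_bi, T_di, T_di, T_fi] [T_c, T_b] M (Nat.sub (MG u) (Nat.mod (MG u) M)) (nat_lit 40) z1 u (Nat.mod (MG u) M)) (mRel MG [T_ci, T_bi, T_f, T_ci, T_d, T_b] [T_d, T_c] M (Nat.sub (MG u) (Nat.mod (MG u) M)) (nat_lit 40) z1 u (Nat.mod (MG u) M)) (Nat.ble (nat_lit 1391) j)) (Nat.ble (nat_lit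 1390) j)) (Bool.rec (motive := fun _ => Bool) (mRel MG [T_bi, T_fi, T_b] [T_f, T_di, T_c, T_fi, T_bi] M (Nat.sub (MG u) (Nat.mod (MG u) M)) (nat_lit 40) z1 u (Nat.mod (MG u) M)) (Bool.rec (motive := fun _ => Bool) (mRel MG [T_bi, T_di, T_ci, T_bi] [T_ci, T_bi, T_f, T_d] M (Nat.sub (MG u) (Nat.mod (MG u) M)) (nat_lit 40) z1 u (Nat.mod (MG u) M)) (mRel MG [T_f] [T_fi, T_d, T_ci, T_ei, T_fi, T_e, T_f, T_ei] M (Nat.sub (MG u) (Nat.mod (MG u) M)) (nat_lit 40) z1 u (Nat.mod (MG u) M)) (Nat.ble (nat_lit 1394) j)) (Nat.ble (nat_lit 1393) j)) (Nat.ble (nat_lit 1392) j)) (Nat.ble (nat_lit 1389) j)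
noncomputable def dM_269 (j z1 z2 u : ℕ) : Bool :=
  Bool.rec (motive := fun _ => Bool) (Bool.rec (motive := fun _ => Bool) (Bool.rec (motive := fun _ => Bool) (mRel MG [T_c, T_c, T_bi, T_c, T_b, T_ci, T_ci, T_di] [] M (Nat.sub (MG u) (Nat.mod (MG u) M)) (nat_lit 40) z1 u (Nat.mod (MG u) M)) (mRel MG [T_b, T_di] [T_fi, T_di, T_ci, T_bi, T_ci, T_fi] M (Nat.sub (MG u) (Nat.mod (MG u) M)) (nat_lit 40) z1 u (Nat.mod (MG u) M)) (Nat.ble (nat_lit 1396) j)) (Bool.rec (motive := fun _ => Bool) (mRel MG [T_b, T_f, T_ci, T_ci, T_f, T_bi] [T_c, T_f] M (Nat.sub (MG u) (Nat.mod (MG u) M)) (nat_lit 40) z1 u (Nat.mod (MG u) M)) (Bool.rec (motive := fun _ => Bool) (mRel MG [T_b, T_ci, T_fi, T_b, T_di, T_di, T_ci, T_f] [] M (Nat.sub (MG u) (Nat.mod (MG u) M)) (nat_lit 40) z1 u (Nat.mod (MG u) M)) (mRel MG [T_c, T_b] [T_fi, T_d, T_bi, T_fi, T_di, T_ci] M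 (Nat.sub (MG u) (Nat.mod (MG u) M)) (nat_lit 40) z1 u (Nat.mod (MG u) M)) (Nat.ble (nat_lit 1399) j)) (Nat.ble (nat_lit 1398) j)) (Nat.ble (nat_lit 1397) j)) (Bool.rec (motive := fun _ => Bool) (Bool.rec (motive := fun _ => Bool) (mRel MG [T_c, T_fi] [T_b, T_e, T_di, T_fi, T_bi, T_f, T_e] M (Nat.sub (MG u) (Nat.mod (MG u) M)) (nat_lit 40) z1 u (Nat.mod (MG u) M)) (Bool.rec (motive := fun _ => Bool) (mRel MG [T_b, T_ci, T_ci, T_d] [T_c, T_b, T_ci, T_ci] M (Nat.sub (MG u) (Nat.mod (MG u) M)) (nat_lit 40) z1 u (Nat.mod (MG u) M)) (mRel MG [T_d] [T_ci, T_ci, T_bi, T_ci, T_b, T_di, T_f] M (Nat.sub (MG u) (Nat.mod (MG u) M)) (nat_lit 40) z1 u (Nat.mod (MG u) M)) (Nat.ble (nat_lit 1402) j)) (Nat.ble (nat_lit 1401) j)) (Bool.rec (motive := fun _ => Bool) (mRel MG [T_c, T_di, T_c, T_d, T_bi, T_c] [T_bi, T_d] M (Nat.sub (MG u) (Nat.mod (MG u) M))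 (nat_lit 40) z1 u (Nat.mod (MG u) M)) (Bool.rec (motive := fun _ => Bool) (mRel MG [T_di, T_ci, T_bi, T_di, T_fi] [T_b, T_ci, T_bi] M (Nat.sub (MG u) (Nat.mod (MG u) M)) (nat_lit 40) z1 u (Nat.mod (MG u) M)) (mRel MG [T_di, T_fi, T_b, T_c, T_b, T_ci, T_bi] [T_f] M (Nat.sub (MG u) (Nat.mod (MG u) M)) (nat_lit 40) z1 u (Nat.mod (MG u) M)) (Nat.ble (nat_lit 1405) j)) (Nat.ble (nat_lit 1404) j)) (Nat.ble (nat_lit 1403) j)) (Nat.ble (nat_lit 1400) j)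
noncomputable def dM_270 (j z1 z2 u : ℕ) : Bool :=
  Bool.rec (motive := fun _ => Bool) (dM_268 j z1 z2 u) (dM_269 j z1 z2 u) (Nat.ble (nat_lit 1395) j)
noncomputable def dM_271 (j z1 z2 u : ℕ) : Bool :=
  Bool.rec (motive := fun _ => Bool) (dM_267 j z1 z2 u) (dM_270 j z1 z2 u) (Nat.ble (nat_lit 1384) j)
noncomputable def dM_272 (j z1 z2 u : ℕ) : Bool :=
  Bool.rec (motive := fun _ => Bool) (dM_264 j z1 z2 u) (dM_271 j z1 z2 u) (Nat.ble (nat_lit 1363) j)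
noncomputable def dM_273 (j z1 z2 u : ℕ) : Bool :=
  Bool.rec (motive := fun _ => Bool) (Bool.rec (motive := fun _ => Bool) (Bool.rec (motive := fun _ => Bool) (mRel MG [T_d, T_bi, T_fi, T_di, T_ci, T_bi] [T_f, T_c] M (Nat.sub (MG u) (Nat.mod (MG u) M)) (nat_lit 40) z1 u (Nat.mod (MG u) M)) (mRel MG [T_b, T_di, T_di, T_b] [T_d, T_d, T_b, T_d] M (Nat.sub (MG u) (Nat.mod (MG u) M)) (nat_lit 40) z1 u (Nat.mod (MG u) M)) (Nat.ble (nat_lit 1407) j)) (Bool.rec (motive := fun _ => Bool) (mRel MG [T_fi, T_bi, T_bi, T_f] [T_ci, T_d, T_fi, T_bi] M (Nat.sub (MG u) (Nat.mod (MG u) M)) (nat_lit 40) z1 u (Nat.mod (MG u) M)) (Bool.rec (motive := fun _ => Bool) (mRel MG [T_f, T_di, T_fi, T_di, T_di, T_f, T_di, T_f] [] M (Nat.sub (MG u) (Nat.mod (MG u) M)) (nat_lit 40) z1 u (Nat.mod (MG u) M)) (mRel MG [T_bi] [T_c, T_bi, T_di, T_ci, T_bi, T_di, T_fi] M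 (Nat.sub (MG u) (Nat.mod (MG u) M)) (nat_lit 40) z1 u (Nat.mod (MG u) M)) (Nat.ble (nat_lit 1410) j)) (Nat.ble (nat_lit 1409) j)) (Nat.ble (nat_lit 1408) j)) (Bool.rec (motive := fun _ => Bool) (Bool.rec (motive := fun _ => Bool) (mRel MG [T_di, T_e, T_fi, T_ei, T_f] [T_f, T_di, T_ci, T_ei] M (Nat.sub (MG u) (Nat.mod (MG u) M)) (nat_lit 40) z1 u (Nat.mod (MG u) M)) (mRel MG [T_d, T_c, T_bi] [T_ci, T_bi, T_f, T_ci, T_d] M (Nat.sub (MG u) (Nat.mod (MG u) M)) (nat_lit 40) z1 u (Nat.mod (MG u) M)) (Nat.ble (nat_lit 1412) j)) (Bool.rec (motive := fun _ => Bool) (mRel MG [T_di, T_ci, T_ei, T_fi, T_e, T_f] [T_fi, T_di, T_e] M (Nat.sub (MG u) (Nat.mod (MG u) M)) (nat_lit 40) z1 u (Nat.mod (MG u) M)) (Bool.rec (motive := fun _ => Bool) (mRel MG [T_fi, T_bi, T_fi, T_b] [T_di, T_c, T_fi, T_bi] M (Nat.sub (MG u) (Nat.mod (MG u) M)) (nat_lit 40) z1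 u (Nat.mod (MG u) M)) (mRel MG [T_c, T_fi, T_di, T_ci, T_b, T_di] [T_b, T_fi] M (Nat.sub (MG u) (Nat.mod (MG u) M)) (nat_lit 40) z1 u (Nat.mod (MG u) M)) (Nat.ble (nat_lit 1415) j)) (Nat.ble (nat_lit 1414) j)) (Nat.ble (nat_lit 1413) j)) (Nat.ble (nat_lit 1411) j)
noncomputable def dM_274 (j z1 z2 u : ℕ) : Bool :=
  Bool.rec (motive := fun _ => Bool) (Bool.rec (motive := fun _ => Bool) (Bool.rec (motive := fun _ => Bool) (mRel MG [T_bi, T_f, T_e, T_f] [T_f, T_d, T_ei, T_bi, T_c] M (Nat.sub (MG u) (Nat.mod (MG u) M)) (nat_lit 40) z1 u (Nat.mod (MG u) M)) (mRel MG [T_c, T_fi, T_ei, T_fi, T_b, T_f] [T_b, T_e, T_di] M (Nat.sub (MG u) (Nat.mod (MG u) M)) (nat_lit 40) z1 u (Nat.mod (MG u) M)) (Nat.ble (nat_lit 1417) j)) (Bool.rec (motive := fun _ => Bool) (mRel MG [T_b, T_ci] [T_d, T_fi, T_c, T_fi, T_bi, T_di] M (Nat.sub (MG u) (Nat.mod (MG u)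 M)) (nat_lit 40) z1 u (Nat.mod (MG u) M)) (Bool.rec (motive := fun _ => Bool) (mRel MG [T_b, T_c, T_d, T_b, T_b, T_ci, T_bi] [T_f] M (Nat.sub (MG u) (Nat.mod (MG u) M)) (nat_lit 40) z1 u (Nat.mod (MG u) M)) (mRel MG [T_d, T_d, T_b] [T_fi, T_bi, T_ci, T_di, T_f] M (Nat.sub (MG u) (Nat.mod (MG u) M)) (nat_lit 40) z1 u (Nat.mod (MG u) M)) (Nat.ble (nat_lit 1420) j)) (Nat.ble (nat_lit 1419) j)) (Nat.ble (nat_lit 1418) j)) (Bool.rec (motive := fun _ => Bool) (Bool.rec (motive := fun _ => Bool) (mRel MG [T_d, T_c, T_b] [T_b, T_f, T_f, T_c, T_bi] M (Nat.sub (MG u) (Nat.mod (MG u) M)) (nat_lit 40) z1 u (Nat.mod (MG u) M)) (Bool.rec (motive := fun _ => Bool) (mRel MG [T_di, T_di, T_b, T_di] [T_b, T_d, T_bi, T_d] M (Nat.sub (MG u) (Nat.mod (MG u) M)) (nat_lit 40) z1 u (Nat.mod (MG u) M)) (mRel MG [T_d] [T_c, T_c, T_bi, T_c, T_b, T_ci, T_ci] M (Nat.sub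 (MG u) (Nat.mod (MG u) M)) (nat_lit 40) z1 u (Nat.mod (MG u) M)) (Nat.ble (nat_lit 1423) j)) (Nat.ble (nat_lit 1422) j)) (Bool.rec (motive := fun _ => Bool) (mRel MG [T_di, T_c, T_bi, T_d, T_fi, T_c, T_fi] [T_b] M (Nat.sub (MG u) (Nat.mod (MG u) M)) (nat_lit 40) z1 u (Nat.mod (MG u) M)) (Bool.rec (motive := fun _ => Bool) (mRel MG [T_b, T_f, T_c, T_di, T_b, T_f, T_c] [T_d] M (Nat.sub (MG u) (Nat.mod (MG u) M)) (nat_lit 40) z1 u (Nat.mod (MG u) M)) (mRel MG [T_di, T_fi, T_b, T_c, T_bi] [T_b, T_c, T_d] M (Nat.sub (MG u) (Nat.mod (MG u) M)) (nat_lit 40) z1 u (Nat.mod (MG u) M)) (Nat.ble (nat_lit 1426) j)) (Nat.ble (nat_lit 1425) j)) (Nat.ble (nat_lit 1424) j)) (Nat.ble (nat_lit 1421) j)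
noncomputable def dM_275 (j z1 z2 u : ℕ) : Bool :=
  Bool.rec (motive := fun _ => Bool) (dM_273 j z1 z2 u) (dM_274 j z1 z2 u) (Nat.ble (nat_lit 1416) j)
noncomputable def dM_276 (j z1 z2 u : ℕ) : Bool :=
  Bool.rec (motive := fun _ => Bool) (Bool.rec (motive := fun _ => Bool) (Bool.rec (motive := fun _ => Bool) (mRel MG [T_c, T_fi, T_ei, T_fi] [T_b, T_e, T_di, T_fi, T_bi] M (Nat.sub (MG u) (Nat.mod (MG u) M)) (nat_lit 40) z1 u (Nat.mod (MG u) M)) (mRel MG [T_bi, T_f] [T_c, T_bi, T_di, T_ci, T_bi, T_di] M (Nat.sub (MG u) (Nat.mod (MG u) M)) (nat_lit 40) z1 u (Nat.mod (MG u) M)) (Nat.ble (nat_lit 1428) j)) (Bool.rec (motive := fun _ => Bool) (mRel MG [T_f, T_di, T_fi] [T_fi, T_d, T_fi, T_d, T_d] M (Nat.sub (MG u) (Nat.mod (MG u) M)) (nat_lit 40) z1 u (Nat.mod (MG u) M)) (Bool.rec (motive := fun _ => Bool) (mRel MG [T_d, T_b, T_ci] [T_ci,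 T_bi, T_di, T_fi, T_b] M (Nat.sub (MG u) (Nat.mod (MG u) M)) (nat_lit 40) z1 u (Nat.mod (MG u) M)) (mRel MG [T_di, T_c] [T_c, T_bi, T_ci, T_d, T_c, T_bi] M (Nat.sub (MG u) (Nat.mod (MG u) M)) (nat_lit 40) z1 u (Nat.mod (MG u) M)) (Nat.ble (nat_lit 1431) j)) (Nat.ble (nat_lit 1430) j)) (Nat.ble (nat_lit 1429) j)) (Bool.rec (motive := fun _ => Bool) (Bool.rec (motive := fun _ => Bool) (mRel MG [T_f] [T_d, T_bi, T_fi, T_di, T_ci, T_bi, T_ci] M (Nat.sub (MG u) (Nat.mod (MG u) M)) (nat_lit 40) z1 u (Nat.mod (MG u) M)) (Bool.rec (motive := fun _ => Bool) (mRel MG [T_f] [T_e, T_fi, T_d, T_ci, T_fi, T_e, T_f, T_ei] M (Nat.sub (MG u) (Nat.mod (MG u) M)) (nat_lit 40) z1 u (Nat.mod (MG u) M)) (mRel MG [T_d] [T_ci, T_d, T_ci, T_bi, T_d, T_ci, T_b] M (Nat.sub (MG u) (Nat.mod (MG u) M)) (nat_lit 40) z1 u (Nat.mod (MG u) M)) (Nat.ble (nat_lit 1434) j))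 (Nat.ble (nat_lit 1433) j)) (Bool.rec (motive := fun _ => Bool) (mRel MG [T_ei, T_fi, T_e] [T_c, T_di, T_f, T_f, T_e, T_fi] M (Nat.sub (MG u) (Nat.mod (MG u) M)) (nat_lit 40) z1 u (Nat.mod (MG u) M)) (Bool.rec (motive := fun _ => Bool) (mRel MG [T_bi, T_ci, T_b, T_di, T_f, T_di, T_ci] [T_c] M (Nat.sub (MG u) (Nat.mod (MG u) M)) (nat_lit 40) z1 u (Nat.mod (MG u) M)) (mRel MG [T_f, T_ci, T_d, T_fi, T_bi] [T_bi, T_bi, T_f] M (Nat.sub (MG u) (Nat.mod (MG u) M)) (nat_lit 40) z1 u (Nat.mod (MG u) M)) (Nat.ble (nat_lit 1437) j)) (Nat.ble (nat_lit 1436) j)) (Nat.ble (nat_lit 1435) j)) (Nat.ble (nat_lit 1432) j)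
noncomputable def dM_277 (j z1 z2 u : ℕ) : Bool :=
  Bool.rec (motive := fun _ => Bool) (Bool.rec (motive := fun _ => Bool) (Bool.rec (motive := fun _ => Bool) (mRel MG [T_bi, T_e, T_c, T_e, T_bi, T_e, T_c, T_e] [] M (Nat.sub (MG u) (Nat.mod (MG u) M)) (nat_lit 40) z1 u (Nat.mod (MG u) M)) (mRel MG [T_fi, T_bi, T_d, T_ci, T_fi, T_bi] [T_c, T_di] M (Nat.sub (MG u) (Nat.mod (MG u) M)) (nat_lit 40) z1 u (Nat.mod (MG u) M)) (Nat.ble (nat_lit 1439) j)) (Bool.rec (motive := fun _ => Bool) (mRel MG [T_b, T_c, T_di] [T_d, T_fi, T_di, T_b, T_c] M (Nat.sub (MG u) (Nat.mod (MG u) M)) (nat_lit 40) z1 u (Nat.mod (MG u) M)) (Bool.rec (motive := fun _ => Bool) (mRel MG [T_di, T_f] [T_bi, T_fi, T_di, T_ci, T_bi, T_ci] M (Nat.sub (MG u) (Nat.mod (MG u) M)) (nat_lit 40) z1 u (Nat.mod (MG u) M)) (mRel MG [T_ci, T_fi, T_bi, T_d, T_ci] [T_di, T_b, T_f] M (Nat.sub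 (MG u) (Nat.mod (MG u) M)) (nat_lit 40) z1 u (Nat.mod (MG u) M)) (Nat.ble (nat_lit 1442) j)) (Nat.ble (nat_lit 1441) j)) (Nat.ble (nat_lit 1440) j)) (Bool.rec (motive := fun _ => Bool) (Bool.rec (motive := fun _ => Bool) (mRel MG [T_ci, T_ei, T_fi, T_e, T_f, T_ei, T_d, T_f] [T_d] M (Nat.sub (MG u) (Nat.mod (MG u) M)) (nat_lit 40) z1 u (Nat.mod (MG u) M)) (Bool.rec (motive := fun _ => Bool) (mRel MG [T_bi, T_d, T_fi, T_bi, T_d, T_f, T_c, T_d] [T_ci] M (Nat.sub (MG u) (Nat.mod (MG u) M)) (nat_lit 40) z1 u (Nat.mod (MG u) M)) (mRel MG [T_c, T_c, T_di] [T_b, T_d, T_ci, T_ci, T_b] M (Nat.sub (MG u) (Nat.mod (MG u) M)) (nat_lit 40) z1 u (Nat.mod (MG u) M)) (Nat.ble (nat_lit 1445) j)) (Nat.ble (nat_lit 1444) j)) (Bool.rec (motive := fun _ => Bool) (mRel MG [T_di, T_ci, T_ci] [T_fi, T_d, T_bi, T_c, T_b] M (Nat.sub (MG u) (Nat.mod (MG u) M)) (nat_lit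 40) z1 u (Nat.mod (MG u) M)) (Bool.rec (motive := fun _ => Bool) (mRel MG [T_d, T_fi, T_c, T_bi, T_c, T_d, T_d] [T_b, T_fi] M (Nat.sub (MG u) (Nat.mod (MG u) M)) (nat_lit 40) z1 u (Nat.mod (MG u) M)) (mRel MG [T_ei, T_f, T_e, T_fi, T_ei] [T_fi, T_d, T_ci, T_fi] M (Nat.sub (MG u) (Nat.mod (MG u) M)) (nat_lit 40) z1 u (Nat.mod (MG u) M)) (Nat.ble (nat_lit 1448) j)) (Nat.ble (nat_lit 1447) j)) (Nat.ble (nat_lit 1446) j)) (Nat.ble (nat_lit 1443) j)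
noncomputable def dM_278 (j z1 z2 u : ℕ) : Bool :=
  Bool.rec (motive := fun _ => Bool) (dM_276 j z1 z2 u) (dM_277 j z1 z2 u) (Nat.ble (nat_lit 1438) j)
noncomputable def dM_279 (j z1 z2 u : ℕ) : Bool :=
  Bool.rec (motive := fun _ => Bool) (dM_275 j z1 z2 u) (dM_278 j z1 z2 u) (Nat.ble (nat_lit 1427) j)
noncomputable def dM_280 (j z1 z2 u : ℕ) : Bool :=
  Bool.rec (motive := fun _ => Bool) (Bool.rec (motive := fun _ => Bool) (Bool.rec (motive := fun _ => Bool) (mRel MG [T_f, T_ci] [T_di, T_ci, T_b, T_di, T_f, T_bi] M (Nat.sub (MG u) (Nat.mod (MG u) M)) (nat_lit 40) z1 u (Nat.mod (MG u) M)) (mRel MG [T_d, T_bi, T_c, T_b, T_c, T_c] [T_f, T_di] M (Nat.sub (MG u) (Nat.mod (MG u) M)) (nat_lit 40) z1 u (Nat.mod (MG u) M)) (Nat.ble (nat_lit 1450) j)) (Bool.rec (motive := fun _ => Bool) (mRel MG [T_fi, T_b, T_b, T_f] [T_b, T_f, T_di, T_c] M (Nat.sub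 (MG u) (Nat.mod (MG u) M)) (nat_lit 40) z1 u (Nat.mod (MG u) M)) (Bool.rec (motive := fun _ => Bool) (mRel MG [T_d, T_ci, T_f, T_d, T_d] [T_di, T_fi, T_c] M (Nat.sub (MG u) (Nat.mod (MG u) M)) (nat_lit 40) z1 u (Nat.mod (MG u) M)) (mRel MG [T_d, T_fi, T_d, T_bi, T_c] [T_ci, T_ci, T_bi] M (Nat.sub (MG u) (Nat.mod (MG u) M)) (nat_lit 40) z1 u (Nat.mod (MG u) M)) (Nat.ble (nat_lit 1453) j)) (Nat.ble (nat_lit 1452) j)) (Nat.ble (nat_lit 1451) j)) (Bool.rec (motive := fun _ => Bool) (Bool.rec (motive := fun _ => Bool) (mRel MG [T_d, T_fi, T_di, T_b] [T_b, T_c, T_di, T_ci] M (Nat.sub (MG u) (Nat.mod (MG u) M)) (nat_lit 40) z1 u (Nat.mod (MG u) M)) (mRel MG [T_bi, T_di, T_ci, T_bi] [T_b, T_ci, T_bi, T_fi] M (Nat.sub (MG u) (Nat.mod (MG u) M)) (nat_lit 40) z1 u (Nat.mod (MG u) M)) (Nat.ble (nat_lit 1455) j)) (Bool.rec (motive := fun _ => Bool)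 (mRel MG [T_f, T_bi] [T_d, T_c, T_b, T_f, T_d, T_d] M (Nat.sub (MG u) (Nat.mod (MG u) M)) (nat_lit 40) z1 u (Nat.mod (MG u) M)) (Bool.rec (motive := fun _ => Bool) (mRel MG [T_fi, T_b, T_b, T_f, T_ci, T_d] [T_b, T_f] M (Nat.sub (MG u) (Nat.mod (MG u) M)) (nat_lit 40) z1 u (Nat.mod (MG u) M)) (mRel MG [T_bi, T_c, T_b, T_d] [T_d, T_f, T_f, T_c] M (Nat.sub (MG u) (Nat.mod (MG u) M)) (nat_lit 40) z1 u (Nat.mod (MG u) M)) (Nat.ble (nat_lit 1458) j)) (Nat.ble (nat_lit 1457) j)) (Nat.ble (nat_lit 1456) j)) (Nat.ble (nat_lit 1454) j)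
noncomputable def dM_281 (j z1 z2 u : ℕ) : Bool :=
  Bool.rec (motive := fun _ => Bool) (Bool.rec (motive := fun _ => Bool) (Bool.rec (motive := fun _ => Bool) (mRel MG [T_fi, T_d, T_bi, T_fi, T_di, T_ci, T_bi] [T_c] M (Nat.sub (MG u) (Nat.mod (MG u) M)) (nat_lit 40) z1 u (Nat.mod (MG u) M)) (mRel MG [T_bi, T_ci, T_fi, T_d] [T_c, T_d, T_f, T_b] M (Nat.sub (MG u) (Nat.mod (MG u) M)) (nat_lit 40) z1 u (Nat.mod (MG u) M)) (Nat.ble (nat_lit 1460) j)) (Bool.rec (motive := fun _ => Bool) (mRel MG [T_fi, T_b, T_c, T_d, T_b] [T_b, T_c, T_bi] M (Nat.sub (MG u) (Nat.mod (MG u) M)) (nat_lit 40) z1 u (Nat.mod (MG u) M)) (Bool.rec (motive := fun _ => Bool) (mRel MG [T_di, T_b, T_c] [T_f, T_di, T_b, T_c, T_di] M (Nat.sub (MG u) (Nat.mod (MG u) M)) (nat_lit 40) z1 u (Nat.mod (MG u) M)) (mRel MG [T_bi, T_fi, T_b, T_b, T_f, T_ci] [T_f, T_di] M (Nat.sub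 (MG u) (Nat.mod (MG u) M)) (nat_lit 40) z1 u (Nat.mod (MG u) M)) (Nat.ble (nat_lit 1463) j)) (Nat.ble (nat_lit 1462) j)) (Nat.ble (nat_lit 1461) j)) (Bool.rec (motive := fun _ => Bool) (Bool.rec (motive := fun _ => Bool) (mRel MG [T_fi, T_di] [T_ci, T_b, T_fi, T_d, T_bi, T_c] M (Nat.sub (MG u) (Nat.mod (MG u) M)) (nat_lit 40) z1 u (Nat.mod (MG u) M)) (Bool.rec (motive := fun _ => Bool) (mRel MG [T_bi, T_d] [T_ci, T_di, T_f, T_c, T_bi, T_d, T_ci] M (Nat.sub (MG u) (Nat.mod (MG u) M)) (nat_lit 40) z1 u (Nat.mod (MG u) M)) (mRel MG [T_bi] [T_di, T_f, T_c, T_b, T_c, T_d, T_f] M (Nat.sub (MG u) (Nat.mod (MG u) M)) (nat_lit 40) z1 u (Nat.mod (MG u) M)) (Nat.ble (nat_lit 1466) j)) (Nat.ble (nat_lit 1465) j)) (Bool.rec (motive := fun _ => Bool) (mRel MG [T_fi, T_di, T_fi, T_di] [T_ci, T_ci, T_di, T_fi, T_c] M (Nat.sub (MG u) (Nat.mod (MG u) M))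 (nat_lit 40) z1 u (Nat.mod (MG u) M)) (Bool.rec (motive := fun _ => Bool) (mRel MG [T_ci, T_d, T_b, T_f] [T_bi, T_d, T_fi, T_c] M (Nat.sub (MG u) (Nat.mod (MG u) M)) (nat_lit 40) z1 u (Nat.mod (MG u) M)) (mRel MG [T_d, T_f, T_b] [T_fi, T_b, T_c, T_b, T_ci] M (Nat.sub (MG u) (Nat.mod (MG u) M)) (nat_lit 40) z1 u (Nat.mod (MG u) M)) (Nat.ble (nat_lit 1469) j)) (Nat.ble (nat_lit 1468) j)) (Nat.ble (nat_lit 1467) j)) (Nat.ble (nat_lit 1464) j)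
noncomputable def dM_282 (j z1 z2 u : ℕ) : Bool :=
  Bool.rec (motive := fun _ => Bool) (dM_280 j z1 z2 u) (dM_281 j z1 z2 u) (Nat.ble (nat_lit 1459) j)
noncomputable def dM_283 (j z1 z2 u : ℕ) : Bool :=
  Bool.rec (motive := fun _ => Bool) (Bool.rec (motive := fun _ => Bool) (Bool.rec (motive := fun _ => Bool) (mRel MG [T_di, T_di] [T_b, T_c, T_bi, T_ci, T_bi, T_fi] M (Nat.sub (MG u) (Nat.mod (MG u) M)) (nat_lit 40) z1 u (Nat.mod (MG u) M)) (mRel MG [T_ci, T_fi, T_fi, T_di] [T_di, T_bi, T_ci, T_b] M (Nat.sub (MG u) (Nat.mod (MG u) M)) (nat_lit 40) z1 u (Nat.mod (MG u) M)) (Nat.ble (nat_lit 1471) j)) (Bool.rec (motive := fun _ => Bool) (mRel MG [T_e, T_fi, T_d, T_ci, T_fi, T_e, T_f] [T_f, T_e] M (Nat.sub (MG u) (Nat.mod (MG u) M)) (nat_lit 40) z1 u (Nat.mod (MG u) M)) (Bool.rec (motive := fun _ => Bool) (mRel MG [T_fi, T_d, T_bi, T_fi,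 T_di] [T_c, T_b, T_c] M (Nat.sub (MG u) (Nat.mod (MG u) M)) (nat_lit 40) z1 u (Nat.mod (MG u) M)) (mRel MG [T_b, T_ci, T_b, T_ci] [T_c, T_bi, T_c, T_bi] M (Nat.sub (MG u) (Nat.mod (MG u) M)) (nat_lit 40) z1 u (Nat.mod (MG u) M)) (Nat.ble (nat_lit 1474) j)) (Nat.ble (nat_lit 1473) j)) (Nat.ble (nat_lit 1472) j)) (Bool.rec (motive := fun _ => Bool) (Bool.rec (motive := fun _ => Bool) (mRel MG [T_bi, T_f, T_c, T_bi, T_fi, T_c] [T_di, T_di] M (Nat.sub (MG u) (Nat.mod (MG u) M)) (nat_lit 40) z1 u (Nat.mod (MG u) M)) (Bool.rec (motive := fun _ => Bool) (mRel MG [T_d, T_ci, T_ei, T_fi] [T_f, T_f, T_e, T_fi, T_ei] M (Nat.sub (MG u) (Nat.mod (MG u) M)) (nat_lit 40) z1 u (Nat.mod (MG u) M)) (mRel MG [T_bi, T_ci, T_fi, T_d, T_bi] [T_c, T_d, T_f] M (Nat.sub (MG u) (Nat.mod (MG u) M)) (nat_lit 40) z1 u (Nat.mod (MG u) M)) (Nat.ble (nat_lit 1477) j))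 (Nat.ble (nat_lit 1476) j)) (Bool.rec (motive := fun _ => Bool) (mRel MG [T_b, T_d, T_ci, T_fi, T_fi] [T_ci, T_b, T_d] M (Nat.sub (MG u) (Nat.mod (MG u) M)) (nat_lit 40) z1 u (Nat.mod (MG u) M)) (Bool.rec (motive := fun _ => Bool) (mRel MG [T_ci, T_bi, T_f] [T_b, T_ci, T_bi, T_fi, T_di] M (Nat.sub (MG u) (Nat.mod (MG u) M)) (nat_lit 40) z1 u (Nat.mod (MG u) M)) (mRel MG [T_b, T_e, T_di, T_fi, T_bi, T_f, T_e, T_f] [T_c] M (Nat.sub (MG u) (Nat.mod (MG u) M)) (nat_lit 40) z1 u (Nat.mod (MG u) M)) (Nat.ble (nat_lit 1480) j)) (Nat.ble (nat_lit 1479) j)) (Nat.ble (nat_lit 1478) j)) (Nat.ble (nat_lit 1475) j)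
noncomputable def dM_284 (j z1 z2 u : ℕ) : Bool :=
  Bool.rec (motive := fun _ => Bool) (Bool.rec (motive := fun _ => Bool) (Bool.rec (motive := fun _ => Bool) (mRel MG [T_e, T_c, T_d] [T_fi, T_e, T_f, T_ei, T_d, T_f] M (Nat.sub (MG u) (Nat.mod (MG u) M)) (nat_lit 40) z1 u (Nat.mod (MG u) M)) (mRel MG [T_bi, T_bi, T_f, T_b] [T_f, T_ci, T_d, T_fi] M (Nat.sub (MG u) (Nat.mod (MG u) M)) (nat_lit 40) z1 u (Nat.mod (MG u) M)) (Nat.ble (nat_lit 1482) j)) (Bool.rec (motive := fun _ => Bool) (mRel MG [T_ei, T_fi, T_e, T_fi, T_d, T_ci] [T_fi, T_ei, T_f] M (Nat.sub (MG u) (Nat.mod (MG u) M)) (nat_lit 40) z1 u (Nat.mod (MG u) M)) (Bool.rec (motive := fun _ => Bool) (mRel MG [T_bi, T_fi, T_c, T_d, T_d] [T_ci, T_fi, T_b] M (Nat.sub (MG u) (Nat.mod (MG u) M)) (nat_lit 40) z1 u (Nat.mod (MG u) M)) (mRel MG [T_f, T_b, T_ci, T_fi, T_b, T_di, T_di, T_ci]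 [] M (Nat.sub (MG u) (Nat.mod (MG u) M)) (nat_lit 40) z1 u (Nat.mod (MG u) M)) (Nat.ble (nat_lit 1485) j)) (Nat.ble (nat_lit 1484) j)) (Nat.ble (nat_lit 1483) j)) (Bool.rec (motive := fun _ => Bool) (Bool.rec (motive := fun _ => Bool) (mRel MG [T_ei, T_fi] [T_fi, T_ei, T_f, T_c, T_di, T_f, T_ei] M (Nat.sub (MG u) (Nat.mod (MG u) M)) (nat_lit 40) z1 u (Nat.mod (MG u) M)) (Bool.rec (motive := fun _ => Bool) (mRel MG [T_fi, T_di, T_bi, T_c, T_b, T_d, T_ci] [T_f] M (Nat.sub (MG u) (Nat.mod (MG u) M)) (nat_lit 40) z1 u (Nat.mod (MG u) M)) (mRel MG [T_b] [T_e, T_c, T_e, T_bi, T_e, T_c, T_e] M (Nat.sub (MG u) (Nat.mod (MG u) M)) (nat_lit 40) z1 u (Nat.mod (MG u) M)) (Nat.ble (nat_lit 1488) j)) (Nat.ble (nat_lit 1487) j)) (Bool.rec (motive := fun _ => Bool) (mRel MG [T_di, T_bi, T_ci, T_b] [T_ci, T_fi, T_fi, T_di] M (Nat.sub (MG u) (Nat.mod (MG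 u) M)) (nat_lit 40) z1 u (Nat.mod (MG u) M)) (Bool.rec (motive := fun _ => Bool) (mRel MG [T_bi, T_d, T_d, T_b] [T_di, T_di, T_b, T_di] M (Nat.sub (MG u) (Nat.mod (MG u) M)) (nat_lit 40) z1 u (Nat.mod (MG u) M)) (mRel MG [T_fi, T_d, T_ci] [T_ei, T_f, T_e, T_fi, T_ei, T_f] M (Nat.sub (MG u) (Nat.mod (MG u) M)) (nat_lit 40) z1 u (Nat.mod (MG u) M)) (Nat.ble (nat_lit 1491) j)) (Nat.ble (nat_lit 1490) j)) (Nat.ble (nat_lit 1489) j)) (Nat.ble (nat_lit 1486) j)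
noncomputable def dM_285 (j z1 z2 u : ℕ) : Bool :=
  Bool.rec (motive := fun _ => Bool) (dM_283 j z1 z2 u) (dM_284 j z1 z2 u) (Nat.ble (nat_lit 1481) j)
noncomputable def dM_286 (j z1 z2 u : ℕ) : Bool :=
  Bool.rec (motive := fun _ => Bool) (dM_282 j z1 z2 u) (dM_285 j z1 z2 u) (Nat.ble (nat_lit 1470) j)
noncomputable def dM_287 (j z1 z2 u : ℕ) : Bool :=
  Bool.rec (motive := fun _ => Bool) (dM_279 j z1 z2 u) (dM_286 j z1 z2 u) (Nat.ble (nat_lit 1449) j)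
noncomputable def dM_288 (j z1 z2 u : ℕ) : Bool :=
  Bool.rec (motive := fun _ => Bool) (dM_272 j z1 z2 u) (dM_287 j z1 z2 u) (Nat.ble (nat_lit 1406) j)
noncomputable def dM_289 (j z1 z2 u : ℕ) : Bool :=
  Bool.rec (motive := fun _ => Bool) (Bool.rec (motive := fun _ => Bool) (Bool.rec (motive := fun _ => Bool) (mRel MG [T_b, T_f, T_ci, T_f, T_di] [T_di, T_c, T_bi] M (Nat.sub (MG u) (Nat.mod (MG u) M)) (nat_lit 40) z1 u (Nat.mod (MG u) M)) (mRel MG [T_f, T_e, T_fi, T_ei, T_f, T_e, T_c, T_di] [T_fi] M (Nat.sub (MG u) (Nat.mod (MG u) M)) (nat_lit 40) z1 u (Nat.mod (MG u) M)) (Nat.ble (nat_lit 1493) j)) (Bool.rec (motive := fun _ => Bool) (mRel MG [T_ci] [T_c, T_fi, T_bi, T_c, T_f, T_b, T_fi] M (Nat.sub (MG u) (Nat.mod (MG u) M)) (nat_lit 40) z1 u (Nat.mod (MG u) M)) (Bool.rec (motive := fun _ => Bool) (mRel MG [T_c, T_b, T_ci] [T_bi, T_fi,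 T_d, T_d, T_b] M (Nat.sub (MG u) (Nat.mod (MG u) M)) (nat_lit 40) z1 u (Nat.mod (MG u) M)) (mRel MG [T_b, T_ci, T_ci, T_di, T_c, T_c] [T_ci, T_b] M (Nat.sub (MG u) (Nat.mod (MG u) M)) (nat_lit 40) z1 u (Nat.mod (MG u) M)) (Nat.ble (nat_lit 1496) j)) (Nat.ble (nat_lit 1495) j)) (Nat.ble (nat_lit 1494) j)) (Bool.rec (motive := fun _ => Bool) (Bool.rec (motive := fun _ => Bool) (mRel MG [T_bi, T_di, T_c] [T_f, T_ci, T_f, T_di, T_b] M (Nat.sub (MG u) (Nat.mod (MG u) M)) (nat_lit 40) z1 u (Nat.mod (MG u) M)) (mRel MG [T_d, T_bi, T_c] [T_ci, T_d, T_ci, T_bi, T_d] M (Nat.sub (MG u) (Nat.mod (MG u) M)) (nat_lit 40) z1 u (Nat.mod (MG u) M)) (Nat.ble (nat_lit 1498) j)) (Bool.rec (motive := fun _ => Bool) (mRel MG [T_d, T_bi, T_f, T_c] [T_di, T_ci, T_f, T_b] M (Nat.sub (MG u) (Nat.mod (MG u) M)) (nat_lit 40) z1 u (Nat.mod (MG u) M)) (Bool.rec (motive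 := fun _ => Bool) (mRel MG [T_c, T_b, T_b, T_ci, T_fi] [T_di, T_b, T_f] M (Nat.sub (MG u) (Nat.mod (MG u) M)) (nat_lit 40) z1 u (Nat.mod (MG u) M)) (mRel MG [T_fi, T_e, T_f, T_ei, T_fi, T_e, T_fi, T_d, T_ci] [] M (Nat.sub (MG u) (Nat.mod (MG u) M)) (nat_lit 40) z1 u (Nat.mod (MG u) M)) (Nat.ble (nat_lit 1501) j)) (Nat.ble (nat_lit 1500) j)) (Nat.ble (nat_lit 1499) j)) (Nat.ble (nat_lit 1497) j)
noncomputable def dM_290 (j z1 z2 u : ℕ) : Bool :=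
  Bool.rec (motive := fun _ => Bool) (Bool.rec (motive := fun _ => Bool) (Bool.rec (motive := fun _ => Bool) (mRel MG [T_di, T_e, T_fi, T_ei, T_f, T_e, T_c] [T_f, T_di] M (Nat.sub (MG u) (Nat.mod (MG u) M)) (nat_lit 40) z1 u (Nat.mod (MG u) M)) (mRel MG [T_bi, T_ci, T_d, T_c, T_bi, T_ci, T_d, T_c] [] M (Nat.sub (MG u) (Nat.mod (MG u) M)) (nat_lit 40) z1 u (Nat.mod (MG u) M)) (Nat.ble (nat_lit 1503) j)) (Bool.rec (motive := fun _ => Bool) (mRel MG [T_ci, T_b, T_f, T_ci, T_ci] [T_f, T_b, T_fi] M (Nat.sub (MG u) (Nat.mod (MG u) M)) (nat_lit 40) z1 u (Nat.mod (MG u) M)) (Bool.rec (motive := fun _ => Bool) (mRel MG [T_bi, T_fi, T_di, T_ci] [T_di, T_f, T_c, T_b] M (Nat.sub (MG u) (Nat.mod (MG u) M)) (nat_lit 40) z1 u (Nat.mod (MG u) M)) (mRel MG [T_b, T_c, T_d, T_c] [T_f, T_ci, T_d, T_b] M (Nat.sub (MG u) (Nat.mod (MG u) M)) (nat_lit 40) z1 u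 (Nat.mod (MG u) M)) (Nat.ble (nat_lit 1506) j)) (Nat.ble (nat_lit 1505) j)) (Nat.ble (nat_lit 1504) j)) (Bool.rec (motive := fun _ => Bool) (Bool.rec (motive := fun _ => Bool) (mRel MG [T_f, T_c, T_di, T_bi, T_ci, T_b, T_d] [T_fi] M (Nat.sub (MG u) (Nat.mod (MG u) M)) (nat_lit 40) z1 u (Nat.mod (MG u) M)) (Bool.rec (motive := fun _ => Bool) (mRel MG [T_f, T_ci, T_d, T_fi, T_bi, T_fi] [T_bi, T_bi] M (Nat.sub (MG u) (Nat.mod (MG u) M)) (nat_lit 40) z1 u (Nat.mod (MG u) M)) (mRel MG [T_ci, T_ci, T_di] [T_bi, T_ci, T_b, T_ci, T_ci] M (Nat.sub (MG u) (Nat.mod (MG u) M)) (nat_lit 40) z1 u (Nat.mod (MG u) M)) (Nat.ble (nat_lit 1509) j)) (Nat.ble (nat_lit 1508) j)) (Bool.rec (motive := fun _ => Bool) (mRel MG [T_d, T_ci, T_b, T_di] [T_b, T_c, T_di, T_c] M (Nat.sub (MG u) (Nat.mod (MG u) M)) (nat_lit 40) z1 u (Nat.mod (MG u) M)) (Bool.rec (motive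 := fun _ => Bool) (mRel MG [T_c, T_c, T_bi, T_ci, T_b, T_ci, T_ci] [T_di] M (Nat.sub (MG u) (Nat.mod (MG u) M)) (nat_lit 40) z1 u (Nat.mod (MG u) M)) (mRel MG [T_f, T_ei, T_f, T_e, T_fi, T_ei, T_f] [T_d, T_ci] M (Nat.sub (MG u) (Nat.mod (MG u) M)) (nat_lit 40) z1 u (Nat.mod (MG u) M)) (Nat.ble (nat_lit 1512) j)) (Nat.ble (nat_lit 1511) j)) (Nat.ble (nat_lit 1510) j)) (Nat.ble (nat_lit 1507) j)
noncomputable def dM_291 (j z1 z2 u : ℕ) : Bool :=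
  Bool.rec (motive := fun _ => Bool) (dM_289 j z1 z2 u) (dM_290 j z1 z2 u) (Nat.ble (nat_lit 1502) j)
noncomputable def dM_292 (j z1 z2 u : ℕ) : Bool :=
  Bool.rec (motive := fun _ => Bool) (Bool.rec (motive := fun _ => Bool) (Bool.rec (motive := fun _ => Bool) (mRel MG [T_f, T_e, T_c, T_di] [T_e, T_f, T_ei, T_fi, T_fi] M (Nat.sub (MG u) (Nat.mod (MG u) M)) (nat_lit 40) z1 u (Nat.mod (MG u) M)) (mRel MG [T_bi, T_ci, T_bi, T_fi, T_d, T_d, T_b] [T_ci] M (Nat.sub (MG u) (Nat.mod (MG u) M)) (nat_lit 40) z1 u (Nat.mod (MG u) M)) (Nat.ble (nat_lit 1514) j)) (Bool.rec (motive := fun _ => Bool) (mRel MG [T_f, T_f, T_c, T_di, T_bi, T_ci, T_b, T_d] [] M (Nat.sub (MG u) (Nat.mod (MG u) M)) (nat_lit 40) z1 u (Nat.mod (MG u) M)) (Bool.rec (motive := fun _ => Bool) (mRel MG [T_ci, T_b, T_di, T_f] [T_d, T_f, T_ci, T_b] M (Nat.sub (MG u) (Nat.mod (MG u)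 M)) (nat_lit 40) z1 u (Nat.mod (MG u) M)) (mRel MG [T_b, T_d, T_ci, T_ci, T_b, T_d] [T_c, T_c] M (Nat.sub (MG u) (Nat.mod (MG u) M)) (nat_lit 40) z1 u (Nat.mod (MG u) M)) (Nat.ble (nat_lit 1517) j)) (Nat.ble (nat_lit 1516) j)) (Nat.ble (nat_lit 1515) j)) (Bool.rec (motive := fun _ => Bool) (Bool.rec (motive := fun _ => Bool) (mRel MG [T_d, T_bi, T_d, T_d, T_bi] [T_bi, T_di, T_di] M (Nat.sub (MG u) (Nat.mod (MG u) M)) (nat_lit 40) z1 u (Nat.mod (MG u) M)) (Bool.rec (motive := fun _ => Bool) (mRel MG [T_d, T_ci, T_fi, T_fi, T_di, T_bi] [T_bi, T_ci] M (Nat.sub (MG u) (Nat.mod (MG u) M)) (nat_lit 40) z1 u (Nat.mod (MG u) M)) (mRel MG [T_di, T_ci] [T_fi, T_di, T_e, T_fi, T_ei, T_f, T_e] M (Nat.sub (MG u) (Nat.mod (MG u) M)) (nat_lit 40) z1 u (Nat.mod (MG u) M)) (Nat.ble (nat_lit 1520) j)) (Nat.ble (nat_lit 1519) j)) (Bool.rec (motive := fun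 _ => Bool) (mRel MG [T_ci, T_ei, T_b] [T_e, T_bi, T_e, T_c, T_e] M (Nat.sub (MG u) (Nat.mod (MG u) M)) (nat_lit 40) z1 u (Nat.mod (MG u) M)) (Bool.rec (motive := fun _ => Bool) (mRel MG [T_di, T_ci, T_bi, T_f] [T_b, T_b, T_ci, T_bi] M (Nat.sub (MG u) (Nat.mod (MG u) M)) (nat_lit 40) z1 u (Nat.mod (MG u) M)) (mRel MG [T_bi, T_f, T_d, T_b, T_c, T_d, T_b, T_ci] [] M (Nat.sub (MG u) (Nat.mod (MG u) M)) (nat_lit 40) z1 u (Nat.mod (MG u) M)) (Nat.ble (nat_lit 1523) j)) (Nat.ble (nat_lit 1522) j)) (Nat.ble (nat_lit 1521) j)) (Nat.ble (nat_lit 1518) j)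
noncomputable def dM_293 (j z1 z2 u : ℕ) : Bool :=
  Bool.rec (motive := fun _ => Bool) (Bool.rec (motive := fun _ => Bool) (Bool.rec (motive := fun _ => Bool) (mRel MG [T_d, T_fi, T_d, T_d, T_f, T_d, T_fi] [T_f] M (Nat.sub (MG u) (Nat.mod (MG u) M)) (nat_lit 40) z1 u (Nat.mod (MG u) M)) (mRel MG [T_d] [T_c, T_fi, T_bi, T_bi, T_f, T_b, T_f] M (Nat.sub (MG u) (Nat.mod (MG u) M)) (nat_lit 40) z1 u (Nat.mod (MG u) M)) (Nat.ble (nat_lit 1525) j)) (Bool.rec (motive := fun _ => Bool) (mRel MG [T_ci, T_bi, T_fi, T_b, T_c, T_d] [T_bi, T_bi] M (Nat.sub (MG u) (Nat.mod (MG u) M)) (nat_lit 40) z1 u (Nat.mod (MG u) M)) (Bool.rec (motive := fun _ => Bool) (mRel MG [T_c, T_d, T_fi, T_d, T_bi, T_c, T_b] [T_ci] M (Nat.sub (MG u) (Nat.mod (MG u) M)) (nat_lit 40) z1 u (Nat.mod (MG u) M)) (mRel MG [T_b, T_di] [T_c, T_d, T_f, T_ci, T_b, T_fi] M (Nat.sub (MG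 u) (Nat.mod (MG u) M)) (nat_lit 40) z1 u (Nat.mod (MG u) M)) (Nat.ble (nat_lit 1528) j)) (Nat.ble (nat_lit 1527) j)) (Nat.ble (nat_lit 1526) j)) (Bool.rec (motive := fun _ => Bool) (Bool.rec (motive := fun _ => Bool) (mRel MG [T_f, T_c, T_bi, T_ci] [T_d, T_ci, T_fi, T_b, T_c] M (Nat.sub (MG u) (Nat.mod (MG u) M)) (nat_lit 40) z1 u (Nat.mod (MG u) M)) (Bool.rec (motive := fun _ => Bool) (mRel MG [T_fi, T_d, T_bi, T_bi, T_c, T_b, T_ci, T_di, T_bi] [] M (Nat.sub (MG u) (Nat.mod (MG u) M)) (nat_lit 40) z1 u (Nat.mod (MG u) M)) (mRel MG [T_b, T_d, T_bi, T_d, T_d] [T_di, T_di, T_b] M (Nat.sub (MG u) (Nat.mod (MG u) M)) (nat_lit 40) z1 u (Nat.mod (MG u) M)) (Nat.ble (nat_lit 1531) j)) (Nat.ble (nat_lit 1530) j)) (Bool.rec (motive := fun _ => Bool) (mRel MG [T_b, T_b, T_ci, T_bi, T_fi] [T_di, T_ci, T_bi] M (Nat.sub (MG u) (Nat.mod (MG u) M)) (nat_lit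 40) z1 u (Nat.mod (MG u) M)) (Bool.rec (motive := fun _ => Bool) (mRel MG [T_c, T_di, T_b, T_f, T_c, T_di] [T_fi, T_bi] M (Nat.sub (MG u) (Nat.mod (MG u) M)) (nat_lit 40) z1 u (Nat.mod (MG u) M)) (mRel MG [T_b, T_c, T_b, T_ci, T_bi, T_di] [T_fi, T_d] M (Nat.sub (MG u) (Nat.mod (MG u) M)) (nat_lit 40) z1 u (Nat.mod (MG u) M)) (Nat.ble (nat_lit 1534) j)) (Nat.ble (nat_lit 1533) j)) (Nat.ble (nat_lit 1532) j)) (Nat.ble (nat_lit 1529) j)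
noncomputable def dM_294 (j z1 z2 u : ℕ) : Bool :=
  Bool.rec (motive := fun _ => Bool) (dM_292 j z1 z2 u) (dM_293 j z1 z2 u) (Nat.ble (nat_lit 1524) j)
noncomputable def dM_295 (j z1 z2 u : ℕ) : Bool :=
  Bool.rec (motive := fun _ => Bool) (dM_291 j z1 z2 u) (dM_294 j z1 z2 u) (Nat.ble (nat_lit 1513) j)
noncomputable def dM_296 (j z1 z2 u : ℕ) : Bool :=
  Bool.rec (motive := fun _ => Bool) (Bool.rec (motive := fun _ => Bool) (Bool.rec (motive := fun _ => Bool) (mRel MG [T_d, T_ci, T_fi, T_e] [T_f, T_ei, T_f, T_e, T_fi] M (Nat.sub (MG u) (Nat.mod (MG u) M)) (nat_lit 40) z1 u (Nat.mod (MG u) M)) (mRel MG [T_ci, T_fi, T_fi, T_di, T_bi, T_c] [T_di, T_bi] M (Nat.sub (MG u) (Nat.mod (MG u) M)) (nat_lit 40) z1 u (Nat.mod (MG u) M)) (Nat.ble (nat_lit 1536) j)) (Bool.rec (motive := fun _ => Bool) (mRel MG [T_ci, T_d, T_b, T_ci, T_di, T_ci] [T_fi,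 T_b] M (Nat.sub (MG u) (Nat.mod (MG u) M)) (nat_lit 40) z1 u (Nat.mod (MG u) M)) (Bool.rec (motive := fun _ => Bool) (mRel MG [T_f] [T_bi, T_f, T_e, T_f, T_ci, T_b, T_e, T_di] M (Nat.sub (MG u) (Nat.mod (MG u) M)) (nat_lit 40) z1 u (Nat.mod (MG u) M)) (mRel MG [T_bi] [T_ci, T_bi, T_fi, T_b, T_c, T_d, T_b] M (Nat.sub (MG u) (Nat.mod (MG u) M)) (nat_lit 40) z1 u (Nat.mod (MG u) M)) (Nat.ble (nat_lit 1539) j)) (Nat.ble (nat_lit 1538) j)) (Nat.ble (nat_lit 1537) j)) (Bool.rec (motive := fun _ => Bool) (Bool.rec (motive := fun _ => Bool) (mRel MG [T_e, T_f, T_ci] [T_fi, T_b, T_f, T_d, T_ei, T_bi] M (Nat.sub (MG u) (Nat.mod (MG u) M)) (nat_lit 40) z1 u (Nat.mod (MG u) M)) (mRel MG [T_ci, T_f, T_d, T_d, T_ci] [T_di, T_di, T_fi] M (Nat.sub (MG u) (Nat.mod (MG u) M)) (nat_lit 40) z1 u (Nat.mod (MG u) M)) (Nat.ble (nat_lit 1541) j)) (Bool.rec (motive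 := fun _ => Bool) (mRel MG [T_f, T_d, T_fi, T_fi, T_d, T_fi] [T_di, T_di] M (Nat.sub (MG u) (Nat.mod (MG u) M)) (nat_lit 40) z1 u (Nat.mod (MG u) M)) (Bool.rec (motive := fun _ => Bool) (mRel MG [T_ci, T_di, T_ci, T_bi, T_f, T_ci] [T_bi, T_di] M (Nat.sub (MG u) (Nat.mod (MG u) M)) (nat_lit 40) z1 u (Nat.mod (MG u) M)) (mRel MG [T_b, T_b, T_f, T_ci, T_d, T_fi] [T_f, T_b] M (Nat.sub (MG u) (Nat.mod (MG u) M)) (nat_lit 40) z1 u (Nat.mod (MG u) M)) (Nat.ble (nat_lit 1544) j)) (Nat.ble (nat_lit 1543) j)) (Nat.ble (nat_lit 1542) j)) (Nat.ble (nat_lit 1540) j)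
noncomputable def dM_297 (j z1 z2 u : ℕ) : Bool :=
  Bool.rec (motive := fun _ => Bool) (Bool.rec (motive := fun _ => Bool) (Bool.rec (motive := fun _ => Bool) (mRel MG [T_b, T_c, T_d, T_ci, T_bi, T_d] [T_d, T_f] M (Nat.sub (MG u) (Nat.mod (MG u) M)) (nat_lit 40) z1 u (Nat.mod (MG u) M)) (mRel MG [T_b, T_ci, T_bi, T_di] [T_ci, T_bi, T_fi, T_d] M (Nat.sub (MG u) (Nat.mod (MG u) M)) (nat_lit 40) z1 u (Nat.mod (MG u) M)) (Nat.ble (nat_lit 1546) j)) (Bool.rec (motive := fun _ => Bool) (mRel MG [T_c, T_d, T_b, T_ci, T_bi, T_f, T_d] [T_bi] M (Nat.sub (MG u) (Nat.mod (MG u) M)) (nat_lit 40) z1 u (Nat.mod (MG u) M)) (Bool.rec (motive := fun _ => Bool) (mRel MG [T_f] [T_fi, T_di, T_bi, T_c, T_b, T_d, T_ci] M (Nat.sub (MG u) (Nat.mod (MG u) M)) (nat_lit 40) z1 u (Nat.mod (MG u) M)) (mRel MG [T_di, T_c, T_b, T_ci, T_di, T_c] [T_c, T_bi] M (Nat.sub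 (MG u) (Nat.mod (MG u) M)) (nat_lit 40) z1 u (Nat.mod (MG u) M)) (Nat.ble (nat_lit 1549) j)) (Nat.ble (nat_lit 1548) j)) (Nat.ble (nat_lit 1547) j)) (Bool.rec (motive := fun _ => Bool) (Bool.rec (motive := fun _ => Bool) (mRel MG [T_ci, T_f, T_di, T_b] [T_fi, T_bi, T_di, T_c] M (Nat.sub (MG u) (Nat.mod (MG u) M)) (nat_lit 40) z1 u (Nat.mod (MG u) M)) (Bool.rec (motive := fun _ => Bool) (mRel MG [T_d, T_d, T_b, T_c] [T_f, T_b, T_c, T_b] M (Nat.sub (MG u) (Nat.mod (MG u) M)) (nat_lit 40) z1 u (Nat.mod (MG u) M)) (mRel MG [T_fi, T_fi] [T_c, T_bi, T_bi, T_ci, T_di, T_b] M (Nat.sub (MG u) (Nat.mod (MG u) M)) (nat_lit 40) z1 u (Nat.mod (MG u) M)) (Nat.ble (nat_lit 1552) j)) (Nat.ble (nat_lit 1551) j)) (Bool.rec (motive := fun _ => Bool) (mRel MG [T_b, T_c, T_c, T_d, T_fi, T_d, T_bi] [T_ci] M (Nat.sub (MG u) (Nat.mod (MG u) M)) (nat_lit 40) z1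 u (Nat.mod (MG u) M)) (Bool.rec (motive := fun _ => Bool) (mRel MG [T_c, T_d, T_ci, T_bi] [T_bi, T_d, T_f, T_di] M (Nat.sub (MG u) (Nat.mod (MG u) M)) (nat_lit 40) z1 u (Nat.mod (MG u) M)) (mRel MG [T_ci, T_f, T_di, T_b, T_ci] [T_fi, T_bi, T_di] M (Nat.sub (MG u) (Nat.mod (MG u) M)) (nat_lit 40) z1 u (Nat.mod (MG u) M)) (Nat.ble (nat_lit 1555) j)) (Nat.ble (nat_lit 1554) j)) (Nat.ble (nat_lit 1553) j)) (Nat.ble (nat_lit 1550) j)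
noncomputable def dM_298 (j z1 z2 u : ℕ) : Bool :=
  Bool.rec (motive := fun _ => Bool) (dM_296 j z1 z2 u) (dM_297 j z1 z2 u) (Nat.ble (nat_lit 1545) j)
noncomputable def dM_299 (j z1 z2 u : ℕ) : Bool :=
  Bool.rec (motive := fun _ => Bool) (Bool.rec (motive := fun _ => Bool) (Bool.rec (motive := fun _ => Bool) (mRel MG [T_di, T_di, T_fi, T_bi, T_ci, T_di, T_f] [T_b] M (Nat.sub (MG u) (Nat.mod (MG u) M)) (nat_lit 40) z1 u (Nat.mod (MG u) M)) (mRel MG [T_f, T_ei, T_fi, T_fi, T_d] [T_ei, T_f, T_e, T_c] M (Nat.sub (MG u) (Nat.mod (MG u) M)) (nat_lit 40) z1 u (Nat.mod (MG u) M)) (Nat.ble (nat_lit 1557) j)) (Bool.rec (motive := fun _ => Bool) (mRel MG [T_di, T_b] [T_d, T_bi, T_d, T_d, T_b, T_d] M (Nat.sub (MG u) (Nat.mod (MG u) M)) (nat_lit 40) z1 u (Nat.mod (MG u) M)) (Bool.rec (motive := fun _ => Bool) (mRel MG [T_ci, T_fi, T_b] [T_bi, T_fi,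 T_c, T_d, T_d] M (Nat.sub (MG u) (Nat.mod (MG u) M)) (nat_lit 40) z1 u (Nat.mod (MG u) M)) (mRel MG [T_b, T_ci] [T_bi, T_ci, T_di, T_b, T_f, T_f] M (Nat.sub (MG u) (Nat.mod (MG u) M)) (nat_lit 40) z1 u (Nat.mod (MG u) M)) (Nat.ble (nat_lit 1560) j)) (Nat.ble (nat_lit 1559) j)) (Nat.ble (nat_lit 1558) j)) (Bool.rec (motive := fun _ => Bool) (Bool.rec (motive := fun _ => Bool) (mRel MG [T_ci, T_ei, T_fi, T_e, T_f, T_ei] [T_di, T_f, T_f] M (Nat.sub (MG u) (Nat.mod (MG u) M)) (nat_lit 40) z1 u (Nat.mod (MG u) M)) (Bool.rec (motive := fun _ => Bool) (mRel MG [T_f, T_f, T_c, T_di] [T_di, T_bi, T_c, T_b] M (Nat.sub (MG u) (Nat.mod (MG u) M)) (nat_lit 40) z1 u (Nat.mod (MG u) M)) (mRel MG [T_ei, T_f, T_c, T_di, T_f] [T_f, T_ei, T_fi, T_e] M (Nat.sub (MG u) (Nat.mod (MG u) M)) (nat_lit 40) z1 u (Nat.mod (MG u) M)) (Nat.ble (nat_lit 1563) j)) (Nat.ble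 (nat_lit 1562) j)) (Bool.rec (motive := fun _ => Bool) (mRel MG [T_e, T_c, T_di, T_f, T_f] [T_fi, T_e, T_f, T_ei] M (Nat.sub (MG u) (Nat.mod (MG u) M)) (nat_lit 40) z1 u (Nat.mod (MG u) M)) (Bool.rec (motive := fun _ => Bool) (mRel MG [T_d, T_c, T_b, T_f] [T_f, T_bi, T_di, T_di] M (Nat.sub (MG u) (Nat.mod (MG u) M)) (nat_lit 40) z1 u (Nat.mod (MG u) M)) (mRel MG [T_e, T_f, T_ei, T_fi, T_e, T_fi, T_d] [T_f, T_c] M (Nat.sub (MG u) (Nat.mod (MG u) M)) (nat_lit 40) z1 u (Nat.mod (MG u) M)) (Nat.ble (nat_lit 1566) j)) (Nat.ble (nat_lit 1565) j)) (Nat.ble (nat_lit 1564) j)) (Nat.ble (nat_lit 1561) j)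
noncomputable def dM_300 (j z1 z2 u : ℕ) : Bool :=
  Bool.rec (motive := fun _ => Bool) (Bool.rec (motive := fun _ => Bool) (Bool.rec (motive := fun _ => Bool) (mRel MG [T_d, T_b, T_f, T_ci, T_f, T_di, T_b, T_ci] [] M (Nat.sub (MG u) (Nat.mod (MG u) M)) (nat_lit 40) z1 u (Nat.mod (MG u) M)) (mRel MG [T_fi, T_d, T_ci, T_ei, T_fi, T_e, T_f, T_ei, T_fi] [] M (Nat.sub (MG u) (Nat.mod (MG u) M)) (nat_lit 40) z1 u (Nat.mod (MG u) M)) (Nat.ble (nat_lit 1568) j)) (Bool.rec (motive := fun _ => Bool) (mRel MG [T_bi, T_fi] [T_c, T_bi, T_ci, T_bi, T_f, T_d] M (Nat.sub (MG u) (Nat.mod (MG u) M)) (nat_lit 40) z1 u (Nat.mod (MG u) M)) (Bool.rec (motive := fun _ => Bool) (mRel MG [T_fi, T_b, T_c, T_b] [T_d, T_f, T_b, T_c] M (Nat.sub (MG u) (Nat.mod (MG u) M)) (nat_lit 40) z1 u (Nat.mod (MG u) M)) (mRel MG [T_ci, T_di] [T_b, T_b, T_ci, T_fi, T_fi, T_bi]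 M (Nat.sub (MG u) (Nat.mod (MG u) M)) (nat_lit 40) z1 u (Nat.mod (MG u) M)) (Nat.ble (nat_lit 1571) j)) (Nat.ble (nat_lit 1570) j)) (Nat.ble (nat_lit 1569) j)) (Bool.rec (motive := fun _ => Bool) (Bool.rec (motive := fun _ => Bool) (mRel MG [T_ci, T_bi, T_fi, T_di, T_fi, T_b, T_c] [T_bi] M (Nat.sub (MG u) (Nat.mod (MG u) M)) (nat_lit 40) z1 u (Nat.mod (MG u) M)) (Bool.rec (motive := fun _ => Bool) (mRel MG [T_d, T_c, T_b, T_b, T_ci, T_fi, T_fi] [T_b] M (Nat.sub (MG u) (Nat.mod (MG u) M)) (nat_lit 40) z1 u (Nat.mod (MG u) M)) (mRel MG [T_c, T_b] [T_di, T_f, T_bi, T_di, T_di, T_fi] M (Nat.sub (MG u) (Nat.mod (MG u) M)) (nat_lit 40) z1 u (Nat.mod (MG u) M)) (Nat.ble (nat_lit 1574) j)) (Nat.ble (nat_lit 1573) j)) (Bool.rec (motive := fun _ => Bool) (mRel MG [T_di, T_bi, T_di] [T_bi, T_d, T_d, T_bi, T_d] M (Nat.sub (MG u) (Nat.mod (MG u) M))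 (nat_lit 40) z1 u (Nat.mod (MG u) M)) (Bool.rec (motive := fun _ => Bool) (mRel MG [T_bi, T_d, T_c, T_b] [T_f, T_f, T_c, T_bi] M (Nat.sub (MG u) (Nat.mod (MG u) M)) (nat_lit 40) z1 u (Nat.mod (MG u) M)) (mRel MG [T_f, T_d, T_d, T_b] [T_bi, T_ci, T_di, T_f] M (Nat.sub (MG u) (Nat.mod (MG u) M)) (nat_lit 40) z1 u (Nat.mod (MG u) M)) (Nat.ble (nat_lit 1577) j)) (Nat.ble (nat_lit 1576) j)) (Nat.ble (nat_lit 1575) j)) (Nat.ble (nat_lit 1572) j)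
noncomputable def dM_301 (j z1 z2 u : ℕ) : Bool :=
  Bool.rec (motive := fun _ => Bool) (dM_299 j z1 z2 u) (dM_300 j z1 z2 u) (Nat.ble (nat_lit 1567) j)
noncomputable def dM_302 (j z1 z2 u : ℕ) : Bool :=
  Bool.rec (motive := fun _ => Bool) (dM_298 j z1 z2 u) (dM_301 j z1 z2 u) (Nat.ble (nat_lit 1556) j)
noncomputable def dM_303 (j z1 z2 u : ℕ) : Bool :=
  Bool.rec (motive := fun _ => Bool) (dM_295 j z1 z2 u) (dM_302 j z1 z2 u) (Nat.ble (nat_lit 1535) j)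
noncomputable def dM_304 (j z1 z2 u : ℕ) : Bool :=
  Bool.rec (motive := fun _ => Bool) (Bool.rec (motive := fun _ => Bool) (Bool.rec (motive := fun _ => Bool) (mRel MG [T_ci, T_b, T_di, T_f] [T_b, T_c, T_c, T_d] M (Nat.sub (MG u) (Nat.mod (MG u) M)) (nat_lit 40) z1 u (Nat.mod (MG u) M)) (mRel MG [T_f, T_ei] [T_ei, T_f, T_c, T_di, T_f, T_ei, T_f] M (Nat.sub (MG u) (Nat.mod (MG u) M)) (nat_lit 40) z1 u (Nat.mod (MG u) M)) (Nat.ble (nat_lit 1579) j)) (Bool.rec (motive := fun _ => Bool) (mRel MG [T_ci, T_b] [T_b, T_d, T_ci, T_fi, T_fi, T_di] M (Nat.sub (MG u) (Nat.mod (MG u) M)) (nat_lit 40) z1 u (Nat.mod (MG u) M)) (Bool.rec (motive := fun _ => Bool) (mRel MG [T_di, T_ci, T_bi, T_f, T_ci] [T_c, T_bi, T_di] M (Nat.sub (MG u) (Nat.mod (MG u) M)) (nat_lit 40) z1 u (Nat.mod (MG u) M)) (mRel MG [T_ci, T_bi, T_ci] [T_c, T_d, T_fi, T_d, T_bi] M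 (Nat.sub (MG u) (Nat.mod (MG u) M)) (nat_lit 40) z1 u (Nat.mod (MG u) M)) (Nat.ble (nat_lit 1582) j)) (Nat.ble (nat_lit 1581) j)) (Nat.ble (nat_lit 1580) j)) (Bool.rec (motive := fun _ => Bool) (Bool.rec (motive := fun _ => Bool) (mRel MG [T_di, T_bi, T_c, T_c] [T_ci, T_ci, T_b, T_d] M (Nat.sub (MG u) (Nat.mod (MG u) M)) (nat_lit 40) z1 u (Nat.mod (MG u) M)) (mRel MG [T_b, T_ci, T_bi, T_f, T_d, T_b] [T_di, T_ci] M (Nat.sub (MG u) (Nat.mod (MG u) M)) (nat_lit 40) z1 u (Nat.mod (MG u) M)) (Nat.ble (nat_lit 1584) j)) (Bool.rec (motive := fun _ => Bool) (mRel MG [T_di, T_b, T_di] [T_d, T_b, T_d, T_bi, T_d] M (Nat.sub (MG u) (Nat.mod (MG u) M)) (nat_lit 40) z1 u (Nat.mod (MG u) M)) (Bool.rec (motive := fun _ => Bool) (mRel MG [T_bi, T_di, T_di, T_f, T_b, T_c, T_b] [T_c] M (Nat.sub (MG u) (Nat.mod (MG u) M)) (nat_lit 40) z1 u (Nat.mod (MG u)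 M)) (mRel MG [T_bi, T_fi] [T_c, T_bi, T_bi, T_di, T_ci, T_bi] M (Nat.sub (MG u) (Nat.mod (MG u) M)) (nat_lit 40) z1 u (Nat.mod (MG u) M)) (Nat.ble (nat_lit 1587) j)) (Nat.ble (nat_lit 1586) j)) (Nat.ble (nat_lit 1585) j)) (Nat.ble (nat_lit 1583) j)
noncomputable def dM_305 (j z1 z2 u : ℕ) : Bool :=
  Bool.rec (motive := fun _ => Bool) (Bool.rec (motive := fun _ => Bool) (Bool.rec (motive := fun _ => Bool) (mRel MG [T_d, T_ci] [T_bi, T_ci, T_b, T_d, T_f, T_f] M (Nat.sub (MG u) (Nat.mod (MG u) M)) (nat_lit 40) z1 u (Nat.mod (MG u) M)) (mRel MG [T_fi, T_d, T_bi, T_c] [T_bi, T_c, T_fi, T_di] M (Nat.sub (MG u) (Nat.mod (MG u) M)) (nat_lit 40) z1 u (Nat.mod (MG u) M)) (Nat.ble (nat_lit 1589) j)) (Bool.rec (motive := fun _ => Bool) (mRel MG [T_ci, T_b, T_di, T_f, T_di, T_ci, T_ci] [T_b] M (Nat.sub (MG u) (Nat.mod (MG u) M)) (nat_lit 40) z1 u (Nat.mod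 (MG u) M)) (Bool.rec (motive := fun _ => Bool) (mRel MG [T_bi, T_fi, T_di, T_ci, T_bi, T_ci, T_fi, T_d] [] M (Nat.sub (MG u) (Nat.mod (MG u) M)) (nat_lit 40) z1 u (Nat.mod (MG u) M)) (mRel MG [T_di, T_fi, T_b, T_c, T_bi, T_di] [T_b, T_c] M (Nat.sub (MG u) (Nat.mod (MG u) M)) (nat_lit 40) z1 u (Nat.mod (MG u) M)) (Nat.ble (nat_lit 1592) j)) (Nat.ble (nat_lit 1591) j)) (Nat.ble (nat_lit 1590) j)) (Bool.rec (motive := fun _ => Bool) (Bool.rec (motive := fun _ => Bool) (mRel MG [T_di, T_ci, T_b, T_di, T_f] [T_f, T_ci, T_b] M (Nat.sub (MG u) (Nat.mod (MG u) M)) (nat_lit 40) z1 u (Nat.mod (MG u) M)) (Bool.rec (motive := fun _ => Bool) (mRel MG [T_ci, T_ei, T_b, T_ei, T_ci, T_ei, T_b] [T_e] M (Nat.sub (MG u) (Nat.mod (MG u) M)) (nat_lit 40) z1 u (Nat.mod (MG u) M)) (mRel MG [T_di, T_di, T_f, T_di] [T_f, T_d, T_fi, T_fi] M (Nat.sub (MG u) (Nat.mod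 (MG u) M)) (nat_lit 40) z1 u (Nat.mod (MG u) M)) (Nat.ble (nat_lit 1595) j)) (Nat.ble (nat_lit 1594) j)) (Bool.rec (motive := fun _ => Bool) (mRel MG [T_ci, T_ci, T_b, T_d, T_ci, T_ci, T_b, T_d] [] M (Nat.sub (MG u) (Nat.mod (MG u) M)) (nat_lit 40) z1 u (Nat.mod (MG u) M)) (Bool.rec (motive := fun _ => Bool) (mRel MG [T_di, T_ci, T_bi, T_ci, T_fi] [T_f, T_b, T_di] M (Nat.sub (MG u) (Nat.mod (MG u) M)) (nat_lit 40) z1 u (Nat.mod (MG u) M)) (mRel MG [T_d, T_b, T_c] [T_di, T_f, T_b, T_c, T_b] M (Nat.sub (MG u) (Nat.mod (MG u) M)) (nat_lit 40) z1 u (Nat.mod (MG u) M)) (Nat.ble (nat_lit 1598) j)) (Nat.ble (nat_lit 1597) j)) (Nat.ble (nat_lit 1596) j)) (Nat.ble (nat_lit 1593) j)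
noncomputable def dM_306 (j z1 z2 u : ℕ) : Bool :=
  Bool.rec (motive := fun _ => Bool) (dM_304 j z1 z2 u) (dM_305 j z1 z2 u) (Nat.ble (nat_lit 1588) j)
noncomputable def dM_307 (j z1 z2 u : ℕ) : Bool :=
  Bool.rec (motive := fun _ => Bool) (Bool.rec (motive := fun _ => Bool) (Bool.rec (motive := fun _ => Bool) (mRel MG [T_ci, T_bi, T_d, T_fi, T_di, T_b] [T_di, T_ci] M (Nat.sub (MG u) (Nat.mod (MG u) M)) (nat_lit 40) z1 u (Nat.mod (MG u) M)) (mRel MG [T_bi, T_di, T_ci, T_bi, T_di] [T_ci, T_bi, T_f] M (Nat.sub (MG u) (Nat.mod (MG u) M)) (nat_lit 40) z1 u (Nat.mod (MG u) M)) (Nat.ble (nat_lit 1600) j)) (Bool.rec (motive := fun _ => Bool) (mRel MG [T_b, T_di, T_di] [T_d, T_d, T_b, T_d, T_bi] M (Nat.sub (MG u) (Nat.mod (MG u) M)) (nat_lit 40) z1 u (Nat.mod (MG u) M)) (Bool.rec (motive := fun _ => Bool) (mRel MG [T_fi, T_d, T_bi, T_c, T_b, T_c,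 T_c] [T_di] M (Nat.sub (MG u) (Nat.mod (MG u) M)) (nat_lit 40) z1 u (Nat.mod (MG u) M)) (mRel MG [T_c, T_b, T_ci, T_bi, T_di] [T_bi, T_fi, T_d] M (Nat.sub (MG u) (Nat.mod (MG u) M)) (nat_lit 40) z1 u (Nat.mod (MG u) M)) (Nat.ble (nat_lit 1603) j)) (Nat.ble (nat_lit 1602) j)) (Nat.ble (nat_lit 1601) j)) (Bool.rec (motive := fun _ => Bool) (Bool.rec (motive := fun _ => Bool) (mRel MG [T_bi, T_di, T_di, T_f, T_b] [T_c, T_bi, T_ci] M (Nat.sub (MG u) (Nat.mod (MG u) M)) (nat_lit 40) z1 u (Nat.mod (MG u) M)) (Bool.rec (motive := fun _ => Bool) (mRel MG [T_f, T_f, T_c] [T_bi, T_d, T_c, T_b, T_b] M (Nat.sub (MG u) (Nat.mod (MG u) M)) (nat_lit 40) z1 u (Nat.mod (MG u) M)) (mRel MG [T_d, T_ci, T_fi, T_bi] [T_b, T_f, T_c, T_di] M (Nat.sub (MG u) (Nat.mod (MG u) M)) (nat_lit 40) z1 u (Nat.mod (MG u) M)) (Nat.ble (nat_lit 1606) j)) (Nat.ble (nat_lit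 1605) j)) (Bool.rec (motive := fun _ => Bool) (mRel MG [T_di, T_di, T_ci] [T_bi, T_f, T_c, T_bi, T_fi] M (Nat.sub (MG u) (Nat.mod (MG u) M)) (nat_lit 40) z1 u (Nat.mod (MG u) M)) (Bool.rec (motive := fun _ => Bool) (mRel MG [T_f, T_ei, T_f, T_e, T_fi, T_ei, T_f, T_c] [T_d] M (Nat.sub (MG u) (Nat.mod (MG u) M)) (nat_lit 40) z1 u (Nat.mod (MG u) M)) (mRel MG [T_ci, T_fi, T_e, T_f, T_ei, T_fi, T_e] [T_di, T_f] M (Nat.sub (MG u) (Nat.mod (MG u) M)) (nat_lit 40) z1 u (Nat.mod (MG u) M)) (Nat.ble (nat_lit 1609) j)) (Nat.ble (nat_lit 1608) j)) (Nat.ble (nat_lit 1607) j)) (Nat.ble (nat_lit 1604) j)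
noncomputable def dM_308 (j z1 z2 u : ℕ) : Bool :=
  Bool.rec (motive := fun _ => Bool) (Bool.rec (motive := fun _ => Bool) (Bool.rec (motive := fun _ => Bool) (mRel MG [T_d, T_f, T_di, T_b, T_c, T_di, T_ci, T_bi] [] M (Nat.sub (MG u) (Nat.mod (MG u) M)) (nat_lit 40) z1 u (Nat.mod (MG u) M)) (mRel MG [T_f, T_d, T_f, T_b, T_c, T_bi, T_ci] [T_b] M (Nat.sub (MG u) (Nat.mod (MG u) M)) (nat_lit 40) z1 u (Nat.mod (MG u) M)) (Nat.ble (nat_lit 1611) j)) (Bool.rec (motive := fun _ => Bool) (mRel MG [T_bi, T_d, T_d, T_b, T_d, T_bi, T_d] [T_di] M (Nat.sub (MG u) (Nat.mod (MG u) M)) (nat_lit 40) z1 u (Nat.mod (MG u) M)) (Bool.rec (motive := fun _ => Bool) (mRel MG [T_ci, T_di, T_b, T_f] [T_b, T_b, T_ci, T_fi] M (Nat.sub (MG u) (Nat.mod (MG u) M)) (nat_lit 40) z1 u (Nat.mod (MG u) M)) (mRel MG [T_b, T_fi, T_d, T_bi] [T_c, T_fi, T_di, T_ci] M (Nat.sub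 (MG u) (Nat.mod (MG u) M)) (nat_lit 40) z1 u (Nat.mod (MG u) M)) (Nat.ble (nat_lit 1614) j)) (Nat.ble (nat_lit 1613) j)) (Nat.ble (nat_lit 1612) j)) (Bool.rec (motive := fun _ => Bool) (Bool.rec (motive := fun _ => Bool) (mRel MG [T_di, T_ci, T_b, T_di, T_f, T_bi, T_c] [T_f] M (Nat.sub (MG u) (Nat.mod (MG u) M)) (nat_lit 40) z1 u (Nat.mod (MG u) M)) (Bool.rec (motive := fun _ => Bool) (mRel MG [T_c, T_bi, T_ci, T_b] [T_ci, T_di, T_c, T_c] M (Nat.sub (MG u) (Nat.mod (MG u) M)) (nat_lit 40) z1 u (Nat.mod (MG u) M)) (mRel MG [T_b, T_c] [T_d, T_ci, T_b, T_di, T_ci, T_d] M (Nat.sub (MG u) (Nat.mod (MG u) M)) (nat_lit 40) z1 u (Nat.mod (MG u) M)) (Nat.ble (nat_lit 1617) j)) (Nat.ble (nat_lit 1616) j)) (Bool.rec (motive := fun _ => Bool) (mRel MG [T_d, T_b, T_f, T_ci, T_f, T_di, T_b] [T_c] M (Nat.sub (MG u) (Nat.mod (MG u) M)) (nat_lit 40) z1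 u (Nat.mod (MG u) M)) (Bool.rec (motive := fun _ => Bool) (mRel MG [T_b, T_ci] [T_di, T_c, T_fi, T_b, T_c, T_d] M (Nat.sub (MG u) (Nat.mod (MG u) M)) (nat_lit 40) z1 u (Nat.mod (MG u) M)) (mRel MG [T_bi, T_ci, T_fi, T_d, T_bi, T_fi] [T_c, T_d] M (Nat.sub (MG u) (Nat.mod (MG u) M)) (nat_lit 40) z1 u (Nat.mod (MG u) M)) (Nat.ble (nat_lit 1620) j)) (Nat.ble (nat_lit 1619) j)) (Nat.ble (nat_lit 1618) j)) (Nat.ble (nat_lit 1615) j)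
noncomputable def dM_309 (j z1 z2 u : ℕ) : Bool :=
  Bool.rec (motive := fun _ => Bool) (dM_307 j z1 z2 u) (dM_308 j z1 z2 u) (Nat.ble (nat_lit 1610) j)
noncomputable def dM_310 (j z1 z2 u : ℕ) : Bool :=
  Bool.rec (motive := fun _ => Bool) (dM_306 j z1 z2 u) (dM_309 j z1 z2 u) (Nat.ble (nat_lit 1599) j)
noncomputable def dM_311 (j z1 z2 u : ℕ) : Bool :=
  Bool.rec (motive := fun _ => Bool) (Bool.rec (motive := fun _ => Bool) (Bool.rec (motive := fun _ => Bool) (mRel MG [T_d, T_c, T_c, T_bi, T_ci, T_b] [T_c, T_c] M (Nat.sub (MG u) (Nat.mod (MG u) M)) (nat_lit 40) z1 u (Nat.mod (MG u) M)) (mRel MG [T_ci, T_b, T_d, T_f, T_f, T_c, T_di] [T_b] M (Nat.sub (MG u) (Nat.mod (MG u) M)) (nat_lit 40) z1 u (Nat.mod (MG u) M)) (Nat.ble (nat_lit 1622) j)) (Bool.rec (motive := fun _ => Bool) (mRel MG [T_d, T_b, T_c, T_bi, T_ci] [T_di, T_f, T_b] M (Nat.sub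 (MG u) (Nat.mod (MG u) M)) (nat_lit 40) z1 u (Nat.mod (MG u) M)) (Bool.rec (motive := fun _ => Bool) (mRel MG [T_e, T_f] [T_f, T_c, T_di, T_f, T_ei, T_f, T_e] M (Nat.sub (MG u) (Nat.mod (MG u) M)) (nat_lit 40) z1 u (Nat.mod (MG u) M)) (mRel MG [T_ci, T_bi, T_f] [T_d, T_b, T_b, T_ci, T_bi] M (Nat.sub (MG u) (Nat.mod (MG u) M)) (nat_lit 40) z1 u (Nat.mod (MG u) M)) (Nat.ble (nat_lit 1625) j)) (Nat.ble (nat_lit 1624) j)) (Nat.ble (nat_lit 1623) j)) (Bool.rec (motive := fun _ => Bool) (Bool.rec (motive := fun _ => Bool) (mRel MG [T_d, T_ci, T_ei, T_fi, T_e, T_f, T_ei] [T_f, T_f] M (Nat.sub (MG u) (Nat.mod (MG u) M)) (nat_lit 40) z1 u (Nat.mod (MG u) M)) (mRel MG [T_di, T_b, T_c, T_d, T_ci, T_bi, T_d, T_fi] [] M (Nat.sub (MG u) (Nat.mod (MG u) M)) (nat_lit 40) z1 u (Nat.mod (MG u) M)) (Nat.ble (nat_lit 1627) j)) (Bool.rec (motive := fun _ =>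 Bool) (mRel MG [T_b, T_c, T_di, T_c, T_d, T_bi, T_c] [T_d] M (Nat.sub (MG u) (Nat.mod (MG u) M)) (nat_lit 40) z1 u (Nat.mod (MG u) M)) (Bool.rec (motive := fun _ => Bool) (mRel MG [T_c, T_d, T_b] [T_bi, T_f, T_b, T_c, T_bi] M (Nat.sub (MG u) (Nat.mod (MG u) M)) (nat_lit 40) z1 u (Nat.mod (MG u) M)) (mRel MG [T_fi, T_d] [T_bi, T_c, T_fi, T_di, T_ci, T_b] M (Nat.sub (MG u) (Nat.mod (MG u) M)) (nat_lit 40) z1 u (Nat.mod (MG u) M)) (Nat.ble (nat_lit 1630) j)) (Nat.ble (nat_lit 1629) j)) (Nat.ble (nat_lit 1628) j)) (Nat.ble (nat_lit 1626) j)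
noncomputable def dM_312 (j z1 z2 u : ℕ) : Bool :=
  Bool.rec (motive := fun _ => Bool) (Bool.rec (motive := fun _ => Bool) (Bool.rec (motive := fun _ => Bool) (mRel MG [T_b, T_f, T_d, T_d, T_b, T_fi] [T_ci, T_di] M (Nat.sub (MG u) (Nat.mod (MG u) M)) (nat_lit 40) z1 u (Nat.mod (MG u) M)) (mRel MG [T_c, T_d, T_f, T_ci, T_b, T_fi, T_d] [T_b] M (Nat.sub (MG u) (Nat.mod (MG u) M)) (nat_lit 40) z1 u (Nat.mod (MG u) M)) (Nat.ble (nat_lit 1632) j)) (Bool.rec (motive := fun _ => Bool) (mRel MG [T_bi, T_ci, T_di] [T_f, T_d, T_d, T_b, T_fi] M (Nat.sub (MG u) (Nat.mod (MG u) M)) (nat_lit 40) z1 u (Nat.mod (MG u) M)) (Bool.rec (motive := fun _ => Bool) (mRel MG [T_f] [T_e, T_f, T_ei, T_fi, T_e, T_fi, T_d, T_ci] M (Nat.sub (MG u) (Nat.mod (MG u) M)) (nat_lit 40) z1 u (Nat.mod (MG u) M)) (mRel MG [T_di, T_di, T_b] [T_b, T_d, T_bi, T_d, T_d] M (Nat.sub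 (MG u) (Nat.mod (MG u) M)) (nat_lit 40) z1 u (Nat.mod (MG u) M)) (Nat.ble (nat_lit 1635) j)) (Nat.ble (nat_lit 1634) j)) (Nat.ble (nat_lit 1633) j)) (Bool.rec (motive := fun _ => Bool) (Bool.rec (motive := fun _ => Bool) (mRel MG [T_ci, T_b, T_f, T_ci, T_ci, T_f, T_bi, T_fi] [] M (Nat.sub (MG u) (Nat.mod (MG u) M)) (nat_lit 40) z1 u (Nat.mod (MG u) M)) (Bool.rec (motive := fun _ => Bool) (mRel MG [T_d, T_c, T_b] [T_f, T_bi, T_di, T_di, T_fi] M (Nat.sub (MG u) (Nat.mod (MG u) M)) (nat_lit 40) z1 u (Nat.mod (MG u) M)) (mRel MG [T_d, T_bi, T_c, T_d] [T_f, T_bi, T_c, T_fi] M (Nat.sub (MG u) (Nat.mod (MG u) M)) (nat_lit 40) z1 u (Nat.mod (MG u) M)) (Nat.ble (nat_lit 1638) j)) (Nat.ble (nat_lit 1637) j)) (Bool.rec (motive := fun _ => Bool) (mRel MG [T_ei, T_bi, T_c, T_fi, T_ei, T_fi, T_b, T_f] [T_di] M (Nat.sub (MG u) (Nat.mod (MG u) M)) (nat_lit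 40) z1 u (Nat.mod (MG u) M)) (Bool.rec (motive := fun _ => Bool) (mRel MG [T_fi, T_fi, T_d, T_ci, T_ei, T_fi, T_e, T_f] [T_e] M (Nat.sub (MG u) (Nat.mod (MG u) M)) (nat_lit 40) z1 u (Nat.mod (MG u) M)) (mRel MG [T_d, T_d, T_bi, T_f, T_c, T_bi] [T_ci, T_f] M (Nat.sub (MG u) (Nat.mod (MG u) M)) (nat_lit 40) z1 u (Nat.mod (MG u) M)) (Nat.ble (nat_lit 1641) j)) (Nat.ble (nat_lit 1640) j)) (Nat.ble (nat_lit 1639) j)) (Nat.ble (nat_lit 1636) j)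
noncomputable def dM_313 (j z1 z2 u : ℕ) : Bool :=
  Bool.rec (motive := fun _ => Bool) (dM_311 j z1 z2 u) (dM_312 j z1 z2 u) (Nat.ble (nat_lit 1631) j)
noncomputable def dM_314 (j z1 z2 u : ℕ) : Bool :=
  Bool.rec (motive := fun _ => Bool) (Bool.rec (motive := fun _ => Bool) (Bool.rec (motive := fun _ => Bool) (mRel MG [T_c, T_b, T_ci] [T_d, T_c, T_bi, T_ci, T_d] M (Nat.sub (MG u) (Nat.mod (MG u) M)) (nat_lit 40) z1 u (Nat.mod (MG u) M)) (mRel MG [T_b, T_di, T_ci, T_d, T_ci] [T_c, T_di, T_b] M (Nat.sub (MG u) (Nat.mod (MG u) M)) (nat_lit 40) z1 u (Nat.mod (MG u) M)) (Nat.ble (nat_lit 1643) j)) (Bool.rec (motive := fun _ => Bool) (mRel MG [T_f, T_c, T_di, T_f, T_c, T_bi] [T_b, T_c, T_c] M (Nat.sub (MG u) (Nat.mod (MG u) M)) (nat_lit 40) z1 u (Nat.mod (MG u) M)) (Bool.rec (motive := fun _ => Bool) (mRel MG [T_fi, T_b] [T_ci, T_d, T_b, T_ci,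 T_di, T_ci] M (Nat.sub (MG u) (Nat.mod (MG u) M)) (nat_lit 40) z1 u (Nat.mod (MG u) M)) (mRel MG [T_c, T_b] [T_b, T_ci, T_ci, T_d, T_c, T_c] M (Nat.sub (MG u) (Nat.mod (MG u) M)) (nat_lit 40) z1 u (Nat.mod (MG u) M)) (Nat.ble (nat_lit 1646) j)) (Nat.ble (nat_lit 1645) j)) (Nat.ble (nat_lit 1644) j)) (Bool.rec (motive := fun _ => Bool) (Bool.rec (motive := fun _ => Bool) (mRel MG [T_bi, T_bi, T_f, T_b, T_f, T_di, T_c] [T_f] M (Nat.sub (MG u) (Nat.mod (MG u) M)) (nat_lit 40) z1 u (Nat.mod (MG u) M)) (Bool.rec (motive := fun _ => Bool) (mRel MG [T_d, T_f] [T_di, T_f, T_di, T_f, T_f, T_di] M (Nat.sub (MG u) (Nat.mod (MG u) M)) (nat_lit 40) z1 u (Nat.mod (MG u) M)) (mRel MG [T_ci] [T_di, T_b, T_f, T_c, T_di, T_b, T_f] M (Nat.sub (MG u) (Nat.mod (MG u) M)) (nat_lit 40) z1 u (Nat.mod (MG u) M)) (Nat.ble (nat_lit 1649) j)) (Nat.ble (nat_lit 1648)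 j)) (Bool.rec (motive := fun _ => Bool) (mRel MG [T_d, T_bi, T_c, T_d, T_f, T_ci] [T_f, T_bi] M (Nat.sub (MG u) (Nat.mod (MG u) M)) (nat_lit 40) z1 u (Nat.mod (MG u) M)) (Bool.rec (motive := fun _ => Bool) (mRel MG [T_di, T_bi, T_di, T_di] [T_bi, T_d, T_d, T_bi] M (Nat.sub (MG u) (Nat.mod (MG u) M)) (nat_lit 40) z1 u (Nat.mod (MG u) M)) (mRel MG [T_bi, T_c, T_d, T_f, T_ci, T_b, T_fi, T_d] [] M (Nat.sub (MG u) (Nat.mod (MG u) M)) (nat_lit 40) z1 u (Nat.mod (MG u) M)) (Nat.ble (nat_lit 1652) j)) (Nat.ble (nat_lit 1651) j)) (Nat.ble (nat_lit 1650) j)) (Nat.ble (nat_lit 1647) j)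
noncomputable def dM_315 (j z1 z2 u : ℕ) : Bool :=
  Bool.rec (motive := fun _ => Bool) (Bool.rec (motive := fun _ => Bool) (Bool.rec (motive := fun _ => Bool) (mRel MG [T_di, T_f, T_f, T_e, T_fi, T_ei] [T_ci, T_ei, T_fi] M (Nat.sub (MG u) (Nat.mod (MG u) M)) (nat_lit 40) z1 u (Nat.mod (MG u) M)) (mRel MG [T_ci, T_d, T_c] [T_c, T_bi, T_c, T_b, T_ci] M (Nat.sub (MG u) (Nat.mod (MG u) M)) (nat_lit 40) z1 u (Nat.mod (MG u) M)) (Nat.ble (nat_lit 1654) j)) (Bool.rec (motive := fun _ => Bool) (mRel MG [T_bi, T_di, T_di, T_fi, T_bi, T_ci, T_di] [T_fi] M (Nat.sub (MG u) (Nat.mod (MG u) M)) (nat_lit 40) z1 u (Nat.mod (MG u) M)) (Bool.rec (motive := fun _ => Bool) (mRel MG [T_ci, T_d, T_ci, T_bi] [T_d, T_bi, T_c, T_di] M (Nat.sub (MG u) (Nat.mod (MG u) M)) (nat_lit 40) z1 u (Nat.mod (MG u) M)) (mRel MG [T_fi, T_d, T_bi, T_c, T_d, T_f, T_ci, T_b]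 [] M (Nat.sub (MG u) (Nat.mod (MG u) M)) (nat_lit 40) z1 u (Nat.mod (MG u) M)) (Nat.ble (nat_lit 1657) j)) (Nat.ble (nat_lit 1656) j)) (Nat.ble (nat_lit 1655) j)) (Bool.rec (motive := fun _ => Bool) (Bool.rec (motive := fun _ => Bool) (mRel MG [T_ci, T_d, T_fi, T_bi] [T_fi, T_bi, T_bi, T_f] M (Nat.sub (MG u) (Nat.mod (MG u) M)) (nat_lit 40) z1 u (Nat.mod (MG u) M)) (Bool.rec (motive := fun _ => Bool) (mRel MG [T_fi] [T_d, T_d, T_b, T_fi, T_d, T_c, T_b] M (Nat.sub (MG u) (Nat.mod (MG u) M)) (nat_lit 40) z1 u (Nat.mod (MG u) M)) (mRel MG [T_bi] [T_ci, T_fi, T_fi, T_bi, T_d, T_c, T_b] M (Nat.sub (MG u) (Nat.mod (MG u) M)) (nat_lit 40) z1 u (Nat.mod (MG u) M)) (Nat.ble (nat_lit 1660) j)) (Nat.ble (nat_lit 1659) j)) (Bool.rec (motive := fun _ => Bool) (mRel MG [T_ci, T_bi, T_f] [T_bi, T_di, T_ci, T_bi, T_di] M (Nat.sub (MG u) (Nat.mod (MG u)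 M)) (nat_lit 40) z1 u (Nat.mod (MG u) M)) (Bool.rec (motive := fun _ => Bool) (mRel MG [T_d, T_f, T_d, T_fi] [T_di, T_f, T_di, T_f] M (Nat.sub (MG u) (Nat.mod (MG u) M)) (nat_lit 40) z1 u (Nat.mod (MG u) M)) (mRel MG [T_di, T_f, T_f, T_di, T_fi, T_di] [T_fi, T_d] M (Nat.sub (MG u) (Nat.mod (MG u) M)) (nat_lit 40) z1 u (Nat.mod (MG u) M)) (Nat.ble (nat_lit 1663) j)) (Nat.ble (nat_lit 1662) j)) (Nat.ble (nat_lit 1661) j)) (Nat.ble (nat_lit 1658) j)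
noncomputable def dM_316 (j z1 z2 u : ℕ) : Bool :=
  Bool.rec (motive := fun _ => Bool) (dM_314 j z1 z2 u) (dM_315 j z1 z2 u) (Nat.ble (nat_lit 1653) j)
noncomputable def dM_317 (j z1 z2 u : ℕ) : Bool :=
  Bool.rec (motive := fun _ => Bool) (dM_313 j z1 z2 u) (dM_316 j z1 z2 u) (Nat.ble (nat_lit 1642) j)
noncomputable def dM_318 (j z1 z2 u : ℕ) : Bool :=
  Bool.rec (motive := fun _ => Bool) (dM_310 j z1 z2 u) (dM_317 j z1 z2 u) (Nat.ble (nat_lit 1621) j)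
noncomputable def dM_319 (j z1 z2 u : ℕ) : Bool :=
  Bool.rec (motive := fun _ => Bool) (dM_303 j z1 z2 u) (dM_318 j z1 z2 u) (Nat.ble (nat_lit 1578) j)
noncomputable def dM_320 (j z1 z2 u : ℕ) : Bool :=
  Bool.rec (motive := fun _ => Bool) (dM_288 j z1 z2 u) (dM_319 j z1 z2 u) (Nat.ble (nat_lit 1492) j)
noncomputable def dM_321 (j z1 z2 u : ℕ) : Bool :=
  Bool.rec (motive := fun _ => Bool) (dM_257 j z1 z2 u) (dM_320 j z1 z2 u) (Nat.ble (nat_lit 1321) j)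
noncomputable def dM_322 (j z1 z2 u : ℕ) : Bool :=
  Bool.rec (motive := fun _ => Bool) (dM_194 j z1 z2 u) (dM_321 j z1 z2 u) (Nat.ble (nat_lit 978) j)
noncomputable def dM_323 (j z1 z2 u : ℕ) : Bool :=
  Bool.rec (motive := fun _ => Bool) (dM_101 j z1 z2 u) (dM_322 j z1 z2 u) (Nat.ble (nat_lit 474) j)
noncomputable def dM_324 (j z1 z2 u : ℕ) : Bool :=
  Bool.rec (motive := fun _ => Bool) (dM_4 j z1 z2 u) (dM_323 j z1 z2 u) (Nat.ble (nat_lit 18) j)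
noncomputable def chkM (u : ℕ) : Bool :=
  Bool.rec (motive := fun _ => Bool) (band (Nat.ble (Nat.succ (Nat.mod (MG u) M)) u) (dM_324 (Nat.land (MR u) (nat_lit 2047)) (Nat.land (Nat.shiftRight (MR u) (nat_lit 11)) (nat_lit 16383)) (Nat.shiftRight (MR u) (nat_lit 25)) u)) true (Nat.ble A (MG u))
noncomputable def chkN (u : ℕ) : Bool :=
  band (chk_b (Nat.land (Nat.shiftRight (RS u) (nat_lit 0)) (nat_lit 255)) u) (band (chk_bi (Nat.land (Nat.shiftRight (RS u) (nat_lit 8)) (nat_lit 255)) u) (band (chk_d (Nat.land (Nat.shiftRight (RS u) (nat_lit 16)) (nat_lit 255)) u) (band (chk_di (Nat.land (Nat.shiftRight (RS u) (nat_lit 24)) (nat_lit 255)) u) (band (chk_c (Nat.land (Nat.shiftRight (RS u) (nat_lit 32)) (nat_lit 255)) u) (band (chk_ci (Nat.land (Nat.shiftRight (RS u) (nat_lit 40)) (nat_lit 255)) u) (band (chk_f (Nat.land (Nat.shiftRight (RS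 u) (nat_lit 48)) (nat_lit 255)) u) (band (chk_fi (Nat.land (Nat.shiftRight (RS u) (nat_lit 56)) (nat_lit 255)) u) (band (chk_e (Nat.land (Nat.shiftRight (RS u) (nat_lit 64)) (nat_lit 255)) u) (band (chk_ei (Nat.land (Nat.shiftRight (RS u) (nat_lit 72)) (nat_lit 255)) u) (chkM u))))))))))
noncomputable def chkP (u : ℕ) : Bool := Bool.rec (motive := fun _ => Bool) (chkN u) true (Nat.ble M u)
noncomputable def liveP (u : ℕ) : Bool := Bool.rec (motive := fun _ => Bool) (Nat.ble A (MG u)) false (Nat.ble M u)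
end H94.TCHSC
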